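import Mathlib

/-!
# (RCb) for helper7's S4980 squad: lengths at minimal primes of the support not containing
the uniformizer are bounded by the length of `M / ϖ M`.

General form `sum_le_eLen`: `R` Noetherian, `ϖ` in the Jacobson radical, `M` finite, `T` a finite set
of primes `p` with `ϖ ∉ p` and `M_q = 0` for all `q < p`.  Then
`∑_{p ∈ T} length_{R_p} M_p ≤ length_R (M / ϖ M)` (no flatness / regularity needed).
-/

set_option autoImplicit false
universe u
open IsLocalRing
open scoped Pointwise

namespace Groth.Agent.H15.DvrLen_RCb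

variable {R : Type u} [CommRing R]

/-- `e(N) = length (N / ϖ N)`. -/
noncomputable abbrev eLen (ϖ : R) (N : Type u) [AddCommGroup N] [Module R N] : ℕ∞ :=
  Module.length R (N ⧸ (ϖ • ⊤ : Submodule R N))

theorem smul_top_le_comap (ϖ : R) {N P : Type u} [AddCommGroup N] [Module R N] [AddCommGroup P]
    [Module R P] (g : N →ₗ[R] P) :
    (ϖ • ⊤ : Submodule R N) ≤ (ϖ • ⊤ : Submodule R P).comap g := by
  intro x hx
  obtain ⟨y, -, rfl⟩ := (Submodule.mem_smul_pointwise_iff_exists _ _ _).mp hx
  simp only [Submodule.mem_comap, map_smul]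
  exact Submodule.smul_mem_pointwise_smul _ _ _ Submodule.mem_top

/-- additivity of `e` along a `ϖ`-saturated submodule. -/
theorem eLen_add (ϖ : R) {N : Type u} [AddCommGroup N] [Module R N] (N' : Submodule R N)
    (hsat : ∀ y : N, ϖ • y ∈ N' → y ∈ N') :
    eLen ϖ N = eLen ϖ N' + eLen ϖ (N ⧸ N') := by
  let α : (N' ⧸ (ϖ • ⊤ : Submodule R N')) →ₗ[R] (N ⧸ (ϖ • ⊤ : Submodule R N)) :=
    Submodule.mapQ _ _ N'.subtype (smul_top_le_comap ϖ _)
  let β : (N ⧸ (ϖ • ⊤ : Submodule R N)) →ₗ[R] ((N ⧸ N') ⧸ (ϖ • ⊤ : Submodule R (N ⧸ N'))) :=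
    Submodule.mapQ _ _ N'.mkQ (smul_top_le_comap ϖ _)
  have hα : ∀ x : N', α (Submodule.Quotient.mk x) = Submodule.Quotient.mk (x : N) := fun x => rfl
  have hβ : ∀ x : N, β (Submodule.Quotient.mk x) = Submodule.Quotient.mk (N'.mkQ x) := fun x => rfl
  refine Module.length_eq_add_of_exact α β ?_ ?_ ?_
  · rw [← LinearMap.ker_eq_bot, LinearMap.ker_eq_bot']
    intro x hx
    obtain ⟨x, rfl⟩ := Submodule.Quotient.mk_surjective _ x
    rw [hα, Submodule.Quotient.mk_eq_zero] at hx
    obtain ⟨y, -, hy⟩ := (Submodule.mem_smul_pointwise_iff_exists _ _ _).mp hx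
    have hyN : y ∈ N' := hsat y (hy ▸ x.2)
    rw [Submodule.Quotient.mk_eq_zero]
    exact (Submodule.mem_smul_pointwise_iff_exists _ _ _).mpr
      ⟨⟨y, hyN⟩, Submodule.mem_top, Subtype.ext hy⟩
  · intro z
    obtain ⟨z, rfl⟩ := Submodule.Quotient.mk_surjective _ z
    obtain ⟨z, rfl⟩ := Submodule.Quotient.mk_surjective _ z
    exact ⟨Submodule.Quotient.mk z, rfl⟩
  · rw [LinearMap.exact_iff]
    ext x
    constructor
    · intro hx
      obtain ⟨x, rfl⟩ := Submodule.Quotient.mk_surjective _ x
      rw [LinearMap.mem_ker, hβ, Submodule.Quotient.mk_eq_zero] at hx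
      obtain ⟨y, -, hy⟩ := (Submodule.mem_smul_pointwise_iff_exists _ _ _).mp hx
      obtain ⟨y, rfl⟩ := Submodule.Quotient.mk_surjective _ y
      have h2 : x - ϖ • y ∈ N' := by
        rw [← Submodule.Quotient.mk_eq_zero, Submodule.Quotient.mk_sub, Submodule.Quotient.mk_smul,
          sub_eq_zero]
        exact hy.symm
      refine ⟨Submodule.Quotient.mk ⟨x - ϖ • y, h2⟩, ?_⟩
      rw [hα]
      rw [Submodule.Quotient.eq]
      have : x - ϖ • y - x = ϖ • (-y) := by rw [smul_neg]; abel
      rw [this]
      exact Submodule.smul_mem_pointwise_smul _ _ _ Submodule.mem_top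
    · rintro ⟨w, rfl⟩
      obtain ⟨w, rfl⟩ := Submodule.Quotient.mk_surjective _ w
      rw [LinearMap.mem_ker, hα, hβ, Submodule.Quotient.mk_eq_zero]
      have : N'.mkQ (w : N) = 0 := by
        rw [Submodule.mkQ_apply, Submodule.Quotient.mk_eq_zero]; exact w.2
      rw [this]; exact Submodule.zero_mem _

theorem mem_of_smul_mem {p : Ideal R} [p.IsPrime] {L : Type u} [AddCommGroup L] [Module R L]
    [Module (Localization.AtPrime p) L] [IsScalarTower R (Localization.AtPrime p) L]
    (L' : Submodule (Localization.AtPrime p) L) {s : R} (hs : s ∈ p.primeCompl) {y : L}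
    (h : s • y ∈ L') : y ∈ L' := by
  obtain ⟨u, hu⟩ := IsLocalization.map_units (Localization.AtPrime p) (⟨s, hs⟩ : p.primeCompl)
  have : y = (↑u⁻¹ : Localization.AtPrime p) • (s • y) := by
    rw [← algebraMap_smul (Localization.AtPrime p) s y, ← hu, smul_smul, Units.inv_mul, one_smul]
  rw [this]; exact L'.smul_mem _ h

theorem finite_of_surj {p : Ideal R} [p.IsPrime] {N L : Type u} [AddCommGroup N] [Module R N]
    [Module.Finite R N] [AddCommGroup L] [Module R L]
    [Module (Localization.AtPrime p) L] [IsScalarTower R (Localization.AtPrime p) L]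
    (f : N →ₗ[R] L) (hf : ∀ y : L, ∃ s ∈ p.primeCompl, ∃ x : N, s • y = f x) :
    Module.Finite (Localization.AtPrime p) L := by
  classical
  obtain ⟨S, hS⟩ := (Module.Finite.fg_top : (⊤ : Submodule R N).FG)
  refine ⟨⟨S.image f, ?_⟩⟩
  rw [eq_top_iff]
  intro y _
  obtain ⟨s, hs, x, hx⟩ := hf y
  apply mem_of_smul_mem _ hs
  rw [hx]
  have hx' : x ∈ Submodule.span R (S : Set N) := hS ▸ Submodule.mem_top
  have h2 : f x ∈ Submodule.span R (f '' (S : Set N)) := by
    rw [← Submodule.map_span]; exact Submodule.mem_map_of_mem hx'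
  have := Submodule.span_le_restrictScalars R (Localization.AtPrime p) (f '' (S : Set N)) h2
  simpa using this

/-- Lemma A: the length of a localisation at `p ∌ ϖ` is bounded by `e`. -/
theorem le_eLen_of_le_length [IsNoetherianRing R] (ϖ : R) (hϖ : ϖ ∈ (⊥ : Ideal R).jacobson)
    (p : Ideal R) [p.IsPrime] (hp : ϖ ∉ p) (n : ℕ) :
    ∀ (N L : Type u) [AddCommGroup N] [Module R N] [Module.Finite R N] [AddCommGroup L]
      [Module R L] [Module (Localization.AtPrime p) L] [IsScalarTower R (Localization.AtPrime p) L]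
      (f : N →ₗ[R] L) (_ : ∀ y : L, ∃ s ∈ p.primeCompl, ∃ x : N, s • y = f x),
      (n : ℕ∞) ≤ Module.length (Localization.AtPrime p) L → (n : ℕ∞) ≤ eLen ϖ N := by
  induction n with
  | zero => intros; simp
  | succ n ih =>
    intro N L _ _ _ _ _ _ _ f hf hn
    haveI : Module.Finite (Localization.AtPrime p) L := finite_of_surj f hf
    haveI : Nontrivial L := by
      rw [← Module.length_pos_iff (R := Localization.AtPrime p)]
      exact lt_of_lt_of_le (by simp) hn
    obtain ⟨L', hL', -⟩ := (IsCoatomic.eq_top_or_exists_le_coatom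
      (⊥ : Submodule (Localization.AtPrime p) L)).resolve_left bot_ne_top
    have hlen : Module.length (Localization.AtPrime p) L =
        Module.length (Localization.AtPrime p) L' + 1 := by
      haveI : IsSimpleModule (Localization.AtPrime p) (L ⧸ L') :=
        isSimpleModule_iff_isCoatom.mpr hL'
      rw [Module.length_eq_add_of_exact L'.subtype L'.mkQ L'.subtype_injective
        L'.mkQ_surjective (LinearMap.exact_subtype_mkQ L'),
        Module.length_eq_one (Localization.AtPrime p) (L ⧸ L')]
    have hn' : (n : ℕ∞) ≤ Module.length (Localization.AtPrime p) L' := by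
      rw [hlen, Nat.cast_succ] at hn
      exact (ENat.add_le_add_iff_right ENat.one_ne_top).mp hn
    let N' : Submodule R N := (L'.restrictScalars R).comap f
    let f' : N' →ₗ[R] L' :=
      { toFun := fun x => ⟨f x.1, x.2⟩
        map_add' := fun x y => Subtype.ext (by simp)
        map_smul' := fun r x => Subtype.ext (by simp) }
    have hf' : ∀ y : L', ∃ s ∈ p.primeCompl, ∃ x : N', s • y = f' x := by
      intro y
      obtain ⟨s, hs, x, hx⟩ := hf y.1
      have hxN : x ∈ N' := by
        show f x ∈ L'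
        rw [← hx]
        exact Submodule.smul_of_tower_mem L' s y.2
      exact ⟨s, hs, ⟨x, hxN⟩, Subtype.ext hx⟩
    haveI : IsNoetherian R N := isNoetherian_of_isNoetherianRing_of_finite R N
    have hIH := ih N' L' f' hf' hn'
    have hsat : ∀ y : N, ϖ • y ∈ N' → y ∈ N' := by
      intro y hy
      show f y ∈ L'
      have : ϖ • f y ∈ L' := by
        have : f (ϖ • y) ∈ L' := hy
        rwa [map_smul] at this
      exact mem_of_smul_mem L' (show ϖ ∈ p.primeCompl from hp) this
    have hN'top : N' ≠ ⊤ := by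
      intro htop
      apply hL'.1
      rw [eq_top_iff]
      intro y _
      obtain ⟨s, hs, x, hx⟩ := hf y
      apply mem_of_smul_mem L' hs
      rw [hx]
      have : x ∈ N' := htop ▸ Submodule.mem_top
      exact this
    have h1 : 1 ≤ eLen ϖ (N ⧸ N') := by
      haveI : Nontrivial (N ⧸ N') :=
        Submodule.Quotient.nontrivial_iff.mpr hN'top
      have hne : (⊤ : Submodule R (N ⧸ N')) ≠ ϖ • ⊤ :=
        Submodule.top_ne_pointwise_smul_of_mem_jacobson_annihilator
          (Ideal.jacobson_mono bot_le hϖ)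
      haveI : Nontrivial ((N ⧸ N') ⧸ (ϖ • ⊤ : Submodule R (N ⧸ N'))) :=
        Submodule.Quotient.nontrivial_iff.mpr hne.symm
      exact Order.one_le_iff_pos.mpr Module.length_pos
    rw [eLen_add ϖ N' hsat, Nat.cast_succ]
    exact add_le_add hIH h1

/-- General form of (RCb). -/
theorem sum_le_eLen [IsNoetherianRing R] (ϖ : R) (hϖ : ϖ ∈ (⊥ : Ideal R).jacobson)
    (T : Finset (PrimeSpectrum R)) :
    ∀ (M : Type u) [AddCommGroup M] [Module R M] [Module.Finite R M]
      (_ : ∀ p ∈ T, ϖ ∉ p.asIdeal ∧
        ∀ q : PrimeSpectrum R, q < p → Subsingleton (LocalizedModule q.asIdeal.primeCompl M)),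
      ∑ p ∈ T, Module.length (Localization.AtPrime p.asIdeal)
        (LocalizedModule p.asIdeal.primeCompl M) ≤ eLen ϖ M := by
  classical
  induction T using Finset.induction_on with
  | empty => intros; simp
  | insert p T' hpT ih =>
    intro M _ _ _ hT
    rw [Finset.sum_insert hpT]
    haveI : IsNoetherian R M := isNoetherian_of_isNoetherianRing_of_finite R M
    let g := LocalizedModule.mkLinearMap p.asIdeal.primeCompl M
    let K : Submodule R M := LinearMap.ker g
    have hpϖ : ϖ ∉ p.asIdeal := (hT p (Finset.mem_insert_self _ _)).1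
    -- K is ϖ-saturated
    have hsat : ∀ y : M, ϖ • y ∈ K → y ∈ K := by
      intro y hy
      have h0 : ϖ • g y ∈ (⊥ : Submodule (Localization.AtPrime p.asIdeal)
          (LocalizedModule p.asIdeal.primeCompl M)) := by
        rw [Submodule.mem_bot, ← map_smul]; exact hy
      have := mem_of_smul_mem _ (show ϖ ∈ p.asIdeal.primeCompl from hpϖ) h0
      exact (Submodule.mem_bot _).mp this
    -- Lemma A for M/K → M_p
    let f : (M ⧸ K) →ₗ[R] LocalizedModule p.asIdeal.primeCompl M := K.liftQ g le_rfl
    have hf : ∀ y : LocalizedModule p.asIdeal.primeCompl M,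
        ∃ s ∈ p.asIdeal.primeCompl, ∃ x : M ⧸ K, s • y = f x := by
      intro y
      obtain ⟨⟨m, s⟩, hms⟩ := IsLocalizedModule.surj p.asIdeal.primeCompl g y
      exact ⟨s.1, s.2, Submodule.Quotient.mk m, hms⟩
    have hA : Module.length (Localization.AtPrime p.asIdeal)
        (LocalizedModule p.asIdeal.primeCompl M) ≤ eLen ϖ (M ⧸ K) := by
      refine ENat.forall_natCast_le_iff_le.mp ?_
      intro n hn
      exact le_eLen_of_le_length ϖ hϖ p.asIdeal hpϖ n (M ⧸ K) _ f hf hn
    -- the claim
    have claim : ∀ q ∈ T', ∀ m : M, ∃ t ∈ q.asIdeal.primeCompl, t • m ∈ K := by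
      intro q hq m
      by_contra hcon
      push Not at hcon
      let A : Ideal R := LinearMap.ker (LinearMap.toSpanSingleton R M m)
      have hAmem : ∀ r, r ∈ A ↔ r • m = 0 := fun r => by
        simp [A, LinearMap.mem_ker, LinearMap.toSpanSingleton_apply]
      have hdisj : Disjoint (A : Set R)
          ((p.asIdeal.primeCompl ⊔ q.asIdeal.primeCompl : Submonoid R) : Set R) := by
        rw [Set.disjoint_left]
        intro x hxA hxS
        obtain ⟨s, hs, t, ht, rfl⟩ := Submonoid.mem_sup.mp hxS
        apply hcon t ht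
        show t • m ∈ LinearMap.ker g
        rw [IsLocalizedModule.mem_ker_iff p.asIdeal.primeCompl]
        refine ⟨s, hs, ?_⟩
        rw [smul_smul]
        exact (hAmem _).mp hxA
      obtain ⟨q', hq'prime, hAq', hq'disj⟩ := Ideal.exists_le_prime_disjoint A _ hdisj
      have hq'p : q' ≤ p.asIdeal := by
        intro x hx
        by_contra hxp
        exact Set.disjoint_left.mp hq'disj hx
          ((le_sup_left : p.asIdeal.primeCompl ≤ _) (show x ∈ p.asIdeal.primeCompl from hxp))
      have hq'q : q' ≤ q.asIdeal := by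
        intro x hx
        by_contra hxq
        exact Set.disjoint_left.mp hq'disj hx
          ((le_sup_right : q.asIdeal.primeCompl ≤ _) (show x ∈ q.asIdeal.primeCompl from hxq))
      have hns : ¬ Subsingleton (LocalizedModule q'.primeCompl M) := by
        intro hsub
        obtain ⟨r, hr, hrm⟩ := LocalizedModule.subsingleton_iff.mp hsub m
        exact hr (hAq' ((hAmem r).mpr hrm))
      let Q' : PrimeSpectrum R := ⟨q', hq'prime⟩
      have hQq : Q' ≤ q := hq'q
      rcases eq_or_lt_of_le hQq with heq | hlt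
      · have hqp : q ≤ p := by rw [← heq]; exact hq'p
        have hne : q ≠ p := fun h => hpT (h ▸ hq)
        have := (hT p (Finset.mem_insert_self _ _)).2 q (lt_of_le_of_ne hqp hne)
        rw [← heq] at this
        exact hns this
      · exact hns ((hT q (Finset.mem_insert_of_mem hq)).2 Q' hlt)
    -- IH for K
    have hTK : ∀ q ∈ T', ϖ ∉ q.asIdeal ∧
        ∀ q' : PrimeSpectrum R, q' < q → Subsingleton (LocalizedModule q'.asIdeal.primeCompl K) := by
      intro q hq
      refine ⟨(hT q (Finset.mem_insert_of_mem hq)).1, fun q' hq' => ?_⟩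
      have := (hT q (Finset.mem_insert_of_mem hq)).2 q' hq'
      rw [LocalizedModule.subsingleton_iff] at this ⊢
      intro k
      obtain ⟨r, hr, hrk⟩ := this k.1
      exact ⟨r, hr, Subtype.ext hrk⟩
    have hIH := ih K hTK
    have hsum : ∑ q ∈ T', Module.length (Localization.AtPrime q.asIdeal)
        (LocalizedModule q.asIdeal.primeCompl M) ≤
        ∑ q ∈ T', Module.length (Localization.AtPrime q.asIdeal)
        (LocalizedModule q.asIdeal.primeCompl K) := by
      refine Finset.sum_le_sum fun q hq => ?_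
      refine Module.length_le_of_surjective
        (LocalizedModule.map q.asIdeal.primeCompl K.subtype) ?_
      intro z
      induction z using LocalizedModule.induction_on with
      | h m s =>
        obtain ⟨t, ht, htm⟩ := claim q hq m
        refine ⟨LocalizedModule.mk ⟨t • m, htm⟩ (⟨t, ht⟩ * s), ?_⟩
        rw [LocalizedModule.map_mk]
        exact LocalizedModule.mk_cancel_common_left (⟨t, ht⟩ : q.asIdeal.primeCompl) s m
    rw [eLen_add ϖ K hsat, add_comm]
    exact add_le_add (hsum.trans hIH) hA

/-- (RCb) ring level: lengths at minimal primes of the support not containing the uniformizer. -/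
theorem sum_length_localization_le {A' R M : Type u} [CommRing A'] [IsDomain A']
    [IsDiscreteValuationRing A'] [CommRing R] [IsLocalRing R] [IsNoetherianRing R] [Algebra A' R]
    [IsLocalHom (algebraMap A' R)] [AddCommGroup M] [Module R M] [Module A' M]
    [IsScalarTower A' R M] [Module.Finite R M] [Module.Flat A' M]
    (T : Finset (PrimeSpectrum R))
    (hT : ∀ p ∈ T, ¬ (maximalIdeal A').map (algebraMap A' R) ≤ p.asIdeal ∧
      ∀ q : PrimeSpectrum R, q < p → Subsingleton (LocalizedModule q.asIdeal.primeCompl M)) :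
    ∑ p ∈ T, Module.length (Localization.AtPrime p.asIdeal)
        (LocalizedModule p.asIdeal.primeCompl M) ≤
      Module.length R (M ⧸ ((maximalIdeal A').map (algebraMap A' R)) • (⊤ : Submodule R M)) := by
  obtain ⟨π, hπ⟩ := IsDiscreteValuationRing.exists_irreducible A'
  have hI : (maximalIdeal A').map (algebraMap A' R) = Ideal.span {algebraMap A' R π} := by
    rw [hπ.maximalIdeal_eq, Ideal.map_span, Set.image_singleton]
  have hϖ : algebraMap A' R π ∈ (⊥ : Ideal R).jacobson := by
    rw [IsLocalRing.jacobson_eq_maximalIdeal ⊥ bot_ne_top, IsLocalRing.mem_maximalIdeal,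
      mem_nonunits_iff]
    intro hu
    exact hπ.not_isUnit ((isUnit_map_iff (algebraMap A' R) π).mp hu)
  rw [hI] at hT ⊢
  rw [Submodule.ideal_span_singleton_smul]
  refine sum_le_eLen (algebraMap A' R π) hϖ T M fun p hp => ⟨?_, (hT p hp).2⟩
  have := (hT p hp).1
  rwa [Ideal.span_singleton_le_iff_mem] at this

end Groth.Agent.H15.DvrLen_RCb
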