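import Mathlib
import Groth.Agent.S9455

/-!
# Lifting maps out of a Cohen ring (helper15)

For a Cohen ring `Λ` (complete DVR with maximal ideal `(p)`), `Λ/p^N` is formally smooth over
`ℤ/p^N` (S9455).  Hence ring maps `Λ → T/J` lift along nilpotent thickenings in which `p` is
nilpotent, and ring maps `Λ → R/I` lift to `Λ → R` when `R` is `I`-adically complete and `p ∈ I`.
-/

set_option autoImplicit false
universe u

namespace Groth.Agent.H15.CohenLift

/-- A ring in which `M = 0` is a `ZMod M`-algebra. -/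
@[instance_reducible]
noncomputable def zmodAlgebra (T : Type*) [CommRing T] (M : ℕ) (h : (M : T) = 0) :
    Algebra (ZMod M) T :=
  (ZMod.castHom (ringChar.dvd h) T).toAlgebra

section

variable (Λ : Type u) [CommRing Λ] [IsDomain Λ] [IsDiscreteValuationRing Λ]
  [IsAdicComplete (IsLocalRing.maximalIdeal Λ) Λ] (p : ℕ) (hp : p.Prime)
  (hm : IsLocalRing.maximalIdeal Λ = Ideal.span {(p : Λ)})

include hp hm in
/-- Lifting along a nilpotent thickening in which `p` is nilpotent. -/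
theorem exists_lift_quot {T : Type u} [CommRing T] (J : Ideal T) (hJ : IsNilpotent J) (N : ℕ)
    (hN : 1 ≤ N) (hpN : ((p ^ N : ℕ) : T) = 0) (g : Λ →+* T ⧸ J) :
    ∃ g' : Λ →+* T, (Ideal.Quotient.mk J).comp g' = g := by
  let aT : Algebra (ZMod (p ^ N)) T := zmodAlgebra T (p ^ N) hpN
  have hΛ : ((p ^ N : ℕ) : Λ ⧸ Ideal.span {((p : Λ) ^ N)}) = 0 := by
    have h1 : ((p ^ N : ℕ) : Λ ⧸ Ideal.span {((p : Λ) ^ N)}) =
        Ideal.Quotient.mk (Ideal.span {((p : Λ) ^ N)}) ((p : Λ) ^ N) := by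
      rw [map_pow, map_natCast, Nat.cast_pow]
    rw [h1]
    exact Ideal.Quotient.eq_zero_iff_mem.mpr (Ideal.mem_span_singleton_self _)
  let aΛ : Algebra (ZMod (p ^ N)) (Λ ⧸ Ideal.span {((p : Λ) ^ N)}) :=
    zmodAlgebra _ (p ^ N) hΛ
  have : Algebra.FormallySmooth (ZMod (p ^ N)) (Λ ⧸ Ideal.span {((p : Λ) ^ N)}) :=
    Groth.Agent.S9455.result Λ p hp hm N hN
  have hker : ∀ a ∈ Ideal.span {((p : Λ) ^ N)}, g a = 0 := by
    intro a ha
    obtain ⟨b, rfl⟩ := Ideal.mem_span_singleton'.mp ha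
    have h2 : g ((p : Λ) ^ N) = 0 := by
      rw [map_pow, map_natCast]
      have h3 : ((p : T ⧸ J)) ^ N = Ideal.Quotient.mk J ((p ^ N : ℕ) : T) := by
        rw [map_natCast, Nat.cast_pow]
      rw [h3, hpN, map_zero]
    rw [map_mul, h2, mul_zero]
  let gbar : (Λ ⧸ Ideal.span {((p : Λ) ^ N)}) →+* T ⧸ J := Ideal.Quotient.lift _ g hker
  let gA : (Λ ⧸ Ideal.span {((p : Λ) ^ N)}) →ₐ[ZMod (p ^ N)] T ⧸ J :=
    { gbar with
      commutes' := fun r =>
        RingHom.congr_fun (RingHom.ext_zmod (gbar.comp (algebraMap _ _)) (algebraMap _ _)) r }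
  obtain ⟨f, hf⟩ := Algebra.FormallySmooth.exists_lift J hJ gA
  refine ⟨f.toRingHom.comp (Ideal.Quotient.mk _), ?_⟩
  ext a
  have h4 := congr($hf (Ideal.Quotient.mk _ a))
  simpa [gA, gbar] using h4

include hp hm in
/-- Lifting along a surjection with nilpotent kernel in which `p` is nilpotent. -/
theorem exists_lift_surj {T T' : Type u} [CommRing T] [CommRing T'] (π : T →+* T')
    (hπ : Function.Surjective π) (hJ : IsNilpotent (RingHom.ker π)) (N : ℕ)
    (hN : 1 ≤ N) (hpN : ((p ^ N : ℕ) : T) = 0) (g : Λ →+* T') :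
    ∃ g' : Λ →+* T, π.comp g' = g := by
  let e : T ⧸ RingHom.ker π ≃+* T' := RingHom.quotientKerEquivOfSurjective hπ
  obtain ⟨g', hg'⟩ := exists_lift_quot Λ p hp hm (RingHom.ker π) hJ N hN hpN
    (e.symm.toRingHom.comp g)
  refine ⟨g', ?_⟩
  ext a
  have h1 := congr($hg' a)
  simp only [RingHom.coe_comp, Function.comp_apply, RingEquiv.toRingHom_eq_coe,
    RingHom.coe_coe] at h1
  have h2 := congrArg e h1
  rw [RingEquiv.apply_symm_apply] at h2
  rw [← h2]
  simp [e, RingHom.quotientKerEquivOfSurjective]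

include hp hm in
/-- A ring map from a Cohen ring to `R ⧸ I` lifts to `R` when `R` is `I`-adically complete and
`p ∈ I`. -/
theorem exists_lift_complete {R : Type u} [CommRing R] (I : Ideal R) [IsAdicComplete I R]
    (hpI : (p : R) ∈ I) (g₁ : Λ →+* R ⧸ I) :
    ∃ v : Λ →+* R, (Ideal.Quotient.mk I).comp v = g₁ := by
  -- one lifting step
  have step : ∀ (n : ℕ) (g : Λ →+* R ⧸ I ^ (n + 1)),
      ∃ g' : Λ →+* R ⧸ I ^ (n + 1 + 1),
        (Ideal.Quotient.factorPow I (Nat.le_succ (n + 1))).comp g' = g := by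
    intro n g
    refine exists_lift_surj Λ p hp hm (Ideal.Quotient.factorPow I (Nat.le_succ (n + 1)))
      (Ideal.Quotient.factor_surjective _) ?_ (n + 1 + 1) (by omega) ?_ g
    · refine ⟨2, ?_⟩
      rw [Ideal.Quotient.factor_ker, ← Ideal.map_pow, Submodule.zero_eq_bot, eq_bot_iff, ← pow_mul]
      refine (Ideal.map_mono (Ideal.pow_le_pow_right (by omega))).trans
        (le_of_eq (Ideal.map_quotient_self _))
    · have h1 : ((p ^ (n + 1 + 1) : ℕ) : R ⧸ I ^ (n + 1 + 1)) =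
          Ideal.Quotient.mk (I ^ (n + 1 + 1)) ((p : R) ^ (n + 1 + 1)) := by
        rw [map_pow, map_natCast, Nat.cast_pow]
      rw [h1]
      exact Ideal.Quotient.eq_zero_iff_mem.mpr (Ideal.pow_mem_pow hpI _)
  -- the first stage
  let g0 : Λ →+* R ⧸ I ^ (0 + 1) :=
    (Ideal.quotEquivOfEq (show I = I ^ (0 + 1) by simp)).toRingHom.comp g₁
  let G : ∀ n : ℕ, Λ →+* R ⧸ I ^ (n + 1) := fun n =>
    Nat.rec g0 (fun n g => Classical.choose (step n g)) n
  have hG : ∀ n, (Ideal.Quotient.factorPow I (Nat.le_succ (n + 1))).comp (G (n + 1)) = G n :=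
    fun n => Classical.choose_spec (step n (G n))
  let f : ∀ n : ℕ, Λ →+* R ⧸ I ^ n := fun n =>
    (Ideal.Quotient.factorPow I (Nat.le_succ n)).comp (G n)
  have hf1 : ∀ n, (Ideal.Quotient.factorPow I (Nat.le_succ n)).comp (f (n + 1)) = f n := by
    intro n
    show (Ideal.Quotient.factorPow I (Nat.le_succ n)).comp
      ((Ideal.Quotient.factorPow I (Nat.le_succ (n + 1))).comp (G (n + 1))) = _
    rw [hG n]
  have hf : ∀ {m n : ℕ} (hle : m ≤ n), (Ideal.Quotient.factorPow I hle).comp (f n) = f m := by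
    intro m n hle
    induction n, hle using Nat.le_induction with
    | base =>
      ext a
      simp [Ideal.Quotient.factorPow]
    | succ n hmn ih =>
      rw [← ih, ← hf1 n]
      ext a
      simp only [RingHom.coe_comp, Function.comp_apply]
      obtain ⟨b, hb⟩ := Ideal.Quotient.mk_surjective (f (n + 1) a)
      rw [← hb]
      simp [Ideal.Quotient.factorPow]
  let v : Λ →+* R :=
    ((AdicCompletion.ofAlgEquiv I).symm : AdicCompletion I R →+* R).comp
      (AdicCompletion.liftRingHom I f hf)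
  refine ⟨v, ?_⟩
  ext a
  have h1 : Ideal.Quotient.mk (I ^ 1) (v a) = f 1 a := by
    show Ideal.Quotient.mk (I ^ 1) ((AdicCompletion.ofAlgEquiv I).symm
      (AdicCompletion.liftRingHom I f hf a)) = _
    rw [AdicCompletion.mk_ofAlgEquiv_symm, AdicCompletion.evalₐ_liftRingHom]
  have h2 : f 1 a = G 0 a := congr($(hG 0) a)
  have h3 : G 0 a = (Ideal.quotEquivOfEq (show I = I ^ (0 + 1) by simp)) (g₁ a) := rfl
  obtain ⟨b, hb⟩ := Ideal.Quotient.mk_surjective (g₁ a)
  rw [h2, h3, ← hb] at h1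
  simp only [Ideal.quotEquivOfEq_mk] at h1
  show Ideal.Quotient.mk I (v a) = g₁ a
  rw [← hb]
  rw [Ideal.Quotient.eq] at h1 ⊢
  simpa using h1

end

end Groth.Agent.H15.CohenLift
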