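import Mathlib
import Groth.Agent.H61.PowerSeriesComplete

/-!
# Power series rings over regular local rings are regular (helper15)
-/

set_option autoImplicit false

namespace Groth.Agent.H15.PSRegular

open IsLocalRing MvPowerSeries Groth.Agent.H61

variable {Λ : Type*} [CommRing Λ]

theorem maximalIdeal_mvPowerSeries_eq [IsLocalRing Λ] (n : ℕ) :
    maximalIdeal (MvPowerSeries (Fin n) Λ) =
      Ideal.map (C : Λ →+* MvPowerSeries (Fin n) Λ) (maximalIdeal Λ) ⊔
        Ideal.span (Set.range (X : Fin n → MvPowerSeries (Fin n) Λ)) := by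
  apply le_antisymm
  · intro f hf
    have h0 := (PS.mem_maximalIdeal_iff f).1 hf
    have h1 : f - C (constantCoeff f) ∈
        Ideal.span (Set.range (X : Fin n → MvPowerSeries (Fin n) Λ)) := by
      have := PS.mem_span_X_pow_of_coeff_eq_zero 1 (f - C (constantCoeff f)) (fun x hx => by
        have hx0 : x = 0 := (Finsupp.degree_eq_zero_iff x).1 (by omega)
        rw [hx0, coeff_zero_eq_constantCoeff_apply, map_sub, constantCoeff_C, sub_self])
      rwa [pow_one] at this
    have h2 : f = C (constantCoeff f) + (f - C (constantCoeff f)) := by ring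
    rw [h2]
    exact Submodule.add_mem_sup (Ideal.mem_map_of_mem _ h0) h1
  · refine sup_le ?_ PS.span_X_le
    rw [Ideal.map_le_iff_le_comap]
    intro x hx
    rw [Ideal.mem_comap, PS.mem_maximalIdeal_iff, constantCoeff_C]
    exact hx

theorem spanFinrank_maximalIdeal_le [IsLocalRing Λ] [IsNoetherianRing Λ] (n : ℕ) :
    (maximalIdeal (MvPowerSeries (Fin n) Λ)).spanFinrank ≤ (maximalIdeal Λ).spanFinrank + n := by
  have hfg : Submodule.FG (maximalIdeal Λ) := IsNoetherian.noetherian _
  have hG : (maximalIdeal Λ).generators.Finite := hfg.finite_generators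
  have hspan : Ideal.span (maximalIdeal Λ).generators = maximalIdeal Λ :=
    Submodule.span_generators _
  have hcard : (maximalIdeal Λ).generators.ncard = (maximalIdeal Λ).spanFinrank :=
    hfg.generators_ncard
  rw [maximalIdeal_mvPowerSeries_eq]
  conv_lhs => rw [← hspan, Ideal.map_span, ← Ideal.span_union]
  refine (Submodule.spanFinrank_span_le_ncard_of_finite
    ((hG.image _).union (Set.finite_range _))).trans ?_
  refine (Set.ncard_union_le _ _).trans ?_
  refine Nat.add_le_add ?_ ?_
  · rw [← hcard]; exact Set.ncard_image_le hG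
  · rw [← Set.image_univ]
    refine (Set.ncard_image_le Set.finite_univ).trans ?_
    rw [Set.ncard_univ, Nat.card_fin]

theorem ringKrullDim_mvPowerSeries_ge (n : ℕ) :
    ringKrullDim Λ + n ≤ ringKrullDim (MvPowerSeries (Fin n) Λ) := by
  induction n with
  | zero =>
    rw [ringKrullDim_eq_of_ringEquiv (isEmptyEquiv (Fin 0) Λ).toRingEquiv]
    simp
  | succ n ih =>
    rw [ringKrullDim_eq_of_ringEquiv (finSuccEquiv Λ n).toRingEquiv]
    calc ringKrullDim Λ + ((n + 1 : ℕ) : WithBot ℕ∞) = (ringKrullDim Λ + n) + 1 := by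
          push_cast; rw [add_assoc]
      _ ≤ ringKrullDim (MvPowerSeries (Fin n) Λ) + 1 := by gcongr
      _ ≤ ringKrullDim (PowerSeries (MvPowerSeries (Fin n) Λ)) :=
          ringKrullDim_succ_le_ringKrullDim_powerseries

theorem isRegularLocalRing_mvPowerSeries [IsRegularLocalRing Λ] (n : ℕ) :
    IsRegularLocalRing (MvPowerSeries (Fin n) Λ) := by
  apply IsRegularLocalRing.of_spanFinrank_maximalIdeal_le
  calc ((maximalIdeal (MvPowerSeries (Fin n) Λ)).spanFinrank : WithBot ℕ∞)
      ≤ (((maximalIdeal Λ).spanFinrank + n : ℕ) : WithBot ℕ∞) := by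
        exact_mod_cast spanFinrank_maximalIdeal_le n
    _ = ringKrullDim Λ + n := by
        push_cast; rw [IsRegularLocalRing.spanFinrank_maximalIdeal]
    _ ≤ _ := ringKrullDim_mvPowerSeries_ge n

theorem ringKrullDim_mvPowerSeries [IsRegularLocalRing Λ] (n : ℕ) :
    ringKrullDim (MvPowerSeries (Fin n) Λ) = ringKrullDim Λ + n := by
  apply le_antisymm _ (ringKrullDim_mvPowerSeries_ge n)
  calc ringKrullDim (MvPowerSeries (Fin n) Λ)
      ≤ ((maximalIdeal (MvPowerSeries (Fin n) Λ)).spanFinrank : WithBot ℕ∞) :=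
        ringKrullDim_le_spanFinrank_maximalIdeal _
    _ ≤ (((maximalIdeal Λ).spanFinrank + n : ℕ) : WithBot ℕ∞) := by
        exact_mod_cast spanFinrank_maximalIdeal_le n
    _ = ringKrullDim Λ + n := by
        push_cast; rw [IsRegularLocalRing.spanFinrank_maximalIdeal]

end Groth.Agent.H15.PSRegular
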