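import Mathlib
import Groth.Agent.H61.PowerSeriesComplete
import Groth.Agent.H87.PowEval
import Groth.Agent.H54.IntegralDim
import Groth.Agent.S0544
import Groth.Agent.H15.PSRegular

/-!
# Noether normalisation for complete local domains (helper15)

A complete Noetherian local domain is a finite extension of a power series ring over a complete
regular local coefficient ring mapping onto the residue field (a field or a Cohen ring).
-/

set_option autoImplicit false
universe u

namespace Groth.Agent.H15.CohenNorm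

open IsLocalRing MvPowerSeries Groth.Agent.H61

/-- The evaluation map `Λ[[X]] → R` with its basic properties. -/
theorem exists_eval {Λ R : Type*} [CommRing Λ] [IsLocalRing Λ] [CommRing R] [IsLocalRing R]
    [IsAdicComplete (maximalIdeal R) R] (φ : Λ →+* R)
    (hφ : Function.Surjective ((residue R).comp φ)) (n : ℕ) (x : Fin n → R)
    (hx : ∀ i, x i ∈ maximalIdeal R) :
    ∃ F : MvPowerSeries (Fin n) Λ →+* R, (∀ c, F (C c) = φ c) ∧ (∀ i, F (X i) = x i) ∧
      Function.Surjective ((residue R).comp F) ∧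
      (maximalIdeal R).comap F = maximalIdeal (MvPowerSeries (Fin n) Λ) ∧
      (maximalIdeal (MvPowerSeries (Fin n) Λ)).map F =
        Ideal.map φ (maximalIdeal Λ) ⊔ Ideal.span (Set.range x) := by
  obtain ⟨F, hC, hX⟩ := Groth.Agent.H87.PowEval.exists_mvEval (maximalIdeal R) φ x hx
  have hres : Function.Surjective ((residue R).comp F) := by
    intro y
    obtain ⟨c, hc⟩ := hφ y
    refine ⟨C c, ?_⟩
    rw [RingHom.comp_apply, hC]
    exact hc
  have hcomap : (maximalIdeal R).comap F = maximalIdeal (MvPowerSeries (Fin n) Λ) := by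
    have h1 : (RingHom.ker ((residue R).comp F)).IsMaximal :=
      RingHom.ker_isMaximal_of_surjective _ hres
    have h2 := IsLocalRing.eq_maximalIdeal h1
    rw [← h2, ← RingHom.comap_ker, IsLocalRing.ker_residue]
  refine ⟨F, hC, hX, hres, hcomap, ?_⟩
  rw [Groth.Agent.H15.PSRegular.maximalIdeal_mvPowerSeries_eq, Ideal.map_sup, Ideal.map_map,
    Ideal.map_span, ← Set.range_comp]
  have h3 : F.comp (C : Λ →+* MvPowerSeries (Fin n) Λ) = φ := RingHom.ext hC
  have h4 : (F ∘ (X : Fin n → MvPowerSeries (Fin n) Λ)) = x := funext hX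
  rw [h3, h4]

/-- A module of finite length over a local ring `R` is generated by finitely many elements using
only scalars from the image of `F : P → R`, when `F` is surjective on the residue field. -/
theorem exists_fin_gen {P R : Type*} [CommRing P] [CommRing R] [IsLocalRing R] (F : P →+* R)
    (hF : Function.Surjective ((residue R).comp F)) {M : Type*} [AddCommGroup M] [Module R M]
    (h : IsFiniteLength R M) :
    ∃ (k : ℕ) (y : Fin k → M), ∀ x : M, ∃ c : Fin k → P, x = ∑ i, F (c i) • y i := by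
  induction h with
  | of_subsingleton =>
    exact ⟨0, Fin.elim0, fun x => ⟨Fin.elim0, Subsingleton.elim _ _⟩⟩
  | @of_simple_quotient M _ _ N hs _ ih =>
    obtain ⟨k, y, hy⟩ := ih
    obtain ⟨I, hI, ⟨e⟩⟩ := isSimpleModule_iff_quot_maximal.mp hs
    have hIm : I = maximalIdeal R := IsLocalRing.eq_maximalIdeal hI
    obtain ⟨y₀, hy₀⟩ := Submodule.mkQ_surjective N (e.symm (Ideal.Quotient.mk I 1))
    refine ⟨k + 1, Fin.cons y₀ (fun i => (y i : M)), fun x => ?_⟩
    obtain ⟨r, hr⟩ := Ideal.Quotient.mk_surjective (e (N.mkQ x))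
    obtain ⟨a, ha⟩ := hF (residue R r)
    have h1 : Ideal.Quotient.mk I r = Ideal.Quotient.mk I (F a) := by
      rw [Ideal.Quotient.eq, hIm, ← IsLocalRing.residue_eq_zero_iff, map_sub]
      rw [RingHom.comp_apply] at ha
      rw [ha, sub_self]
    have h2 : N.mkQ x = N.mkQ (F a • y₀) := by
      apply e.injective
      have h2' : e (N.mkQ (F a • y₀)) = Ideal.Quotient.mk I (F a) := by
        rw [map_smul, map_smul, hy₀, LinearEquiv.apply_symm_apply]
        show Ideal.Quotient.mk I (F a • (1 : R)) = _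
        rw [smul_eq_mul, mul_one]
      rw [h2', ← hr, h1]
    have h3 : x - F a • y₀ ∈ N := by
      rw [← Submodule.Quotient.mk_eq_zero, Submodule.Quotient.mk_sub]
      exact sub_eq_zero.mpr h2
    obtain ⟨c, hc⟩ := hy ⟨x - F a • y₀, h3⟩
    refine ⟨Fin.cons a c, ?_⟩
    rw [Fin.sum_univ_succ]
    simp only [Fin.cons_zero, Fin.cons_succ]
    have h4 := congrArg (Subtype.val : N → M) hc
    simp only [AddSubmonoidClass.coe_finsetSum, Submodule.coe_smul] at h4
    rw [← h4]
    abel

/-- If the maximal ideal of the Noetherian local ring `R` is minimal over the extension of the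
maximal ideal `𝔫` of a `𝔫`-adically precomplete local ring `P` along `F : P → R` (surjective on the
residue field), then `F` is finite. -/
theorem finite_of_mem_minimalPrimes {P R : Type*} [CommRing P] [IsLocalRing P]
    [IsPrecomplete (maximalIdeal P) P] [CommRing R] [IsLocalRing R] [IsNoetherianRing R]
    (F : P →+* R) (hF : Function.Surjective ((residue R).comp F))
    (hmin : maximalIdeal R ∈ ((maximalIdeal P).map F).minimalPrimes) : F.Finite := by
  set J := (maximalIdeal P).map F with hJ
  have hJm : J ≤ maximalIdeal R := hmin.1.2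
  have hJtop : J ≠ ⊤ := fun h => (IsLocalRing.maximalIdeal.isMaximal R).ne_top
    (top_le_iff.mp (h ▸ hJm))
  have : Nontrivial (R ⧸ J) := Ideal.Quotient.nontrivial_iff.mpr hJtop
  have : IsLocalRing (R ⧸ J) :=
    IsLocalRing.of_surjective' (Ideal.Quotient.mk J) Ideal.Quotient.mk_surjective
  -- `R ⧸ J` is Artinian
  have hdim : Ring.KrullDimLE 0 (R ⧸ J) := by
    rw [Ring.krullDimLE_zero_iff]
    intro q hq
    have h1 : (q.comap (Ideal.Quotient.mk J)).IsPrime := Ideal.comap_isPrime _ _
    have h2 : J ≤ q.comap (Ideal.Quotient.mk J) := by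
      intro z hz
      rw [Ideal.mem_comap, Ideal.Quotient.eq_zero_iff_mem.mpr hz]
      exact Ideal.zero_mem _
    have h3 : q.comap (Ideal.Quotient.mk J) = maximalIdeal R :=
      le_antisymm (IsLocalRing.le_maximalIdeal h1.ne_top)
        (hmin.2 ⟨h1, h2⟩ (IsLocalRing.le_maximalIdeal h1.ne_top))
    have h4 : q = (maximalIdeal R).map (Ideal.Quotient.mk J) := by
      rw [← h3, Ideal.map_comap_of_surjective _ Ideal.Quotient.mk_surjective]
    rw [h4]
    exact Ideal.IsMaximal.map_of_surjective_of_ker_le Ideal.Quotient.mk_surjective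
      (by rw [Ideal.mk_ker]; exact hJm)
  have hart : IsArtinianRing (R ⧸ J) := isArtinianRing_iff_krullDimLE_zero.mpr hdim
  have hfl : IsFiniteLength (R ⧸ J) (R ⧸ J) := (isArtinianRing_iff_isFiniteLength _).mp hart
  have hF' : Function.Surjective ((residue (R ⧸ J)).comp ((Ideal.Quotient.mk J).comp F)) := by
    intro z
    obtain ⟨w, rfl⟩ := IsLocalRing.residue_surjective z
    obtain ⟨r, rfl⟩ := Ideal.Quotient.mk_surjective w
    obtain ⟨a, ha⟩ := hF (residue R r)
    refine ⟨a, ?_⟩
    rw [RingHom.comp_apply] at ha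
    simp only [RingHom.comp_apply]
    rw [← sub_eq_zero, ← map_sub, ← map_sub, IsLocalRing.residue_eq_zero_iff]
    have h5 : F a - r ∈ maximalIdeal R := by
      rw [← IsLocalRing.residue_eq_zero_iff, map_sub, ha, sub_self]
    intro hu
    obtain ⟨v, hv⟩ := hu.exists_left_inv
    obtain ⟨v', rfl⟩ := Ideal.Quotient.mk_surjective v
    rw [← map_mul, ← map_one (Ideal.Quotient.mk J), Ideal.Quotient.eq] at hv
    have h6 : v' * (F a - r) ∈ maximalIdeal R := Ideal.mul_mem_left _ _ h5
    have h7 : (1 : R) ∈ maximalIdeal R := by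
      have := Ideal.sub_mem _ h6 (hJm hv)
      simp at this
    exact (IsLocalRing.maximalIdeal.isMaximal R).ne_top ((Ideal.eq_top_iff_one _).mpr h7)
  obtain ⟨k, ybar, hy⟩ := exists_fin_gen ((Ideal.Quotient.mk J).comp F) hF' hfl
  choose y hyy using fun i => Ideal.Quotient.mk_surjective (ybar i)
  -- the `P`-module structure on `R`
  let _ : Algebra P R := F.toAlgebra
  have hHaus : IsHausdorff ((maximalIdeal P).map (algebraMap P R)) R :=
    IsHausdorff.of_isLocalRing _ _ hJtop
  have hHaus' : IsHausdorff (maximalIdeal P) R := IsHausdorff.map_algebraMap_iff.mp hHaus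
  have hpre : IsPrecomplete (maximalIdeal P) (Fin k → P) :=
    Groth.Agent.S0544.isPrecomplete_pi (maximalIdeal P) k
  let f : (Fin k → P) →ₗ[P] R := Fintype.linearCombination P y
  have hsurj : Function.Surjective f := by
    apply surjective_of_mkQ_comp_surjective (I := maximalIdeal P)
    intro z
    obtain ⟨r, rfl⟩ := Submodule.mkQ_surjective _ z
    obtain ⟨c, hc⟩ := hy (Ideal.Quotient.mk J r)
    refine ⟨c, ?_⟩
    rw [LinearMap.comp_apply]
    have h8 : r - f c ∈ J := by
      rw [← Ideal.Quotient.eq, hc]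
      show _ = Ideal.Quotient.mk J (Fintype.linearCombination P y c)
      rw [Fintype.linearCombination_apply, map_sum]
      refine Finset.sum_congr rfl fun i _ => ?_
      rw [smul_eq_mul, ← hyy i, RingHom.comp_apply, ← map_mul]
      rfl
    have h9 : (maximalIdeal P • ⊤ : Submodule P R) = Submodule.restrictScalars P J := by
      rw [Ideal.smul_top_eq_map]
      rfl
    symm
    rw [Submodule.mkQ_apply, Submodule.mkQ_apply, Submodule.Quotient.eq, h9]
    exact h8
  exact Module.Finite.of_surjective f hsurj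

theorem exists_nat_ringKrullDim (R : Type*) [CommRing R] [IsLocalRing R] [IsNoetherianRing R] :
    ∃ n : ℕ, ringKrullDim R = ((n : ℕ∞) : WithBot ℕ∞) := by
  have h1 : ringKrullDim R ≠ ⊥ :=
    ne_of_gt (lt_of_lt_of_le (WithBot.bot_lt_coe (0 : ℕ∞)) ringKrullDim_nonneg_of_nontrivial)
  obtain ⟨e, he⟩ := WithBot.ne_bot_iff_exists.1 h1
  have h2 : ringKrullDim R < ⊤ := ringKrullDim_lt_top
  rw [← he] at h2 ⊢
  have h3 : e ≠ ⊤ := by
    rintro rfl
    exact lt_irrefl _ h2
  obtain ⟨d, rfl⟩ := ENat.ne_top_iff_exists.1 h3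
  exact ⟨d, rfl⟩

/-- **Noether normalisation for complete local domains** over a complete regular local coefficient
ring `Λ` (a domain) mapping onto the residue field, provided
`dim Λ + dim R/m_Λ R ≤ dim R`. -/
theorem exists_finite_injective {Λ R : Type*} [CommRing Λ] [IsDomain Λ] [IsRegularLocalRing Λ]
    [IsAdicComplete (maximalIdeal Λ) Λ] [CommRing R] [IsDomain R] [IsLocalRing R]
    [IsNoetherianRing R] [IsAdicComplete (maximalIdeal R) R] (φ : Λ →+* R)
    (hφ : Function.Surjective ((residue R).comp φ))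
    (hdim : ringKrullDim Λ + ringKrullDim (R ⧸ Ideal.map φ (maximalIdeal Λ)) ≤ ringKrullDim R) :
    ∃ (n : ℕ) (F : MvPowerSeries (Fin n) Λ →+* R), Function.Injective F ∧ F.Finite ∧
      (∀ c, F (C c) = φ c) ∧ Function.Surjective ((residue R).comp F) := by
  classical
  set J₀ := Ideal.map φ (maximalIdeal Λ) with hJ₀def
  have hJ₀ : J₀ ≤ maximalIdeal R := by
    rw [hJ₀def, Ideal.map_le_iff_le_comap]
    have h1 : (RingHom.ker ((residue R).comp φ)).IsMaximal :=
      RingHom.ker_isMaximal_of_surjective _ hφ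
    have h2 := IsLocalRing.eq_maximalIdeal h1
    rw [← h2, ← RingHom.comap_ker, IsLocalRing.ker_residue]
  have hJ₀top : J₀ ≠ ⊤ := fun h => (IsLocalRing.maximalIdeal.isMaximal R).ne_top
    (top_le_iff.mp (h ▸ hJ₀))
  have : Nontrivial (R ⧸ J₀) := Ideal.Quotient.nontrivial_iff.mpr hJ₀top
  have : IsLocalRing (R ⧸ J₀) :=
    IsLocalRing.of_surjective' (Ideal.Quotient.mk J₀) Ideal.Quotient.mk_surjective
  obtain ⟨s, hs_min, hs_card⟩ :=
    Ideal.exists_finset_card_eq_height_of_isNoetherianRing (maximalIdeal (R ⧸ J₀))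
  let e : Fin s.card ≃ s := s.equivFin.symm
  choose x hxe using fun i => Ideal.Quotient.mk_surjective ((e i : R ⧸ J₀))
  have hnonunit : ∀ z : R, Ideal.Quotient.mk J₀ z ∈ maximalIdeal (R ⧸ J₀) ↔
      z ∈ maximalIdeal R := by
    intro z
    constructor
    · intro hz
      by_contra hzu
      rw [IsLocalRing.mem_maximalIdeal, mem_nonunits_iff, not_not] at hzu
      exact hz (hzu.map (Ideal.Quotient.mk J₀))
    · intro hz hu
      obtain ⟨v, hv⟩ := hu.exists_left_inv
      obtain ⟨v', rfl⟩ := Ideal.Quotient.mk_surjective v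
      rw [← map_mul, ← map_one (Ideal.Quotient.mk J₀), Ideal.Quotient.eq] at hv
      have h6 : v' * z ∈ maximalIdeal R := Ideal.mul_mem_left _ _ hz
      have h7 : (1 : R) ∈ maximalIdeal R := by
        have := Ideal.sub_mem _ h6 (hJ₀ hv)
        simp at this
      exact (IsLocalRing.maximalIdeal.isMaximal R).ne_top ((Ideal.eq_top_iff_one _).mpr h7)
  have hx : ∀ i, x i ∈ maximalIdeal R := by
    intro i
    rw [← hnonunit, hxe i]
    exact hs_min.1.2 (Ideal.subset_span (e i).2)
  obtain ⟨F, hC, hX, hres, hcomap, hmap⟩ := exists_eval φ hφ s.card x hx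
  have hmin : maximalIdeal R ∈ ((maximalIdeal (MvPowerSeries (Fin s.card) Λ)).map F).minimalPrimes := by
    rw [hmap]
    refine ⟨⟨inferInstance, sup_le hJ₀ ?_⟩, ?_⟩
    · rw [Ideal.span_le]
      rintro _ ⟨i, rfl⟩
      exact hx i
    · rintro q ⟨hq, hle⟩ hqm
      have hJq : J₀ ≤ q := le_sup_left.trans hle
      have hqbar : (q.map (Ideal.Quotient.mk J₀)).IsPrime :=
        Ideal.map_isPrime_of_surjective Ideal.Quotient.mk_surjective
          (by rw [Ideal.mk_ker]; exact hJq)
      have hsq : Ideal.span (s : Set (R ⧸ J₀)) ≤ q.map (Ideal.Quotient.mk J₀) := by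
        rw [Ideal.span_le]
        intro w hw
        obtain ⟨i, hi⟩ := e.surjective ⟨w, hw⟩
        have h1 : w = Ideal.Quotient.mk J₀ (x i) := by
          rw [hxe i, hi]
        rw [h1]
        exact Ideal.mem_map_of_mem _ (hle (Ideal.mem_sup_right (Ideal.subset_span ⟨i, rfl⟩)))
      have h2 : maximalIdeal (R ⧸ J₀) ≤ q.map (Ideal.Quotient.mk J₀) :=
        hs_min.2 ⟨hqbar, hsq⟩ (IsLocalRing.le_maximalIdeal hqbar.ne_top)
      intro z hz
      have h3 := h2 ((hnonunit z).mpr hz)
      have h4 : z ∈ (q.map (Ideal.Quotient.mk J₀)).comap (Ideal.Quotient.mk J₀) := h3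
      rw [Ideal.comap_map_of_surjective _ Ideal.Quotient.mk_surjective, ← RingHom.ker_eq_comap_bot,
        Ideal.mk_ker, sup_eq_left.mpr hJq] at h4
      exact h4
  have hfin : F.Finite := finite_of_mem_minimalPrimes F hres hmin
  refine ⟨s.card, F, ?_, hfin, hC, hres⟩
  -- injectivity, by dimension
  have hP : IsRegularLocalRing (MvPowerSeries (Fin s.card) Λ) :=
    Groth.Agent.H15.PSRegular.isRegularLocalRing_mvPowerSeries s.card
  have hdimP : ringKrullDim (MvPowerSeries (Fin s.card) Λ) = ringKrullDim Λ + s.card :=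
    Groth.Agent.H15.PSRegular.ringKrullDim_mvPowerSeries s.card
  have hn : ((s.card : ℕ) : WithBot ℕ∞) = ringKrullDim (R ⧸ J₀) := by
    rw [← IsLocalRing.maximalIdeal_height_eq_ringKrullDim, ← hs_card]
    rfl
  have hle : ringKrullDim (MvPowerSeries (Fin s.card) Λ) ≤ ringKrullDim R := by
    rw [hdimP, hn]; exact hdim
  by_contra hinj
  have hker : RingHom.ker F ≠ ⊥ := fun h => hinj ((RingHom.injective_iff_ker_eq_bot F).2 h)
  obtain ⟨r, hr, hr0⟩ := Submodule.exists_mem_ne_zero_of_ne_bot hker
  have h1 := ringKrullDim_succ_le_of_surjective (Ideal.Quotient.mk (RingHom.ker F))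
    Ideal.Quotient.mk_surjective (mem_nonZeroDivisors_of_ne_zero hr0)
    (Ideal.Quotient.eq_zero_iff_mem.mpr hr)
  have hint : (RingHom.kerLift F).IsIntegral := by
    refine RingHom.IsIntegral.tower_top (Ideal.Quotient.mk (RingHom.ker F)) (RingHom.kerLift F) ?_
    have h5 : (RingHom.kerLift F).comp (Ideal.Quotient.mk (RingHom.ker F)) = F := by
      ext z; rfl
    rw [h5]
    exact hfin.to_isIntegral
  have h2 := Groth.Agent.H54.ringKrullDim_eq_of_ringHom_isIntegral_of_injective
    (RingHom.kerLift F) hint (RingHom.kerLift_injective F)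
  obtain ⟨d, hd⟩ := exists_nat_ringKrullDim R
  rw [← h2, hd] at h1
  rw [hd] at hle
  have h3 := h1.trans hle
  have h4 : ((d + 1 : ℕ) : WithBot ℕ∞) ≤ (d : ℕ) := by
    push_cast
    exact h3
  have h5 : d + 1 ≤ d := by exact_mod_cast h4
  omega

end Groth.Agent.H15.CohenNorm
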