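import Mathlib
import Groth.Agent.S0578
import Groth.Agent.S0579
import Groth.Agent.H15.CohenLift
import Groth.Agent.H15.CohenNorm

/-!
# Coefficient rings of complete local rings (helper15)
-/

set_option autoImplicit false
universe u

namespace Groth.Agent.H15.CohenCoeff

open IsLocalRing

theorem field_isAdicComplete (k : Type*) [Field k] : IsAdicComplete (maximalIdeal k) k := by
  rw [IsLocalRing.maximalIdeal_eq_bot]
  infer_instance

/-- The data of a coefficient ring. -/
structure CoeffData (R : Type u) [CommRing R] [IsLocalRing R] where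
  Λ : Type u
  [commRing : CommRing Λ]
  [isDomain : IsDomain Λ]
  [isRegular : IsRegularLocalRing Λ]
  [complete : IsAdicComplete (maximalIdeal Λ) Λ]
  φ : Λ →+* R
  kind : IsField Λ ∨ CAlg.IsCohenRing Λ
  surj : Function.Surjective ((residue R).comp φ)

attribute [instance] CoeffData.commRing CoeffData.isDomain CoeffData.isRegular CoeffData.complete

/-- A complete local ring has a coefficient ring (a field or a Cohen ring mapping onto the residue
field); if the ring is a domain the coefficient ring embeds with
`dim Λ + dim R/m_Λ R ≤ dim R`. -/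
theorem exists_coeffData (R : Type u) [CommRing R] [IsLocalRing R]
    [IsAdicComplete (maximalIdeal R) R] :
    ∃ D : CoeffData R, (IsDomain R → IsNoetherianRing R →
      ringKrullDim D.Λ + ringKrullDim (R ⧸ Ideal.map D.φ (maximalIdeal D.Λ)) ≤ ringKrullDim R) := by
  classical
  -- the field case, given a section-like map from a field
  have field_case : ∀ (K : Type u) [Field K] (ψ : K →+* R),
      Function.Surjective ((residue R).comp ψ) →
      ∃ D : CoeffData R, (IsDomain R → IsNoetherianRing R →
        ringKrullDim D.Λ + ringKrullDim (R ⧸ Ideal.map D.φ (maximalIdeal D.Λ)) ≤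
          ringKrullDim R) := by
    intro K _ ψ hψ
    have hc : IsAdicComplete (maximalIdeal K) K := field_isAdicComplete K
    refine ⟨{ Λ := K, φ := ψ, kind := Or.inl (Field.toIsField K), surj := hψ }, fun _ _ => ?_⟩
    show ringKrullDim K + ringKrullDim (R ⧸ Ideal.map ψ (maximalIdeal K)) ≤ ringKrullDim R
    rw [ringKrullDim_eq_zero_of_field, zero_add, IsLocalRing.maximalIdeal_eq_bot, Ideal.map_bot,
      ringKrullDim_eq_of_ringEquiv (RingEquiv.quotientBot R)]
  obtain ⟨q, hq⟩ := CharP.exists (ResidueField R)
  rcases CharP.char_is_prime_or_zero (ResidueField R) q with hqp | hq0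
  · have : Fact q.Prime := ⟨hqp⟩
    obtain ⟨Λ, _, _, hΛ, ⟨e⟩⟩ := Groth.Agent.S0578.result q (ResidueField R)
    have hΛ' := hΛ
    obtain ⟨hdom, hdvr, hcomp, p, hp, hm⟩ := hΛ
    have hpR : (p : R) ∈ maximalIdeal R := by
      rw [← IsLocalRing.residue_eq_zero_iff, map_natCast]
      have h1 : residue Λ (p : Λ) = 0 := by
        rw [IsLocalRing.residue_eq_zero_iff, hm]
        exact Ideal.mem_span_singleton_self _
      rw [map_natCast] at h1
      have h2 := congrArg e h1
      rwa [map_natCast, map_zero] at h2
    let g₁ : Λ →+* R ⧸ maximalIdeal R :=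
      (e : ResidueField Λ →+* ResidueField R).comp (residue Λ)
    obtain ⟨v, hv⟩ := Groth.Agent.H15.CohenLift.exists_lift_complete Λ p hp hm
      (maximalIdeal R) hpR g₁
    have hφ : Function.Surjective ((residue R).comp v) := by
      have h3 : (residue R).comp v = g₁ := hv
      rw [h3]
      exact e.surjective.comp IsLocalRing.residue_surjective
    by_cases hp0 : (p : R) = 0
    · -- `p = 0` in `R`: the map factors through the residue field of `Λ`
      have hker : ∀ a ∈ maximalIdeal Λ, v a = 0 := by
        intro a ha
        rw [hm] at ha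
        obtain ⟨b, rfl⟩ := Ideal.mem_span_singleton'.mp ha
        rw [map_mul, map_natCast, hp0, mul_zero]
      let ψ : ResidueField Λ →+* R := Ideal.Quotient.lift (maximalIdeal Λ) v hker
      refine field_case (ResidueField Λ) ψ ?_
      intro y
      obtain ⟨a, ha⟩ := hφ y
      exact ⟨residue Λ a, ha⟩
    · refine ⟨{ Λ := Λ, φ := v, kind := Or.inr hΛ', surj := hφ }, fun _ _ => ?_⟩
      show ringKrullDim Λ + ringKrullDim (R ⧸ Ideal.map v (maximalIdeal Λ)) ≤ ringKrullDim R
      have h4 : Ideal.map v (maximalIdeal Λ) = Ideal.span {(p : R)} := by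
        rw [hm, Ideal.map_span, Set.image_singleton, map_natCast]
      have h5 : ringKrullDim Λ = 1 :=
        IsPrincipalIdealRing.ringKrullDim_eq_one Λ (IsDiscreteValuationRing.not_isField Λ)
      have h6 := ringKrullDim_quotient_span_singleton_succ_eq_ringKrullDim_of_mem_nonZeroDivisors
        (mem_nonZeroDivisors_of_ne_zero hp0) hpR
      rw [h4, h5, add_comm, h6]
  · subst hq0
    have : CharZero (ResidueField R) := CharP.charP_to_charZero _
    obtain ⟨s, hs⟩ := Groth.Agent.S0579.result R
    refine field_case (ResidueField R) s ?_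
    rw [hs]
    exact Function.surjective_id

end Groth.Agent.H15.CohenCoeff
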