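import Groth.Agent.H15.Depth
import Mathlib.RingTheory.Depth.Rees
import Mathlib.RingTheory.Nakayama
import Mathlib.Algebra.Homology.DerivedCategory.Ext.ExactSequences

/-!
# Depth and vanishing of Ext (bridge to Mathlib's Rees theorem)

* `le_idealDepth_iff_ext'`: for a finite module `M` over a Noetherian ring,
  `n ≤ idealDepth I M ↔ ∀ i < n, Ext^i(R/I, M) = 0` (also when `IM = M`).
* `subsingleton_ext_X₁_zero/succ`, `subsingleton_ext_X₂`, `subsingleton_ext_X₃`: vanishing of `Ext`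
  along a short exact sequence in the second variable.
-/

set_option autoImplicit false

universe w v' u' u

open CategoryTheory Abelian RingTheory.Sequence

namespace Groth.Agent.H15.ExtDepth

open Groth.Agent.H15.Depth

section LES

variable {C : Type u'} [Category.{v'} C] [Abelian C] [HasExt.{w} C] (X : C) {S : ShortComplex C}
  (hS : S.ShortExact)

include hS

theorem subsingleton_ext_X₂ (n : ℕ) (h1 : Subsingleton (Ext X S.X₁ n))
    (h3 : Subsingleton (Ext X S.X₃ n)) : Subsingleton (Ext X S.X₂ n) := by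
  refine subsingleton_of_forall_eq 0 fun x₂ => ?_
  obtain ⟨x₁, hx₁⟩ := Ext.covariant_sequence_exact₂ X hS x₂ (Subsingleton.elim _ _)
  rw [← hx₁, Subsingleton.elim x₁ 0, Ext.zero_comp]

theorem subsingleton_ext_X₃ (n : ℕ) (h2 : Subsingleton (Ext X S.X₂ n))
    (h1 : Subsingleton (Ext X S.X₁ (n + 1))) : Subsingleton (Ext X S.X₃ n) := by
  refine subsingleton_of_forall_eq 0 fun x₃ => ?_
  obtain ⟨x₂, hx₂⟩ := Ext.covariant_sequence_exact₃ X hS x₃ rfl (Subsingleton.elim _ _)
  rw [← hx₂, Subsingleton.elim x₂ 0, Ext.zero_comp]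

theorem subsingleton_ext_X₁_zero (h2 : Subsingleton (Ext X S.X₂ 0)) :
    Subsingleton (Ext X S.X₁ 0) := by
  have := hS.mono_f
  exact (Ext.postcomp_mk₀_injective_of_mono X S.f).subsingleton

theorem subsingleton_ext_X₁_succ (n : ℕ) (h2 : Subsingleton (Ext X S.X₂ (n + 1)))
    (h3 : Subsingleton (Ext X S.X₃ n)) : Subsingleton (Ext X S.X₁ (n + 1)) := by
  refine subsingleton_of_forall_eq 0 fun x₁ => ?_
  obtain ⟨x₃, hx₃⟩ := Ext.covariant_sequence_exact₁ X hS x₁ (Subsingleton.elim _ _) rfl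
  rw [← hx₃, Subsingleton.elim x₃ 0, Ext.zero_comp]

end LES

section Rees

set_option linter.unusedSectionVars false

variable {R : Type u} [CommRing R] [IsNoetherianRing R]

theorem support_quotient (I : Ideal R) :
    Module.support R (R ⧸ I) = PrimeSpectrum.zeroLocus (I : Set R) := by
  rw [Module.support_eq_zeroLocus, Ideal.annihilator_quotient]

omit [IsNoetherianRing R] in
theorem ofList_smul_top_ne_top {I : Ideal R} {M : Type u} [AddCommGroup M] [Module R M]
    (hIM : I • (⊤ : Submodule R M) ≠ ⊤) {rs : List R} (hI : ∀ r ∈ rs, r ∈ I) :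
    (⊤ : Submodule R M) ≠ Ideal.ofList rs • (⊤ : Submodule R M) := by
  intro h
  apply hIM
  rw [eq_top_iff]
  have hle : Ideal.ofList rs ≤ I := by
    rw [Ideal.ofList, Ideal.span_le]
    intro r hr
    exact hI r hr
  calc (⊤ : Submodule R M) = Ideal.ofList rs • (⊤ : Submodule R M) := h
    _ ≤ I • (⊤ : Submodule R M) := Submodule.smul_mono_left hle

theorem le_idealDepth_iff_ext (I : Ideal R) (M : Type u) [AddCommGroup M] [Module R M]
    [Module.Finite R M] (hIM : I • (⊤ : Submodule R M) ≠ ⊤) (n : ℕ) :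
    (n : ℕ∞) ≤ LocCoh.idealDepth I M ↔
      ∀ i < n, Subsingleton (Ext (ModuleCat.of R (R ⧸ I)) (ModuleCat.of R M) i) := by
  rw [le_idealDepth_iff hIM n]
  constructor
  · rintro ⟨rs, hw, hI, hl⟩ i hi
    exact ModuleCat.subsingleton_ext_of_exists_isRegular I (ModuleCat.of R (R ⧸ I))
      (support_quotient I).subset (ModuleCat.of R M) (lt_top_iff_ne_top.mpr hIM) rs hI
      ⟨hw, ofList_smul_top_ne_top hIM hI⟩ i (hl ▸ hi)
  · intro h
    obtain ⟨rs, hl, hI, hreg⟩ := ModuleCat.exists_isRegular_of_exists_subsingleton_ext I n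
      (ModuleCat.of R M) (lt_top_iff_ne_top.mpr hIM) (ModuleCat.of R (R ⧸ I))
      (support_quotient I) h
    exact ⟨rs, hreg.toIsWeaklyRegular, hI, hl⟩

theorem ext_subsingleton_of_smul_top_eq_top (I : Ideal R) (M : Type u) [AddCommGroup M]
    [Module R M] [Module.Finite R M] (hIM : I • (⊤ : Submodule R M) = ⊤) (i : ℕ) :
    Subsingleton (Ext (ModuleCat.of R (R ⧸ I)) (ModuleCat.of R M) i) := by
  obtain ⟨r, hr, hr0⟩ := Submodule.exists_sub_one_mem_and_smul_eq_zero_of_fg_of_le_smul I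
    (⊤ : Submodule R M) Module.Finite.fg_top (by rw [hIM])
  have ha : (1 - r) ∈ I := by
    have h := I.neg_mem hr
    rwa [neg_sub] at h
  have hid : (1 - r) • 𝟙 (ModuleCat.of R M) = 𝟙 (ModuleCat.of R M) := by
    ext m
    change (1 - r) • m = m
    rw [sub_smul, one_smul, hr0 m trivial, sub_zero]
  have hann : (1 - r) ∈ Module.annihilator R (ModuleCat.of R (R ⧸ I)) := by
    change (1 - r) ∈ Module.annihilator R (R ⧸ I)
    rw [Ideal.annihilator_quotient]
    exact ha
  have hzero := Ext.postcomp_smul_id_eq_zero_of_mem_annihilator (M := ModuleCat.of R M)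
    (N := ModuleCat.of R (R ⧸ I)) hann i
  rw [hid] at hzero
  refine subsingleton_of_forall_eq 0 fun e => ?_
  have hF : (Ext.mk₀ (𝟙 (ModuleCat.of R M))).postcomp (ModuleCat.of R (R ⧸ I)) (add_zero i) = 0 := by
    have h := congrArg AddCommGrpCat.Hom.hom hzero
    simpa using h
  have h2 := DFunLike.congr_fun hF e
  change e.comp (Ext.mk₀ (𝟙 _)) (add_zero i) = 0 at h2
  rw [Ext.comp_mk₀_id] at h2
  exact h2

theorem le_idealDepth_iff_ext' (I : Ideal R) (M : Type u) [AddCommGroup M] [Module R M]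
    [Module.Finite R M] (n : ℕ) :
    (n : ℕ∞) ≤ LocCoh.idealDepth I M ↔
      ∀ i < n, Subsingleton (Ext (ModuleCat.of R (R ⧸ I)) (ModuleCat.of R M) i) := by
  by_cases hIM : I • (⊤ : Submodule R M) = ⊤
  · rw [idealDepth_eq_top_of_smul_top_eq_top hIM]
    exact ⟨fun _ i _ => ext_subsingleton_of_smul_top_eq_top I M hIM i, fun _ => le_top⟩
  · exact le_idealDepth_iff_ext I M hIM n

end Rees

section ENat

theorem enat_sub_one_aux {n : ℕ} {d : ℕ∞} (hn : 1 ≤ n) (h : (n : ℕ∞) ≤ d - 1) :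
    ((n + 1 : ℕ) : ℕ∞) ≤ d := by
  cases d using ENat.recTopCoe with
  | top => exact le_top
  | coe m =>
    have h' : (n : ℕ∞) ≤ ((m - 1 : ℕ) : ℕ∞) := by
      rw [ENat.natCast_sub, ENat.natCast_one]
      exact h
    have h2 : n ≤ m - 1 := by exact_mod_cast h'
    exact_mod_cast (by omega : n + 1 ≤ m)

theorem enat_add_one_aux {k : ℕ} {d : ℕ∞} (h : ((k + 1 : ℕ) : ℕ∞) ≤ d + 1) : (k : ℕ∞) ≤ d := by
  cases d using ENat.recTopCoe with
  | top => exact le_top
  | coe m =>
    have h2 : k + 1 ≤ m + 1 := by exact_mod_cast h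
    exact_mod_cast (by omega : k ≤ m)

end ENat

end Groth.Agent.H15.ExtDepth
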