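import Groth.Agent.H15.DepthOne
import Mathlib.RingTheory.Regular.LinearMap
import Mathlib.RingTheory.QuotSMulTop

/-!
# Elementary theory of `LocCoh.idealDepth` (universe polymorphic, no Ext)

For a Noetherian ring `R`, an ideal `I` and finite modules:
* `HasSeq I M n`: there is an `M`-weakly-regular sequence of length `n` with terms in `I`;
* `HasSocle I M`: some nonzero element of `M` is killed by `I`;
* `hasSocle_of_no_regular`: if no element of `I` is `M`-regular then `HasSocle I M`;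
* `hasSeq_quot_exchange`: for `x, y ∈ I` both `M`-regular, `HasSeq I (M/xM) n → HasSeq I (M/yM) n`;
* `hasSeq_quot_of_hasSeq_succ`: if `HasSeq I M (n+1)` and `x ∈ I` is `M`-regular then `HasSeq I (M/xM) n`;
* `le_idealDepth_iff`, `idealDepth_quotSMulTop_add_one`.
-/

set_option autoImplicit false

universe u v

open scoped Pointwise
open RingTheory.Sequence

namespace Groth.Agent.H15.Depth

variable {R : Type u} [CommRing R]

/-- There is an `M`-weakly-regular sequence of length `n` with terms in `I`. -/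
def HasSeq (I : Ideal R) (M : Type v) [AddCommGroup M] [Module R M] (n : ℕ) : Prop :=
  ∃ rs : List R, IsWeaklyRegular M rs ∧ (∀ r ∈ rs, r ∈ I) ∧ rs.length = n

/-- Some nonzero element of `M` is killed by `I`. -/
def HasSocle (I : Ideal R) (M : Type v) [AddCommGroup M] [Module R M] : Prop :=
  ∃ m : M, m ≠ 0 ∧ ∀ a ∈ I, a • m = 0

section Basic

variable {I : Ideal R} {M : Type v} [AddCommGroup M] [Module R M]
  {M' : Type*} [AddCommGroup M'] [Module R M']

theorem HasSeq.congr (e : M ≃ₗ[R] M') {n : ℕ} (h : HasSeq I M n) : HasSeq I M' n := by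
  obtain ⟨rs, hw, hI, hl⟩ := h
  exact ⟨rs, (e.isWeaklyRegular_congr rs).mp hw, hI, hl⟩

theorem hasSeq_zero : HasSeq I M 0 := ⟨[], IsWeaklyRegular.nil R M, by simp, rfl⟩

theorem hasSeq_succ_iff {n : ℕ} :
    HasSeq I M (n + 1) ↔ ∃ x ∈ I, IsSMulRegular M x ∧ HasSeq I (QuotSMulTop x M) n := by
  constructor
  · rintro ⟨rs, hw, hI, hl⟩
    match rs, hw, hI, hl with
    | [], _, _, hl => simp at hl
    | x :: rs, hw, hI, hl =>
      rw [isWeaklyRegular_cons_iff] at hw
      exact ⟨x, hI x (by simp), hw.1, rs, hw.2, fun r hr => hI r (by simp [hr]), by simpa using hl⟩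
  · rintro ⟨x, hx, hreg, rs, hw, hI, hl⟩
    refine ⟨x :: rs, (isWeaklyRegular_cons_iff M x rs).mpr ⟨hreg, hw⟩, ?_, by simp [hl]⟩
    intro r hr
    rcases List.mem_cons.mp hr with rfl | hr
    · exact hx
    · exact hI r hr

theorem HasSeq.mono {n m : ℕ} (h : HasSeq I M n) (hmn : m ≤ n) : HasSeq I M m := by
  obtain ⟨rs, hw, hI, hl⟩ := h
  refine ⟨rs.take m, ?_, fun r hr => hI r (List.mem_of_mem_take hr), by simp [hl, hmn]⟩
  have h1 : rs.take m ++ rs.drop m = rs := List.take_append_drop m rs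
  rw [← h1] at hw
  exact ((isWeaklyRegular_append_iff M _ _).mp hw).1

theorem HasSocle.congr (e : M ≃ₗ[R] M') (h : HasSocle I M) : HasSocle I M' := by
  obtain ⟨m, hm, hI⟩ := h
  refine ⟨e m, fun h0 => hm (e.map_eq_zero_iff.mp h0), fun a ha => ?_⟩
  rw [← map_smul, hI a ha, map_zero]

theorem HasSocle.not_regular (h : HasSocle I M) {a : R} (ha : a ∈ I) : ¬ IsSMulRegular M a := by
  obtain ⟨m, hm, hI⟩ := h
  intro hreg
  apply hm
  apply hreg
  show a • m = a • 0
  rw [hI a ha, smul_zero]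

theorem hasSocle_quotSMulTop_iff {x : R} :
    HasSocle I (QuotSMulTop x M) ↔
      ∃ m : M, m ∉ x • (⊤ : Submodule R M) ∧ ∀ a ∈ I, a • m ∈ x • (⊤ : Submodule R M) := by
  constructor
  · rintro ⟨m, hm, hI⟩
    obtain ⟨m, rfl⟩ := Submodule.Quotient.mk_surjective _ m
    refine ⟨m, fun h => hm ((Submodule.Quotient.mk_eq_zero _).mpr h), fun a ha => ?_⟩
    have := hI a ha
    rwa [← Submodule.Quotient.mk_smul, Submodule.Quotient.mk_eq_zero] at this
  · rintro ⟨m, hm, hI⟩
    refine ⟨Submodule.Quotient.mk m, fun h => hm ((Submodule.Quotient.mk_eq_zero _).mp h),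
      fun a ha => ?_⟩
    rw [← Submodule.Quotient.mk_smul, Submodule.Quotient.mk_eq_zero]
    exact hI a ha

theorem hasSocle_exchange {x y : R} (_hx : x ∈ I) (hy : y ∈ I) (hxr : IsSMulRegular M x)
    (hyr : IsSMulRegular M y) (h : HasSocle I (QuotSMulTop x M)) :
    HasSocle I (QuotSMulTop y M) := by
  rw [hasSocle_quotSMulTop_iff] at h ⊢
  exact Groth.Agent.H15.DepthOne.socle_exchange I hy hxr hyr h

/-- If `x` is `M`-regular and `z` is `M/xM`-regular then `x` is `M/zM`-regular. -/
theorem regular_swap {x z : R} (hx : IsSMulRegular M x) (hz : IsSMulRegular (QuotSMulTop x M) z) :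
    IsSMulRegular (QuotSMulTop z M) x := by
  rw [isSMulRegular_iff_right_eq_zero_of_smul]
  intro m hm
  obtain ⟨m, rfl⟩ := Submodule.Quotient.mk_surjective _ m
  rw [← Submodule.Quotient.mk_smul, Submodule.Quotient.mk_eq_zero,
    Groth.Agent.H15.DepthOne.mem_smul_top_iff] at hm
  obtain ⟨m', hm'⟩ := hm
  -- z • m' = x • m, so z kills the class of m' in M/xM
  have h1 : z • (Submodule.Quotient.mk m' : QuotSMulTop x M) = 0 := by
    rw [← Submodule.Quotient.mk_smul, Submodule.Quotient.mk_eq_zero, hm',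
      Groth.Agent.H15.DepthOne.mem_smul_top_iff]
    exact ⟨m, rfl⟩
  have h2 : (Submodule.Quotient.mk m' : QuotSMulTop x M) = 0 :=
    (isSMulRegular_iff_right_eq_zero_of_smul.mp hz) _ h1
  rw [Submodule.Quotient.mk_eq_zero, Groth.Agent.H15.DepthOne.mem_smul_top_iff] at h2
  obtain ⟨m'', hm''⟩ := h2
  rw [Submodule.Quotient.mk_eq_zero, Groth.Agent.H15.DepthOne.mem_smul_top_iff]
  refine ⟨m'', hx ?_⟩
  show x • z • m'' = x • m
  rw [smul_comm, hm'', hm']

/-- `(M/xM)/z(M/xM) ≃ (M/zM)/x(M/zM)`. -/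
noncomputable def swapEquiv (x z : R) (M : Type v) [AddCommGroup M] [Module R M] :
    QuotSMulTop z (QuotSMulTop x M) ≃ₗ[R] QuotSMulTop x (QuotSMulTop z M) :=
  QuotSMulTop.equivQuotTensor z (QuotSMulTop x M) ≪≫ₗ
    TensorProduct.congr (LinearEquiv.refl R _) (QuotSMulTop.equivQuotTensor x M) ≪≫ₗ
    TensorProduct.leftComm R _ _ _ ≪≫ₗ
    TensorProduct.congr (LinearEquiv.refl R _) (QuotSMulTop.equivQuotTensor z M).symm ≪≫ₗ
    (QuotSMulTop.equivQuotTensor x (QuotSMulTop z M)).symm

end Basic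

section Noetherian

variable [IsNoetherianRing R] {I : Ideal R}

theorem hasSocle_of_no_regular (M : Type v) [AddCommGroup M] [Module R M] [Module.Finite R M]
    (h : ∀ a ∈ I, ¬ IsSMulRegular M a) : HasSocle I M := by
  have h1 : ¬ Subsingleton ((R ⧸ I) →ₗ[R] M) := by
    intro hs
    obtain ⟨r, hr, hreg⟩ := IsSMulRegular.subsingleton_linearMap_iff.mp hs
    rw [Ideal.annihilator_quotient] at hr
    exact h r hr hreg
  rw [not_subsingleton_iff_nontrivial] at h1
  obtain ⟨f, hf⟩ := exists_ne (0 : (R ⧸ I) →ₗ[R] M)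
  refine ⟨f (Ideal.Quotient.mk I 1), ?_, ?_⟩
  · intro h0
    apply hf
    apply LinearMap.ext
    intro q
    obtain ⟨r, rfl⟩ := Ideal.Quotient.mk_surjective q
    have : Ideal.Quotient.mk I r = r • (Ideal.Quotient.mk I 1) := by
      rw [Algebra.smul_def, Ideal.Quotient.algebraMap_eq, ← map_mul, mul_one]
    rw [this, map_smul, h0, smul_zero, LinearMap.zero_apply]
  · intro a ha
    rw [← map_smul]
    have : a • (Ideal.Quotient.mk I 1) = 0 := by
      rw [Algebra.smul_def, Ideal.Quotient.algebraMap_eq, ← map_mul, mul_one]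
      exact Ideal.Quotient.eq_zero_iff_mem.mpr ha
    rw [this, map_zero]

theorem exists_regular_or_hasSocle (M : Type v) [AddCommGroup M] [Module R M] [Module.Finite R M] :
    (∃ a ∈ I, IsSMulRegular M a) ∨ HasSocle I M := by
  by_cases h : ∃ a ∈ I, IsSMulRegular M a
  · exact Or.inl h
  · exact Or.inr (hasSocle_of_no_regular M (fun a ha hreg => h ⟨a, ha, hreg⟩))

/-- Three finite modules each admitting a regular element of `I` admit a common one. -/
theorem exists_common_regular (M₁ M₂ M₃ : Type v) [AddCommGroup M₁] [Module R M₁]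
    [Module.Finite R M₁] [AddCommGroup M₂] [Module R M₂] [Module.Finite R M₂]
    [AddCommGroup M₃] [Module R M₃] [Module.Finite R M₃]
    (h₁ : ∃ a ∈ I, IsSMulRegular M₁ a) (h₂ : ∃ a ∈ I, IsSMulRegular M₂ a)
    (h₃ : ∃ a ∈ I, IsSMulRegular M₃ a) :
    ∃ z ∈ I, IsSMulRegular M₁ z ∧ IsSMulRegular M₂ z ∧ IsSMulRegular M₃ z := by
  rcases exists_regular_or_hasSocle (I := I) (M₁ × M₂ × M₃) with ⟨z, hz, hreg⟩ | hsoc
  · refine ⟨z, hz, ?_, ?_, ?_⟩
    · intro u v huv
      have : z • ((u, 0, 0) : M₁ × M₂ × M₃) = z • (v, 0, 0) := by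
        simp only [Prod.smul_mk, smul_zero]
        exact congrArg (fun t => (t, (0 : M₂), (0 : M₃))) huv
      exact congrArg Prod.fst (hreg this)
    · intro u v huv
      have : z • ((0, u, 0) : M₁ × M₂ × M₃) = z • (0, v, 0) := by
        simp only [Prod.smul_mk, smul_zero]
        exact congrArg (fun t => ((0 : M₁), t, (0 : M₃))) huv
      exact congrArg (fun t => t.2.1) (hreg this)
    · intro u v huv
      have : z • ((0, 0, u) : M₁ × M₂ × M₃) = z • (0, 0, v) := by
        simp only [Prod.smul_mk, smul_zero]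
        exact congrArg (fun t => ((0 : M₁), (0 : M₂), t)) huv
      exact congrArg (fun t => t.2.2) (hreg this)
  · exfalso
    obtain ⟨⟨m₁, m₂, m₃⟩, hm, hI⟩ := hsoc
    obtain ⟨a₁, ha₁, hr₁⟩ := h₁
    obtain ⟨a₂, ha₂, hr₂⟩ := h₂
    obtain ⟨a₃, ha₃, hr₃⟩ := h₃
    apply hm
    have e₁ : m₁ = 0 := by
      apply hr₁
      have := congrArg Prod.fst (hI a₁ ha₁)
      simpa using this
    have e₂ : m₂ = 0 := by
      apply hr₂
      have := congrArg (fun t => t.2.1) (hI a₂ ha₂)
      simpa using this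
    have e₃ : m₃ = 0 := by
      apply hr₃
      have := congrArg (fun t => t.2.2) (hI a₃ ha₃)
      simpa using this
    rw [e₁, e₂, e₃]
    rfl

/-- The exchange theorem: for `x, y ∈ I` both `M`-regular, `M/xM` and `M/yM` admit regular sequences of
the same lengths. -/
theorem hasSeq_quot_exchange (n : ℕ) :
    ∀ (M : Type v) [AddCommGroup M] [Module R M] [Module.Finite R M] (x y : R), x ∈ I → y ∈ I →
      IsSMulRegular M x → IsSMulRegular M y →
      HasSeq I (QuotSMulTop x M) n → HasSeq I (QuotSMulTop y M) n := by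
  induction n with
  | zero => intro M _ _ _ x y _ _ _ _ _; exact hasSeq_zero
  | succ n ih =>
    intro M _ _ _ x y hx hy hxr hyr h
    obtain ⟨x₂, hx₂, hx₂r, h₂⟩ := hasSeq_succ_iff.mp h
    -- some element of I is regular on M/yM
    have hy₂ : ∃ a ∈ I, IsSMulRegular (QuotSMulTop y M) a := by
      rcases exists_regular_or_hasSocle (I := I) (QuotSMulTop y M) with h | hsoc
      · exact h
      · exact absurd hx₂r ((hasSocle_exchange hy hx hyr hxr hsoc).not_regular hx₂)
    obtain ⟨z, hz, hzM, hzx, hzy⟩ := exists_common_regular (I := I) M (QuotSMulTop x M)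
      (QuotSMulTop y M) ⟨x, hx, hxr⟩ ⟨x₂, hx₂, hx₂r⟩ hy₂
    -- step 2: exchange x₂ and z on M/xM
    have s2 : HasSeq I (QuotSMulTop z (QuotSMulTop x M)) n :=
      ih (QuotSMulTop x M) x₂ z hx₂ hz hx₂r hzx h₂
    -- step 3: swap
    have s3 : HasSeq I (QuotSMulTop x (QuotSMulTop z M)) n := s2.congr (swapEquiv x z M)
    -- step 4: x and y are regular on M/zM
    have hxz : IsSMulRegular (QuotSMulTop z M) x := regular_swap hxr hzx
    have hyz : IsSMulRegular (QuotSMulTop z M) y := regular_swap hyr hzy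
    -- step 5: exchange x and y on M/zM
    have s5 : HasSeq I (QuotSMulTop y (QuotSMulTop z M)) n :=
      ih (QuotSMulTop z M) x y hx hy hxz hyz s3
    -- step 6: swap back
    have s6 : HasSeq I (QuotSMulTop z (QuotSMulTop y M)) n := s5.congr (swapEquiv y z M).symm
    exact hasSeq_succ_iff.mpr ⟨z, hz, hzy, s6⟩

theorem hasSeq_quot_of_hasSeq_succ {M : Type v} [AddCommGroup M] [Module R M] [Module.Finite R M]
    {n : ℕ} {x : R} (hx : x ∈ I) (hxr : IsSMulRegular M x) (h : HasSeq I M (n + 1)) :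
    HasSeq I (QuotSMulTop x M) n := by
  obtain ⟨y, hy, hyr, h'⟩ := hasSeq_succ_iff.mp h
  exact hasSeq_quot_exchange n M y x hy hx hyr hxr h'

end Noetherian

section IdealDepth

variable {I : Ideal R} {M : Type v} [AddCommGroup M] [Module R M]

theorem le_idealDepth_iff (hIM : I • (⊤ : Submodule R M) ≠ ⊤) (n : ℕ) :
    (n : ℕ∞) ≤ LocCoh.idealDepth I M ↔ HasSeq I M n := by
  unfold LocCoh.idealDepth
  rw [if_neg hIM]
  constructor
  · intro h
    match n, h with
    | 0, _ => exact hasSeq_zero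
    | k + 1, h =>
      have hlt : (k : ℕ∞) < ⨆ (rs : List R) (_ : IsWeaklyRegular M rs ∧ ∀ r ∈ rs, r ∈ I),
          (rs.length : ℕ∞) := by
        refine lt_of_lt_of_le ?_ h
        exact_mod_cast Nat.lt_succ_self k
      obtain ⟨rs, hrs⟩ := lt_iSup_iff.mp hlt
      obtain ⟨⟨hw, hI⟩, hlen⟩ := lt_iSup_iff.mp hrs
      have hk : k + 1 ≤ rs.length := by exact_mod_cast hlen
      exact HasSeq.mono ⟨rs, hw, hI, rfl⟩ hk
  · rintro ⟨rs, hw, hI, hl⟩
    exact le_iSup₂_of_le rs ⟨hw, hI⟩ (by rw [hl])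

theorem idealDepth_eq_top_of_smul_top_eq_top (hIM : I • (⊤ : Submodule R M) = ⊤) :
    LocCoh.idealDepth I M = ⊤ := by
  unfold LocCoh.idealDepth
  rw [if_pos hIM]

open Ideal in
theorem smul_top_quotSMulTop_ne_top {r : R} (hr : r ∈ I)
    (hI : I • (⊤ : Submodule R M) ≠ ⊤) :
    I • (⊤ : Submodule R (QuotSMulTop r M)) ≠ ⊤ := by
  by_contra eq
  absurd congrArg (Submodule.comap (Submodule.mkQ _)) eq
  simpa [Submodule.comap_smul_top_of_surjective I _ (Submodule.mkQ_surjective _),
    Submodule.smul_mono_left ((span_singleton_le_iff_mem I).mpr hr),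
    ← Submodule.ideal_span_singleton_smul] using hI

theorem enat_add_one_eq {a b : ℕ∞} (h : ∀ n : ℕ, (n : ℕ∞) ≤ a ↔ ((n + 1 : ℕ) : ℕ∞) ≤ b) :
    a + 1 = b := by
  apply le_antisymm
  · induction a using ENat.recTopCoe with
    | top =>
      have hb : b = ⊤ := by
        by_contra hb
        obtain ⟨m, rfl⟩ := ENat.ne_top_iff_exists.mp hb
        have := (h m).mp le_top
        have h2 : m + 1 ≤ m := by exact_mod_cast this
        omega
      rw [hb]
      exact le_top
    | coe k =>
      have := (h k).mp le_rfl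
      exact_mod_cast this
  · induction b using ENat.recTopCoe with
    | top =>
      have ha : a = ⊤ := by
        by_contra ha
        obtain ⟨k, rfl⟩ := ENat.ne_top_iff_exists.mp ha
        have := (h (k + 1)).mpr le_top
        have h2 : k + 1 ≤ k := by exact_mod_cast this
        omega
      rw [ha]
      simp
    | coe m =>
      match m with
      | 0 => simp
      | m' + 1 =>
        have := (h m').mpr le_rfl
        have h2 : ((m' : ℕ∞) + 1) ≤ a + 1 := by gcongr
        exact_mod_cast h2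

variable [IsNoetherianRing R] [Module.Finite R M]

/-- For `x ∈ I` regular on `M` (finite over a Noetherian ring) with `IM ≠ M`: the depth drops by exactly
one on passing to `M/xM`. -/
theorem idealDepth_quotSMulTop_add_one (hIM : I • (⊤ : Submodule R M) ≠ ⊤) {x : R} (hx : x ∈ I)
    (hreg : IsSMulRegular M x) :
    LocCoh.idealDepth I (QuotSMulTop x M) + 1 = LocCoh.idealDepth I M := by
  apply enat_add_one_eq
  intro n
  rw [le_idealDepth_iff (smul_top_quotSMulTop_ne_top hx hIM), le_idealDepth_iff hIM]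
  constructor
  · intro h
    exact hasSeq_succ_iff.mpr ⟨x, hx, hreg, h⟩
  · intro h
    exact hasSeq_quot_of_hasSeq_succ hx hreg h

end IdealDepth

end Groth.Agent.H15.Depth
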