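import Groth.Agent.H15.SerreNormal
import Groth.Agent.H29.CM
import Mathlib.RingTheory.Nakayama
import Mathlib.RingTheory.Localization.Ideal
import Mathlib.RingTheory.Ideal.MinimalPrime.Localization
import Mathlib.Tactic

/-!
# Normality ascends from a hypersurface section

Let `B` be a Noetherian local ring and `x` a nonzerodivisor in its maximal ideal such that `B/xB` is
an integrally closed domain. Then `B` is an integrally closed domain (`normal_of_quotient_normal`),
provided the inequality `depth B_Q ≤ depth B_P + ht(Q/P)` is available for `B` (`DepthIneq B`).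

The proof goes through Serre's criterion: for a prime `P` with `depth B_P ≤ 1` the local ring `B_P`
has principal maximal ideal.
-/

set_option autoImplicit false

universe u v

open scoped Pointwise
open IsLocalRing Polynomial

namespace Groth.Agent.H15.NormalAscent

open Groth.Agent.H15.Depth Groth.Agent.H15.SerreNormal

section ChangeOfRings

variable {R : Type*} {A' : Type*} [CommRing R] [CommRing A'] [Algebra R A']

/-- A regular sequence for an `A'`-module, with terms in an ideal whose elements lift to `I`, gives a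
regular sequence over `R` with terms in `I`. -/
theorem hasSeq_of_algebraMap {I : Ideal R} {I' : Ideal A'}
    (hI : ∀ y ∈ I', ∃ x ∈ I, algebraMap R A' x = y) :
    ∀ (n : ℕ) (M : Type v) [AddCommGroup M] [Module A' M] [Module R M] [IsScalarTower R A' M],
      HasSeq I' M n → HasSeq I M n := by
  intro n
  induction n with
  | zero =>
    intro M _ _ _ _ _
    exact hasSeq_zero
  | succ n ih =>
    intro M _ _ _ _ h
    obtain ⟨y, hy, hreg, hrest⟩ := hasSeq_succ_iff.mp h
    obtain ⟨x, hx, rfl⟩ := hI y hy
    have hreg' : IsSMulRegular M x := by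
      intro m₁ m₂ hm
      apply hreg
      show algebraMap R A' x • m₁ = algebraMap R A' x • m₂
      rw [algebraMap_smul, algebraMap_smul]
      exact hm
    have hrest' : HasSeq I (QuotSMulTop (algebraMap R A' x) M) n := ih _ hrest
    have heq : ((algebraMap R A' x) • (⊤ : Submodule A' M)).restrictScalars R =
        x • (⊤ : Submodule R M) := by
      ext m
      rw [Submodule.restrictScalars_mem, Groth.Agent.H15.DepthOne.mem_smul_top_iff,
        Groth.Agent.H15.DepthOne.mem_smul_top_iff]
      constructor
      · rintro ⟨k, hk⟩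
        exact ⟨k, by rw [← hk, algebraMap_smul]⟩
      · rintro ⟨k, hk⟩
        exact ⟨k, by rw [← hk, algebraMap_smul]⟩
    let e : QuotSMulTop (algebraMap R A' x) M ≃ₗ[R] QuotSMulTop x M :=
      (Submodule.Quotient.restrictScalarsEquiv R
        ((algebraMap R A' x) • (⊤ : Submodule A' M))).symm ≪≫ₗ Submodule.quotEquivOfEq _ _ heq
    exact hasSeq_succ_iff.mpr ⟨x, hx, hreg', hrest'.congr e⟩

end ChangeOfRings

section Transfer

/-- `depth R ≥ depth (R/x'R) + 1` in the `HasSeq` language, the quotient taken as a ring. -/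
theorem hasSeq_succ_of_quotient {R : Type*} [CommRing R] [IsLocalRing R] {x' : R}
    (hx'm : x' ∈ maximalIdeal R) (hx'reg : IsSMulRegular R x') {I' : Ideal R}
    (hI' : I' = Ideal.span {x'}) [IsLocalRing (R ⧸ I')] (n : ℕ)
    (h : HasSeq (maximalIdeal (R ⧸ I')) (R ⧸ I') n) : HasSeq (maximalIdeal R) R (n + 1) := by
  have hlift : ∀ y ∈ maximalIdeal (R ⧸ I'),
      ∃ r ∈ maximalIdeal R, algebraMap R (R ⧸ I') r = y := by
    intro y hy
    obtain ⟨r, rfl⟩ := Ideal.Quotient.mk_surjective y
    refine ⟨r, ?_, rfl⟩
    by_contra hr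
    have hu : IsUnit r := by
      by_contra hnu
      exact hr ((mem_maximalIdeal r).mpr hnu)
    exact (mem_maximalIdeal _).mp hy (hu.map (Ideal.Quotient.mk _))
  have h2R : HasSeq (maximalIdeal R) (R ⧸ I') n := hasSeq_of_algebraMap hlift n _ h
  have heq : I' = x' • (⊤ : Submodule R R) := by
    rw [hI']
    ext m
    rw [Ideal.mem_span_singleton', Groth.Agent.H15.DepthOne.mem_smul_top_iff]
    constructor
    · rintro ⟨a, ha⟩
      exact ⟨a, by rw [smul_eq_mul, mul_comm]; exact ha⟩
    · rintro ⟨a, ha⟩
      exact ⟨a, by rw [mul_comm]; exact ha⟩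
  exact hasSeq_succ_iff.mpr ⟨x', hx'm, hx'reg, h2R.congr (Submodule.quotEquivOfEq _ _ heq)⟩

/-- Depth of a local ring over itself is invariant under ring isomorphisms (`HasSeq` form). -/
theorem hasSeq_ringEquiv {D₁ D₂ : Type*} [CommRing D₁] [CommRing D₂] [IsLocalRing D₁]
    [IsLocalRing D₂] (e : D₁ ≃+* D₂) (n : ℕ) (h : HasSeq (maximalIdeal D₁) D₁ n) :
    HasSeq (maximalIdeal D₂) D₂ n := by
  letI : Algebra D₂ D₁ := e.symm.toRingHom.toAlgebra
  have hI : ∀ y ∈ maximalIdeal D₁, ∃ x ∈ maximalIdeal D₂, algebraMap D₂ D₁ x = y := by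
    intro y hy
    refine ⟨e y, ?_, e.symm_apply_apply y⟩
    rw [mem_maximalIdeal, mem_nonunits_iff] at hy ⊢
    intro hu
    apply hy
    have := hu.map e.symm
    rwa [e.symm_apply_apply] at this
  have h1 : HasSeq (maximalIdeal D₂) D₁ n := hasSeq_of_algebraMap hI n D₁ h
  let f : D₁ ≃ₗ[D₂] D₂ :=
    { toFun := e
      map_add' := map_add e
      map_smul' := fun r y => by
        show e (e.symm r * y) = r * e y
        rw [map_mul, e.apply_symm_apply]
      invFun := e.symm
      left_inv := e.symm_apply_apply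
      right_inv := e.apply_symm_apply }
  exact h1.congr f

end Transfer

section Basic

/-- A Noetherian local ring in which a nonzerodivisor of the maximal ideal generates a prime ideal is
a domain. -/
theorem isDomain_of_prime_span {B : Type*} [CommRing B] [IsLocalRing B] [IsNoetherianRing B] {x : B}
    (hreg : x ∈ nonZeroDivisors B) (hprime : (Ideal.span {x}).IsPrime) : IsDomain B := by
  have hinf := Ideal.iInf_pow_eq_bot_of_isLocalRing (Ideal.span {x}) hprime.ne_top
  have key : ∀ a : B, a ≠ 0 → ∃ (i : ℕ) (a' : B), a = x ^ i * a' ∧ a' ∉ Ideal.span {x} := by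
    intro a ha
    have hex : ∃ k, a ∉ Ideal.span {x} ^ k := by
      by_contra hcon
      push Not at hcon
      apply ha
      have hmem : a ∈ ⨅ i : ℕ, Ideal.span {x} ^ i := by
        rw [Ideal.mem_iInf]
        exact hcon
      rw [hinf] at hmem
      exact Ideal.mem_bot.mp hmem
    obtain ⟨k, hk⟩ := hex
    induction k with
    | zero =>
      exfalso
      apply hk
      rw [pow_zero, Ideal.one_eq_top]
      trivial
    | succ k ih =>
      by_cases hak : a ∈ Ideal.span {x} ^ k
      · rw [Ideal.span_singleton_pow, Ideal.mem_span_singleton'] at hak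
        obtain ⟨u, hu⟩ := hak
        by_cases hux : u ∈ Ideal.span {x}
        · exfalso
          apply hk
          obtain ⟨v, hv⟩ := Ideal.mem_span_singleton'.mp hux
          rw [Ideal.span_singleton_pow, Ideal.mem_span_singleton']
          exact ⟨v, by rw [← hu, ← hv, pow_succ]; ring⟩
        · exact ⟨k, u, by rw [← hu]; ring, hux⟩
      · exact ih hak
  have hnzd : NoZeroDivisors B := by
    constructor
    intro a b hab
    by_contra hcon
    push Not at hcon
    obtain ⟨ha, hb⟩ := hcon
    obtain ⟨i, a', hae, ha'⟩ := key a ha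
    obtain ⟨j, b', hbe, hb'⟩ := key b hb
    have h1 : x ^ (i + j) * (a' * b') = 0 := by
      rw [← hab, hae, hbe, pow_add]
      ring
    have h2 : a' * b' = 0 :=
      (mul_left_mem_nonZeroDivisors_eq_zero_iff (pow_mem hreg (i + j))).mp h1
    have h3 : a' * b' ∈ Ideal.span {x} := by
      rw [h2]
      exact zero_mem _
    rcases hprime.mem_or_mem h3 with h4 | h4
    · exact ha' h4
    · exact hb' h4
  have : Nontrivial B := inferInstance
  exact NoZeroDivisors.to_isDomain B

/-- A domain in which scaled integral equations force divisibility is integrally closed. -/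
theorem isIntegrallyClosed_of_forall_scaleRoots {D : Type*} [CommRing D] [IsDomain D]
    (h : ∀ (a b : D), a ≠ 0 → ∀ p : D[X], p.Monic → (p.scaleRoots a).eval b = 0 →
      b ∈ Ideal.span {a}) : IsIntegrallyClosed D := by
  rw [isIntegrallyClosed_iff (FractionRing D)]
  intro z hz
  have hinj := IsFractionRing.injective D (FractionRing D)
  obtain ⟨p, hp, hpz⟩ := hz
  obtain ⟨b, a, ha, rfl⟩ := IsFractionRing.div_surjective D z
  have ha0 : a ≠ 0 := nonZeroDivisors.ne_zero ha
  have hfa : algebraMap D (FractionRing D) a ≠ 0 :=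
    fun h0 => ha0 (hinj (h0.trans (map_zero _).symm))
  have h1 := scaleRoots_eval₂_eq_zero_of_eval₂_div_eq_zero hinj hpz ha
  rw [eval₂_at_apply] at h1
  have h2 : (p.scaleRoots a).eval b = 0 := hinj (h1.trans (map_zero _).symm)
  obtain ⟨c, hc⟩ := Ideal.mem_span_singleton'.mp (h a b ha0 p hp h2)
  refine ⟨c, ?_⟩
  rw [eq_div_iff hfa, ← map_mul, hc]

/-- A Noetherian local domain with principal maximal ideal is a regular local ring. -/
theorem isRegularLocalRing_of_principal {A : Type*} [CommRing A] [IsLocalRing A]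
    [IsNoetherianRing A] [IsDomain A] {π : A} (hπ : maximalIdeal A = Ideal.span {π}) :
    IsRegularLocalRing A := by
  have hp : (maximalIdeal A).IsPrincipal := ⟨⟨π, hπ⟩⟩
  have h40 : (maximalIdeal A).IsPrincipal → IsPrincipalIdealRing A :=
    ((tfae_of_isNoetherianRing_of_isLocalRing_of_isDomain A).out 4 0).mp
  have := h40 hp
  infer_instance

/-- A Noetherian local integrally closed domain of dimension at most one is a principal ideal ring. -/
theorem isPrincipalIdealRing_of_normal_of_dim_le_one (A : Type*) [CommRing A] [IsLocalRing A]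
    [IsNoetherianRing A] [IsDomain A] [hic : IsIntegrallyClosed A]
    (h : ringKrullDim A ≤ ((1 : ℕ) : WithBot ℕ∞)) : IsPrincipalIdealRing A := by
  have hK : Ring.KrullDimLE 1 A := Ring.krullDimLE_iff.mpr h
  have hprimes : ∀ P' : Ideal A, P' ≠ ⊥ → P'.IsPrime → P' = maximalIdeal A :=
    fun P' h0 hP' => IsLocalRing.eq_maximalIdeal (hP'.isMaximal_of_ne_bot h0)
  have h30 : (IsIntegrallyClosed A ∧ ∀ P' : Ideal A, P' ≠ ⊥ → P'.IsPrime → P' = maximalIdeal A) →
      IsPrincipalIdealRing A :=
    ((tfae_of_isNoetherianRing_of_isLocalRing_of_isDomain A).out 3 0).mp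
  exact h30 ⟨hic, hprimes⟩

end Basic

section Loc

variable {B : Type u} [CommRing B]

theorem le_depth_iff_hasSeq (P : Ideal B) [P.IsPrime] (n : ℕ) :
    (n : ℕ∞) ≤ LocCoh.depth (Localization.AtPrime P) (LocalizedModule P.primeCompl B) ↔
      HasSeq (maximalIdeal (Localization.AtPrime P)) (Localization.AtPrime P) n := by
  have hIM := Groth.Agent.S0602.smul_top_ne_top_of_equiv (Localization.AtPrime P)
    (LocalizedModule P.primeCompl B) (Groth.Agent.S0602.locSelfEquiv P.primeCompl)
  have h1 := le_idealDepth_iff hIM n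
  constructor
  · intro h
    exact (h1.mp h).congr (Groth.Agent.S0602.locSelfEquiv P.primeCompl)
  · intro h
    exact h1.mpr (h.congr (Groth.Agent.S0602.locSelfEquiv P.primeCompl).symm)

end Loc

section Cases

variable {B : Type u} [CommRing B] [IsNoetherianRing B] [IsDomain B]

/-- Case `x ∈ P`: if `depth B_P ≤ 1` then `P = xB`. -/
theorem principal_of_mem {x : B} (hx0 : x ≠ 0) (hprime : (Ideal.span {x}).IsPrime) (P : Ideal B)
    [P.IsPrime] (hxP : x ∈ P)
    (hdepth : ¬ HasSeq (maximalIdeal (Localization.AtPrime P)) (Localization.AtPrime P) 2) :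
    maximalIdeal (Localization.AtPrime P) =
      Ideal.span {algebraMap B (Localization.AtPrime P) x} := by
  have hinj : Function.Injective (algebraMap B (Localization.AtPrime P)) :=
    IsLocalization.injective (Localization.AtPrime P) (Ideal.primeCompl_le_nonZeroDivisors P)
  have hx'm : algebraMap B (Localization.AtPrime P) x ∈ maximalIdeal (Localization.AtPrime P) :=
    (IsLocalization.AtPrime.to_map_mem_maximal_iff (Localization.AtPrime P) P x).mpr hxP
  have hx'0 : algebraMap B (Localization.AtPrime P) x ≠ 0 :=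
    fun h0 => hx0 (hinj (h0.trans (map_zero _).symm))
  have hx'reg : IsSMulRegular (Localization.AtPrime P)
      (algebraMap B (Localization.AtPrime P) x) := fun a b h => mul_left_cancel₀ hx'0 h
  have hsoc : HasSocle (maximalIdeal (Localization.AtPrime P))
      (QuotSMulTop (algebraMap B (Localization.AtPrime P) x) (Localization.AtPrime P)) := by
    rcases exists_regular_or_hasSocle (I := maximalIdeal (Localization.AtPrime P))
      (QuotSMulTop (algebraMap B (Localization.AtPrime P) x) (Localization.AtPrime P)) with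
      ⟨y, hy, hyreg⟩ | hsoc
    · exact absurd (hasSeq_succ_iff.mpr ⟨_, hx'm, hx'reg,
        hasSeq_succ_iff.mpr ⟨y, hy, hyreg, hasSeq_zero⟩⟩) hdepth
    · exact hsoc
  obtain ⟨b, hb, hsocb⟩ := hasSocle_quotSMulTop_iff.mp hsoc
  obtain ⟨β, s, rfl⟩ := IsLocalization.exists_mk'_eq P.primeCompl b
  have hle_span : Ideal.span {x} ≤ P := (Ideal.span_singleton_le_iff_mem P).mpr hxP
  have hPle : P ≤ Ideal.span {x} := by
    intro y hy
    have hy'm : algebraMap B (Localization.AtPrime P) y ∈
        maximalIdeal (Localization.AtPrime P) :=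
      (IsLocalization.AtPrime.to_map_mem_maximal_iff (Localization.AtPrime P) P y).mpr hy
    obtain ⟨c, hc⟩ := (Groth.Agent.H15.DepthOne.mem_smul_top_iff _ _).mp (hsocb _ hy'm)
    obtain ⟨c₀, t, rfl⟩ := IsLocalization.exists_mk'_eq P.primeCompl c
    rw [smul_eq_mul, smul_eq_mul] at hc
    have hs := IsLocalization.mk'_spec (Localization.AtPrime P) β s
    have ht := IsLocalization.mk'_spec (Localization.AtPrime P) c₀ t
    have h1 : algebraMap B (Localization.AtPrime P) (x * c₀ * s) =
        algebraMap B (Localization.AtPrime P) (y * β * t) := by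
      simp only [map_mul]
      linear_combination (algebraMap B (Localization.AtPrime P) (s : B) *
        algebraMap B (Localization.AtPrime P) (t : B)) * hc -
        (algebraMap B (Localization.AtPrime P) x * algebraMap B (Localization.AtPrime P) (s : B)) * ht +
        (algebraMap B (Localization.AtPrime P) y * algebraMap B (Localization.AtPrime P) (t : B)) * hs
    have h2 : x * c₀ * s = y * β * t := hinj h1
    have h3 : y * β * t ∈ Ideal.span {x} := by
      rw [← h2]
      exact Ideal.mem_span_singleton'.mpr ⟨c₀ * s, by ring⟩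
    rcases hprime.mem_or_mem h3 with h4 | h4
    · rcases hprime.mem_or_mem h4 with h5 | h5
      · exact h5
      · exfalso
        apply hb
        obtain ⟨β', hβ'⟩ := Ideal.mem_span_singleton'.mp h5
        rw [Groth.Agent.H15.DepthOne.mem_smul_top_iff]
        refine ⟨IsLocalization.mk' (Localization.AtPrime P) β' s, ?_⟩
        rw [smul_eq_mul, IsLocalization.mul_mk'_eq_mk'_of_mul, mul_comm, hβ']
    · exfalso
      exact t.2 (hle_span h4)
  rw [← IsLocalization.AtPrime.map_eq_maximalIdeal P (Localization.AtPrime P)]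
  apply le_antisymm
  · calc P.map (algebraMap B (Localization.AtPrime P))
        ≤ (Ideal.span {x}).map (algebraMap B (Localization.AtPrime P)) := Ideal.map_mono hPle
      _ = Ideal.span {algebraMap B (Localization.AtPrime P) x} := by
        rw [Ideal.map_span, Set.image_singleton]
  · rw [Ideal.span_le, Set.singleton_subset_iff]
    exact Ideal.mem_map_of_mem _ hxP

/-- Case `x ∉ P`, step one: in `R = B_Q`, the extension of `P` is principal. -/
theorem exists_generator_map {x : B} [IsDomain (B ⧸ Ideal.span {x})]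
    [IsIntegrallyClosed (B ⧸ Ideal.span {x})] (P Q : Ideal B) [hP : P.IsPrime] [hQ : Q.IsPrime]
    (hPQ : P ≤ Q) (hxQ : x ∈ Q) (hxP : x ∉ P) (R : Type u) [CommRing R] [Algebra B R]
    [IsLocalization.AtPrime R Q] [IsLocalRing R] [IsNoetherianRing R]
    (hdepthQ : ¬ HasSeq (maximalIdeal R) R 3) :
    ∃ g ∈ P.map (algebraMap B R), P.map (algebraMap B R) = Ideal.span {g} := by
  have hRdom : IsDomain R :=
    IsLocalization.isDomain_of_le_nonZeroDivisors R (Ideal.primeCompl_le_nonZeroDivisors Q)
  have hinj : Function.Injective (algebraMap B R) :=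
    IsLocalization.injective R (Ideal.primeCompl_le_nonZeroDivisors Q)
  have hx0 : x ≠ 0 := fun h0 => hxP (h0 ▸ P.zero_mem)
  have hx'm : algebraMap B R x ∈ maximalIdeal R :=
    (IsLocalization.AtPrime.to_map_mem_maximal_iff R Q x).mpr hxQ
  have hx'0 : algebraMap B R x ≠ 0 := fun h0 => hx0 (hinj (h0.trans (map_zero _).symm))
  have hx'reg : IsSMulRegular R (algebraMap B R x) := fun a b h => mul_left_cancel₀ hx'0 h
  have hI' : (Ideal.span {x}).map (algebraMap B R) = Ideal.span {algebraMap B R x} := by
    rw [Ideal.map_span, Set.image_singleton]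
  have hM : Algebra.algebraMapSubmonoid (B ⧸ Ideal.span {x}) Q.primeCompl ≤
      nonZeroDivisors (B ⧸ Ideal.span {x}) := by
    rintro _ ⟨s, hs, rfl⟩
    apply mem_nonZeroDivisors_of_ne_zero
    intro h0
    rw [Ideal.Quotient.algebraMap_eq, Ideal.Quotient.eq_zero_iff_mem] at h0
    exact hs ((Ideal.span_singleton_le_iff_mem Q).mpr hxQ h0)
  have hDdom : IsDomain (R ⧸ (Ideal.span {x}).map (algebraMap B R)) :=
    IsLocalization.isDomain_of_le_nonZeroDivisors _ hM
  have hDic : IsIntegrallyClosed (R ⧸ (Ideal.span {x}).map (algebraMap B R)) :=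
    isIntegrallyClosed_of_isLocalization _ _ hM
  have hDloc : IsLocalRing (R ⧸ (Ideal.span {x}).map (algebraMap B R)) :=
    IsLocalRing.of_surjective' (Ideal.Quotient.mk _) Ideal.Quotient.mk_surjective
  have hno2 : ¬ HasSeq (maximalIdeal (R ⧸ (Ideal.span {x}).map (algebraMap B R)))
      (R ⧸ (Ideal.span {x}).map (algebraMap B R)) 2 := by
    intro h2
    have hlift : ∀ y ∈ maximalIdeal (R ⧸ (Ideal.span {x}).map (algebraMap B R)),
        ∃ r ∈ maximalIdeal R,
          algebraMap R (R ⧸ (Ideal.span {x}).map (algebraMap B R)) r = y := by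
      intro y hy
      obtain ⟨r, rfl⟩ := Ideal.Quotient.mk_surjective y
      refine ⟨r, ?_, rfl⟩
      by_contra hr
      have hu : IsUnit r := by
        by_contra hnu
        exact hr ((mem_maximalIdeal r).mpr hnu)
      exact (mem_maximalIdeal _).mp hy (hu.map (Ideal.Quotient.mk _))
    have h2R : HasSeq (maximalIdeal R) (R ⧸ (Ideal.span {x}).map (algebraMap B R)) 2 :=
      hasSeq_of_algebraMap hlift 2 _ h2
    have heq : (Ideal.span {x}).map (algebraMap B R) =
        algebraMap B R x • (⊤ : Submodule R R) := by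
      rw [hI']
      ext m
      rw [Ideal.mem_span_singleton', Groth.Agent.H15.DepthOne.mem_smul_top_iff]
      constructor
      · rintro ⟨a, ha⟩
        exact ⟨a, by rw [smul_eq_mul, mul_comm]; exact ha⟩
      · rintro ⟨a, ha⟩
        exact ⟨a, by rw [mul_comm]; exact ha⟩
    have h3 : HasSeq (maximalIdeal R) R 3 :=
      hasSeq_succ_iff.mpr ⟨algebraMap B R x, hx'm, hx'reg,
        h2R.congr (Submodule.quotEquivOfEq _ _ heq)⟩
    exact hdepthQ h3
  have hdim : ringKrullDim (R ⧸ (Ideal.span {x}).map (algebraMap B R)) ≤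
      ((1 : ℕ) : WithBot ℕ∞) := by
    rw [← IsLocalRing.maximalIdeal_height_eq_ringKrullDim]
    rcases hasSeq_of_normal (R ⧸ (Ideal.span {x}).map (algebraMap B R)) with
      hbot | ⟨-, h2 | hht⟩
    · rw [hbot, Ideal.height_bot]
      exact_mod_cast zero_le
    · exact absurd h2 hno2
    · exact_mod_cast hht
  have hPIR := isPrincipalIdealRing_of_normal_of_dim_le_one
    (R ⧸ (Ideal.span {x}).map (algebraMap B R)) hdim
  obtain ⟨gbar, hgbar⟩ := (IsPrincipalIdealRing.principal
    (Ideal.map (Ideal.Quotient.mk ((Ideal.span {x}).map (algebraMap B R)))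
      (P.map (algebraMap B R)))).principal
  have hgmem : gbar ∈ Ideal.map (Ideal.Quotient.mk ((Ideal.span {x}).map (algebraMap B R)))
      (P.map (algebraMap B R)) := by
    rw [hgbar]
    exact Submodule.mem_span_singleton_self gbar
  obtain ⟨g, hgP, hgg⟩ := (Ideal.mem_map_iff_of_surjective
    (Ideal.Quotient.mk ((Ideal.span {x}).map (algebraMap B R)))
    Ideal.Quotient.mk_surjective).mp hgmem
  refine ⟨g, hgP, ?_⟩
  have hdisj : Disjoint (Q.primeCompl : Set B) (P : Set B) := by
    rw [Set.disjoint_left]
    intro a ha haP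
    exact ha (hPQ haP)
  have hPRprime : (P.map (algebraMap B R)).IsPrime :=
    IsLocalization.isPrime_of_isPrime_disjoint Q.primeCompl R P hP hdisj
  have hx'PR : algebraMap B R x ∉ P.map (algebraMap B R) := by
    intro h
    have h1 := IsLocalization.under_map_of_isPrime_disjoint Q.primeCompl R hP hdisj
    have h2 : x ∈ (P.map (algebraMap B R)).under B := h
    rw [h1] at h2
    exact hxP h2
  apply le_antisymm
  · apply Submodule.le_of_le_smul_of_le_jacobson_bot (I := (Ideal.span {x}).map (algebraMap B R))
      (N := Ideal.span {g}) (N' := P.map (algebraMap B R)) (IsNoetherian.noetherian _)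
    · rw [IsLocalRing.jacobson_eq_maximalIdeal ⊥ bot_ne_top, hI', Ideal.span_le,
        Set.singleton_subset_iff]
      exact hx'm
    · intro y hy
      have hyJ : Ideal.Quotient.mk ((Ideal.span {x}).map (algebraMap B R)) y ∈
          Ideal.map (Ideal.Quotient.mk ((Ideal.span {x}).map (algebraMap B R)))
            (P.map (algebraMap B R)) := Ideal.mem_map_of_mem _ hy
      rw [hgbar, ← hgg] at hyJ
      obtain ⟨cbar, hcbar⟩ := Submodule.mem_span_singleton.mp hyJ
      obtain ⟨c, rfl⟩ := Ideal.Quotient.mk_surjective cbar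
      rw [smul_eq_mul] at hcbar
      have h1 : y - c * g ∈ (Ideal.span {x}).map (algebraMap B R) := by
        rw [← Ideal.Quotient.eq_zero_iff_mem, map_sub, map_mul, hcbar, sub_self]
      rw [hI'] at h1
      obtain ⟨r, hr⟩ := Ideal.mem_span_singleton'.mp h1
      have hrx : r * algebraMap B R x ∈ P.map (algebraMap B R) := by
        rw [hr]
        exact Ideal.sub_mem _ hy (Ideal.mul_mem_left _ c hgP)
      have hrP : r ∈ P.map (algebraMap B R) := (hPRprime.mem_or_mem hrx).resolve_right hx'PR
      have hy_eq : y = c * g + algebraMap B R x • r := by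
        rw [smul_eq_mul, mul_comm (algebraMap B R x) r, hr]
        ring
      rw [hy_eq]
      refine Submodule.add_mem_sup (Ideal.mem_span_singleton'.mpr ⟨c, rfl⟩)
        (Submodule.smul_mem_smul ?_ hrP)
      rw [hI']
      exact Ideal.subset_span (Set.mem_singleton _)
  · rw [Ideal.span_le, Set.singleton_subset_iff]
    exact hgP

/-- Case `x ∉ P`, step two: pass from `B_Q` to `B_P`. -/
theorem maximalIdeal_eq_span_of_map_eq_span (P Q : Ideal B) [hP : P.IsPrime] [hQ : Q.IsPrime]
    (hPQ : P ≤ Q) (R : Type*) [CommRing R] [Algebra B R] [IsLocalization.AtPrime R Q]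
    (T : Type*) [CommRing T] [Algebra B T] [IsLocalization.AtPrime T P] [IsLocalRing T]
    {g : R} (hg : g ∈ P.map (algebraMap B R)) (hspan : P.map (algebraMap B R) = Ideal.span {g}) :
    ∃ γ : B, maximalIdeal T = Ideal.span {algebraMap B T γ} := by
  obtain ⟨⟨⟨γ, hγ⟩, s⟩, hgs⟩ := (IsLocalization.mem_map_algebraMap_iff Q.primeCompl R).mp hg
  simp only at hgs
  refine ⟨γ, ?_⟩
  rw [← IsLocalization.AtPrime.map_eq_maximalIdeal P T]
  apply le_antisymm
  · rw [Ideal.map_le_iff_le_comap]
    intro y hy
    rw [Ideal.mem_comap]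
    have hyR : algebraMap B R y ∈ Ideal.span {g} := hspan ▸ Ideal.mem_map_of_mem _ hy
    obtain ⟨c, hc⟩ := Ideal.mem_span_singleton'.mp hyR
    obtain ⟨c₀, t, rfl⟩ := IsLocalization.exists_mk'_eq Q.primeCompl c
    have ht := IsLocalization.mk'_spec R c₀ t
    have h1 : algebraMap B R (y * s * t) = algebraMap B R (c₀ * γ) := by
      simp only [map_mul]
      linear_combination (-(algebraMap B R (s : B) * algebraMap B R (t : B))) * hc +
        (IsLocalization.mk' R c₀ t * algebraMap B R (t : B)) * hgs + algebraMap B R γ * ht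
    have h2 : y * s * t = c₀ * γ :=
      IsLocalization.injective R (Ideal.primeCompl_le_nonZeroDivisors Q) h1
    have hst : (s : B) * t ∉ P := fun h =>
      (hP.mem_or_mem h).elim (fun h' => s.2 (hPQ h')) (fun h' => t.2 (hPQ h'))
    have hu : IsUnit (algebraMap B T ((s : B) * t)) :=
      IsLocalization.map_units T (⟨(s : B) * t, hst⟩ : P.primeCompl)
    obtain ⟨u, hu'⟩ := hu.exists_left_inv
    rw [Ideal.mem_span_singleton']
    refine ⟨u * algebraMap B T c₀, ?_⟩
    calc u * algebraMap B T c₀ * algebraMap B T γ = u * algebraMap B T (c₀ * γ) := by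
          rw [map_mul]; ring
      _ = u * algebraMap B T (y * s * t) := by rw [h2]
      _ = (u * algebraMap B T ((s : B) * t)) * algebraMap B T y := by
          rw [mul_assoc y, map_mul]; ring
      _ = algebraMap B T y := by rw [hu', one_mul]
  · rw [Ideal.span_le, Set.singleton_subset_iff]
    exact Ideal.mem_map_of_mem _ hγ

end Cases

section Main

/-- The inequality `depth B_Q ≤ depth B_P + ht(Q/P)` for the ring itself. -/
def DepthIneq (B : Type u) [CommRing B] : Prop :=
  ∀ (p s : Ideal B) [p.IsPrime] [s.IsPrime], p ≤ s →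
    LocCoh.depth (Localization.AtPrime s) (LocalizedModule s.primeCompl B) ≤
      LocCoh.depth (Localization.AtPrime p) (LocalizedModule p.primeCompl B) +
        (s.map (Ideal.Quotient.mk p)).height

variable {B : Type u} [CommRing B] [IsLocalRing B] [IsNoetherianRing B]

/-- A prime minimal over `P + xB`: it has height at most one over `P` (Krull). -/
theorem exists_minimal_over_sup {x : B} (hx : x ∈ maximalIdeal B) (P : Ideal B) [hP : P.IsPrime] :
    ∃ Q : Ideal B, Q.IsPrime ∧ P ≤ Q ∧ x ∈ Q ∧ (Q.map (Ideal.Quotient.mk P)).height ≤ 1 := by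
  obtain ⟨Q, hQmin, hQle⟩ := Ideal.exists_minimalPrimes_le
    (I := P ⊔ Ideal.span {x}) (J := maximalIdeal B)
    (sup_le (le_maximalIdeal hP.ne_top) ((Ideal.span_singleton_le_iff_mem _).mpr hx))
  have hQ : Q.IsPrime := hQmin.1.1
  have hPQ : P ≤ Q := le_trans le_sup_left hQmin.1.2
  have hxQ : x ∈ Q := hQmin.1.2 (Ideal.mem_sup_right (Ideal.subset_span (Set.mem_singleton _)))
  refine ⟨Q, hQ, hPQ, hxQ, ?_⟩
  have hsurj : Function.Surjective (Ideal.Quotient.mk P) := Ideal.Quotient.mk_surjective
  have hcomap : (Ideal.span {Ideal.Quotient.mk P x}).comap (Ideal.Quotient.mk P) =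
      P ⊔ Ideal.span {x} := by
    have h1 : Ideal.span {Ideal.Quotient.mk P x} =
        (Ideal.span {x}).map (Ideal.Quotient.mk P) := by
      rw [Ideal.map_span, Set.image_singleton]
    rw [h1, Ideal.comap_map_of_surjective _ hsurj, ← RingHom.ker_eq_comap_bot,
      Ideal.mk_ker, sup_comm]
  have hmin := Ideal.comap_minimalPrimes_eq_of_surjective hsurj
    (Ideal.span {Ideal.Quotient.mk P x})
  rw [hcomap] at hmin
  rw [hmin] at hQmin
  obtain ⟨Q', hQ', hQ'Q⟩ := hQmin
  have hmapQ : Q.map (Ideal.Quotient.mk P) = Q' := by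
    rw [← hQ'Q, Ideal.map_comap_of_surjective _ hsurj]
  rw [hmapQ]
  have : (Ideal.span {Ideal.Quotient.mk P x}).IsPrincipal := ⟨⟨_, rfl⟩⟩
  exact Ideal.height_le_one_of_isPrincipal_of_mem_minimalPrimes _ Q' hQ'

/-- Key step: a nonzero prime `P` with `depth B_P ≤ 1` has `B_P` with principal maximal ideal. -/
theorem exists_principal_of_depth_lt_two [IsDomain B] (hineq : DepthIneq B) {x : B}
    (hx : x ∈ maximalIdeal B) (hx0 : x ≠ 0) [IsDomain (B ⧸ Ideal.span {x})]
    [IsIntegrallyClosed (B ⧸ Ideal.span {x})] (P : Ideal B) [hP : P.IsPrime]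
    (hd : ¬ (2 : ℕ∞) ≤
      LocCoh.depth (Localization.AtPrime P) (LocalizedModule P.primeCompl B)) :
    ∃ γ : B, maximalIdeal (Localization.AtPrime P) =
      Ideal.span {algebraMap B (Localization.AtPrime P) γ} := by
  have hprime : (Ideal.span {x}).IsPrime :=
    (Ideal.Quotient.isDomain_iff_prime (Ideal.span {x})).mp inferInstance
  by_cases hxP : x ∈ P
  · exact ⟨x, principal_of_mem hx0 hprime P hxP
      (fun h => hd (by exact_mod_cast (le_depth_iff_hasSeq P 2).mpr h))⟩
  · obtain ⟨Q, hQ, hPQ, hxQ, hht⟩ := exists_minimal_over_sup hx P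
    have hQ3 : ¬ HasSeq (maximalIdeal (Localization.AtPrime Q)) (Localization.AtPrime Q) 3 := by
      intro h3
      have h3' := (le_depth_iff_hasSeq Q 3).mpr h3
      have h4 := hineq P Q hPQ
      have hdP : LocCoh.depth (Localization.AtPrime P) (LocalizedModule P.primeCompl B) ≤ 1 := by
        have hlt : LocCoh.depth (Localization.AtPrime P) (LocalizedModule P.primeCompl B) <
            1 + 1 := by
          rw [one_add_one_eq_two]
          exact not_le.mp hd
        exact (ENat.lt_add_one_iff ENat.one_ne_top).mp hlt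
      have h32 : ((3 : ℕ) : ℕ∞) ≤ 1 + 1 := h3'.trans (h4.trans (add_le_add hdP hht))
      rw [one_add_one_eq_two] at h32
      have h32' : (3 : ℕ) ≤ 2 := by exact_mod_cast h32
      omega
    obtain ⟨g, hg, hspan⟩ := exists_generator_map P Q hPQ hxQ hxP (Localization.AtPrime Q) hQ3
    exact maximalIdeal_eq_span_of_map_eq_span P Q hPQ (Localization.AtPrime Q)
      (Localization.AtPrime P) hg hspan

/-- **Normality ascends from a hypersurface section.** -/
theorem normal_of_quotient_normal (hineq : DepthIneq B) {x : B} (hx : x ∈ maximalIdeal B)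
    (hreg : x ∈ nonZeroDivisors B) [IsDomain (B ⧸ Ideal.span {x})]
    [IsIntegrallyClosed (B ⧸ Ideal.span {x})] : IsDomain B ∧ IsIntegrallyClosed B := by
  have hprime : (Ideal.span {x}).IsPrime :=
    (Ideal.Quotient.isDomain_iff_prime (Ideal.span {x})).mp inferInstance
  have hdom : IsDomain B := isDomain_of_prime_span hreg hprime
  have hx0 : x ≠ 0 := nonZeroDivisors.ne_zero hreg
  obtain ⟨hR0, -⟩ := (Groth.Agent.S0602.result B).mp inferInstance
  -- facts at a nonzero prime of small depth
  have hkey : ∀ (P : Ideal B) [P.IsPrime], P ≠ ⊥ →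
      ¬ (2 : ℕ∞) ≤ LocCoh.depth (Localization.AtPrime P) (LocalizedModule P.primeCompl B) →
      IsRegularLocalRing (Localization.AtPrime P) ∧ P.height ≤ 1 ∧
        (1 : ℕ∞) ≤ LocCoh.depth (Localization.AtPrime P) (LocalizedModule P.primeCompl B) := by
    intro P hP hP0 hd
    obtain ⟨γ, hγ⟩ := exists_principal_of_depth_lt_two hineq hx hx0 P hd
    refine ⟨isRegularLocalRing_of_principal hγ, ?_, ?_⟩
    · have hprin : (Ideal.span {algebraMap B (Localization.AtPrime P) γ}).IsPrincipal :=
        ⟨⟨_, rfl⟩⟩
      have hmin : maximalIdeal (Localization.AtPrime P) ∈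
          (Ideal.span {algebraMap B (Localization.AtPrime P) γ}).minimalPrimes := by
        rw [← hγ, Ideal.minimalPrimes_eq_subsingleton_self]
        exact Set.mem_singleton _
      have h1 := Ideal.height_le_one_of_isPrincipal_of_mem_minimalPrimes
        (Ideal.span {algebraMap B (Localization.AtPrime P) γ})
        (maximalIdeal (Localization.AtPrime P)) hmin
      have e : (((maximalIdeal (Localization.AtPrime P)).height : ℕ∞) : WithBot ℕ∞) =
          ((P.height : ℕ∞) : WithBot ℕ∞) := by
        rw [IsLocalRing.maximalIdeal_height_eq_ringKrullDim,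
          IsLocalization.AtPrime.ringKrullDim_eq_height P (Localization.AtPrime P)]
      rw [← WithBot.coe_injective e]
      exact h1
    · obtain ⟨y, hyP, hy0⟩ := Submodule.exists_mem_ne_zero_of_ne_bot hP0
      have hinj : Function.Injective (algebraMap B (Localization.AtPrime P)) :=
        IsLocalization.injective (Localization.AtPrime P) (Ideal.primeCompl_le_nonZeroDivisors P)
      have hy'0 : algebraMap B (Localization.AtPrime P) y ≠ 0 :=
        fun h0 => hy0 (hinj (h0.trans (map_zero _).symm))
      have hy'm : algebraMap B (Localization.AtPrime P) y ∈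
          maximalIdeal (Localization.AtPrime P) :=
        (IsLocalization.AtPrime.to_map_mem_maximal_iff (Localization.AtPrime P) P y).mpr hyP
      have hseq : HasSeq (maximalIdeal (Localization.AtPrime P)) (Localization.AtPrime P) 1 :=
        hasSeq_succ_iff.mpr ⟨_, hy'm, fun a b h => mul_left_cancel₀ hy'0 h, hasSeq_zero⟩
      exact_mod_cast (le_depth_iff_hasSeq P 1).mpr hseq
  have hR1 : LocCoh.HasRk 1 B := by
    intro P hP hht
    by_cases hd : (2 : ℕ∞) ≤
        LocCoh.depth (Localization.AtPrime P) (LocalizedModule P.primeCompl B)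
    · exfalso
      have hnt : Nontrivial (LocalizedModule P.primeCompl B) :=
        (Groth.Agent.S0602.locSelfEquiv P.primeCompl).symm.injective.nontrivial
      have hfin : Module.Finite (Localization.AtPrime P) (LocalizedModule P.primeCompl B) :=
        Module.Finite.equiv (Groth.Agent.S0602.locSelfEquiv P.primeCompl).symm
      have h1 := Groth.Agent.H29.CM.depth_le_supportDim (A := Localization.AtPrime P)
        (M := LocalizedModule P.primeCompl B)
      rw [Groth.Agent.S0602.supportDim_locSelf] at h1
      have h2 : LocCoh.depth (Localization.AtPrime P) (LocalizedModule P.primeCompl B) ≤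
          P.height := WithBot.coe_le_coe.mp h1
      have h3 : (2 : ℕ∞) ≤ ((1 : ℕ) : ℕ∞) := hd.trans (h2.trans hht)
      have h3' : (2 : ℕ) ≤ 1 := by exact_mod_cast h3
      omega
    · by_cases hP0 : P = ⊥
      · apply hR0 P
        have h0 : P.height = 0 := by
          rw [hP0]
          exact Ideal.height_bot
        rw [h0]
        exact zero_le
      · exact (hkey P hP0 hd).1
  have hS2 : LocCoh.HasSk 2 B B := by
    intro P hP
    rw [Groth.Agent.S0602.supportDim_locSelf]
    by_cases hd : (2 : ℕ∞) ≤
        LocCoh.depth (Localization.AtPrime P) (LocalizedModule P.primeCompl B)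
    · refine le_trans (min_le_left _ _) ?_
      have e2 : ((2 : ℕ) : WithBot ℕ∞) = (((2 : ℕ) : ℕ∞) : WithBot ℕ∞) := rfl
      rw [e2]
      exact WithBot.coe_le_coe.mpr (by exact_mod_cast hd)
    · by_cases hP0 : P = ⊥
      · have h0 : P.height = 0 := by
          rw [hP0]
          exact Ideal.height_bot
        refine le_trans (min_le_right _ _) ?_
        rw [h0]
        exact_mod_cast zero_le
      · obtain ⟨-, hht, h1⟩ := hkey P hP0 hd
        refine le_trans (min_le_right _ _) ?_
        exact WithBot.coe_le_coe.mpr (hht.trans h1)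
  refine ⟨hdom, ?_⟩
  apply isIntegrallyClosed_of_forall_scaleRoots
  intro a b ha p hp h
  exact mem_span_of_scaleRoots_eval hR1 hS2 (fun c d hcd => mul_left_cancel₀ ha hcd) hp h

end Main

end Groth.Agent.H15.NormalAscent
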