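import Groth.Prelude.Def_CAlg
import Mathlib.RingTheory.Regular.RegularSequence
import Mathlib.RingTheory.Localization.AtPrime.Basic
import Mathlib.RingTheory.Ideal.MinimalPrime.Basic
import Mathlib.RingTheory.Ideal.Colon
import Mathlib.RingTheory.Finiteness.Ideal
import Mathlib.RingTheory.Localization.FractionRing
import Mathlib.RingTheory.Noetherian.Basic

/-!
# Depth one: the exchange lemma and a criterion

* `socle_exchange`: if `x, y ∈ I` are both `M`-regular and `M/xM` has a nonzero element killed by `I`,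
  so has `M/yM`.
* `depth_eq_one`: a local ring with a regular element `b` of the maximal ideal such that `A/bA` has a
  nonzero element killed by the maximal ideal has depth one.
* `exists_prime_depth_one`: for a Noetherian domain `B` and `g` in its fraction field, below every prime
  `q` containing the denominator ideal of `g` there is a prime `p` containing it at which every
  localization has depth one.
-/

set_option autoImplicit false

universe u

open scoped Pointwise

namespace Groth.Agent.H15.DepthOne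

section Exchange

variable {R : Type*} [CommRing R] {M : Type*} [AddCommGroup M] [Module R M]

theorem mem_smul_top_iff (x : R) (m : M) :
    m ∈ x • (⊤ : Submodule R M) ↔ ∃ n : M, x • n = m := by
  rw [Submodule.mem_smul_pointwise_iff_exists]
  simp

theorem socle_exchange (I : Ideal R) {x y : R} (hy : y ∈ I) (hx : IsSMulRegular M x)
    (hyr : IsSMulRegular M y)
    (h : ∃ m : M, m ∉ x • (⊤ : Submodule R M) ∧ ∀ a ∈ I, a • m ∈ x • (⊤ : Submodule R M)) :
    ∃ m : M, m ∉ y • (⊤ : Submodule R M) ∧ ∀ a ∈ I, a • m ∈ y • (⊤ : Submodule R M) := by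
  obtain ⟨m, hm, hI⟩ := h
  obtain ⟨m', hm'⟩ := (mem_smul_top_iff x _).mp (hI y hy)
  refine ⟨m', ?_, ?_⟩
  · intro hcon
    obtain ⟨m'', hm''⟩ := (mem_smul_top_iff y _).mp hcon
    apply hm
    rw [mem_smul_top_iff]
    refine ⟨m'', ?_⟩
    apply hyr
    show y • x • m'' = y • m
    rw [← hm', ← hm'', smul_comm]
  · intro a ha
    obtain ⟨n, hn⟩ := (mem_smul_top_iff x _).mp (hI a ha)
    rw [mem_smul_top_iff]
    refine ⟨n, ?_⟩
    apply hx
    show x • y • n = x • a • m'
    rw [smul_comm x a m', hm', smul_comm a y m, ← hn, smul_comm x y n]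

end Exchange

section DepthOne

open IsLocalRing RingTheory.Sequence

theorem depth_eq_one (A : Type u) [CommRing A] [IsLocalRing A] (b : A) (hb : b ∈ maximalIdeal A)
    (hreg : IsSMulRegular A b)
    (hsoc : ∃ e : A, e ∉ b • (⊤ : Submodule A A) ∧
      ∀ t ∈ maximalIdeal A, t • e ∈ b • (⊤ : Submodule A A)) :
    LocCoh.depth A A = 1 := by
  unfold LocCoh.depth LocCoh.idealDepth
  have hne : (maximalIdeal A) • (⊤ : Submodule A A) ≠ ⊤ := by
    rw [Ideal.smul_top_eq_map, Algebra.algebraMap_self, Ideal.map_id]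
    intro h
    have h1 : (1 : A) ∈ Submodule.restrictScalars A (maximalIdeal A) := by rw [h]; trivial
    exact (maximalIdeal.isMaximal A).ne_top ((Ideal.eq_top_iff_one _).mpr h1)
  rw [if_neg hne]
  apply le_antisymm
  · apply iSup₂_le
    rintro rs ⟨hw, hmem⟩
    match rs, hw, hmem with
    | [], _, _ => simp
    | [_], _, _ => simp
    | x1 :: x2 :: t, hw, hmem =>
      exfalso
      rw [isWeaklyRegular_cons_iff, isWeaklyRegular_cons_iff] at hw
      obtain ⟨hx1, hx2, -⟩ := hw
      have hx1m : x1 ∈ maximalIdeal A := hmem x1 (by simp)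
      have hx2m : x2 ∈ maximalIdeal A := hmem x2 (by simp)
      obtain ⟨e, he, hme⟩ := socle_exchange (maximalIdeal A) hx1m hreg hx1 hsoc
      apply he
      have h0 : x2 • (Submodule.Quotient.mk e : QuotSMulTop x1 A) = x2 • 0 := by
        rw [smul_zero, ← Submodule.Quotient.mk_smul, Submodule.Quotient.mk_eq_zero]
        exact hme x2 hx2m
      exact (Submodule.Quotient.mk_eq_zero _).mp (hx2 h0)
  · refine le_iSup₂_of_le [b] ⟨(isWeaklyRegular_singleton_iff A b).mpr hreg, ?_⟩ ?_
    · intro r hr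
      rw [List.mem_singleton] at hr
      rw [hr]; exact hb
    · simp

end DepthOne

section Domain

open IsLocalRing

variable (B : Type u) [CommRing B] [IsDomain B] [IsNoetherianRing B]
  (K : Type*) [Field K] [Algebra B K] [IsFractionRing B K]

theorem exists_prime_depth_one (g : K) (q : Ideal B) [q.IsPrime]
    (hq : ∀ s : B, algebraMap B K s * g ∈ Set.range (algebraMap B K) → s ∈ q) :
    ∃ p : Ideal B, ∃ _ : p.IsPrime, p ≤ q ∧
      (∀ s : B, algebraMap B K s * g ∈ Set.range (algebraMap B K) → s ∈ p) ∧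
      ∀ (A : Type u) [CommRing A] [Algebra B A] [IsLocalization.AtPrime A p] [IsLocalRing A],
        LocCoh.depth A A = 1 := by
  have hinj : Function.Injective (algebraMap B K) := IsFractionRing.injective B K
  obtain ⟨a, b, hb, hab⟩ := IsFractionRing.div_surjective (A := B) g
  have hb0 : b ≠ 0 := nonZeroDivisors.ne_zero hb
  have hbK : algebraMap B K b ≠ 0 := fun h => hb0 (hinj (by rw [h, map_zero]))
  -- the denominator ideal
  let I : Ideal B := Submodule.colon (Ideal.span {b}) {a}
  have hI : ∀ s : B, s ∈ I ↔ algebraMap B K s * g ∈ Set.range (algebraMap B K) := by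
    intro s
    rw [Submodule.mem_colon_singleton, smul_eq_mul, Ideal.mem_span_singleton']
    constructor
    · rintro ⟨c, hc⟩
      refine ⟨c, ?_⟩
      rw [← hab, mul_div_assoc', ← map_mul, ← hc, map_mul, mul_div_assoc, div_self hbK, mul_one]
    · rintro ⟨c, hc⟩
      refine ⟨c, hinj ?_⟩
      rw [map_mul, map_mul, hc, ← hab, mul_assoc, div_mul_cancel₀ _ hbK]
  have hIq : I ≤ q := fun s hs => hq s ((hI s).mp hs)
  obtain ⟨p, hpmin, hpq⟩ := Ideal.exists_minimalPrimes_le hIq
  have hpprime : p.IsPrime := hpmin.1.1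
  have hIp : I ≤ p := hpmin.1.2
  refine ⟨p, hpprime, hpq, fun s hs => hIp ((hI s).mpr hs), ?_⟩
  intro A _ _ _ _
  have hle : p.primeCompl ≤ nonZeroDivisors B := by
    intro s hs
    exact mem_nonZeroDivisors_of_ne_zero (fun h => hs (h ▸ p.zero_mem))
  have hψ : Function.Injective (algebraMap B A) := IsLocalization.injective A hle
  have : IsDomain A := IsLocalization.isDomain_of_le_nonZeroDivisors (M := p.primeCompl) A hle
  have : IsNoetherianRing A := IsLocalization.isNoetherianRing p.primeCompl A inferInstance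
  set ψ := algebraMap B A with hψdef
  have hmax : p.map ψ = maximalIdeal A := IsLocalization.AtPrime.map_eq_maximalIdeal p A
  have hcomap : (maximalIdeal A).comap ψ = p := IsLocalization.AtPrime.under_maximalIdeal A p
  let IA : Ideal A := Submodule.colon (ψ b • (⊤ : Submodule A A)) {ψ a}
  have hIA : ∀ c : A, c ∈ IA ↔ c • ψ a ∈ ψ b • (⊤ : Submodule A A) := fun c =>
    Submodule.mem_colon_singleton
  -- IA is proper
  have hIAtop : (1 : A) ∉ IA := by
    intro h1
    rw [hIA, one_smul, mem_smul_top_iff] at h1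
    obtain ⟨c', hc'⟩ := h1
    obtain ⟨c, s, hcs⟩ := IsLocalization.exists_mk'_eq p.primeCompl c'
    have h2 : c' * ψ s = ψ c := by rw [← hcs]; exact IsLocalization.mk'_spec A c s
    have h3 : ψ ((s : B) * a) = ψ (c * b) := by
      rw [map_mul, map_mul, ← h2, ← hc', smul_eq_mul]; ring
    have h4 : (s : B) * a = c * b := hψ h3
    have hsI : (s : B) ∈ I := by
      rw [Submodule.mem_colon_singleton, smul_eq_mul, Ideal.mem_span_singleton']
      exact ⟨c, h4.symm⟩
    exact s.2 (hIp hsI)
  -- the maximal ideal is the radical of IA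
  have hrad : maximalIdeal A ≤ IA.radical := by
    rw [Ideal.radical_eq_sInf]
    apply le_sInf
    rintro P ⟨hIAP, hP⟩
    have hPle : P ≤ maximalIdeal A := le_maximalIdeal hP.ne_top
    have h1 : I ≤ P.comap ψ := by
      intro s hs
      rw [Ideal.mem_comap]
      apply hIAP
      rw [hIA, mem_smul_top_iff]
      rw [Submodule.mem_colon_singleton, smul_eq_mul, Ideal.mem_span_singleton'] at hs
      obtain ⟨c, hc⟩ := hs
      refine ⟨ψ c, ?_⟩
      rw [smul_eq_mul, smul_eq_mul, ← map_mul, ← map_mul, mul_comm b c, hc]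
    have h2 : P.comap ψ ≤ p := by
      rw [← hcomap]
      exact Ideal.comap_mono hPle
    have h3 : p ≤ P.comap ψ := hpmin.2 ⟨Ideal.comap_isPrime ψ P, h1⟩ h2
    rw [← hmax]
    exact Ideal.map_le_iff_le_comap.mpr h3
  obtain ⟨n, hn⟩ := Ideal.exists_pow_le_of_le_radical_of_fg hrad
    (isNoetherian_def.mp inferInstance _)
  classical
  let n₀ := Nat.find (⟨n, hn⟩ : ∃ k, (maximalIdeal A) ^ k ≤ IA)
  have hn₀ : (maximalIdeal A) ^ n₀ ≤ IA := Nat.find_spec (⟨n, hn⟩ : ∃ k, (maximalIdeal A) ^ k ≤ IA)
  have hn₀pos : n₀ ≠ 0 := by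
    intro h0
    rw [h0, pow_zero, Ideal.one_eq_top] at hn₀
    exact hIAtop (hn₀ trivial)
  obtain ⟨k, hk⟩ := Nat.exists_eq_succ_of_ne_zero hn₀pos
  have hknot : ¬ (maximalIdeal A) ^ k ≤ IA :=
    Nat.find_min (⟨n, hn⟩ : ∃ k, (maximalIdeal A) ^ k ≤ IA) (by omega)
  obtain ⟨c, hck, hcIA⟩ := SetLike.not_le_iff_exists.mp hknot
  -- b is in the maximal ideal
  have hbm : ψ b ∈ maximalIdeal A := by
    by_contra hbn
    have hunit : IsUnit (ψ b) := by
      by_contra hnu
      exact hbn ((mem_maximalIdeal _).mpr hnu)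
    apply hIAtop
    rw [hIA, one_smul, mem_smul_top_iff]
    obtain ⟨u, hu⟩ := hunit
    refine ⟨↑u⁻¹ * ψ a, ?_⟩
    rw [smul_eq_mul, ← hu, ← mul_assoc, Units.mul_inv, one_mul]
  have hbreg : IsSMulRegular A (ψ b) := by
    have : ψ b ≠ 0 := fun h => hb0 (hψ (by rw [h, map_zero]))
    exact IsSMulRegular.of_ne_zero this
  apply depth_eq_one A (ψ b) hbm hbreg
  refine ⟨c • ψ a, fun h => hcIA ((hIA c).mpr h), ?_⟩
  intro t ht
  rw [smul_smul]
  apply (hIA (t * c)).mp
  apply hn₀
  rw [hk, pow_succ']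
  exact Ideal.mul_mem_mul ht hck

end Domain

end Groth.Agent.H15.DepthOne
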