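import Groth.Agent.H15.DepthLoc
import Groth.Agent.H15.DepthOne
import Mathlib.RingTheory.Support
import Mathlib.RingTheory.Localization.Ideal

/-!
# Spreading out depth from a prime to a neighbourhood

* `idealDepth_congr`-type lemmas, unit multiples of regular elements;
* `exists_notMem_forall_isSMulRegular`: an element regular on `M_p` is regular on `M_q` for `q` in a
  basic open neighbourhood of `p`;
* `exists_notMem_forall_le_idealDepth`: a regular sequence of length `e` in `I A_p` on `M_p` gives
  `e ≤ depth_{I A_q} M_q` on a basic open neighbourhood of `p`.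
-/

set_option autoImplicit false

universe u v v'

open scoped Pointwise
open RingTheory.Sequence

namespace Groth.Agent.H15.DepthSpread

open Groth.Agent.H15.Depth Groth.Agent.H15

section Congr

variable {B : Type u} [CommRing B] {I : Ideal B} {N : Type v} {N' : Type v'} [AddCommGroup N]
  [Module B N] [AddCommGroup N'] [Module B N']

theorem smul_top_eq_top_congr (e : N ≃ₗ[B] N') (h : I • (⊤ : Submodule B N) = ⊤) :
    I • (⊤ : Submodule B N') = ⊤ := by
  have h2 := congrArg (Submodule.map e.toLinearMap) h
  rwa [Submodule.map_smul'', Submodule.map_top, LinearEquiv.range] at h2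

theorem le_idealDepth_congr (e : N ≃ₗ[B] N') {n : ℕ} (h : (n : ℕ∞) ≤ LocCoh.idealDepth I N) :
    (n : ℕ∞) ≤ LocCoh.idealDepth I N' := by
  by_cases hN' : I • (⊤ : Submodule B N') = ⊤
  · rw [idealDepth_eq_top_of_smul_top_eq_top hN']
    exact le_top
  · have hN : I • (⊤ : Submodule B N) ≠ ⊤ := fun h' => hN' (smul_top_eq_top_congr e h')
    exact (le_idealDepth_iff hN' n).mpr (((le_idealDepth_iff hN n).mp h).congr e)

theorem idealDepth_congr (e : N ≃ₗ[B] N') : LocCoh.idealDepth I N = LocCoh.idealDepth I N' := by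
  apply le_antisymm
  · rw [← ENat.forall_natCast_le_iff_le]
    exact fun n hn => le_idealDepth_congr e hn
  · rw [← ENat.forall_natCast_le_iff_le]
    exact fun n hn => le_idealDepth_congr e.symm hn

theorem le_idealDepth_of_le {I J : Ideal B} (hIJ : I ≤ J) :
    LocCoh.idealDepth I N ≤ LocCoh.idealDepth J N := by
  by_cases hJ : J • (⊤ : Submodule B N) = ⊤
  · rw [idealDepth_eq_top_of_smul_top_eq_top hJ]
    exact le_top
  · have hI : I • (⊤ : Submodule B N) ≠ ⊤ := by
      intro h
      apply hJ
      rw [eq_top_iff]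
      calc (⊤ : Submodule B N) = I • (⊤ : Submodule B N) := h.symm
        _ ≤ J • (⊤ : Submodule B N) := Submodule.smul_mono_left hIJ
    rw [← ENat.forall_natCast_le_iff_le]
    intro n hn
    obtain ⟨rs, hw, hmem, hl⟩ := (le_idealDepth_iff hI n).mp hn
    exact (le_idealDepth_iff hJ n).mpr ⟨rs, hw, fun r hr => hIJ (hmem r hr), hl⟩

theorem smul_top_mul_unit (N : Type v) [AddCommGroup N] [Module B N] (y u : B) (hu : IsUnit u) :
    (y * u) • (⊤ : Submodule B N) = y • (⊤ : Submodule B N) := by
  ext m
  rw [DepthOne.mem_smul_top_iff, DepthOne.mem_smul_top_iff]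
  constructor
  · rintro ⟨n, rfl⟩
    exact ⟨u • n, by rw [mul_smul]⟩
  · rintro ⟨n, rfl⟩
    obtain ⟨u', rfl⟩ := hu
    refine ⟨((u'⁻¹ : Bˣ) : B) • n, ?_⟩
    rw [mul_smul]
    congr 1
    rw [smul_smul, Units.mul_inv, one_smul]

theorem isSMulRegular_mul_unit_iff (N : Type v) [AddCommGroup N] [Module B N] (y u : B)
    (hu : IsUnit u) : IsSMulRegular N (y * u) ↔ IsSMulRegular N y := by
  constructor
  · intro h
    rw [mul_comm] at h
    exact h.of_mul
  · intro h
    exact h.mul (hu.isSMulRegular N)

end Congr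

section Spread

set_option linter.unusedSectionVars false

variable {A : Type u} [CommRing A] [IsNoetherianRing A]

theorem algebraMap_smul_mk {M : Type u} [AddCommGroup M] [Module A M] (S : Submonoid A) (x : A)
    (m : M) (s : S) :
    algebraMap A (Localization S) x • LocalizedModule.mk m s = LocalizedModule.mk (x • m) s := by
  rw [algebraMap_smul, LocalizedModule.smul'_mk]

theorem mk_eq_zero_of_smul_eq_zero {M : Type u} [AddCommGroup M] [Module A M] (S : Submonoid A)
    (m : M) (s : S) (t : A) (ht : t ∈ S) (h : t • m = 0) : LocalizedModule.mk m s = 0 := by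
  rw [← LocalizedModule.zero_mk (1 : S), LocalizedModule.mk_eq]
  refine ⟨⟨t, ht⟩, ?_⟩
  rw [one_smul, smul_zero, smul_zero, Submonoid.mk_smul, h]

theorem exists_smul_eq_zero_of_mk_eq_zero {M : Type u} [AddCommGroup M] [Module A M]
    (S : Submonoid A) (m : M) (s : S) (h : LocalizedModule.mk m s = 0) :
    ∃ t ∈ S, t • m = 0 := by
  rw [← LocalizedModule.zero_mk (1 : S), LocalizedModule.mk_eq] at h
  obtain ⟨u, hu⟩ := h
  rw [one_smul, smul_zero, smul_zero] at hu
  exact ⟨u.1, u.2, hu⟩

/-- An element which is regular on `M_p` is regular on `M_q` for all `q` in a basic open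
neighbourhood of `p`. -/
theorem exists_notMem_forall_isSMulRegular (M : Type u) [AddCommGroup M] [Module A M]
    [Module.Finite A M] (p : Ideal A) [p.IsPrime] (x : A)
    (h : IsSMulRegular (LocalizedModule p.primeCompl M)
      (algebraMap A (Localization.AtPrime p) x)) :
    ∃ f : A, f ∉ p ∧ ∀ (q : Ideal A) [q.IsPrime], f ∉ q →
      IsSMulRegular (LocalizedModule q.primeCompl M) (algebraMap A (Localization.AtPrime q) x) := by
  have hnoeth : IsNoetherian A M := isNoetherian_of_isNoetherianRing_of_finite A M
  have hsub : Subsingleton (LocalizedModule p.primeCompl (LinearMap.ker (LinearMap.lsmul A M x))) := by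
    rw [LocalizedModule.subsingleton_iff]
    intro k
    have hk : x • (k : M) = 0 := k.2
    have h1 : algebraMap A (Localization.AtPrime p) x •
        LocalizedModule.mk (k : M) (1 : p.primeCompl) = 0 := by
      rw [algebraMap_smul_mk, hk, LocalizedModule.zero_mk]
    have h2 := (isSMulRegular_iff_right_eq_zero_of_smul.mp h) _ h1
    obtain ⟨t, ht, htk⟩ := exists_smul_eq_zero_of_mk_eq_zero p.primeCompl (k : M) 1 h2
    exact ⟨t, ht, Subtype.ext htk⟩
  obtain ⟨f, hfp, hf⟩ := LocalizedModule.exists_subsingleton_away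
    (M := LinearMap.ker (LinearMap.lsmul A M x)) p
  rw [LocalizedModule.subsingleton_iff] at hf
  refine ⟨f, hfp, ?_⟩
  intro q _ hfq
  rw [isSMulRegular_iff_right_eq_zero_of_smul]
  intro z hz
  induction z using LocalizedModule.induction_on with
  | h m s =>
    rw [algebraMap_smul_mk] at hz
    obtain ⟨t, ht, htm⟩ := exists_smul_eq_zero_of_mk_eq_zero q.primeCompl (x • m) s hz
    have hker : t • m ∈ LinearMap.ker (LinearMap.lsmul A M x) := by
      rw [LinearMap.mem_ker, LinearMap.lsmul_apply, smul_comm]
      exact htm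
    obtain ⟨r, ⟨n, rfl⟩, hr⟩ := hf ⟨t • m, hker⟩
    have hr' : (f ^ n) • t • m = 0 := congrArg Subtype.val hr
    refine mk_eq_zero_of_smul_eq_zero q.primeCompl m s (f ^ n * t) ?_ (by rw [mul_smul]; exact hr')
    exact q.primeCompl.mul_mem (q.primeCompl.pow_mem hfq n) ht

theorem succ_le_idealDepth_of_regular (I : Ideal A) (M : Type u) [AddCommGroup M] [Module A M]
    [Module.Finite A M] (q : Ideal A) [q.IsPrime] (x : A) (hx : x ∈ I)
    (hreg : IsSMulRegular (LocalizedModule q.primeCompl M)
      (algebraMap A (Localization.AtPrime q) x)) (e : ℕ)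
    (h : (e : ℕ∞) ≤ LocCoh.idealDepth (I.map (algebraMap A (Localization.AtPrime q)))
      (LocalizedModule q.primeCompl (QuotSMulTop x M))) :
    ((e + 1 : ℕ) : ℕ∞) ≤ LocCoh.idealDepth (I.map (algebraMap A (Localization.AtPrime q)))
      (LocalizedModule q.primeCompl M) := by
  by_cases hIM : (I.map (algebraMap A (Localization.AtPrime q))) •
      (⊤ : Submodule (Localization.AtPrime q) (LocalizedModule q.primeCompl M)) = ⊤
  · rw [idealDepth_eq_top_of_smul_top_eq_top hIM]
    exact le_top
  · have hxq : algebraMap A (Localization.AtPrime q) x ∈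
        I.map (algebraMap A (Localization.AtPrime q)) := Ideal.mem_map_of_mem _ hx
    rw [← idealDepth_quotSMulTop_add_one hIM hxq hreg]
    have h2 := le_idealDepth_congr (locQuotEquiv q.primeCompl M x) h
    push_cast
    gcongr

/-- A regular sequence of length `e` in `I A_p` on `M_p` spreads out to a basic open
neighbourhood of `p`. -/
theorem exists_notMem_forall_le_idealDepth (I : Ideal A) (p : Ideal A) [p.IsPrime] (e : ℕ) :
    ∀ (M : Type u) [AddCommGroup M] [Module A M] [Module.Finite A M],
      HasSeq (I.map (algebraMap A (Localization.AtPrime p))) (LocalizedModule p.primeCompl M) e →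
      ∃ f : A, f ∉ p ∧ ∀ (q : Ideal A) [q.IsPrime], f ∉ q →
        (e : ℕ∞) ≤ LocCoh.idealDepth (I.map (algebraMap A (Localization.AtPrime q)))
          (LocalizedModule q.primeCompl M) := by
  induction e with
  | zero =>
    intro M _ _ _ _
    exact ⟨1, fun h => ‹p.IsPrime›.ne_top ((Ideal.eq_top_iff_one p).mpr h),
      fun q _ _ => by simp⟩
  | succ e ih =>
    intro M _ _ _ hseq
    obtain ⟨y, hyI, hyreg, hyseq⟩ := hasSeq_succ_iff.mp hseq
    obtain ⟨⟨⟨x, hxI⟩, s⟩, hxs⟩ :=
      (IsLocalization.mem_map_algebraMap_iff p.primeCompl (Localization.AtPrime p)).mp hyI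
    have hu : IsUnit (algebraMap A (Localization.AtPrime p) (s : A)) :=
      IsLocalization.map_units (Localization.AtPrime p) s
    have hxs' : y * algebraMap A (Localization.AtPrime p) (s : A) =
        algebraMap A (Localization.AtPrime p) x := hxs
    have hxreg : IsSMulRegular (LocalizedModule p.primeCompl M)
        (algebraMap A (Localization.AtPrime p) x) := by
      rw [← hxs', isSMulRegular_mul_unit_iff _ _ _ hu]
      exact hyreg
    have htop : algebraMap A (Localization.AtPrime p) x •
        (⊤ : Submodule (Localization.AtPrime p) (LocalizedModule p.primeCompl M)) =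
        y • (⊤ : Submodule (Localization.AtPrime p) (LocalizedModule p.primeCompl M)) := by
      rw [← hxs', smul_top_mul_unit _ _ _ hu]
    have hseq' : HasSeq (I.map (algebraMap A (Localization.AtPrime p)))
        (LocalizedModule p.primeCompl (QuotSMulTop x M)) e :=
      (hyseq.congr (Submodule.quotEquivOfEq _ _ htop.symm)).congr
        (locQuotEquiv p.primeCompl M x).symm
    obtain ⟨f₁, hf₁, h₁⟩ := ih (QuotSMulTop x M) hseq'
    obtain ⟨f₂, hf₂, h₂⟩ := exists_notMem_forall_isSMulRegular M p x hxreg
    refine ⟨f₁ * f₂, fun h => (‹p.IsPrime›.mem_or_mem h).elim hf₁ hf₂, ?_⟩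
    intro q _ hq
    have hq₁ : f₁ ∉ q := fun h => hq (q.mul_mem_right _ h)
    have hq₂ : f₂ ∉ q := fun h => hq (q.mul_mem_left _ h)
    exact succ_le_idealDepth_of_regular I M q x hxI (h₂ q hq₂) e (h₁ q hq₁)

end Spread

end Groth.Agent.H15.DepthSpread
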