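import Groth.Agent.H15.Depth
import Mathlib.RingTheory.Regular.Flat
import Mathlib.RingTheory.Localization.BaseChange
import Mathlib.RingTheory.Localization.Finiteness
import Mathlib.RingTheory.Localization.AtPrime.Basic
import Mathlib.RingTheory.Ideal.AssociatedPrime.Basic
import Mathlib.RingTheory.Nakayama

/-!
# Depth and localization at primes
-/

set_option autoImplicit false

universe u v

open scoped Pointwise
open RingTheory.Sequence

namespace Groth.Agent.H15.Depth

variable {R : Type u} [CommRing R]

section General

variable {I : Ideal R} {M : Type v} [AddCommGroup M] [Module R M]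

theorem idealDepth_eq_top_of_subsingleton [Subsingleton M] : LocCoh.idealDepth I M = ⊤ :=
  idealDepth_eq_top_of_smul_top_eq_top (Subsingleton.elim _ _)

theorem le_idealDepth_of_hasSeq {n : ℕ} (h : HasSeq I M n) : (n : ℕ∞) ≤ LocCoh.idealDepth I M := by
  by_cases hIM : I • (⊤ : Submodule R M) = ⊤
  · rw [idealDepth_eq_top_of_smul_top_eq_top hIM]
    exact le_top
  · exact (le_idealDepth_iff hIM n).mpr h

end General

section Loc

variable (S : Submonoid R) (M : Type v) [AddCommGroup M] [Module R M]

/-- Localization commutes with reduction modulo an element. -/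
noncomputable def locQuotEquiv (x : R) :
    LocalizedModule S (QuotSMulTop x M) ≃ₗ[Localization S]
      QuotSMulTop (algebraMap R (Localization S) x) (LocalizedModule S M) :=
  (LocalizedModule.isBaseChange S (QuotSMulTop x M)).equiv.symm ≪≫ₗ
    (QuotSMulTop.algebraMapTensorEquivTensorQuotSMulTop x M (Localization S)).symm ≪≫ₗ
    QuotSMulTop.congr (algebraMap R (Localization S) x) (LocalizedModule.isBaseChange S M).equiv

end Loc

section AtPrime

variable (p : Ideal R) [p.IsPrime] (M : Type v) [AddCommGroup M] [Module R M]

open IsLocalRing

/-- If `p` is the annihilator of an element of `M`, then `M_p` has a nonzero element killed by the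
maximal ideal of `R_p`. -/
theorem hasSocle_localization_of_eq_colon (m : M) (hm : p = (⊥ : Submodule R M).colon {m}) :
    HasSocle (maximalIdeal (Localization.AtPrime p)) (LocalizedModule p.primeCompl M) := by
  refine ⟨LocalizedModule.mkLinearMap p.primeCompl M m, ?_, ?_⟩
  · intro h0
    obtain ⟨s, hs⟩ := (IsLocalizedModule.eq_zero_iff p.primeCompl
      (LocalizedModule.mkLinearMap p.primeCompl M)).mp h0
    apply s.2
    have : (s : R) ∈ (⊥ : Submodule R M).colon {m} := by
      rw [Submodule.mem_colon_singleton, Submodule.mem_bot]
      exact hs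
    rw [← hm] at this
    exact this
  · intro t ht
    obtain ⟨a, s, rfl⟩ := IsLocalization.exists_mk'_eq p.primeCompl t
    have ha : a ∈ p := (IsLocalization.AtPrime.mk'_mem_maximal_iff (Localization.AtPrime p) p a s).mp ht
    have ham : a • m = 0 := by
      rw [hm, Submodule.mem_colon_singleton, Submodule.mem_bot] at ha
      exact ha
    rw [← Localization.mk_eq_mk', LocalizedModule.mkLinearMap_apply, LocalizedModule.mk_smul_mk, ham,
      LocalizedModule.zero_mk]

variable [IsNoetherianRing R]

/-- If no element of `I` is `M`-regular, the localization of `M` at some prime containing `I` has a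
socle element for the maximal ideal. -/
theorem exists_prime_hasSocle_of_hasSocle {I : Ideal R} (h : HasSocle I M) :
    ∃ (q : Ideal R) (_ : q.IsPrime), I ≤ q ∧
      HasSocle (maximalIdeal (Localization.AtPrime q)) (LocalizedModule q.primeCompl M) := by
  obtain ⟨m, hm, hI⟩ := h
  obtain ⟨q, hq, hle⟩ := exists_le_isAssociatedPrime_of_isNoetherianRing R m hm
  obtain ⟨hqp, m', hm'⟩ := isAssociatedPrime_iff.mp hq
  refine ⟨q, hqp, ?_, hasSocle_localization_of_eq_colon q M m' hm'⟩
  intro a ha
  apply hle
  rw [Submodule.mem_colon_singleton, Submodule.mem_bot]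
  exact hI a ha

end AtPrime

end Groth.Agent.H15.Depth
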