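import Groth.Agent.H15.NormalAscent
import Groth.Agent.H9.RegLocalSeq
import Groth.Agent.H23.RegularLocal

/-!
# Regular local rings are Cohen–Macaulay; hypersurfaces in them too (helper15)

* `hasSeq_map_of_hasSeq`: change of rings for regular sequences, from `R` to an `R`-algebra `A'`
  acting on the same module.
* `hasSeq_of_isRegularLocalRing`: a regular local ring has a regular sequence of length `dim`.
* `hasSeq_quotient_ring`: `depth (B/tB) ≥ depth B - 1` for the ring `B/tB`.
* `hasSeq_quotient_of_isRegularLocalRing`: `B/tB` is Cohen–Macaulay for `B` regular local.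
* `hasSeq_hypersurface`: the local rings of `A/fA` are Cohen–Macaulay when `A` is regular.
-/

set_option autoImplicit false

universe u v

open scoped Pointwise
open IsLocalRing RingTheory.Sequence

namespace Groth.Agent.H15.RegCM

open Groth.Agent.H15.Depth Groth.Agent.H15.NormalAscent

section ChangeOfRings

variable {R : Type*} {A' : Type*} [CommRing R] [CommRing A'] [Algebra R A']

/-- A regular sequence over `R` with terms in `I`, on a module over an `R`-algebra `A'`, gives a
regular sequence over `A'` with terms in `I A'`. -/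
theorem hasSeq_map_of_hasSeq {I : Ideal R} :
    ∀ (n : ℕ) (M : Type v) [AddCommGroup M] [Module A' M] [Module R M] [IsScalarTower R A' M],
      HasSeq I M n → HasSeq (I.map (algebraMap R A')) M n := by
  intro n
  induction n with
  | zero =>
    intro M _ _ _ _ _
    exact hasSeq_zero
  | succ n ih =>
    intro M _ _ _ _ h
    obtain ⟨x, hx, hreg, hrest⟩ := hasSeq_succ_iff.mp h
    have hreg' : IsSMulRegular M (algebraMap R A' x) := by
      intro m₁ m₂ hm
      apply hreg
      have hm' : algebraMap R A' x • m₁ = algebraMap R A' x • m₂ := hm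
      rwa [algebraMap_smul, algebraMap_smul] at hm'
    have heq : ((algebraMap R A' x) • (⊤ : Submodule A' M)).restrictScalars R =
        x • (⊤ : Submodule R M) := by
      ext m
      rw [Submodule.restrictScalars_mem, Groth.Agent.H15.DepthOne.mem_smul_top_iff,
        Groth.Agent.H15.DepthOne.mem_smul_top_iff]
      constructor
      · rintro ⟨k, hk⟩
        exact ⟨k, by rw [← hk, algebraMap_smul]⟩
      · rintro ⟨k, hk⟩
        exact ⟨k, by rw [← hk, algebraMap_smul]⟩
    let e : QuotSMulTop (algebraMap R A' x) M ≃ₗ[R] QuotSMulTop x M :=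
      (Submodule.Quotient.restrictScalarsEquiv R
        ((algebraMap R A' x) • (⊤ : Submodule A' M))).symm ≪≫ₗ Submodule.quotEquivOfEq _ _ heq
    have h1 : HasSeq I (QuotSMulTop (algebraMap R A' x) M) n := hrest.congr e.symm
    have h2 := ih (QuotSMulTop (algebraMap R A' x) M) h1
    exact hasSeq_succ_iff.mpr ⟨algebraMap R A' x, Ideal.mem_map_of_mem _ hx, hreg', h2⟩

end ChangeOfRings

/-- A regular local ring is Cohen–Macaulay: it has regular sequences of every length up to its
dimension. -/
theorem hasSeq_of_isRegularLocalRing (B : Type u) [CommRing B] [IsRegularLocalRing B] (n : ℕ)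
    (hn : (n : ℕ∞) ≤ (maximalIdeal B).height) : HasSeq (maximalIdeal B) B n := by
  classical
  letI : Field (B ⧸ maximalIdeal B) := Ideal.Quotient.field (maximalIdeal B)
  haveI : IsRegularLocalRing (B ⧸ maximalIdeal B) := inferInstance
  obtain ⟨rs, hrs, hm⟩ := (Groth.Agent.H9.exists_isRegular_iff_isRegularLocalRing B
    (maximalIdeal B) (maximalIdeal.isMaximal B).ne_top).mpr inferInstance
  have hseq : HasSeq (maximalIdeal B) B rs.length :=
    ⟨rs, hrs.toIsWeaklyRegular, fun r hr => by rw [hm]; exact Ideal.subset_span hr, rfl⟩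
  apply hseq.mono
  have h1 : (maximalIdeal B).spanFinrank ≤ rs.length := by
    rw [hm]
    have hfin : ({r | r ∈ rs} : Set B).Finite := List.finite_toSet rs
    refine (Submodule.spanFinrank_span_le_ncard_of_finite hfin).trans ?_
    have : ({r | r ∈ rs} : Set B) = ↑rs.toFinset := by
      ext r
      simp
    rw [this, Set.ncard_coe_finset]
    exact List.toFinset_card_le rs
  have h3 : (((maximalIdeal B).height : ℕ∞) : WithBot ℕ∞) =
      (((maximalIdeal B).spanFinrank : ℕ) : WithBot ℕ∞) := by
    rw [IsLocalRing.maximalIdeal_height_eq_ringKrullDim,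
      IsRegularLocalRing.spanFinrank_maximalIdeal]
  have h4 : (maximalIdeal B).height = (((maximalIdeal B).spanFinrank : ℕ) : ℕ∞) := by
    exact_mod_cast h3
  rw [h4] at hn
  exact (by exact_mod_cast hn : n ≤ (maximalIdeal B).spanFinrank).trans h1

/-- `depth (B/tB) ≥ depth B - 1`, the quotient taken as a ring. -/
theorem hasSeq_quotient_ring {B : Type u} [CommRing B] [IsLocalRing B] [IsNoetherianRing B] {t : B}
    (htm : t ∈ maximalIdeal B) (hreg : IsSMulRegular B t) {I' : Ideal B}
    (hI' : I' = Ideal.span {t}) [IsLocalRing (B ⧸ I')] (n : ℕ)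
    (h : HasSeq (maximalIdeal B) B (n + 1)) :
    HasSeq (maximalIdeal (B ⧸ I')) (B ⧸ I') n := by
  have h1 : HasSeq (maximalIdeal B) (QuotSMulTop t B) n := hasSeq_quot_of_hasSeq_succ htm hreg h
  have heq : I' = t • (⊤ : Submodule B B) := by
    rw [hI']
    ext m
    rw [Ideal.mem_span_singleton', Groth.Agent.H15.DepthOne.mem_smul_top_iff]
    constructor
    · rintro ⟨a, ha⟩
      exact ⟨a, by rw [smul_eq_mul, mul_comm]; exact ha⟩
    · rintro ⟨a, ha⟩
      exact ⟨a, by rw [mul_comm]; exact ha⟩
  have h2 : HasSeq (maximalIdeal B) (B ⧸ I') n :=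
    h1.congr (Submodule.quotEquivOfEq _ _ heq).symm
  have h3 := hasSeq_map_of_hasSeq (A' := B ⧸ I') n (B ⧸ I') h2
  obtain ⟨rs, hw, hI, hl⟩ := h3
  refine ⟨rs, hw, fun r hr => ?_, hl⟩
  have hle : (maximalIdeal B).map (algebraMap B (B ⧸ I')) ≤ maximalIdeal (B ⧸ I') := by
    rw [Ideal.map_le_iff_le_comap]
    intro x hx
    rw [Ideal.mem_comap, mem_maximalIdeal, mem_nonunits_iff]
    intro hu
    obtain ⟨y, hy⟩ := hu.exists_right_inv
    obtain ⟨y', rfl⟩ := Ideal.Quotient.mk_surjective y
    have h1' : Ideal.Quotient.mk I' (x * y' - 1) = 0 := by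
      rw [map_sub, map_mul, map_one, sub_eq_zero]
      exact hy
    have h2' : x * y' - 1 ∈ I' := Ideal.Quotient.eq_zero_iff_mem.mp h1'
    have hI'm : I' ≤ maximalIdeal B := by
      rw [hI', Ideal.span_singleton_le_iff_mem]
      exact htm
    have h3' : (1 : B) ∈ maximalIdeal B := by
      have : (1 : B) = x * y' - (x * y' - 1) := by ring
      rw [this]
      exact (maximalIdeal B).sub_mem ((maximalIdeal B).mul_mem_right y' hx) (hI'm h2')
    exact (maximalIdeal.isMaximal B).ne_top ((Ideal.eq_top_iff_one _).mpr h3')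
  exact hle (hI r hr)

/-- A quotient of a regular local ring by one element of the maximal ideal is Cohen–Macaulay. -/
theorem hasSeq_quotient_of_isRegularLocalRing (B : Type u) [CommRing B] [IsRegularLocalRing B]
    (t : B) (htm : t ∈ maximalIdeal B) {I' : Ideal B} (hI' : I' = Ideal.span {t})
    [IsLocalRing (B ⧸ I')] (n : ℕ) (hn : (n : WithBot ℕ∞) ≤ ringKrullDim (B ⧸ I')) :
    HasSeq (maximalIdeal (B ⧸ I')) (B ⧸ I') n := by
  haveI : IsDomain B := Groth.Agent.H23.isDomain_of_isRegularLocalRing B
  have e1 : ((n : ℕ) : WithBot ℕ∞) = (((n : ℕ) : ℕ∞) : WithBot ℕ∞) := rfl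
  by_cases ht0 : t = 0
  · have hbot : I' = ⊥ := by rw [hI', ht0]; exact Ideal.span_singleton_eq_bot.mpr rfl
    let e : B ≃+* (B ⧸ I') :=
      (RingEquiv.quotientBot B).symm.trans (Ideal.quotEquivOfEq hbot.symm)
    apply hasSeq_ringEquiv e n
    apply hasSeq_of_isRegularLocalRing B n
    have h1 : ringKrullDim (B ⧸ I') = ringKrullDim B := (ringKrullDim_eq_of_ringEquiv e).symm
    rw [h1, ← IsLocalRing.maximalIdeal_height_eq_ringKrullDim, e1, WithBot.coe_le_coe] at hn
    exact hn
  · have hreg : IsSMulRegular B t := fun a b hab => mul_left_cancel₀ ht0 hab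
    have hdim : ringKrullDim (B ⧸ I') + 1 ≤ ringKrullDim B := by
      rw [hI']
      exact ringKrullDim_quotient_succ_le_of_nonZeroDivisor (mem_nonZeroDivisors_of_ne_zero ht0)
    apply hasSeq_quotient_ring htm hreg hI' n
    apply hasSeq_of_isRegularLocalRing B (n + 1)
    have h2 : ((n : ℕ) : WithBot ℕ∞) + 1 ≤ (((maximalIdeal B).height : ℕ∞) : WithBot ℕ∞) := by
      rw [IsLocalRing.maximalIdeal_height_eq_ringKrullDim]
      exact (add_le_add_left hn 1).trans hdim
    have h3 : ((((n + 1 : ℕ) : ℕ∞)) : WithBot ℕ∞) ≤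
        (((maximalIdeal B).height : ℕ∞) : WithBot ℕ∞) := by
      refine le_trans (le_of_eq ?_) h2
      push_cast
      rfl
    exact WithBot.coe_le_coe.mp h3

/-- The local rings of a hypersurface `A/fA` in a ring `A` with regular local rings are
Cohen–Macaulay. -/
theorem hasSeq_hypersurface {A : Type u} [CommRing A] [IsNoetherianRing A] (f : A)
    (q : Ideal (A ⧸ Ideal.span {f})) [hq : q.IsPrime]
    (hregQ : IsRegularLocalRing
      (Localization.AtPrime (q.comap (Ideal.Quotient.mk (Ideal.span {f})))))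
    (n : ℕ) (hn : (n : ℕ∞) ≤ q.height) :
    HasSeq (maximalIdeal (Localization.AtPrime q)) (Localization.AtPrime q) n := by
  let C := A ⧸ Ideal.span {f}
  let Q : Ideal A := q.comap (Ideal.Quotient.mk (Ideal.span {f}))
  have hfQ : f ∈ Q := by
    change Ideal.Quotient.mk (Ideal.span {f}) f ∈ q
    rw [Ideal.Quotient.eq_zero_iff_mem.mpr (Ideal.mem_span_singleton_self f)]
    exact zero_mem _
  have hsub : Algebra.algebraMapSubmonoid C Q.primeCompl = q.primeCompl := by
    ext c
    obtain ⟨a, rfl⟩ := Ideal.Quotient.mk_surjective c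
    constructor
    · rintro ⟨s, hs, hsa⟩
      rw [← hsa]
      exact hs
    · intro ha
      exact Algebra.mem_algebraMapSubmonoid_of_mem (⟨a, ha⟩ : Q.primeCompl)
  let I' : Ideal (Localization.AtPrime Q) :=
    (Ideal.span {f}).map (algebraMap A (Localization.AtPrime Q))
  haveI hloc : IsLocalization q.primeCompl (Localization.AtPrime Q ⧸ I') :=
    hsub ▸ (inferInstance : IsLocalization
      (Algebra.algebraMapSubmonoid C Q.primeCompl) (Localization.AtPrime Q ⧸ I'))
  let e : Localization.AtPrime q ≃ₐ[C] (Localization.AtPrime Q ⧸ I') :=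
    IsLocalization.algEquiv q.primeCompl _ _
  haveI hDloc : IsLocalRing (Localization.AtPrime Q ⧸ I') := e.toRingEquiv.isLocalRing
  have ht'm : algebraMap A (Localization.AtPrime Q) f ∈ maximalIdeal (Localization.AtPrime Q) :=
    (IsLocalization.AtPrime.to_map_mem_maximal_iff (Localization.AtPrime Q) Q f).mpr hfQ
  have hI' : I' = Ideal.span {algebraMap A (Localization.AtPrime Q) f} := by
    change (Ideal.span {f}).map (algebraMap A (Localization.AtPrime Q)) = _
    rw [Ideal.map_span, Set.image_singleton]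
  have hdim : ringKrullDim (Localization.AtPrime Q ⧸ I') = ((q.height : ℕ∞) : WithBot ℕ∞) := by
    rw [← ringKrullDim_eq_of_ringEquiv e.toRingEquiv,
      IsLocalization.AtPrime.ringKrullDim_eq_height q (Localization.AtPrime q)]
  have e1 : ((n : ℕ) : WithBot ℕ∞) = (((n : ℕ) : ℕ∞) : WithBot ℕ∞) := rfl
  have hn' : (n : WithBot ℕ∞) ≤ ringKrullDim (Localization.AtPrime Q ⧸ I') := by
    rw [hdim, e1, WithBot.coe_le_coe]
    exact hn
  have key := hasSeq_quotient_of_isRegularLocalRing (Localization.AtPrime Q)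
    (algebraMap A (Localization.AtPrime Q) f) ht'm hI' n hn'
  exact hasSeq_ringEquiv e.symm.toRingEquiv n key

end Groth.Agent.H15.RegCM
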