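import Mathlib
import Groth.Agent.H61.PowerSeriesComplete
import Groth.Agent.H87.PowEval

/-!
# Surjections from power series rings onto complete local rings (helper15)
-/

set_option autoImplicit false

namespace Groth.Agent.H15.CohenStruct

open IsLocalRing

/-- Let `Λ` be a complete Noetherian local ring, `R` a complete local ring, `φ : Λ → R` a ring map
which is surjective on residue fields and `x₁, …, xₙ` generators of the maximal ideal of `R`.
Then the evaluation map `Λ[[X₁, …, Xₙ]] → R`, `Xᵢ ↦ xᵢ`, is surjective. -/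
theorem exists_surjective_mvPowerSeries {Λ R : Type*} [CommRing Λ] [IsNoetherianRing Λ]
    [IsLocalRing Λ] [IsAdicComplete (maximalIdeal Λ) Λ] [CommRing R] [IsLocalRing R]
    [IsAdicComplete (maximalIdeal R) R] (φ : Λ →+* R)
    (hφ : Function.Surjective ((residue R).comp φ))
    (n : ℕ) (x : Fin n → R) (hx : Ideal.span (Set.range x) = maximalIdeal R) :
    ∃ F : MvPowerSeries (Fin n) Λ →+* R, Function.Surjective F ∧
      (∀ c, F (MvPowerSeries.C c) = φ c) ∧ ∀ i, F (MvPowerSeries.X i) = x i := by
  have hxm : ∀ i, x i ∈ maximalIdeal R := fun i => by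
    rw [← hx]; exact Ideal.subset_span ⟨i, rfl⟩
  obtain ⟨F, hC, hX⟩ := Groth.Agent.H87.PowEval.exists_mvEval (maximalIdeal R) φ x hxm
  refine ⟨F, ?_, hC, hX⟩
  have hres : Function.Surjective ((residue R).comp F) := by
    intro y
    obtain ⟨c, hc⟩ := hφ y
    refine ⟨MvPowerSeries.C c, ?_⟩
    rw [RingHom.comp_apply, hC]
    exact hc
  have hcomap : (maximalIdeal R).comap F = maximalIdeal (MvPowerSeries (Fin n) Λ) := by
    have h1 : (RingHom.ker ((residue R).comp F)).IsMaximal :=
      RingHom.ker_isMaximal_of_surjective _ hres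
    have h2 := IsLocalRing.eq_maximalIdeal h1
    rw [← h2, ← RingHom.comap_ker, IsLocalRing.ker_residue]
  have hmap : (maximalIdeal (MvPowerSeries (Fin n) Λ)).map F = maximalIdeal R := by
    apply le_antisymm
    · rw [Ideal.map_le_iff_le_comap, hcomap]
    · rw [← hx, Ideal.span_le]
      rintro _ ⟨i, rfl⟩
      rw [← hX i]
      exact Ideal.mem_map_of_mem _ (Groth.Agent.H61.PS.X_mem_maximalIdeal i)
  have hH : IsHausdorff ((maximalIdeal (MvPowerSeries (Fin n) Λ)).map F) R := by
    rw [hmap]; infer_instance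
  apply surjective_of_mk_map_comp_surjective (I := maximalIdeal (MvPowerSeries (Fin n) Λ)) F
  intro y
  obtain ⟨r, rfl⟩ := Ideal.Quotient.mk_surjective y
  obtain ⟨c, hc⟩ := hφ (residue R r)
  refine ⟨MvPowerSeries.C c, ?_⟩
  rw [RingHom.comp_apply, hC, Ideal.Quotient.eq, hmap]
  rw [RingHom.comp_apply] at hc
  have h3 : residue R (φ c - r) = 0 := by rw [map_sub, hc, sub_self]
  exact (IsLocalRing.residue_eq_zero_iff _).mp h3

end Groth.Agent.H15.CohenStruct
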