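import Groth.Agent.H29.FlatCM
import Groth.Agent.H24.CatenaryRing
import Groth.Agent.H24.CatenaryDimFun
import Groth.Agent.S9125

/-!
# Flat local homomorphisms: passage to quotients, equidimensionality and catenarity
-/

set_option autoImplicit false
set_option linter.style.haveILetI false
set_option maxHeartbeats 400000

universe u

open IsLocalRing

namespace Groth.Agent.H15.FlatQuot

theorem exists_nat_ringKrullDim (R : Type u) [CommRing R] [IsLocalRing R] [IsNoetherianRing R] :
    ∃ n : ℕ, ringKrullDim R = ((n : ℕ∞) : WithBot ℕ∞) := by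
  have h1 : ringKrullDim R ≠ ⊥ :=
    ne_of_gt (lt_of_lt_of_le (WithBot.bot_lt_coe (0 : ℕ∞)) ringKrullDim_nonneg_of_nontrivial)
  obtain ⟨e, he⟩ := WithBot.ne_bot_iff_exists.1 h1
  have h2 : ringKrullDim R < ⊤ := ringKrullDim_lt_top
  rw [← he] at h2 ⊢
  have h3 : e ≠ ⊤ := by
    rintro rfl
    exact lt_irrefl _ h2
  obtain ⟨d, rfl⟩ := ENat.ne_top_iff_exists.1 h3
  exact ⟨d, rfl⟩

section

variable {A B : Type u} [CommRing A] [CommRing B] [IsLocalRing A] [IsLocalRing B]
  [IsNoetherianRing A] [IsNoetherianRing B] [Algebra A B] [IsLocalHom (algebraMap A B)]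
  [Module.Flat A B]

omit [IsNoetherianRing A] [IsNoetherianRing B] in
/-- The induced homomorphism `A/I → B/IB` is again a flat local homomorphism of local rings. -/
theorem quotient_flat_local (I : Ideal A) (hI : I ≠ ⊤) :
    IsLocalRing (A ⧸ I) ∧ IsLocalRing (B ⧸ I.map (algebraMap A B)) ∧
      Module.Flat (A ⧸ I) (B ⧸ I.map (algebraMap A B)) ∧
      IsLocalHom (algebraMap (A ⧸ I) (B ⧸ I.map (algebraMap A B))) := by
  have hIle : I ≤ maximalIdeal A := le_maximalIdeal hI
  have hJle : I.map (algebraMap A B) ≤ maximalIdeal B :=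
    le_trans (Ideal.map_mono hIle) (map_maximalIdeal_le (algebraMap A B))
  haveI : Nontrivial (A ⧸ I) := Ideal.Quotient.nontrivial_iff.mpr hI
  haveI : Nontrivial (B ⧸ I.map (algebraMap A B)) := Ideal.Quotient.nontrivial_iff.mpr
    (ne_top_of_le_ne_top (maximalIdeal.isMaximal B).ne_top hJle)
  haveI hmkJ : IsLocalHom (Ideal.Quotient.mk (I.map (algebraMap A B))) :=
    IsLocalHom.of_surjective _ Ideal.Quotient.mk_surjective
  refine ⟨IsLocalRing.of_surjective' (Ideal.Quotient.mk I) Ideal.Quotient.mk_surjective,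
    IsLocalRing.of_surjective' (Ideal.Quotient.mk _) Ideal.Quotient.mk_surjective,
    Module.Flat.of_linearEquiv
      (Algebra.TensorProduct.quotIdealMapEquivQuotTensor B I).toLinearEquiv, ⟨fun a ha => ?_⟩⟩
  obtain ⟨x, rfl⟩ := Ideal.Quotient.mk_surjective a
  have h1 : IsUnit ((Ideal.Quotient.mk (I.map (algebraMap A B))) (algebraMap A B x)) := ha
  have h2 := (isUnit_map_iff (Ideal.Quotient.mk (I.map (algebraMap A B))) _).mp h1
  have h3 := (isUnit_map_iff (algebraMap A B) _).mp h2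
  exact h3.map _

/-- `dim B/IB = dim A/I + dim B/m_A B` for a flat local homomorphism. -/
theorem ringKrullDim_quotient_map (I : Ideal A) (hI : I ≠ ⊤) :
    ringKrullDim (B ⧸ I.map (algebraMap A B)) =
      ringKrullDim (A ⧸ I) + ringKrullDim (EGA4.FibRing A B) := by
  obtain ⟨h1, h2, h3, h4⟩ := quotient_flat_local (B := B) I hI
  haveI := h1
  haveI := h2
  haveI := h3
  haveI := h4
  have hIle : I ≤ maximalIdeal A := le_maximalIdeal hI
  have hd := Groth.Agent.H29.FlatCM.ringKrullDim_eq_add_fibre (A := A ⧸ I)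
    (B := B ⧸ I.map (algebraMap A B))
  have hJK : I.map (algebraMap A B) ≤ EGA4.mB A B := Ideal.map_mono hIle
  have hmB : EGA4.mB (A ⧸ I) (B ⧸ I.map (algebraMap A B)) =
      (EGA4.mB A B).map (Ideal.Quotient.mk (I.map (algebraMap A B))) := by
    have hm : maximalIdeal (A ⧸ I) = (maximalIdeal A).map (Ideal.Quotient.mk I) :=
      (Groth.Agent.H29.FlatCM.map_mk_maximalIdeal I hI).symm
    show (maximalIdeal (A ⧸ I)).map (algebraMap _ _) = _
    refine (congrArg (Ideal.map (algebraMap _ _)) hm).trans ?_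
    refine (Ideal.map_map _ _).trans ?_
    refine Eq.trans ?_ (Ideal.map_map (algebraMap A B)
      (Ideal.Quotient.mk (I.map (algebraMap A B)))).symm
    rfl
  let e2 : EGA4.FibRing (A ⧸ I) (B ⧸ I.map (algebraMap A B)) ≃+* EGA4.FibRing A B :=
    (Ideal.quotEquivOfEq hmB).trans (DoubleQuot.quotQuotEquivQuotOfLE hJK)
  rw [ringKrullDim_eq_of_ringEquiv e2] at hd
  exact hd

omit [IsLocalRing A] [IsLocalRing B] [IsLocalHom (algebraMap A B)] in
/-- For a prime `Q` of `B` minimal over `pB`: `Q` lies over `p` and `ht Q = ht p`. -/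
theorem comap_eq_and_height_eq_of_mem_minimalPrimes (p : Ideal A) [p.IsPrime] {Q : Ideal B}
    (hQ : Q ∈ (p.map (algebraMap A B)).minimalPrimes) :
    Q.comap (algebraMap A B) = p ∧ Q.height = p.height := by
  haveI hQp : Q.IsPrime := hQ.1.1
  have hple : p ≤ Q.comap (algebraMap A B) := Ideal.map_le_iff_le_comap.mp hQ.1.2
  have hover : Q.comap (algebraMap A B) = p := by
    refine le_antisymm ?_ hple
    haveI : Q.LiesOver (Q.comap (algebraMap A B)) := ⟨rfl⟩
    obtain ⟨Q', hQ'le, hQ'prime, hQ'over⟩ :=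
      Ideal.exists_ideal_le_liesOver_of_le (p := p) (q := Q.comap (algebraMap A B)) Q hple
    have h2 : Ideal.map (algebraMap A B) p ≤ Q' := by
      rw [Ideal.map_le_iff_le_comap]
      exact le_of_eq hQ'over.over
    have h3 : Q ≤ Q' := hQ.2 ⟨hQ'prime, h2⟩ hQ'le
    have hQQ' : Q' = Q := le_antisymm hQ'le h3
    rw [← hQQ']
    exact le_of_eq hQ'over.over.symm
  refine ⟨hover, ?_⟩
  haveI : Q.LiesOver p := ⟨hover.symm⟩
  rw [Ideal.height_eq_height_add_of_liesOver_of_hasGoingDown p Q]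
  have h0 : (Q.map (Ideal.Quotient.mk (p.map (algebraMap A B)))).height = 0 := by
    haveI : (Q.map (Ideal.Quotient.mk (p.map (algebraMap A B)))).IsPrime :=
      Ideal.map_isPrime_of_surjective Ideal.Quotient.mk_surjective
        (by rw [Ideal.mk_ker]; exact hQ.1.2)
    rw [Ideal.height_eq_zero_iff]
    have h1 : Q ∈ (p.map (algebraMap A B)).minimalPrimes := hQ
    rw [Ideal.minimalPrimes_eq_comap] at h1
    obtain ⟨q', hq', hq'eq⟩ := h1
    rw [← hq'eq, Ideal.map_comap_of_surjective _ Ideal.Quotient.mk_surjective]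
    exact hq'
  rw [h0, add_zero]

/-- There is a prime minimal over `I` whose quotient has the dimension of `B/I`. -/
theorem exists_minimalPrimes_ringKrullDim_eq (I : Ideal B) (hI : I ≠ ⊤) :
    ∃ Q ∈ I.minimalPrimes, ringKrullDim (B ⧸ Q) = ringKrullDim (B ⧸ I) := by
  obtain ⟨q, hq1, hq2⟩ := Groth.Agent.H24.exists_prime_ge_ringKrullDim_quotient_eq B I hI
  obtain ⟨Q₀, hQ₀min, hQ₀q⟩ := Ideal.exists_minimalPrimes_le hq1
  refine ⟨Q₀, hQ₀min, ?_⟩
  apply le_antisymm
  · exact ringKrullDim_le_of_surjective (Ideal.Quotient.factor hQ₀min.1.2)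
      (Ideal.Quotient.factor_surjective _)
  · rw [← hq2]
    exact ringKrullDim_le_of_surjective (Ideal.Quotient.factor hQ₀q)
      (Ideal.Quotient.factor_surjective _)

/-- `ht p + dim A/p = dim A` when `A` has a flat local extension which is equidimensional and
catenary. -/
theorem height_add_ringKrullDim_quotient (heq : EGA4.IsEquidim B) (hcat : CAlg.IsCatenary B)
    (p : Ideal A) [hp : p.IsPrime] :
    ((p.height : ℕ∞) : WithBot ℕ∞) + ringKrullDim (A ⧸ p) = ringKrullDim A := by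
  have hIne : p.map (algebraMap A B) ≠ ⊤ := by
    have h1 : p.map (algebraMap A B) ≤ maximalIdeal B :=
      le_trans (Ideal.map_mono (le_maximalIdeal hp.ne_top)) (map_maximalIdeal_le (algebraMap A B))
    exact ne_top_of_le_ne_top (maximalIdeal.isMaximal B).ne_top h1
  obtain ⟨Q, hQmin, hQdim⟩ := exists_minimalPrimes_ringKrullDim_eq (p.map (algebraMap A B)) hIne
  haveI hQp : Q.IsPrime := hQmin.1.1
  obtain ⟨-, hheight⟩ := comap_eq_and_height_eq_of_mem_minimalPrimes p hQmin
  have e1 := Groth.Agent.H24.height_add_ringKrullDim_quotient_eq B heq hcat ⟨Q, hQp⟩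
  rw [show (⟨Q, hQp⟩ : PrimeSpectrum B).asIdeal = Q from rfl, hheight, hQdim] at e1
  have e2 := ringKrullDim_quotient_map (B := B) p hp.ne_top
  have e3 := Groth.Agent.H29.FlatCM.ringKrullDim_eq_add_fibre (A := A) (B := B)
  obtain ⟨q1, -, -, -⟩ := quotient_flat_local (B := B) p hp.ne_top
  haveI := q1
  obtain ⟨a, ha⟩ := exists_nat_ringKrullDim (A ⧸ p)
  obtain ⟨f, hf⟩ := exists_nat_ringKrullDim (EGA4.FibRing A B)
  obtain ⟨d, hd⟩ := exists_nat_ringKrullDim A
  obtain ⟨h, hh⟩ := ENat.ne_top_iff_exists.1 (Ideal.height_ne_top hp.ne_top)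
  rw [e2, e3, ha, hf, hd, ← hh] at e1
  rw [ha, hd, ← hh]
  have e4 : h + (a + f) = d + f := by exact_mod_cast e1
  have e5 : h + a = d := by omega
  exact_mod_cast e5

end

end Groth.Agent.H15.FlatQuot
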