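import Groth.Agent.H15.CMCat
import Groth.Agent.H34.ComplQuot
import Groth.Agent.H34.FormalEquidim
import Groth.Agent.S2630
import Groth.Agent.S2631
import Groth.Agent.S0580
import Groth.Agent.H15.PSRegular
import Groth.Agent.H72.RegLoc
import Groth.Agent.H87.ComplIso
import Mathlib.RingTheory.AdicCompletion.LocalRing

/-!
# Formally equidimensional local rings (helper15)

EGA IV 7.1.4–7.1.7: a formally equidimensional local ring is equidimensional and catenary; a
quotient of it is equidimensional iff formally equidimensional; quotients of Cohen–Macaulay local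
rings are formally catenary; formal equidimensionality can be tested on minimal primes.
-/

set_option autoImplicit false
set_option linter.style.haveILetI false
set_option maxHeartbeats 400000

universe u

open IsLocalRing

namespace Groth.Agent.H15.FormEq

/-- Equidimensionality is invariant under ring isomorphisms. -/
theorem isEquidim_of_ringEquiv {R S : Type u} [CommRing R] [CommRing S] (e : R ≃+* S)
    (h : EGA4.IsEquidim R) : EGA4.IsEquidim S := by
  intro q hq
  haveI := hq.1.1
  have hp : q.comap (e : R →+* S) ∈ minimalPrimes R := by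
    have h1 := Ideal.minimalPrimes_comap_of_surjective (f := (e : R →+* S)) e.surjective hq
    rwa [← RingHom.ker_eq_comap_bot,
      (RingHom.injective_iff_ker_eq_bot (e : R →+* S)).mp e.injective] at h1
  have h1 := h _ hp
  have e' : (R ⧸ q.comap (e : R →+* S)) ≃+* (S ⧸ q) :=
    Ideal.quotientEquiv _ _ e
      (Ideal.map_comap_of_surjective (e : R →+* S) e.surjective q).symm
  rw [← ringKrullDim_eq_of_ringEquiv e', h1, ringKrullDim_eq_of_ringEquiv e]

/-- A domain is equidimensional. -/
theorem isEquidim_of_isDomain (R : Type u) [CommRing R] [IsDomain R] : EGA4.IsEquidim R := by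
  intro p hp
  have h1 : p ≤ ⊥ := hp.2 ⟨Ideal.isPrime_bot, le_refl _⟩ bot_le
  have h2 : p = ⊥ := le_bot_iff.mp h1
  rw [h2]
  exact ringKrullDim_eq_of_ringEquiv (RingEquiv.quotientBot R)

/-- Isomorphic local rings have isomorphic completions. -/
theorem nonempty_cplEquiv {R S : Type u} [CommRing R] [CommRing S] [IsLocalRing R]
    [IsLocalRing S] (e : R ≃+* S) : Nonempty (EGA4.Cpl R ≃+* EGA4.Cpl S) := by
  letI : Algebra R S := (e : R →+* S).toAlgebra
  have hmap : (maximalIdeal R).map (e : R →+* S) = maximalIdeal S :=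
    IsLocalRing.map_ringEquiv_maximalIdeal e
  have hpow : ∀ n, (maximalIdeal R ^ n).map (e : R →+* S) = maximalIdeal S ^ n := fun n => by
    rw [Ideal.map_pow, hmap]
  obtain ⟨E⟩ := Groth.Agent.H87.ComplIso.nonempty_algEquiv (R := R) (maximalIdeal R)
    (maximalIdeal S) (Algebra.ofId R S)
    (by
      rw [← hmap]
      exact Ideal.le_comap_map)
    (fun n s => ⟨e.symm s, by
      have : s - Algebra.ofId R S (e.symm s) = 0 := by
        show s - (e : R →+* S) (e.symm s) = 0
        simp
      rw [this]
      exact Ideal.zero_mem _⟩)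
    (fun n p hp => by
      have hp' : p ∈ ((maximalIdeal R ^ n).map (e : R →+* S)).comap (e : R →+* S) := by
        rw [hpow n]
        exact hp
      rwa [Ideal.comap_map_of_bijective (e : R →+* S) e.bijective] at hp')
  exact ⟨E.toRingEquiv⟩

/-- Formal equidimensionality is invariant under ring isomorphisms. -/
theorem isFormallyEquidim_of_ringEquiv {R S : Type u} [CommRing R] [CommRing S] [IsLocalRing R]
    [IsLocalRing S] (e : R ≃+* S) (h : EGA4.IsFormallyEquidim R) : EGA4.IsFormallyEquidim S := by
  obtain ⟨E⟩ := nonempty_cplEquiv e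
  exact isEquidim_of_ringEquiv E h

section Complete

/-- A complete Noetherian local ring is a quotient of a Cohen–Macaulay (indeed regular) local
ring. -/
theorem exists_CM_surjective (R : Type u) [CommRing R] [IsLocalRing R] [IsNoetherianRing R]
    [IsAdicComplete (maximalIdeal R) R] :
    ∃ (S : Type u) (_ : CommRing S) (_ : LocCoh.IsCohenMacaulayLocalRing S) (f : S →+* R),
      Function.Surjective f := by
  obtain ⟨Λ, _, n, f, hΛ, hf⟩ :=
    Groth.Agent.S0580.result R (maximalIdeal R).fg_of_isNoetherianRing
  have hreg : IsRegularLocalRing Λ := by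
    rcases hΛ with h | h
    · let _ := h.toField
      infer_instance
    · obtain ⟨hdom, hdvr, -⟩ := h
      infer_instance
  haveI := hreg
  haveI := Groth.Agent.H15.PSRegular.isRegularLocalRing_mvPowerSeries (Λ := Λ) n
  exact ⟨MvPowerSeries (Fin n) Λ, inferInstance,
    ⟨Groth.Agent.H72.RegLoc.isCM_of_isRegularLocalRing _⟩, f, hf⟩

/-- A quotient of a Cohen–Macaulay local ring is catenary. -/
theorem isCatenary_of_surjective_of_isCM {S R : Type u} [CommRing S] [CommRing R]
    [LocCoh.IsCohenMacaulayLocalRing S] (f : S →+* R) (hf : Function.Surjective f) :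
    CAlg.IsCatenary R :=
  Groth.Agent.H38.isCatenary_of_ringEquiv (RingHom.quotientKerEquivOfSurjective hf)
    (Groth.Agent.S9125.result S _ (Groth.Agent.H15.CMCat.isCatenary S))

/-- A complete Noetherian local ring is catenary. -/
theorem isCatenary_of_complete (R : Type u) [CommRing R] [IsLocalRing R] [IsNoetherianRing R]
    [IsAdicComplete (maximalIdeal R) R] : CAlg.IsCatenary R := by
  obtain ⟨S, _, _, f, hf⟩ := exists_CM_surjective R
  exact isCatenary_of_surjective_of_isCM f hf

end Complete

section Main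

variable (A : Type u) [CommRing A] [IsNoetherianRing A] [IsLocalRing A]

theorem fibRing_cpl_dim : ringKrullDim (EGA4.FibRing A (EGA4.Cpl A)) = 0 :=
  ringKrullDim_eq_zero_of_isField
    ((Ideal.Quotient.maximal_ideal_iff_isField_quotient (EGA4.mB A (EGA4.Cpl A))).1
      (Groth.Agent.H34.FormalEquidim.mB_isMaximal A))

theorem isCatenary_cpl : CAlg.IsCatenary (EGA4.Cpl A) :=
  isCatenary_of_complete (EGA4.Cpl A)

/-- A formally equidimensional local ring is equidimensional and catenary. -/
theorem isEquidim_and_isCatenary (h : EGA4.IsFormallyEquidim A) :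
    EGA4.IsEquidim A ∧ CAlg.IsCatenary A :=
  Groth.Agent.S2630.result A (EGA4.Cpl A) h (isCatenary_cpl A)

/-- For a quotient of a formally equidimensional local ring, equidimensional and formally
equidimensional are equivalent. -/
theorem isEquidim_quotient_iff (h : EGA4.IsFormallyEquidim A) (a : Ideal A)
    [Nontrivial (A ⧸ a)] : EGA4.IsEquidim (A ⧸ a) ↔ EGA4.IsFormallyEquidim (A ⧸ a) := by
  have h1 := Groth.Agent.S2631.result A (EGA4.Cpl A) h (isCatenary_cpl A) (fibRing_cpl_dim A) a
  rw [← h1]
  have e := (Groth.Agent.H34.ComplQuot.cplQuotEquiv A a).toRingEquiv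
  exact ⟨fun h2 => isEquidim_of_ringEquiv e.symm h2, fun h2 => isEquidim_of_ringEquiv e h2⟩

/-- A local ring which is a quotient of a formally equidimensional local ring and is
equidimensional is formally equidimensional. -/
theorem isFormallyEquidim_of_surjective {R : Type u} [CommRing R] [IsLocalRing R]
    (hA : EGA4.IsFormallyEquidim A) (f : A →+* R) (hf : Function.Surjective f)
    (hR : EGA4.IsEquidim R) : EGA4.IsFormallyEquidim R := by
  let e := RingHom.quotientKerEquivOfSurjective hf
  haveI : Nontrivial (A ⧸ RingHom.ker f) := e.symm.injective.nontrivial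
  have h1 : EGA4.IsEquidim (A ⧸ RingHom.ker f) := isEquidim_of_ringEquiv e.symm hR
  have h2 := (isEquidim_quotient_iff A hA (RingHom.ker f)).mp h1
  exact isFormallyEquidim_of_ringEquiv e h2

/-- A Cohen–Macaulay local ring is formally equidimensional. -/
theorem isFormallyEquidim_of_isCM (hCM : LocCoh.IsCohenMacaulayLocalRing A) :
    EGA4.IsFormallyEquidim A :=
  Groth.Agent.H34.FormalEquidim.main A A hCM.supportDim_eq_depth
    (Groth.Agent.H15.CMCat.support_self A)

/-- Formal equidimensionality can be checked on the minimal primes. -/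
theorem isFormallyEquidim_of_minimalPrimes (hA : EGA4.IsEquidim A)
    (h : ∀ (p : Ideal A) [p.IsPrime], p ∈ minimalPrimes A → EGA4.IsFormallyEquidim (A ⧸ p)) :
    EGA4.IsFormallyEquidim A := by
  intro P hP
  haveI hPprime : P.IsPrime := hP.1.1
  have hpprime : (P.comap (algebraMap A (EGA4.Cpl A))).IsPrime := Ideal.comap_isPrime _ P
  have hpmin : P.comap (algebraMap A (EGA4.Cpl A)) ∈ minimalPrimes A := by
    refine ⟨⟨hpprime, bot_le⟩, fun p' hp' hle => ?_⟩
    haveI := hp'.1
    haveI : P.LiesOver (P.comap (algebraMap A (EGA4.Cpl A))) := ⟨rfl⟩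
    obtain ⟨P', hP'le, hP'prime, hP'over⟩ :=
      Ideal.exists_ideal_le_liesOver_of_le (p := p') (q := P.comap (algebraMap A (EGA4.Cpl A)))
        P hle
    have h3 : P ≤ P' := hP.2 ⟨hP'prime, bot_le⟩ hP'le
    have hPP' : P' = P := le_antisymm hP'le h3
    rw [← hPP']
    exact le_of_eq hP'over.over.symm
  set p := P.comap (algebraMap A (EGA4.Cpl A)) with hp
  haveI := hpprime
  have hle : p.map (algebraMap A (EGA4.Cpl A)) ≤ P := Ideal.map_comap_le
  have heq : EGA4.IsEquidim (EGA4.Cpl A ⧸ p.map (algebraMap A (EGA4.Cpl A))) :=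
    isEquidim_of_ringEquiv (Groth.Agent.H34.ComplQuot.cplQuotEquiv A p).toRingEquiv (h p hpmin)
  have hsurj : Function.Surjective (Ideal.Quotient.mk (p.map (algebraMap A (EGA4.Cpl A)))) :=
    Ideal.Quotient.mk_surjective
  have hPbar : P.map (Ideal.Quotient.mk (p.map (algebraMap A (EGA4.Cpl A)))) ∈
      minimalPrimes (EGA4.Cpl A ⧸ p.map (algebraMap A (EGA4.Cpl A))) := by
    have hcm : (P.map (Ideal.Quotient.mk (p.map (algebraMap A (EGA4.Cpl A))))).comap
        (Ideal.Quotient.mk (p.map (algebraMap A (EGA4.Cpl A)))) = P := by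
      rw [Ideal.comap_map_of_surjective _ hsurj, ← RingHom.ker_eq_comap_bot, Ideal.mk_ker,
        sup_eq_left.mpr hle]
    refine ⟨⟨Ideal.map_isPrime_of_surjective hsurj (by rw [Ideal.mk_ker]; exact hle), bot_le⟩,
      fun J hJ hJle => ?_⟩
    haveI := hJ.1
    have h4 : J.comap (Ideal.Quotient.mk (p.map (algebraMap A (EGA4.Cpl A)))) ≤ P := by
      rw [← hcm]
      exact Ideal.comap_mono hJle
    have h5 : P ≤ J.comap (Ideal.Quotient.mk (p.map (algebraMap A (EGA4.Cpl A)))) :=
      hP.2 ⟨Ideal.comap_isPrime _ J, bot_le⟩ h4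
    calc P.map (Ideal.Quotient.mk (p.map (algebraMap A (EGA4.Cpl A))))
        ≤ (J.comap (Ideal.Quotient.mk (p.map (algebraMap A (EGA4.Cpl A))))).map
            (Ideal.Quotient.mk (p.map (algebraMap A (EGA4.Cpl A)))) := Ideal.map_mono h5
      _ = J := Ideal.map_comap_of_surjective _ hsurj J
  have h6 := heq _ hPbar
  rw [ringKrullDim_eq_of_ringEquiv (DoubleQuot.quotQuotEquivQuotOfLE hle)] at h6
  rw [h6, ← ringKrullDim_eq_of_ringEquiv (Groth.Agent.H34.ComplQuot.cplQuotEquiv A p).toRingEquiv,
    Groth.Agent.H34.FormalEquidim.ringKrullDim_cpl (A ⧸ p), hA p hpmin,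
    Groth.Agent.H34.FormalEquidim.ringKrullDim_cpl A]

/-- EGA IV 7.1.6-type statement: a local ring is formally equidimensional iff it is
equidimensional and its quotients by minimal primes are formally equidimensional. -/
theorem isFormallyEquidim_iff_minimalPrimes :
    EGA4.IsFormallyEquidim A ↔
      (EGA4.IsEquidim A ∧ ∀ (p : Ideal A) [p.IsPrime], p ∈ minimalPrimes A →
        EGA4.IsFormallyEquidim (A ⧸ p)) := by
  constructor
  · intro h
    exact ⟨(isEquidim_and_isCatenary A h).1, fun p _ _ =>
      (isEquidim_quotient_iff A h p).mp (isEquidim_of_isDomain _)⟩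
  · rintro ⟨h1, h2⟩
    exact isFormallyEquidim_of_minimalPrimes A h1 h2

end Main

/-- Quotients of Cohen–Macaulay local rings are formally catenary. -/
theorem isFormallyCatenary_of_surjective_of_isCM {S R : Type u} [CommRing S] [CommRing R]
    [hS : LocCoh.IsCohenMacaulayLocalRing S] [IsLocalRing R] (f : S →+* R)
    (hf : Function.Surjective f) : EGA4.IsFormallyCatenary R := by
  intro p _
  exact isFormallyEquidim_of_surjective S (isFormallyEquidim_of_isCM S hS)
    ((Ideal.Quotient.mk p).comp f) (Ideal.Quotient.mk_surjective.comp hf)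
    (isEquidim_of_isDomain _)

end Groth.Agent.H15.FormEq
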