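import Groth.Agent.H15.NorOpen
import Groth.Prelude.Def_Found

/-!
# The N-1 property is local, given generic normality (helper15)

For a Noetherian domain `R` with fraction field `K` and `f ≠ 0`, `Mn f n` is the `R`-module of the
integral elements `y` of `K` with `f ^ n * y ∈ R`; it is finitely generated.  `Jn f n` is the ideal of
`r` with `r • Mn f (n+1) ⊆ Mn f n`; these ideals increase with `n`.
-/

set_option autoImplicit false
universe u

namespace Groth.Agent.H15.N1

variable {R : Type u} [CommRing R] [IsDomain R]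

local notation "K" => FractionRing R
local notation "ι" => algebraMap R (FractionRing R)

/-- integral elements with denominator `f ^ n`. -/
def Mn (f : R) (n : ℕ) : Submodule R (FractionRing R) where
  carrier := {y | IsIntegral R y ∧ ∃ a : R, ι (f ^ n) * y = ι a}
  zero_mem' := ⟨isIntegral_zero, 0, by rw [mul_zero, map_zero]⟩
  add_mem' := by
    rintro y₁ y₂ ⟨h₁, a₁, e₁⟩ ⟨h₂, a₂, e₂⟩
    exact ⟨h₁.add h₂, a₁ + a₂, by rw [mul_add, e₁, e₂, map_add]⟩
  smul_mem' := by
    rintro c y ⟨h, a, e⟩
    refine ⟨?_, c * a, ?_⟩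
    · rw [Algebra.smul_def]
      exact IsIntegral.mul isIntegral_algebraMap h
    · rw [Algebra.smul_def, mul_left_comm, e, map_mul]

theorem mem_Mn {f : R} {n : ℕ} {y : FractionRing R} :
    y ∈ Mn f n ↔ IsIntegral R y ∧ ∃ a : R, ι (f ^ n) * y = ι a := Iff.rfl

theorem Mn_le_succ (f : R) (n : ℕ) : Mn f n ≤ Mn f (n + 1) := by
  rintro y ⟨h, a, e⟩
  exact ⟨h, f * a, by rw [pow_succ', map_mul, mul_assoc, e, map_mul]⟩

theorem Mn_mono (f : R) : Monotone (Mn f) := monotone_nat_of_le_succ (Mn_le_succ f)

theorem Mn_fg [IsNoetherianRing R] {f : R} (hf : f ≠ 0) (n : ℕ) : (Mn f n).FG := by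
  have hinj : Function.Injective ι := IsFractionRing.injective R K
  have hne : ι (f ^ n) ≠ 0 := fun h0 => pow_ne_zero n hf (hinj (by rw [h0, map_zero]))
  let φ : K →ₗ[R] K := LinearMap.mulLeft R (ι (f ^ n))
  have hφ : Function.Injective φ := fun a b hab => mul_left_cancel₀ hne hab
  let g : R →ₗ[R] K := Algebra.linearMap R K
  have hnoeth : IsNoetherian R (LinearMap.range g) :=
    isNoetherian_of_surjective g.rangeRestrict (LinearMap.range_rangeRestrict g)
  have hle : (Mn f n).map φ ≤ LinearMap.range g := by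
    rintro _ ⟨y, ⟨_, a, e⟩, rfl⟩
    exact ⟨a, e.symm⟩
  exact Submodule.fg_of_fg_map_injective φ hφ (isNoetherian_submodule.mp hnoeth _ hle)

/-- the ideal of `r` with `r • Mn f (n+1) ⊆ Mn f n`. -/
def Jn (f : R) (n : ℕ) : Ideal R where
  carrier := {r | ∀ y ∈ Mn f (n + 1), ι r * y ∈ Mn f n}
  zero_mem' := fun y _ => by rw [map_zero, zero_mul]; exact zero_mem _
  add_mem' := by
    intro r s hr hs y hy
    rw [map_add, add_mul]
    exact add_mem (hr y hy) (hs y hy)
  smul_mem' := by
    intro c r hr y hy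
    rw [smul_eq_mul, map_mul, mul_assoc, ← Algebra.smul_def]
    exact Submodule.smul_mem _ c (hr y hy)

theorem mem_Jn {f : R} {n : ℕ} {r : R} :
    r ∈ Jn f n ↔ ∀ y ∈ Mn f (n + 1), ι r * y ∈ Mn f n := Iff.rfl

theorem Jn_le_succ {f : R} (hf : f ≠ 0) (n : ℕ) : Jn f n ≤ Jn f (n + 1) := by
  have hinj : Function.Injective ι := IsFractionRing.injective R K
  have hne : ι f ≠ 0 := fun h0 => hf (hinj (by rw [h0, map_zero]))
  intro r hr y hy
  obtain ⟨hyint, a, e⟩ := hy
  have h1 : ι f * y ∈ Mn f (n + 1) := by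
    refine ⟨IsIntegral.mul isIntegral_algebraMap hyint, a, ?_⟩
    rw [← e, pow_succ (n := n + 1), map_mul, mul_assoc]
  obtain ⟨_, b, e'⟩ := hr _ h1
  refine ⟨IsIntegral.mul isIntegral_algebraMap hyint, b, ?_⟩
  rw [← e', pow_succ, map_mul]
  ring

theorem Jn_mono {f : R} (hf : f ≠ 0) : Monotone (Jn f) := monotone_nat_of_le_succ (Jn_le_succ hf)

theorem Mn_le_of_Jn_eq_top {f : R} (hf : f ≠ 0) {n : ℕ} (h : Jn f n = ⊤) :
    ∀ k, Mn f (n + k) ≤ Mn f n := by
  intro k
  induction k with
  | zero => exact le_rfl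
  | succ k ih =>
    refine le_trans ?_ ih
    have htop : Jn f (n + k) = ⊤ := top_le_iff.mp (h ▸ Jn_mono hf (Nat.le_add_right n k))
    intro y hy
    have h1 : (1 : R) ∈ Jn f (n + k) := by rw [htop]; exact Submodule.mem_top
    have := h1 y hy
    rwa [map_one, one_mul] at this

/-- For a finitely generated submodule, local membership in a submodule `T` up to denominators
outside a prime can be achieved with a common denominator. -/
theorem exists_common_denominator (m : Ideal R) [hm : m.IsPrime]
    (N T : Submodule R (FractionRing R)) (hN : N.FG)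
    (h : ∀ y ∈ N, ∃ s : R, s ∉ m ∧ ι s * y ∈ T) :
    ∃ s : R, s ∉ m ∧ ∀ y ∈ N, ι s * y ∈ T := by
  classical
  obtain ⟨Y, hY⟩ := hN
  have hYN : ∀ y ∈ Y, y ∈ N := fun y hy => hY ▸ Submodule.subset_span hy
  choose! s hs hsT using h
  refine ⟨∏ y ∈ Y, s y, ?_, ?_⟩
  · intro hmem
    obtain ⟨y, hyY, hy⟩ := (Ideal.IsPrime.prod_mem_iff (hp := hm)).mp hmem
    exact hs y (hYN y hyY) hy
  · intro y hy
    rw [← hY] at hy
    refine Submodule.span_induction ?_ ?_ ?_ ?_ hy
    · intro z hz
      have hzY : z ∈ Y := hz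
      rw [← Finset.prod_erase_mul Y s hzY, map_mul, mul_assoc, ← Algebra.smul_def]
      exact Submodule.smul_mem _ _ (hsT z (hYN z hzY))
    · rw [mul_zero]; exact zero_mem _
    · intro a b _ _ ha hb
      rw [mul_add]; exact add_mem ha hb
    · intro c a _ ha
      rw [Algebra.smul_def, mul_left_comm, ← Algebra.smul_def]
      exact Submodule.smul_mem _ _ ha

section Local

variable (m : Ideal R) [hm : m.IsPrime]

/-- `t • (c • y) = a • y` for `c = a / t` in the localization. -/
theorem algebraMap_mul_mk'_smul (a : R) (t : m.primeCompl) (y : FractionRing R) :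
    ι (t : R) * ((IsLocalization.mk' (Localization.AtPrime m) a t) • y) = ι a * y := by
  rw [Algebra.smul_def, ← mul_assoc,
    IsScalarTower.algebraMap_apply R (Localization.AtPrime m) K (t : R), ← map_mul,
    IsLocalization.mk'_spec', ← IsScalarTower.algebraMap_apply]

/-- If the integral closure of `R_m` in `K` is a finite `R_m`-module, then for large `n` the ideal
`Jn f n` is not contained in `m`. -/
theorem exists_Jn_not_le [IsNoetherianRing R] {f : R} (hf : f ≠ 0)
    (H : ∀ x : FractionRing R, IsIntegral R x → ∃ n : ℕ, ∃ a : R, ι (f ^ n) * x = ι a)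
    (hfin : (Subalgebra.toSubmodule
      (integralClosure (Localization.AtPrime m) (FractionRing R))).FG) (n₀ : ℕ) :
    ∃ n, n₀ ≤ n ∧ ¬ Jn f n ≤ m := by
  classical
  let Rm := Localization.AtPrime m
  obtain ⟨S, hS⟩ := hfin
  have hSint : ∀ z ∈ S, IsIntegral Rm z := by
    intro z hz
    have : z ∈ Subalgebra.toSubmodule (integralClosure Rm K) := hS ▸ Submodule.subset_span hz
    exact this
  -- multiples integral over R
  have hmult : ∀ z ∈ S, ∃ s : R, s ∉ m ∧ IsIntegral R (ι s * z) := by
    intro z hz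
    obtain ⟨⟨s, hs⟩, hsz⟩ :=
      IsIntegral.exists_multiple_integral_of_isLocalization m.primeCompl z (hSint z hz)
    rw [Submonoid.mk_smul, Algebra.smul_def] at hsz
    exact ⟨s, hs, hsz⟩
  choose! s hs hsint using hmult
  -- all these multiples lie in a single M_{n₁}
  have hk : ∀ z ∈ S, ∃ k : ℕ, ι (s z) * z ∈ Mn f k := by
    intro z hz
    obtain ⟨k, a, e⟩ := H _ (hsint z hz)
    exact ⟨k, hsint z hz, a, e⟩
  choose! k hk' using hk
  let n₁ := S.sup k
  have hn₁ : ∀ z ∈ S, ι (s z) * z ∈ Mn f n₁ :=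
    fun z hz => Mn_mono f (Finset.le_sup hz) (hk' z hz)
  let n := max n₀ n₁
  refine ⟨n, le_max_left _ _, ?_⟩
  -- every element integral over R_m has a multiple in M_{n}
  have hloc : ∀ y ∈ Subalgebra.toSubmodule (integralClosure Rm K),
      ∃ t : R, t ∉ m ∧ ι t * y ∈ Mn f n := by
    intro y hy
    rw [← hS] at hy
    refine Submodule.span_induction ?_ ?_ ?_ ?_ hy
    · intro z hz
      exact ⟨s z, hs z hz, Mn_mono f (le_max_right _ _) (hn₁ z hz)⟩
    · exact ⟨1, fun h1 => hm.ne_top ((Ideal.eq_top_iff_one _).mpr h1),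
        by rw [mul_zero]; exact zero_mem _⟩
    · rintro a b _ _ ⟨t₁, ht₁, h₁⟩ ⟨t₂, ht₂, h₂⟩
      refine ⟨t₁ * t₂, fun h' => ?_, ?_⟩
      · rcases hm.mem_or_mem h' with h' | h'
        · exact ht₁ h'
        · exact ht₂ h'
      · have e1 : ι (t₁ * t₂) * (a + b) = t₂ • (ι t₁ * a) + t₁ • (ι t₂ * b) := by
          rw [Algebra.smul_def, Algebra.smul_def, map_mul]
          ring
        rw [e1]
        exact add_mem (Submodule.smul_mem _ _ h₁) (Submodule.smul_mem _ _ h₂)
    · rintro c a _ ⟨t, ht, h₁⟩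
      obtain ⟨a', u, rfl⟩ := IsLocalization.exists_mk'_eq m.primeCompl c
      refine ⟨(u : R) * t, fun h' => ?_, ?_⟩
      · rcases hm.mem_or_mem h' with h' | h'
        · exact u.2 h'
        · exact ht h'
      · have e1 : ι ((u : R) * t) * (IsLocalization.mk' Rm a' u • a) = a' • (ι t * a) := by
          rw [map_mul, mul_comm (ι (u : R)) (ι t), mul_assoc, algebraMap_mul_mk'_smul,
            Algebra.smul_def]
          ring
        rw [e1]
        exact Submodule.smul_mem _ _ h₁
  -- apply to M_{n+1}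
  have hMle : ∀ y ∈ Mn f (n + 1), ∃ t : R, t ∉ m ∧ ι t * y ∈ Mn f n := by
    intro y hy
    apply hloc
    change IsIntegral Rm y
    exact hy.1.tower_top
  obtain ⟨t, ht, htM⟩ := exists_common_denominator m (Mn f (n + 1)) (Mn f n) (Mn_fg hf _) hMle
  intro hle
  exact ht (hle (mem_Jn.mpr htM))

end Local

/-- Finiteness of the integral closure from generic normality and the local N-1 property. -/
theorem finite_integralClosure [IsNoetherianRing R] {f : R} (hf : f ≠ 0)
    (H : ∀ x : FractionRing R, IsIntegral R x → ∃ n : ℕ, ∃ a : R, ι (f ^ n) * x = ι a)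
    (hloc : ∀ (m : Ideal R) [m.IsMaximal], (Subalgebra.toSubmodule
      (integralClosure (Localization.AtPrime m) (FractionRing R))).FG) :
    (Subalgebra.toSubmodule (integralClosure R (FractionRing R))).FG := by
  obtain ⟨n₀, hn₀⟩ := monotone_stabilizes_iff_noetherian.mpr
    (inferInstance : IsNoetherian R R) ⟨Jn f, Jn_mono hf⟩
  have htop : Jn f n₀ = ⊤ := by
    by_contra hne
    obtain ⟨m, hm, hle⟩ := Ideal.exists_le_maximal _ hne
    obtain ⟨n, hn, hnle⟩ := exists_Jn_not_le m hf H (hloc m) n₀
    apply hnle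
    have : Jn f n₀ = Jn f n := hn₀ n hn
    rw [← this]
    exact hle
  have heq : Subalgebra.toSubmodule (integralClosure R K) = Mn f n₀ := by
    apply le_antisymm
    · intro y hy
      have hyint : IsIntegral R y := hy
      obtain ⟨k, a, e⟩ := H y hyint
      have h1 : y ∈ Mn f (n₀ + k) := Mn_mono f (Nat.le_add_left k n₀) ⟨hyint, a, e⟩
      exact Mn_le_of_Jn_eq_top hf htop k h1
    · intro y hy
      exact hy.1
  rw [heq]
  exact Mn_fg hf n₀

/-- `R_f` is integrally closed once all integral elements have denominators powers of `f`. -/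
theorem isIntegrallyClosed_away {f : R} (hf : f ≠ 0)
    (H : ∀ x : FractionRing R, IsIntegral R x → ∃ n : ℕ, ∃ a : R, ι (f ^ n) * x = ι a) :
    IsIntegrallyClosed (Localization.Away f) := by
  let S := Localization.Away f
  have hinj : Function.Injective ι := IsFractionRing.injective R K
  have hunit : IsUnit (ι f) := by
    rw [isUnit_iff_ne_zero]
    intro h0
    exact hf (hinj (by rw [h0, map_zero]))
  let g : S →+* K := IsLocalization.Away.lift f (g := ι) hunit
  let _ := g.toAlgebra
  have : IsScalarTower R S K := IsScalarTower.of_algebraMap_eq (fun r => by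
    rw [RingHom.algebraMap_toAlgebra]
    exact (IsLocalization.Away.lift_eq f hunit r).symm)
  have := IsFractionRing.isFractionRing_of_isDomain_of_isLocalization (Submonoid.powers f) S K
  refine (isIntegrallyClosed_iff K).mpr ?_
  intro z hz
  obtain ⟨⟨d, k, rfl⟩, hdz⟩ :=
    IsIntegral.exists_multiple_integral_of_isLocalization (Submonoid.powers f) z hz
  have hdz' : IsIntegral R (ι (f ^ k) * z) := by
    have h := hdz
    rw [Submonoid.smul_def, Algebra.smul_def] at h
    exact h
  obtain ⟨n, a, e⟩ := H _ hdz'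
  have hmem : f ^ (n + k) ∈ Submonoid.powers f := ⟨n + k, rfl⟩
  refine ⟨IsLocalization.mk' S a ⟨f ^ (n + k), hmem⟩, ?_⟩
  have hne : ι (f ^ (n + k)) ≠ 0 := fun h0 =>
    pow_ne_zero _ hf (hinj (by rw [h0, map_zero]))
  apply mul_left_cancel₀ hne
  have e1 : ι (f ^ (n + k)) * algebraMap S K (IsLocalization.mk' S a ⟨f ^ (n + k), hmem⟩) = ι a := by
    rw [IsScalarTower.algebraMap_apply R S K (f ^ (n + k)), ← map_mul,
      IsLocalization.mk'_spec'_mk, ← IsScalarTower.algebraMap_apply]
  rw [e1, ← e, pow_add, map_mul, mul_assoc]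

/-- A common denominator for a finitely generated module of fractions. -/
theorem exists_denominator (N : Submodule R (FractionRing R)) (hN : N.FG) :
    ∃ f : R, f ≠ 0 ∧ ∀ y ∈ N, ∃ a : R, ι f * y = ι a := by
  classical
  obtain ⟨Y, hY⟩ := hN
  have hden : ∀ y : K, ∃ d : R, d ≠ 0 ∧ ∃ a : R, ι d * y = ι a := by
    intro y
    obtain ⟨⟨a, ⟨d, hd⟩⟩, e⟩ := IsLocalization.surj (nonZeroDivisors R) y
    exact ⟨d, nonZeroDivisors.ne_zero hd, a, by rw [mul_comm]; exact e⟩
  choose d hd a ha using hden
  refine ⟨∏ y ∈ Y, d y, Finset.prod_ne_zero_iff.mpr (fun y _ => hd y), ?_⟩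
  intro y hy
  rw [← hY] at hy
  refine Submodule.span_induction ?_ ?_ ?_ ?_ hy
  · intro z hz
    have hzY : z ∈ Y := hz
    refine ⟨(∏ y ∈ Y.erase z, d y) * a z, ?_⟩
    rw [← Finset.prod_erase_mul Y d hzY, map_mul, mul_assoc, ha z, map_mul]
  · exact ⟨0, by rw [mul_zero, map_zero]⟩
  · rintro x y _ _ ⟨a₁, e₁⟩ ⟨a₂, e₂⟩
    exact ⟨a₁ + a₂, by rw [mul_add, e₁, e₂, map_add]⟩
  · rintro c x _ ⟨a₁, e₁⟩
    exact ⟨c * a₁, by rw [Algebra.smul_def, mul_left_comm, e₁, map_mul]⟩

/-- The integral closure of `R_m` in `K` is spanned by that of `R`. -/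
theorem fg_local_of_fg (m : Ideal R) [hm : m.IsPrime]
    (hfin : (Subalgebra.toSubmodule (integralClosure R (FractionRing R))).FG) :
    (Subalgebra.toSubmodule
      (integralClosure (Localization.AtPrime m) (FractionRing R))).FG := by
  let Rm := Localization.AtPrime m
  obtain ⟨X, hX⟩ := hfin
  refine ⟨X, ?_⟩
  apply le_antisymm
  · rw [Submodule.span_le]
    intro x hx
    have hxint : IsIntegral R x := by
      have : x ∈ Subalgebra.toSubmodule (integralClosure R K) := hX ▸ Submodule.subset_span hx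
      exact this
    change IsIntegral Rm x
    exact hxint.tower_top
  · intro z hz
    have hzint : IsIntegral Rm z := hz
    obtain ⟨⟨s, hs⟩, hsz⟩ :=
      IsIntegral.exists_multiple_integral_of_isLocalization m.primeCompl z hzint
    rw [Submonoid.mk_smul] at hsz
    have h1 : s • z ∈ Submodule.span R (X : Set K) := by
      rw [hX]
      exact hsz
    have h2 : s • z ∈ Submodule.span Rm (X : Set K) :=
      Submodule.span_le_restrictScalars R Rm (X : Set K) h1
    have h3 : (IsLocalization.mk' Rm (1 : R) (⟨s, hs⟩ : m.primeCompl)) • (s • z) = z := by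
      have hsne : ι s ≠ 0 := by
        intro h0
        have : s = 0 := (IsFractionRing.injective R K) (by rw [h0, map_zero])
        exact hs (this ▸ zero_mem _)
      apply mul_left_cancel₀ hsne
      have := algebraMap_mul_mk'_smul m (1 : R) (⟨s, hs⟩ : m.primeCompl) (s • z)
      rw [this, map_one, one_mul, Algebra.smul_def]
    rw [← h3]
    exact Submodule.smul_mem _ _ h2

/-- The N-1 property read inside an arbitrary fraction field. -/
theorem isN1_iff' (B : Type u) [CommRing B] [IsDomain B] (L : Type u) [Field L] [Algebra B L]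
    [IsFractionRing B L] :
    CAlg.IsN1 B ↔ (Subalgebra.toSubmodule (integralClosure B L)).FG := by
  let e : FractionRing B ≃ₐ[B] L := FractionRing.algEquiv B L
  have h1 : Module.Finite B (integralClosure B (FractionRing B)) ↔
      Module.Finite B (integralClosure B L) :=
    ⟨fun _ => Module.Finite.equiv (e.mapIntegralClosure).toLinearEquiv,
     fun _ => Module.Finite.equiv (e.mapIntegralClosure).symm.toLinearEquiv⟩
  have h2 : Module.Finite B (integralClosure B L) ↔
      (Subalgebra.toSubmodule (integralClosure B L)).FG :=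
    Module.Finite.iff_fg (N := Subalgebra.toSubmodule (integralClosure B L))
  unfold CAlg.IsN1
  exact h1.trans h2

/-- The N-1 property of `R_m` read inside the fraction field of `R`. -/
theorem isN1_localization_iff (m : Ideal R) [hm : m.IsPrime] :
    CAlg.IsN1 (Localization.AtPrime m) ↔ (Subalgebra.toSubmodule
      (integralClosure (Localization.AtPrime m) (FractionRing R))).FG :=
  isN1_iff' (Localization.AtPrime m) (FractionRing R)

theorem isN1_iff : CAlg.IsN1 R ↔ (Subalgebra.toSubmodule (integralClosure R (FractionRing R))).FG :=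
  isN1_iff' R (FractionRing R)

end Groth.Agent.H15.N1
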