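import Groth.Agent.H15.FamCyc
import Mathlib.RingTheory.DiscreteValuationRing.TFAE
import Mathlib.RingTheory.Polynomial.ScaleRoots
import Mathlib.RingTheory.Localization.Integral
import Mathlib.RingTheory.LocalProperties.Reduced
import Mathlib.RingTheory.Ideal.KrullsHeightTheorem
import Mathlib.RingTheory.RegularLocalRing.Defs
import Mathlib.RingTheory.KrullDimension.Basic
import Mathlib.Algebra.Polynomial.Lifts
import Mathlib.Tactic

/-!
# Serre's criterion for normality

For a Noetherian ring `R`: all local rings `R_p` are integrally closed domains if and only if `R`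
satisfies `(R₁)` and `(S₂)`.

* `hasRk_hasSk_of_normal`: normal ⇒ `(R₁)` and `(S₂)`;
* `mem_span_of_forall_height_le_one`: for a ring with `(S₂)` and a nonzerodivisor `a`, membership in
  `aR` can be tested at the primes of height at most one;
* `mem_span_of_scaleRoots_eval`: a ring with `(R₁)`, `(S₂)` is integrally closed in its total ring of
  fractions (formulated with `Polynomial.scaleRoots`);
* `normal_of_hasRk_hasSk`: `(R₁)` and `(S₂)` ⇒ every `R_P` is an integrally closed domain.
-/

set_option autoImplicit false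

universe u

open scoped Pointwise
open IsLocalRing Polynomial

namespace Groth.Agent.H15.SerreNormal

open Groth.Agent.H15.Depth

section ICDom

variable {D : Type*} [CommRing D] [IsDomain D]

/-- In an integrally closed domain, a root `b` of the `a`-scaled version of a monic polynomial is a
multiple of `a`. -/
theorem dvd_of_scaleRoots_eval [IsIntegrallyClosed D] {a b : D} (ha : a ≠ 0) {p : D[X]}
    (hp : p.Monic) (h : (p.scaleRoots a).eval b = 0) : ∃ c, b = a * c := by
  have hinj := IsFractionRing.injective D (FractionRing D)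
  have hfa : algebraMap D (FractionRing D) a ≠ 0 :=
    fun h0 => ha (hinj (h0.trans (map_zero _).symm))
  have h2 : algebraMap D (FractionRing D) a *
      (algebraMap D (FractionRing D) b / algebraMap D (FractionRing D) a) =
      algebraMap D (FractionRing D) b := by
    field_simp
  have h1 := scaleRoots_eval₂_mul (p := p) (algebraMap D (FractionRing D))
    (algebraMap D (FractionRing D) b / algebraMap D (FractionRing D) a) a
  rw [h2, eval₂_at_apply, h, map_zero] at h1
  have h3 := (mul_eq_zero.mp h1.symm).resolve_left (pow_ne_zero _ hfa)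
  obtain ⟨c, hc⟩ := IsIntegrallyClosed.algebraMap_eq_of_integral (R := D)
    (K := FractionRing D) ⟨p, hp, h3⟩
  refine ⟨c, hinj ?_⟩
  rw [map_mul, hc, h2]

end ICDom

section Principal

variable {A : Type*} [CommRing A] [IsLocalRing A] [IsNoetherianRing A]

/-- In a Noetherian local ring with principal maximal ideal `(π)`, every nonzero element is a unit
times a power of `π`. -/
theorem exists_unit_mul_pow {π : A} (hπ : maximalIdeal A = Ideal.span {π}) {x : A} (hx : x ≠ 0) :
    ∃ (k : ℕ) (u : A), IsUnit u ∧ x = u * π ^ k := by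
  have hinf := Ideal.iInf_pow_eq_bot_of_isLocalRing (maximalIdeal A)
    (maximalIdeal.isMaximal A).ne_top
  have hex : ∃ k, x ∉ maximalIdeal A ^ k := by
    by_contra hcon
    push Not at hcon
    apply hx
    have hmem : x ∈ ⨅ i : ℕ, maximalIdeal A ^ i := by
      rw [Ideal.mem_iInf]
      exact hcon
    rw [hinf] at hmem
    exact Ideal.mem_bot.mp hmem
  obtain ⟨k, hk⟩ := hex
  induction k with
  | zero =>
    exfalso
    apply hk
    rw [pow_zero, Ideal.one_eq_top]
    trivial
  | succ k ih =>
    by_cases hxk : x ∈ maximalIdeal A ^ k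
    · rw [hπ, Ideal.span_singleton_pow, Ideal.mem_span_singleton'] at hxk
      obtain ⟨u, hu⟩ := hxk
      by_cases huu : IsUnit u
      · exact ⟨k, u, huu, hu.symm⟩
      · exfalso
        apply hk
        have hum : u ∈ maximalIdeal A := (mem_maximalIdeal u).mpr huu
        rw [hπ, Ideal.mem_span_singleton'] at hum
        obtain ⟨v, hv⟩ := hum
        rw [hπ, Ideal.span_singleton_pow, Ideal.mem_span_singleton']
        exact ⟨v, by rw [← hu, ← hv, pow_succ]; ring⟩
    · exact ih hxk

/-- A reduced Noetherian local ring with principal maximal ideal is a domain. -/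
theorem isDomain_of_isReduced_of_principal [IsReduced A] {π : A}
    (hπ : maximalIdeal A = Ideal.span {π}) : IsDomain A := by
  have hnzd : NoZeroDivisors A := by
    constructor
    intro x y hxy
    by_contra hcon
    push Not at hcon
    obtain ⟨hx, hy⟩ := hcon
    obtain ⟨j, u, hu, hxe⟩ := exists_unit_mul_pow hπ hx
    obtain ⟨k, v, hv, hye⟩ := exists_unit_mul_pow hπ hy
    have h1 : (u * v) * π ^ (j + k) = 0 := by
      rw [← hxy, hxe, hye, pow_add]
      ring
    have h2 : π ^ (j + k) = 0 := ((hu.mul hv).mul_right_eq_zero).mp h1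
    have h3 : π = 0 := IsNilpotent.eq_zero ⟨j + k, h2⟩
    rcases Nat.eq_zero_or_pos j with hj | hj
    · rcases Nat.eq_zero_or_pos k with hk | hk
      · rw [hxe, hye, hj, hk, pow_zero, mul_one, mul_one] at hxy
        exact (hu.mul hv).ne_zero hxy
      · apply hy
        rw [hye, h3, zero_pow hk.ne', mul_zero]
    · apply hx
      rw [hxe, h3, zero_pow hj.ne', mul_zero]
  exact NoZeroDivisors.to_isDomain A

/-- A Noetherian local domain with principal maximal ideal is integrally closed. -/
theorem isIntegrallyClosed_of_principal [IsDomain A] {π : A}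
    (hπ : maximalIdeal A = Ideal.span {π}) : IsIntegrallyClosed A := by
  have hp : (maximalIdeal A).IsPrincipal := ⟨⟨π, hπ⟩⟩
  have h43 : (maximalIdeal A).IsPrincipal → (IsIntegrallyClosed A ∧
      ∀ P : Ideal A, P ≠ ⊥ → P.IsPrime → P = maximalIdeal A) :=
    ((tfae_of_isNoetherianRing_of_isLocalRing_of_isDomain A).out 4 3).mp
  exact (h43 hp).1

end Principal

/-- A regular local ring of dimension at most one has principal maximal ideal. -/
theorem exists_maximalIdeal_eq_span_singleton (B : Type*) [CommRing B] [IsRegularLocalRing B]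
    (h : ringKrullDim B ≤ 1) : ∃ π : B, maximalIdeal B = Ideal.span {π} := by
  have hfg : (maximalIdeal B).FG := IsNoetherian.noetherian _
  have h1 : ((maximalIdeal B).spanFinrank : WithBot ℕ∞) ≤ 1 := by
    rw [IsRegularLocalRing.spanFinrank_maximalIdeal]
    exact h
  have h2 : (maximalIdeal B).spanFinrank ≤ 1 := by exact_mod_cast h1
  have hgen := Submodule.FG.generators_ncard hfg
  have hspan := Submodule.span_generators (maximalIdeal B)
  have hfin := Submodule.FG.finite_generators hfg
  rw [← hgen] at h2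
  rcases (Set.ncard_le_one_iff_eq hfin).mp h2 with h0 | ⟨π, hπ⟩
  · refine ⟨0, ?_⟩
    rw [← hspan, h0]
    simp
  · refine ⟨π, ?_⟩
    rw [← hspan, hπ]

section Global

variable {R : Type u} [CommRing R] [IsNoetherianRing R]

/-- Under `(R₁)`, the local ring of a reduced Noetherian ring at a prime of height at most one is
an integrally closed domain. -/
theorem normal_of_height_le_one [IsReduced R] (hR1 : LocCoh.HasRk 1 R) (Q : Ideal R) [Q.IsPrime]
    (hQ : Q.height ≤ 1) :
    IsDomain (Localization.AtPrime Q) ∧ IsIntegrallyClosed (Localization.AtPrime Q) := by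
  have hreg : IsRegularLocalRing (Localization.AtPrime Q) := hR1 Q (by exact_mod_cast hQ)
  have hdim : ringKrullDim (Localization.AtPrime Q) ≤ 1 := by
    rw [IsLocalization.AtPrime.ringKrullDim_eq_height Q (Localization.AtPrime Q)]
    exact_mod_cast hQ
  obtain ⟨π, hπ⟩ := exists_maximalIdeal_eq_span_singleton (Localization.AtPrime Q) hdim
  have hdom : IsDomain (Localization.AtPrime Q) := isDomain_of_isReduced_of_principal hπ
  exact ⟨hdom, isIntegrallyClosed_of_principal hπ⟩

/-- In a Noetherian ring with `(S₂)`, membership in the ideal generated by a nonzerodivisor can be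
tested at the primes of height at most one. -/
theorem mem_span_of_forall_height_le_one (hS2 : LocCoh.HasSk 2 R R) {a b : R}
    (ha : IsSMulRegular R a)
    (h : ∀ (Q : Ideal R) [Q.IsPrime], Q.height ≤ 1 →
      algebraMap R (Localization.AtPrime Q) b ∈
        Ideal.span {algebraMap R (Localization.AtPrime Q) a}) :
    b ∈ Ideal.span {a} := by
  by_contra hb
  obtain ⟨c, Q, hQ, hQiff⟩ := FamCyc.exists_colon_prime (Ideal.span {a}) hb
  have hht : Q.height ≤ 1 := FamCyc.height_le_one_of_colon hS2 Q a (c * b) ha hQiff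
  have h1 := h Q hht
  have h2 : algebraMap R (Localization.AtPrime Q) b ∈
      (Ideal.span {a}).map (algebraMap R (Localization.AtPrime Q)) := by
    rw [Ideal.map_span, Set.image_singleton]
    exact h1
  obtain ⟨s, hs, hsb⟩ := (IsLocalization.algebraMap_mem_map_algebraMap_iff Q.primeCompl
    (Localization.AtPrime Q) (Ideal.span {a}) b).mp h2
  apply hs
  rw [SetLike.mem_coe, hQiff]
  have := Ideal.mul_mem_left _ c hsb
  rwa [show c * (s * b) = s * (c * b) by ring] at this

/-- A reduced Noetherian ring with `(R₁)` and `(S₂)` is integrally closed in its total ring of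
fractions. -/
theorem mem_span_of_scaleRoots_eval [IsReduced R] (hR1 : LocCoh.HasRk 1 R)
    (hS2 : LocCoh.HasSk 2 R R) {a b : R} (ha : IsSMulRegular R a) {p : R[X]} (hp : p.Monic)
    (h : (p.scaleRoots a).eval b = 0) : b ∈ Ideal.span {a} := by
  apply mem_span_of_forall_height_le_one hS2 ha
  intro Q hQ hht
  obtain ⟨hdom, hic⟩ := normal_of_height_le_one hR1 Q hht
  have hfa : algebraMap R (Localization.AtPrime Q) a ≠ 0 := by
    intro h0
    obtain ⟨s, hs⟩ :=
      (IsLocalization.map_eq_zero_iff Q.primeCompl (Localization.AtPrime Q) a).mp h0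
    have hs0 : (s : R) = 0 := ha (show a • (s : R) = a • (0 : R) by
      rw [smul_eq_mul, smul_eq_mul, mul_zero, mul_comm]
      exact hs)
    exact s.2 (hs0 ▸ Q.zero_mem)
  have hmonic : (p.map (algebraMap R (Localization.AtPrime Q))).Monic := hp.map _
  have heval : ((p.map (algebraMap R (Localization.AtPrime Q))).scaleRoots
      (algebraMap R (Localization.AtPrime Q) a)).eval
        (algebraMap R (Localization.AtPrime Q) b) = 0 := by
    rw [← map_scaleRoots p a (algebraMap R (Localization.AtPrime Q))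
      (by rw [hp.leadingCoeff, map_one]; exact one_ne_zero), eval_map_apply, h, map_zero]
  obtain ⟨c, hc⟩ := dvd_of_scaleRoots_eval hfa hmonic heval
  rw [hc]
  exact Ideal.mul_mem_right _ _ (Ideal.subset_span (Set.mem_singleton _))

end Global

section MinPrimes

variable {R : Type u} [CommRing R]

theorem eq_zero_of_forall_minimalPrimes [IsReduced R] {y : R}
    (h : ∀ q ∈ minimalPrimes R, y ∈ q) : y = 0 :=
  (mem_nilradical.mp (FamCyc.mem_nilradical_of_forall_minimalPrimes h)).eq_zero

theorem isSMulRegular_of_notMem_minimalPrimes [IsReduced R] {a : R}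
    (ha : ∀ q ∈ minimalPrimes R, a ∉ q) : IsSMulRegular R a := by
  intro x y hxy
  have hxy' : a * x = a * y := hxy
  have h0 : a * (x - y) = 0 := by rw [mul_sub, hxy', sub_self]
  have h1 : x - y = 0 := eq_zero_of_forall_minimalPrimes (fun q hq => by
    have hq' : q.IsPrime := hq.1.1
    have hmem : a * (x - y) ∈ q := by rw [h0]; exact q.zero_mem
    exact (hq'.mem_or_mem hmem).resolve_left (ha q hq))
  exact sub_eq_zero.mp h1

/-- Prime avoidance: a minimal prime has an element outside all other minimal primes. -/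
theorem exists_mem_notMem_other [IsNoetherianRing R] {p₁ : Ideal R}
    (hp₁ : p₁ ∈ minimalPrimes R) :
    ∃ v ∈ p₁, ∀ q ∈ minimalPrimes R, q ≠ p₁ → v ∉ q := by
  classical
  by_contra hcon
  push Not at hcon
  have hfin := minimalPrimes.finite_of_isNoetherianRing R
  have hsub : (p₁ : Set R) ⊆ ⋃ q ∈ ((hfin.toFinset.erase p₁ : Finset (Ideal R)) : Set (Ideal R)),
      ((fun q : Ideal R => q) q : Set R) := by
    intro t ht
    obtain ⟨q, hq, hne, htq⟩ := hcon t ht
    simp only [Set.mem_iUnion]
    exact ⟨q, Finset.mem_coe.mpr (Finset.mem_erase.mpr ⟨hne, hfin.mem_toFinset.mpr hq⟩), htq⟩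
  obtain ⟨q, hq, hpq⟩ := (Ideal.subset_union_prime (f := fun q : Ideal R => q) ⊥ ⊥
    (fun q hq _ _ => ((hfin.mem_toFinset).mp (Finset.mem_of_mem_erase hq)).1.1)).mp hsub
  have hq' := Finset.mem_erase.mp hq
  have hqmin : q ∈ minimalPrimes R := hfin.mem_toFinset.mp hq'.2
  have hp₁' : p₁.IsPrime := hp₁.1.1
  have hle : q ≤ p₁ := hqmin.2 ⟨hp₁', bot_le⟩ hpq
  exact hq'.1 (le_antisymm hle hpq)

/-- If no minimal prime other than `p₁` lies in the prime `J`, some element outside `J` lies in all
minimal primes other than `p₁`. -/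
theorem exists_notMem_mem_other [IsNoetherianRing R] (J : Ideal R) [hJ : J.IsPrime] (p₁ : Ideal R)
    (h : ∀ q ∈ minimalPrimes R, q ≠ p₁ → ¬ q ≤ J) :
    ∃ w, w ∉ J ∧ ∀ q ∈ minimalPrimes R, q ≠ p₁ → w ∈ q := by
  classical
  have hfin := minimalPrimes.finite_of_isNoetherianRing R
  have hnle : ¬ (hfin.toFinset.erase p₁).inf (fun q : Ideal R => q) ≤ J := by
    intro hle
    obtain ⟨q, hq, hqJ⟩ := (Ideal.IsPrime.inf_le' hJ).mp hle
    have hq' := Finset.mem_erase.mp hq
    exact h q (hfin.mem_toFinset.mp hq'.2) hq'.1 hqJ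
  obtain ⟨w, hw, hwJ⟩ := SetLike.not_le_iff_exists.mp hnle
  refine ⟨w, hwJ, fun q hq hne => ?_⟩
  have hmem : q ∈ hfin.toFinset.erase p₁ :=
    Finset.mem_erase.mpr ⟨hne, hfin.mem_toFinset.mpr hq⟩
  exact (Finset.inf_le (f := fun q : Ideal R => q) hmem) hw

end MinPrimes

section Unique

variable {R : Type u} [CommRing R] [IsNoetherianRing R] [IsReduced R]

/-- Under `(R₁)` and `(S₂)`, a prime contains exactly one minimal prime. -/
theorem minimalPrime_unique_of_le (hR1 : LocCoh.HasRk 1 R) (hS2 : LocCoh.HasSk 2 R R)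
    (P : Ideal R) [hP : P.IsPrime] {p₁ p₂ : Ideal R} (hp₁ : p₁ ∈ minimalPrimes R)
    (hp₂ : p₂ ∈ minimalPrimes R) (h₁ : p₁ ≤ P) (h₂ : p₂ ≤ P) : p₂ = p₁ := by
  by_contra hne
  have hp₁' : p₁.IsPrime := hp₁.1.1
  have hp₂' : p₂.IsPrime := hp₂.1.1
  obtain ⟨v, hv, hvq⟩ := exists_mem_notMem_other hp₁
  obtain ⟨u, hu, huq⟩ := exists_notMem_mem_other p₁ p₁
    (fun q hq hqne hle => hqne (le_antisymm hle (hp₁.2 ⟨hq.1.1, bot_le⟩ hle)))
  have huv : u * v = 0 := eq_zero_of_forall_minimalPrimes (fun q hq => by
    by_cases hq1 : q = p₁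
    · rw [hq1]
      exact Ideal.mul_mem_left _ _ hv
    · exact Ideal.mul_mem_right _ _ (huq q hq hq1))
  have hareg : IsSMulRegular R (u + v) := isSMulRegular_of_notMem_minimalPrimes
    (fun q hq hmem => by
      by_cases hq1 : q = p₁
      · rw [hq1] at hmem
        apply hu
        have := p₁.sub_mem hmem hv
        rwa [add_sub_cancel_right] at this
      · apply hvq q hq hq1
        have := q.sub_mem hmem (huq q hq hq1)
        rwa [add_sub_cancel_left] at this)
  have hmem : u ∈ Ideal.span {u + v} := by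
    apply mem_span_of_forall_height_le_one hS2 hareg
    intro Q hQ hht
    obtain ⟨hdom, -⟩ := normal_of_height_le_one hR1 Q hht
    have h0 : algebraMap R (Localization.AtPrime Q) u *
        (algebraMap R (Localization.AtPrime Q) u -
          algebraMap R (Localization.AtPrime Q) (u + v)) = 0 := by
      rw [← map_sub, ← map_mul]
      have e : u * (u - (u + v)) = -(u * v) := by ring
      rw [e, huv, neg_zero, map_zero]
    rcases mul_eq_zero.mp h0 with h1 | h1
    · rw [h1]
      exact zero_mem _
    · rw [sub_eq_zero.mp h1]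
      exact Ideal.subset_span (Set.mem_singleton _)
  obtain ⟨c, hc⟩ := Ideal.mem_span_singleton'.mp hmem
  have e : u * (1 - c) = c * v := by linear_combination (-1 : R) * hc
  have h1c : 1 - c ∈ p₁ := by
    have h3 : u * (1 - c) ∈ p₁ := by
      rw [e]
      exact Ideal.mul_mem_left _ _ hv
    exact (hp₁'.mem_or_mem h3).resolve_left hu
  have hc2 : c ∈ p₂ := by
    have h3 : c * v ∈ p₂ := by
      rw [← e]
      exact Ideal.mul_mem_right _ _ (huq p₂ hp₂ hne)
    exact (hp₂'.mem_or_mem h3).resolve_right (hvq p₂ hp₂ hne)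
  have h1 : (1 : R) ∈ P := by
    have := P.add_mem (h₁ h1c) (h₂ hc2)
    rwa [sub_add_cancel] at this
  exact hP.ne_top ((Ideal.eq_top_iff_one P).mpr h1)

end Unique

section IntegralAux

variable {R : Type u} [CommRing R] [IsNoetherianRing R] [IsReduced R]

/-- Key step: elements of the fraction field of `R_P` integral over `R_P` lie in `R_P`. -/
theorem exists_algebraMap_eq_of_isIntegral (hR1 : LocCoh.HasRk 1 R) (hS2 : LocCoh.HasSk 2 R R)
    (P : Ideal R) [P.IsPrime] (D : Type u) [CommRing D] [Algebra R D] [IsLocalization.AtPrime D P]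
    [IsDomain D] (K : Type u) [Field K] [Algebra D K] [IsFractionRing D K] [Algebra R K]
    [IsScalarTower R D K] {p₁ : Ideal R} (hp₁' : p₁.IsPrime) (w v : R) (hwP : w ∉ P)
    (hwq : ∀ q ∈ minimalPrimes R, q ≠ p₁ → w ∈ q) (hv : v ∈ p₁)
    (hvq : ∀ q ∈ minimalPrimes R, q ≠ p₁ → v ∉ q) (hp₁P : p₁ ≤ P)
    (hker : ∀ y, algebraMap R D y = 0 ↔ y ∈ p₁) (x : K) (hx : IsIntegral D x) :
    ∃ y, algebraMap D K y = x := by
  have hkinj : Function.Injective (algebraMap D K) := IsFractionRing.injective D K
  have hfz : ∀ z : R, algebraMap R K z = algebraMap D K (algebraMap R D z) :=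
    fun z => IsScalarTower.algebraMap_apply R D K z
  have hf0 : ∀ z : R, algebraMap R K z = 0 ↔ z ∈ p₁ := by
    intro z
    rw [hfz, ← hker z]
    exact map_eq_zero_iff _ hkinj
  have hfunit : ∀ z : R, z ∉ P → algebraMap R K z ≠ 0 :=
    fun z hz h0 => hz (hp₁P ((hf0 z).mp h0))
  obtain ⟨m, hm⟩ := IsIntegral.exists_multiple_integral_of_isLocalization P.primeCompl x hx
  obtain ⟨q, hq, hq0⟩ := hm
  rw [Submonoid.smul_def, Algebra.smul_def] at hq0
  obtain ⟨d₁, d₂, hd₂, hxd⟩ := IsFractionRing.div_surjective D x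
  obtain ⟨β, s₁, hβ⟩ := IsLocalization.exists_mk'_eq P.primeCompl d₁
  obtain ⟨α, s₂, hα⟩ := IsLocalization.exists_mk'_eq P.primeCompl d₂
  have hd₂0 : algebraMap D K d₂ ≠ 0 :=
    fun h0 => (nonZeroDivisors.ne_zero hd₂) (hkinj (h0.trans (map_zero _).symm))
  have F1 : algebraMap D K d₁ * algebraMap R K s₁ = algebraMap R K β := by
    rw [hfz, hfz, ← map_mul, ← hβ, IsLocalization.mk'_spec]
  have F2 : algebraMap D K d₂ * algebraMap R K s₂ = algebraMap R K α := by
    rw [hfz, hfz, ← map_mul, ← hα, IsLocalization.mk'_spec]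
  have F3 : x * algebraMap R K α * algebraMap R K s₁ = algebraMap R K β * algebraMap R K s₂ := by
    rw [← hxd, ← F1, ← F2]
    field_simp
  have hα0 : algebraMap R K α ≠ 0 := by
    rw [← F2]
    exact mul_ne_zero hd₂0 (hfunit s₂ s₂.2)
  have hαp : α ∉ p₁ := fun h => hα0 ((hf0 α).mpr h)
  have hfa : algebraMap R K (s₁ * α * w + v) =
      algebraMap R K s₁ * algebraMap R K α * algebraMap R K w := by
    rw [map_add, map_mul, map_mul, (hf0 v).mpr hv, add_zero]
  have hfa0 : algebraMap R K (s₁ * α * w + v) ≠ 0 := by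
    rw [hfa]
    exact mul_ne_zero (mul_ne_zero (hfunit s₁ s₁.2) hα0) (hfunit w hwP)
  have hareg : IsSMulRegular R (s₁ * α * w + v) := isSMulRegular_of_notMem_minimalPrimes
    (fun q hq hmem => by
      by_cases hq1 : q = p₁
      · rw [hq1] at hmem
        have h1 : (s₁ : R) * α * w ∈ p₁ := by
          have := p₁.sub_mem hmem hv
          rwa [add_sub_cancel_right] at this
        rcases hp₁'.mem_or_mem h1 with h2 | h2
        · rcases hp₁'.mem_or_mem h2 with h3 | h3
          · exact s₁.2 (hp₁P h3)
          · exact hαp h3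
        · exact hwP (hp₁P h2)
      · apply hvq q hq hq1
        have h1 : (s₁ : R) * α * w ∈ q := Ideal.mul_mem_left _ _ (hwq q hq hq1)
        have := q.sub_mem hmem h1
        rwa [add_sub_cancel_left] at this)
  have F4 : algebraMap R K (s₁ * α * w + v) * (algebraMap R K m * x) =
      algebraMap R K (w * m * β * s₂) := by
    rw [hfa, map_mul, map_mul, map_mul]
    linear_combination (algebraMap R K w * algebraMap R K m) * F3
  have h1 := scaleRoots_eval₂_mul (p := q) (algebraMap R K) (algebraMap R K m * x)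
    (s₁ * α * w + v)
  rw [F4, hq0, mul_zero, eval₂_at_apply] at h1
  have hE : (q.scaleRoots (s₁ * α * w + v)).eval (w * m * β * s₂) ∈ p₁ := (hf0 _).mp h1
  have hwE : w * (q.scaleRoots (s₁ * α * w + v)).eval (w * m * β * s₂) = 0 :=
    eq_zero_of_forall_minimalPrimes (fun r hr => by
      by_cases hr1 : r = p₁
      · rw [hr1]
        exact Ideal.mul_mem_left _ _ hE
      · exact Ideal.mul_mem_right _ _ (hwq r hr hr1))
  have hn : q.natDegree ≠ 0 := by
    intro hn
    have hq1 : q = 1 := eq_one_of_monic_natDegree_zero hq hn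
    rw [hq1, one_scaleRoots, eval_one] at hE
    exact hp₁'.ne_top ((Ideal.eq_top_iff_one p₁).mpr hE)
  obtain ⟨k, hk⟩ := Nat.exists_eq_succ_of_ne_zero hn
  have h2 := scaleRoots_eval_mul (q.scaleRoots (s₁ * α * w + v)) (w * m * β * s₂) w
  have h3 : w ^ (q.scaleRoots (s₁ * α * w + v)).natDegree *
      eval (w * m * β * s₂) (q.scaleRoots (s₁ * α * w + v)) = 0 := by
    rw [natDegree_scaleRoots, hk, pow_succ, mul_assoc (w ^ k) w, hwE, mul_zero]
  rw [h3] at h2
  have h4 : ((q.scaleRoots w).scaleRoots (s₁ * α * w + v)).eval (w * (w * m * β * s₂)) = 0 := by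
    rw [← scaleRoots_mul, mul_comm w (s₁ * α * w + v), scaleRoots_mul]
    exact h2
  have hmem := mem_span_of_scaleRoots_eval hR1 hS2 hareg ((monic_scaleRoots_iff w).mpr hq) h4
  obtain ⟨c, hc⟩ := Ideal.mem_span_singleton'.mp hmem
  have hc' : algebraMap R K c * algebraMap R K (s₁ * α * w + v) =
      algebraMap R K w * algebraMap R K (w * m * β * s₂) := by
    rw [← map_mul, ← map_mul, hc]
  have hfc : algebraMap R K c = algebraMap R K w * algebraMap R K m * x := by
    apply mul_left_cancel₀ hfa0
    rw [mul_comm, hc', ← F4]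
    ring
  have hwm : algebraMap R K w * algebraMap R K m ≠ 0 :=
    mul_ne_zero (hfunit w hwP) (hfunit m m.2)
  refine ⟨IsLocalization.mk' D c (⟨w, hwP⟩ * m : P.primeCompl), ?_⟩
  apply mul_right_cancel₀ hwm
  have F5 : algebraMap D K (IsLocalization.mk' D c (⟨w, hwP⟩ * m : P.primeCompl)) *
      (algebraMap R K w * algebraMap R K m) = algebraMap R K c := by
    rw [← map_mul (algebraMap R K), hfz, hfz c, ← map_mul]
    congr 1
    have := IsLocalization.mk'_spec D c (⟨w, hwP⟩ * m : P.primeCompl)
    rwa [Submonoid.coe_mul] at this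
  rw [F5, hfc]
  ring

end IntegralAux

section Main

variable {R : Type u} [CommRing R] [IsNoetherianRing R]

/-- `(R₁)` and `(S₂)` imply that every local ring is an integrally closed domain. -/
theorem normal_of_hasRk_hasSk (hR1 : LocCoh.HasRk 1 R) (hS2 : LocCoh.HasSk 2 R R)
    (P : Ideal R) [hP : P.IsPrime] :
    IsDomain (Localization.AtPrime P) ∧ IsIntegrallyClosed (Localization.AtPrime P) := by
  have h12 : ((1 : ℕ) : WithBot ℕ∞) ≤ ((2 : ℕ) : WithBot ℕ∞) := by
    have e1 : ((1 : ℕ) : WithBot ℕ∞) = (((1 : ℕ) : ℕ∞) : WithBot ℕ∞) := rfl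
    have e2 : ((2 : ℕ) : WithBot ℕ∞) = (((2 : ℕ) : ℕ∞) : WithBot ℕ∞) := rfl
    rw [e1, e2, WithBot.coe_le_coe]
    exact_mod_cast (by norm_num : (1 : ℕ) ≤ 2)
  have hred : IsReduced R := (Groth.Agent.S0602.result R).mpr
    ⟨fun p _ h => hR1 p (le_trans h (Nat.cast_le.mpr (Nat.zero_le 1))),
      fun p _ => le_trans (min_le_min h12 le_rfl) (hS2 p)⟩
  obtain ⟨p₁, hp₁, hp₁P⟩ := Ideal.exists_minimalPrimes_le (bot_le : (⊥ : Ideal R) ≤ P)
  have hp₁' : p₁.IsPrime := hp₁.1.1
  obtain ⟨w, hwP, hwq⟩ := exists_notMem_mem_other P p₁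
    (fun q hq hqne hle => hqne (minimalPrime_unique_of_le hR1 hS2 P hp₁ hq hp₁P hle))
  obtain ⟨v, hv, hvq⟩ := exists_mem_notMem_other hp₁
  have hker1 : ∀ y ∈ p₁, w * y = 0 := fun y hy => eq_zero_of_forall_minimalPrimes (fun q hq => by
    by_cases hq1 : q = p₁
    · rw [hq1]
      exact Ideal.mul_mem_left _ _ hy
    · exact Ideal.mul_mem_right _ _ (hwq q hq hq1))
  have hker : ∀ y, algebraMap R (Localization.AtPrime P) y = 0 ↔ y ∈ p₁ := by
    intro y
    rw [IsLocalization.map_eq_zero_iff P.primeCompl (Localization.AtPrime P) y]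
    constructor
    · rintro ⟨m, hm⟩
      have hmem : (m : R) * y ∈ p₁ := by
        rw [hm]
        exact p₁.zero_mem
      exact (hp₁'.mem_or_mem hmem).resolve_left (fun hmp => m.2 (hp₁P hmp))
    · intro hy
      exact ⟨⟨w, hwP⟩, hker1 y hy⟩
  have hdom : IsDomain (Localization.AtPrime P) := by
    have hnzd : NoZeroDivisors (Localization.AtPrime P) := by
      constructor
      intro x y hxy
      obtain ⟨ξ, s, rfl⟩ := IsLocalization.exists_mk'_eq P.primeCompl x
      obtain ⟨η, t, rfl⟩ := IsLocalization.exists_mk'_eq P.primeCompl y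
      rw [← IsLocalization.mk'_mul, IsLocalization.mk'_eq_zero_iff] at hxy
      obtain ⟨m, hm⟩ := hxy
      have h1 : (m : R) * (ξ * η) ∈ p₁ := by
        rw [hm]
        exact p₁.zero_mem
      have h2 : ξ * η ∈ p₁ := (hp₁'.mem_or_mem h1).resolve_left (fun hmp => m.2 (hp₁P hmp))
      rcases hp₁'.mem_or_mem h2 with h3 | h3
      · left
        rw [IsLocalization.mk'_eq_zero_iff]
        exact ⟨⟨w, hwP⟩, hker1 ξ h3⟩
      · right
        rw [IsLocalization.mk'_eq_zero_iff]
        exact ⟨⟨w, hwP⟩, hker1 η h3⟩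
    exact NoZeroDivisors.to_isDomain _
  refine ⟨hdom, ?_⟩
  rw [isIntegrallyClosed_iff (FractionRing (Localization.AtPrime P))]
  intro x hx
  exact exists_algebraMap_eq_of_isIntegral hR1 hS2 P (Localization.AtPrime P)
    (FractionRing (Localization.AtPrime P)) hp₁' w v hwP hwq hv hvq hp₁P hker x hx

end Main

section Converse

/-- A Noetherian local integrally closed domain: either a field, or of depth at least one and
then either of depth at least two or with maximal ideal of height at most one. -/
theorem hasSeq_of_normal (A : Type u) [CommRing A] [IsLocalRing A] [IsNoetherianRing A]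
    [IsDomain A] [IsIntegrallyClosed A] :
    maximalIdeal A = ⊥ ∨ (HasSeq (maximalIdeal A) A 1 ∧
      (HasSeq (maximalIdeal A) A 2 ∨ (maximalIdeal A).height ≤ 1)) := by
  by_cases hbot : maximalIdeal A = ⊥
  · exact Or.inl hbot
  right
  obtain ⟨a, ham, ha0⟩ := Submodule.exists_mem_ne_zero_of_ne_bot hbot
  have hreg : IsSMulRegular A a := fun x y h => mul_left_cancel₀ ha0 h
  have hseq1 : HasSeq (maximalIdeal A) A 1 := hasSeq_succ_iff.mpr ⟨a, ham, hreg, hasSeq_zero⟩
  refine ⟨hseq1, ?_⟩
  rcases exists_regular_or_hasSocle (I := maximalIdeal A) (QuotSMulTop a A) with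
    ⟨y, hy, hyreg⟩ | hsoc
  · left
    exact hasSeq_succ_iff.mpr ⟨a, ham, hreg, hasSeq_succ_iff.mpr ⟨y, hy, hyreg, hasSeq_zero⟩⟩
  · right
    obtain ⟨b, hb, hsocb⟩ := hasSocle_quotSMulTop_iff.mp hsoc
    have hb' : ∀ c : A, a * c ≠ b :=
      fun c hc => hb ((Groth.Agent.H15.DepthOne.mem_smul_top_iff a b).mpr ⟨c, hc⟩)
    have hcol : ∀ μ ∈ maximalIdeal A, ∃ c : A, a * c = μ * b := fun μ hμ => by
      obtain ⟨c, hc⟩ := (Groth.Agent.H15.DepthOne.mem_smul_top_iff a (μ • b)).mp (hsocb μ hμ)
      exact ⟨c, hc⟩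
    by_cases hall : ∀ μ ∈ maximalIdeal A, ∀ c : A, a * c = μ * b → c ∈ maximalIdeal A
    · exfalso
      have hinj := IsFractionRing.injective A (FractionRing A)
      have hfa : algebraMap A (FractionRing A) a ≠ 0 :=
        fun h0 => ha0 (hinj (h0.trans (map_zero _).symm))
      obtain ⟨x, hxdef⟩ : ∃ x : FractionRing A,
          x = algebraMap A (FractionRing A) b / algebraMap A (FractionRing A) a := ⟨_, rfl⟩
      have hxN : ∀ n ∈ Submodule.map (Algebra.linearMap A (FractionRing A)) (maximalIdeal A),
          x * n ∈ Submodule.map (Algebra.linearMap A (FractionRing A)) (maximalIdeal A) := by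
        rintro n ⟨μ, hμ, rfl⟩
        obtain ⟨c, hc⟩ := hcol μ hμ
        refine ⟨c, hall μ hμ c hc, ?_⟩
        rw [Algebra.linearMap_apply, Algebra.linearMap_apply, hxdef, div_mul_eq_mul_div,
          eq_div_iff hfa, ← map_mul, ← map_mul, mul_comm c a, hc, mul_comm]
      have hint : IsIntegral A x := by
        refine isIntegral_of_smul_mem_submodule
          (Submodule.map (Algebra.linearMap A (FractionRing A)) (maximalIdeal A)) ?_ ?_ x hxN
        · rw [Submodule.ne_bot_iff]
          exact ⟨_, ⟨a, ham, rfl⟩, hfa⟩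
        · exact Submodule.FG.map _ (IsNoetherian.noetherian _)
      obtain ⟨y, hy⟩ := IsIntegrallyClosed.algebraMap_eq_of_integral hint
      apply hb' y
      apply hinj
      rw [map_mul, hy, hxdef]
      field_simp
    · push Not at hall
      obtain ⟨μ, hμ, c, hc, hcu⟩ := hall
      have hcunit : IsUnit c := by
        by_contra hnu
        exact hcu ((mem_maximalIdeal c).mpr hnu)
      have hprin : maximalIdeal A = Ideal.span {μ} := by
        apply le_antisymm
        · intro ν hν
          obtain ⟨c', hc'⟩ := hcol ν hν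
          have h1 : a * (ν * c) = a * (μ * c') := by
            calc a * (ν * c) = ν * (a * c) := by ring
              _ = ν * (μ * b) := by rw [hc]
              _ = μ * (ν * b) := by ring
              _ = μ * (a * c') := by rw [hc']
              _ = a * (μ * c') := by ring
          have h2 : ν * c = μ * c' := mul_left_cancel₀ ha0 h1
          obtain ⟨cinv, hcinv⟩ := hcunit.exists_right_inv
          rw [Ideal.mem_span_singleton']
          refine ⟨c' * cinv, ?_⟩
          calc c' * cinv * μ = (μ * c') * cinv := by ring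
            _ = (ν * c) * cinv := by rw [h2]
            _ = ν * (c * cinv) := by ring
            _ = ν := by rw [hcinv, mul_one]
        · rw [Ideal.span_le, Set.singleton_subset_iff]
          exact hμ
      have : (Ideal.span {μ}).IsPrincipal := ⟨⟨μ, rfl⟩⟩
      have hmin : maximalIdeal A ∈ (Ideal.span {μ}).minimalPrimes := by
        rw [← hprin, Ideal.minimalPrimes_eq_subsingleton_self]
        exact Set.mem_singleton _
      exact Ideal.height_le_one_of_isPrincipal_of_mem_minimalPrimes (Ideal.span {μ})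
        (maximalIdeal A) hmin

variable {R : Type u} [CommRing R] [IsNoetherianRing R]

/-- If all local rings are integrally closed domains then `(R₁)` and `(S₂)` hold. -/
theorem hasRk_hasSk_of_normal
    (h : ∀ (p : Ideal R) [p.IsPrime], IsDomain (Localization.AtPrime p) ∧
      IsIntegrallyClosed (Localization.AtPrime p)) :
    LocCoh.HasRk 1 R ∧ LocCoh.HasSk 2 R R := by
  constructor
  · intro p hp hht
    obtain ⟨hdom, hic⟩ := h p
    have hdimA : ringKrullDim (Localization.AtPrime p) ≤ ((1 : ℕ) : WithBot ℕ∞) := by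
      rw [IsLocalization.AtPrime.ringKrullDim_eq_height p (Localization.AtPrime p)]
      exact_mod_cast hht
    have hK : Ring.KrullDimLE 1 (Localization.AtPrime p) := Ring.krullDimLE_iff.mpr hdimA
    have hprimes : ∀ P' : Ideal (Localization.AtPrime p), P' ≠ ⊥ → P'.IsPrime →
        P' = maximalIdeal (Localization.AtPrime p) :=
      fun P' h0 hP' => IsLocalRing.eq_maximalIdeal (hP'.isMaximal_of_ne_bot h0)
    have h30 : (IsIntegrallyClosed (Localization.AtPrime p) ∧
        ∀ P' : Ideal (Localization.AtPrime p), P' ≠ ⊥ → P'.IsPrime →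
          P' = maximalIdeal (Localization.AtPrime p)) →
        IsPrincipalIdealRing (Localization.AtPrime p) :=
      ((tfae_of_isNoetherianRing_of_isLocalRing_of_isDomain (Localization.AtPrime p)).out 3 0).mp
    have hpir : IsPrincipalIdealRing (Localization.AtPrime p) := h30 ⟨hic, hprimes⟩
    infer_instance
  · intro p hp
    obtain ⟨hdom, hic⟩ := h p
    rw [Groth.Agent.S0602.supportDim_locSelf]
    have tr : ∀ n : ℕ, HasSeq (maximalIdeal (Localization.AtPrime p)) (Localization.AtPrime p) n →
        ((n : ℕ) : ℕ∞) ≤ LocCoh.depth (Localization.AtPrime p) (LocalizedModule p.primeCompl R) :=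
      fun n hn => le_idealDepth_of_hasSeq
        (hn.congr (Groth.Agent.S0602.locSelfEquiv p.primeCompl).symm)
    rcases hasSeq_of_normal (Localization.AtPrime p) with hbot | ⟨h1, h2 | hht⟩
    · have hfield : IsField (Localization.AtPrime p) :=
        (IsLocalRing.isField_iff_maximalIdeal_eq).mpr hbot
      have hdim := ringKrullDim_eq_zero_of_isField hfield
      rw [IsLocalization.AtPrime.ringKrullDim_eq_height p (Localization.AtPrime p)] at hdim
      refine le_trans (min_le_right _ _) ?_
      rw [hdim]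
      exact_mod_cast zero_le
    · refine le_trans (min_le_left _ _) ?_
      have h3 := tr 2 h2
      have e2 : ((2 : ℕ) : WithBot ℕ∞) = (((2 : ℕ) : ℕ∞) : WithBot ℕ∞) := rfl
      rw [e2]
      exact WithBot.coe_le_coe.mpr h3
    · have e : (((maximalIdeal (Localization.AtPrime p)).height : ℕ∞) : WithBot ℕ∞) =
          ((p.height : ℕ∞) : WithBot ℕ∞) := by
        rw [IsLocalRing.maximalIdeal_height_eq_ringKrullDim,
          IsLocalization.AtPrime.ringKrullDim_eq_height p (Localization.AtPrime p)]
      have e' : (maximalIdeal (Localization.AtPrime p)).height = p.height :=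
        WithBot.coe_injective e
      rw [e'] at hht
      refine le_trans (min_le_right _ _) ?_
      have h3 := tr 1 h1
      exact WithBot.coe_le_coe.mpr (le_trans hht (by exact_mod_cast h3))

end Converse

end Groth.Agent.H15.SerreNormal
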