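import Groth.Agent.H29.FlatCM
import Groth.Agent.H15.SerreNormal
import Groth.Agent.H15.NormalAscent
import Groth.Agent.H15.DepthLoc
import Groth.Agent.S2659

/-!
# Flat homomorphisms of Noetherian rings: local data at a prime

For a flat homomorphism `A → B` of Noetherian rings and a prime `q` of `B` over `p`:
* the dimension and depth formulas for `A_p → B_q` in terms of `EGA4.FibLocRing A B q`;
* ascent of regularity (`A_p` and the fibre regular imply `B_q` regular);
* ascent of `(R_k)` and of normality.
-/

set_option autoImplicit false
set_option linter.style.haveILetI false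
set_option maxHeartbeats 400000

universe u

open IsLocalRing
open Groth.Agent.H15.Depth Groth.Agent.H15.DepthSpread

namespace Groth.Agent.H15.FlatLoc

section Local

variable {A B : Type u} [CommRing A] [CommRing B] [IsLocalRing A] [IsLocalRing B]
  [IsNoetherianRing A] [IsNoetherianRing B] [Algebra A B] [IsLocalHom (algebraMap A B)]

/-- Ascent of regularity along a flat local homomorphism with regular closed fibre. -/
theorem isRegularLocalRing_of_flat [Module.Flat A B] (hA : IsRegularLocalRing A)
    (hF : IsRegularLocalRing (EGA4.FibRing A B)) : IsRegularLocalRing B := by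
  classical
  apply IsRegularLocalRing.of_spanFinrank_maximalIdeal_le
  have hsurj : Function.Surjective (Ideal.Quotient.mk (EGA4.mB A B)) :=
    Ideal.Quotient.mk_surjective
  have fgA : (maximalIdeal A).FG := (maximalIdeal A).fg_of_isNoetherianRing
  have fgF : (maximalIdeal (EGA4.FibRing A B)).FG :=
    (maximalIdeal (EGA4.FibRing A B)).fg_of_isNoetherianRing
  have finA := Submodule.FG.finite_generators fgA
  have finF := Submodule.FG.finite_generators fgF
  have hT : (Ideal.Quotient.mk (EGA4.mB A B)) ''
      (Function.surjInv hsurj '' (maximalIdeal (EGA4.FibRing A B)).generators) =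
      (maximalIdeal (EGA4.FibRing A B)).generators := by
    rw [Set.image_image]
    simp only [Function.surjInv_eq hsurj, Set.image_id']
  have hspan : maximalIdeal B = Ideal.span (algebraMap A B '' (maximalIdeal A).generators ∪
      Function.surjInv hsurj '' (maximalIdeal (EGA4.FibRing A B)).generators) := by
    rw [Ideal.span_union, ← Ideal.map_span]
    have hgA : Ideal.span (maximalIdeal A).generators = maximalIdeal A :=
      (maximalIdeal A).span_generators
    rw [hgA]
    have h1 : (Ideal.span (Function.surjInv hsurj ''
        (maximalIdeal (EGA4.FibRing A B)).generators)).map (Ideal.Quotient.mk (EGA4.mB A B)) =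
        maximalIdeal (EGA4.FibRing A B) := by
      rw [Ideal.map_span, hT]
      exact (maximalIdeal (EGA4.FibRing A B)).span_generators
    have h2 : ((Ideal.span (Function.surjInv hsurj ''
        (maximalIdeal (EGA4.FibRing A B)).generators)).map
          (Ideal.Quotient.mk (EGA4.mB A B))).comap (Ideal.Quotient.mk (EGA4.mB A B)) =
        Ideal.span (Function.surjInv hsurj '' (maximalIdeal (EGA4.FibRing A B)).generators) ⊔
          EGA4.mB A B := by
      rw [Ideal.comap_map_of_surjective _ hsurj, ← RingHom.ker_eq_comap_bot, Ideal.mk_ker]
    have h3 : (maximalIdeal (EGA4.FibRing A B)).comap (Ideal.Quotient.mk (EGA4.mB A B)) =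
        maximalIdeal B :=
      IsLocalRing.eq_maximalIdeal (Ideal.comap_isMaximal_of_surjective _ hsurj)
    rw [sup_comm, ← h2, h1, h3]
  have key : (maximalIdeal B).spanFinrank ≤
      (maximalIdeal A).spanFinrank + (maximalIdeal (EGA4.FibRing A B)).spanFinrank := by
    have fin := (finA.image (algebraMap A B)).union (finF.image (Function.surjInv hsurj))
    calc (maximalIdeal B).spanFinrank
        = (Ideal.span (algebraMap A B '' (maximalIdeal A).generators ∪
            Function.surjInv hsurj ''
              (maximalIdeal (EGA4.FibRing A B)).generators)).spanFinrank := by rw [← hspan]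
      _ ≤ (algebraMap A B '' (maximalIdeal A).generators ∪
            Function.surjInv hsurj '' (maximalIdeal (EGA4.FibRing A B)).generators).ncard :=
          Submodule.spanFinrank_span_le_ncard_of_finite fin
      _ ≤ (algebraMap A B '' (maximalIdeal A).generators).ncard +
            (Function.surjInv hsurj '' (maximalIdeal (EGA4.FibRing A B)).generators).ncard :=
          Set.ncard_union_le _ _
      _ ≤ (maximalIdeal A).generators.ncard +
            (maximalIdeal (EGA4.FibRing A B)).generators.ncard :=
          add_le_add (Set.ncard_image_le finA) (Set.ncard_image_le finF)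
      _ = _ := by rw [Submodule.FG.generators_ncard fgA, Submodule.FG.generators_ncard fgF]
  rw [Groth.Agent.H29.FlatCM.ringKrullDim_eq_add_fibre (A := A) (B := B),
    ← hA.spanFinrank_maximalIdeal, ← hF.spanFinrank_maximalIdeal]
  exact_mod_cast key

end Local

section Basic

/-- A local ring is isomorphic to its localization at the maximal ideal. -/
noncomputable def selfEquivLocMax (F : Type u) [CommRing F] [IsLocalRing F] :
    F ≃+* Localization.AtPrime (maximalIdeal F) :=
  (IsLocalization.atUnits F (maximalIdeal F).primeCompl
    (S := Localization.AtPrime (maximalIdeal F))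
    (fun x hx => (IsUnit.mem_submonoid_iff x).mpr (by
      by_contra h
      exact hx ((mem_maximalIdeal x).mpr (mem_nonunits_iff.mpr h))))).toRingEquiv

theorem min_add_le (k a b : ℕ∞) : min k (a + b) ≤ min k a + min k b := by
  rcases le_total k a with h | h
  · rw [min_eq_left h]
    exact le_trans (min_le_left _ _) le_self_add
  rcases le_total k b with h' | h'
  · rw [min_eq_left h']
    exact le_trans (min_le_left _ _) le_add_self
  · rw [min_eq_right h, min_eq_right h']
    exact min_le_right _ _

/-- A Noetherian local integrally closed domain has depth at least `min(2, dim)`. -/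
theorem min_two_le_depth_of_normal (D : Type u) [CommRing D] [IsLocalRing D] [IsNoetherianRing D]
    [IsDomain D] [IsIntegrallyClosed D] :
    min ((2 : ℕ) : ℕ∞) (maximalIdeal D).height ≤ LocCoh.depth D D := by
  rcases Groth.Agent.H15.SerreNormal.hasSeq_of_normal D with hbot | ⟨h1, h2 | hht⟩
  · have h0 : (maximalIdeal D).height = 0 := by rw [hbot]; exact Ideal.height_bot
    rw [h0]
    exact le_trans (min_le_right _ _) zero_le
  · exact le_trans (min_le_left _ _) (Groth.Agent.H15.Depth.le_idealDepth_of_hasSeq h2)
  · refine le_trans (min_le_right _ _) (le_trans hht ?_)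
    have := Groth.Agent.H15.Depth.le_idealDepth_of_hasSeq h1
    exact_mod_cast this

variable {R : Type u} [CommRing R]

theorem comap_le (q : Ideal R) [q.IsPrime] (Q' : Ideal (Localization.AtPrime q)) [hQ' : Q'.IsPrime] :
    Q'.comap (algebraMap R (Localization.AtPrime q)) ≤ q := by
  have h1 : Q' ≤ maximalIdeal (Localization.AtPrime q) := IsLocalRing.le_maximalIdeal hQ'.ne_top
  calc Q'.comap (algebraMap R (Localization.AtPrime q))
      ≤ (maximalIdeal (Localization.AtPrime q)).comap (algebraMap R (Localization.AtPrime q)) :=
        Ideal.comap_mono h1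
    _ = q := IsLocalization.AtPrime.under_maximalIdeal (Localization.AtPrime q) q

/-- For primes `p' ≤ p`, the local ring at `p'` is a localization of the local ring at `p` at a
prime of the same height. -/
theorem exists_locLoc (p p' : Ideal R) [p.IsPrime] [p'.IsPrime] (h : p' ≤ p) :
    ∃ (P' : Ideal (Localization.AtPrime p)) (_ : P'.IsPrime), P'.height = p'.height ∧
      Nonempty (Localization.AtPrime p' ≃+* Localization.AtPrime P') := by
  have hP' : (p'.map (algebraMap R (Localization.AtPrime p))).IsPrime :=
    Ideal.isPrime_map_of_isLocalizationAtPrime p h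
  have disj : Disjoint (p.primeCompl : Set R) (p' : Set R) := by
    rw [Set.disjoint_left]
    intro x hx hx'
    exact hx (h hx')
  refine ⟨p'.map (algebraMap R (Localization.AtPrime p)), hP', ?_, ?_⟩
  · exact IsLocalization.height_map_of_disjoint p.primeCompl p' disj
  · have hloc := IsLocalization.isLocalization_isLocalization_atPrime_isLocalization
      (M := p.primeCompl)
      (Localization.AtPrime (p'.map (algebraMap R (Localization.AtPrime p))))
      (p'.map (algebraMap R (Localization.AtPrime p)))
    have hc : (p'.map (algebraMap R (Localization.AtPrime p))).comap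
        (algebraMap R (Localization.AtPrime p)) = p' :=
      Ideal.under_map_of_isLocalizationAtPrime p h
    have gen : ∀ (I : Ideal R) [I.IsPrime], I = p' →
        IsLocalization.AtPrime
          (Localization.AtPrime (p'.map (algebraMap R (Localization.AtPrime p)))) I →
        Nonempty (Localization.AtPrime p' ≃+*
          Localization.AtPrime (p'.map (algebraMap R (Localization.AtPrime p)))) := by
      intro I _ hI hlocI
      subst hI
      exact ⟨(IsLocalization.algEquiv I.primeCompl (Localization.AtPrime I)
        (Localization.AtPrime (I.map (algebraMap R (Localization.AtPrime p))))).toRingEquiv⟩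
    exact gen _ hc hloc

/-- Normality of local rings passes to generizations. -/
theorem normal_of_le (p p' : Ideal R) [p.IsPrime] [p'.IsPrime] (h : p' ≤ p)
    [IsDomain (Localization.AtPrime p)] [IsIntegrallyClosed (Localization.AtPrime p)] :
    IsDomain (Localization.AtPrime p') ∧ IsIntegrallyClosed (Localization.AtPrime p') := by
  obtain ⟨P', hP', -, ⟨e⟩⟩ := exists_locLoc p p' h
  haveI := hP'
  haveI hic : IsIntegrallyClosed (Localization.AtPrime P') :=
    isIntegrallyClosed_of_isLocalization (Localization.AtPrime P') P'.primeCompl
      P'.primeCompl_le_nonZeroDivisors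
  exact ⟨e.toMulEquiv.isDomain (Localization.AtPrime P'), IsIntegrallyClosed.of_equiv e.symm⟩

/-- `(R_k)` at `p` gives regularity at generizations of small height. -/
theorem isRegularLocalRing_of_hasRkAt (k : ℕ) (p p' : Ideal R) [p.IsPrime] [p'.IsPrime]
    (h : p' ≤ p) (hR : EGA4.HasRkAt k R p) (hht : p'.height ≤ (k : ℕ∞)) :
    IsRegularLocalRing (Localization.AtPrime p') := by
  obtain ⟨P', hP', hh, ⟨e⟩⟩ := exists_locLoc p p' h
  haveI := hP'
  haveI : IsRegularLocalRing (Localization.AtPrime P') := hR P' (by rw [hh]; exact hht)
  exact IsRegularLocalRing.of_ringEquiv e.symm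

theorem isRegularLocalRing_of_locMax (F : Type u) [CommRing F] [IsLocalRing F]
    (h : IsRegularLocalRing (Localization.AtPrime (maximalIdeal F))) : IsRegularLocalRing F := by
  haveI := h
  exact IsRegularLocalRing.of_ringEquiv (selfEquivLocMax F).symm

end Basic

section AtPrime

variable (A B : Type u) [CommRing A] [CommRing B] [Algebra A B]

theorem map_le_maximalIdeal (q : Ideal B) [q.IsPrime] :
    (q.comap (algebraMap A B)).map (algebraMap A (Localization.AtPrime q)) ≤
      maximalIdeal (Localization.AtPrime q) := by
  rw [Ideal.map_le_iff_le_comap]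
  intro x hx
  rw [Ideal.mem_comap, IsScalarTower.algebraMap_apply A B (Localization.AtPrime q)]
  exact (IsLocalization.AtPrime.to_map_mem_maximal_iff (Localization.AtPrime q) q _).mpr hx

theorem isLocalRing_fibLocRing (q : Ideal B) [q.IsPrime] :
    IsLocalRing (EGA4.FibLocRing A B q) := by
  haveI : Nontrivial (EGA4.FibLocRing A B q) :=
    Ideal.Quotient.nontrivial_iff.mpr
      (ne_top_of_le_ne_top (maximalIdeal.isMaximal _).ne_top (map_le_maximalIdeal A B q))
  exact IsLocalRing.of_surjective' (Ideal.Quotient.mk _) Ideal.Quotient.mk_surjective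

variable [IsNoetherianRing A] [IsNoetherianRing B] [Module.Flat A B]

/-- The dimension formula, the depth formula and ascent of regularity for `A_p → B_q`. -/
theorem flat_data (q : Ideal B) [q.IsPrime] [IsLocalRing (EGA4.FibLocRing A B q)] :
    ((q.height : ℕ∞) : WithBot ℕ∞) = (((q.comap (algebraMap A B)).height : ℕ∞) : WithBot ℕ∞) +
        ringKrullDim (EGA4.FibLocRing A B q) ∧
    LocCoh.depth (Localization.AtPrime q) (Localization.AtPrime q) =
      LocCoh.depth (Localization.AtPrime (q.comap (algebraMap A B)))
          (Localization.AtPrime (q.comap (algebraMap A B))) +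
        LocCoh.depth (EGA4.FibLocRing A B q) (EGA4.FibLocRing A B q) ∧
    (IsRegularLocalRing (Localization.AtPrime (q.comap (algebraMap A B))) →
      IsRegularLocalRing (EGA4.FibLocRing A B q) →
        IsRegularLocalRing (Localization.AtPrime q)) := by
  haveI hlo : q.LiesOver (q.comap (algebraMap A B)) := ⟨rfl⟩
  letI alg := Localization.AtPrime.algebraOfLiesOver (q.comap (algebraMap A B)) q
  haveI : IsLocalHom (algebraMap (Localization.AtPrime (q.comap (algebraMap A B)))
      (Localization.AtPrime q)) := Localization.isLocalHom_localRingHom _ _ _ _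
  have hI : EGA4.mB (Localization.AtPrime (q.comap (algebraMap A B))) (Localization.AtPrime q) =
      (q.comap (algebraMap A B)).map (algebraMap A (Localization.AtPrime q)) := by
    show (maximalIdeal (Localization.AtPrime (q.comap (algebraMap A B)))).map
      (algebraMap _ (Localization.AtPrime q)) = _
    rw [← Localization.AtPrime.map_eq_maximalIdeal, Ideal.map_map,
      ← IsScalarTower.algebraMap_eq A (Localization.AtPrime (q.comap (algebraMap A B)))
        (Localization.AtPrime q)]
  let e : EGA4.FibRing (Localization.AtPrime (q.comap (algebraMap A B))) (Localization.AtPrime q)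
      ≃+* EGA4.FibLocRing A B q := Ideal.quotEquivOfEq hI
  refine ⟨?_, ?_, ?_⟩
  · have h := Groth.Agent.H29.FlatCM.ringKrullDim_eq_add_fibre
      (A := Localization.AtPrime (q.comap (algebraMap A B))) (B := Localization.AtPrime q)
    rw [IsLocalization.AtPrime.ringKrullDim_eq_height q (Localization.AtPrime q),
      IsLocalization.AtPrime.ringKrullDim_eq_height (q.comap (algebraMap A B))
        (Localization.AtPrime (q.comap (algebraMap A B))), ringKrullDim_eq_of_ringEquiv e] at h
    exact h
  · have h := Groth.Agent.H29.FlatCM.depth_eq_add_fibre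
      (A := Localization.AtPrime (q.comap (algebraMap A B))) (B := Localization.AtPrime q)
    rw [Groth.Agent.H29.FlatCM.depth_ringEquiv e] at h
    exact h
  · intro hA hF
    haveI := hF
    exact isRegularLocalRing_of_flat hA (IsRegularLocalRing.of_ringEquiv e.symm)

/-- Ascent of `(R_k)`: regularity at a generization `q' ≤ q` of height at most `k`. -/
theorem isRegularLocalRing_of_hasRk (k : ℕ) (q q' : Ideal B) [q.IsPrime] [q'.IsPrime]
    (hle : q' ≤ q) (hF : LocCoh.HasRk k (EGA4.FibLocRing A B q'))
    (hA : EGA4.HasRkAt k A (q.comap (algebraMap A B))) (hht : q'.height ≤ (k : ℕ∞)) :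
    IsRegularLocalRing (Localization.AtPrime q') := by
  haveI := isLocalRing_fibLocRing A B q'
  obtain ⟨hdim, -, hreg⟩ := flat_data A B q'
  rw [← IsLocalRing.maximalIdeal_height_eq_ringKrullDim] at hdim
  have hdim' : q'.height = (q'.comap (algebraMap A B)).height +
      (maximalIdeal (EGA4.FibLocRing A B q')).height := by exact_mod_cast hdim
  have hle' : q'.comap (algebraMap A B) ≤ q.comap (algebraMap A B) := Ideal.comap_mono hle
  have h1 : (q'.comap (algebraMap A B)).height ≤ (k : ℕ∞) :=
    le_trans (hdim' ▸ le_self_add) hht
  have h2 : (maximalIdeal (EGA4.FibLocRing A B q')).height ≤ (k : ℕ∞) :=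
    le_trans (hdim' ▸ le_add_self) hht
  exact hreg (isRegularLocalRing_of_hasRkAt k _ _ hle' hA h1)
    (isRegularLocalRing_of_locMax _ (hF (maximalIdeal (EGA4.FibLocRing A B q')) h2))

/-- Ascent of normality along a flat homomorphism with normal fibre local rings. -/
theorem normal_of_flat
    (hfib : ∀ (q : Ideal B) [q.IsPrime],
      IsDomain (EGA4.FibLocRing A B q) ∧ IsIntegrallyClosed (EGA4.FibLocRing A B q))
    (q : Ideal B) [q.IsPrime]
    [IsDomain (Localization.AtPrime (q.comap (algebraMap A B)))]
    [IsIntegrallyClosed (Localization.AtPrime (q.comap (algebraMap A B)))] :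
    IsDomain (Localization.AtPrime q) ∧ IsIntegrallyClosed (Localization.AtPrime q) := by
  have key : ∀ (q' : Ideal B) [q'.IsPrime], q' ≤ q →
      (q'.height ≤ ((1 : ℕ) : ℕ∞) → IsRegularLocalRing (Localization.AtPrime q')) ∧
      min ((2 : ℕ) : ℕ∞) q'.height ≤
        LocCoh.depth (Localization.AtPrime q') (Localization.AtPrime q') := by
    intro q' _ hle
    have hle' : q'.comap (algebraMap A B) ≤ q.comap (algebraMap A B) := Ideal.comap_mono hle
    obtain ⟨hAdom, hAic⟩ := normal_of_le (q.comap (algebraMap A B)) (q'.comap (algebraMap A B)) hle'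
    obtain ⟨hFdom, hFic⟩ := hfib q'
    haveI := isLocalRing_fibLocRing A B q'
    obtain ⟨hdim, hdepth, hreg⟩ := flat_data A B q'
    rw [← IsLocalRing.maximalIdeal_height_eq_ringKrullDim] at hdim
    have hdim' : q'.height = (q'.comap (algebraMap A B)).height +
        (maximalIdeal (EGA4.FibLocRing A B q')).height := by exact_mod_cast hdim
    have hdA := min_two_le_depth_of_normal (Localization.AtPrime (q'.comap (algebraMap A B)))
    have hdF := min_two_le_depth_of_normal (EGA4.FibLocRing A B q')
    have hhtA : (maximalIdeal (Localization.AtPrime (q'.comap (algebraMap A B)))).height =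
        (q'.comap (algebraMap A B)).height := by
      have e1 : (((maximalIdeal (Localization.AtPrime (q'.comap (algebraMap A B)))).height : ℕ∞) :
          WithBot ℕ∞) = (((q'.comap (algebraMap A B)).height : ℕ∞) : WithBot ℕ∞) := by
        rw [IsLocalRing.maximalIdeal_height_eq_ringKrullDim,
          IsLocalization.AtPrime.ringKrullDim_eq_height (q'.comap (algebraMap A B))
            (Localization.AtPrime (q'.comap (algebraMap A B)))]
      exact WithBot.coe_injective e1
    rw [hhtA] at hdA
    constructor
    · intro h1
      have h1A : (q'.comap (algebraMap A B)).height ≤ ((1 : ℕ) : ℕ∞) :=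
        le_trans (hdim' ▸ le_self_add) h1
      have h1F : (maximalIdeal (EGA4.FibLocRing A B q')).height ≤ ((1 : ℕ) : ℕ∞) :=
        le_trans (hdim' ▸ le_add_self) h1
      have hregA : IsRegularLocalRing (Localization.AtPrime (q'.comap (algebraMap A B))) := by
        haveI := Groth.Agent.H15.NormalAscent.isPrincipalIdealRing_of_normal_of_dim_le_one
          (Localization.AtPrime (q'.comap (algebraMap A B))) (by
            rw [IsLocalization.AtPrime.ringKrullDim_eq_height (q'.comap (algebraMap A B))
              (Localization.AtPrime (q'.comap (algebraMap A B)))]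
            exact_mod_cast h1A)
        infer_instance
      have hregF : IsRegularLocalRing (EGA4.FibLocRing A B q') := by
        haveI := Groth.Agent.H15.NormalAscent.isPrincipalIdealRing_of_normal_of_dim_le_one
          (EGA4.FibLocRing A B q') (by
            rw [← IsLocalRing.maximalIdeal_height_eq_ringKrullDim]
            exact_mod_cast h1F)
        infer_instance
      exact hreg hregA hregF
    · rw [hdepth, hdim']
      exact le_trans (min_add_le _ _ _) (add_le_add hdA hdF)
  have hR1 : LocCoh.HasRk 1 (Localization.AtPrime q) := by
    intro Q' hQ' hht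
    have hh : (Q'.comap (algebraMap B (Localization.AtPrime q))).height = Q'.height :=
      IsLocalization.height_under q.primeCompl Q'
    haveI := (key (Q'.comap (algebraMap B (Localization.AtPrime q))) (comap_le q Q')).1
      (by rw [hh]; exact hht)
    exact IsRegularLocalRing.of_ringEquiv
      (IsLocalization.localizationLocalizationAtPrimeIsoLocalization q.primeCompl Q').toRingEquiv
  have hS2 : LocCoh.HasSk 2 (Localization.AtPrime q) (Localization.AtPrime q) := by
    rw [Groth.Agent.S2659.hasSk_self_iff]
    intro Q' hQ'
    have hh : (Q'.comap (algebraMap B (Localization.AtPrime q))).height = Q'.height :=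
      IsLocalization.height_under q.primeCompl Q'
    have h2 := (key (Q'.comap (algebraMap B (Localization.AtPrime q))) (comap_le q Q')).2
    rw [hh] at h2
    have d1 : LocCoh.depth (Localization.AtPrime Q')
        (LocalizedModule Q'.primeCompl (Localization.AtPrime q)) =
        LocCoh.depth (Localization.AtPrime Q') (Localization.AtPrime Q') :=
      idealDepth_congr (Groth.Agent.S0602.locSelfEquiv Q'.primeCompl)
    have d2 := Groth.Agent.H29.FlatCM.depth_ringEquiv
      (IsLocalization.localizationLocalizationAtPrimeIsoLocalization q.primeCompl Q').toRingEquiv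
    rw [d1, ← d2]
    exact h2
  obtain ⟨hd, hic⟩ := Groth.Agent.H15.SerreNormal.normal_of_hasRk_hasSk hR1 hS2
    (maximalIdeal (Localization.AtPrime q))
  exact ⟨(selfEquivLocMax (Localization.AtPrime q)).toMulEquiv.isDomain _,
    IsIntegrallyClosed.of_equiv (selfEquivLocMax (Localization.AtPrime q)).symm⟩

end AtPrime

end Groth.Agent.H15.FlatLoc
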