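import Groth.Agent.H15.FinFlatCM

/-!
# Fibre local rings and quotients of the base

For an ideal `I` of `A`, the fibre local rings of `A/I → B/IB` are the fibre local rings of
`A → B` at the corresponding primes.
-/

set_option autoImplicit false
set_option linter.style.haveILetI false
set_option maxHeartbeats 400000

universe u

open IsLocalRing

namespace Groth.Agent.H15.FibQuot

set_option linter.unusedSectionVars false

variable (A B : Type u) [CommRing A] [CommRing B] [Algebra A B] (I : Ideal A)
  (Q : Ideal (B ⧸ I.map (algebraMap A B))) [Q.IsPrime]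

theorem algebraMap_mk (a : A) :
    algebraMap (A ⧸ I) (B ⧸ I.map (algebraMap A B)) (Ideal.Quotient.mk I a) =
      Ideal.Quotient.mk _ (algebraMap A B a) := rfl

theorem mem_comap_iff (a : A) :
    a ∈ (Q.comap (Ideal.Quotient.mk (I.map (algebraMap A B)))).comap (algebraMap A B) ↔
      Ideal.Quotient.mk I a ∈ Q.comap (algebraMap (A ⧸ I) (B ⧸ I.map (algebraMap A B))) :=
  Iff.rfl

theorem comap_comap :
    (Q.comap (algebraMap (A ⧸ I) (B ⧸ I.map (algebraMap A B)))).comap (Ideal.Quotient.mk I) =
      (Q.comap (Ideal.Quotient.mk (I.map (algebraMap A B)))).comap (algebraMap A B) := by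
  ext a
  exact (mem_comap_iff A B I Q a).symm

theorem le_comap : I ≤ (Q.comap (Ideal.Quotient.mk (I.map (algebraMap A B)))).comap
    (algebraMap A B) := by
  intro a ha
  rw [Ideal.mem_comap, Ideal.mem_comap,
    Ideal.Quotient.eq_zero_iff_mem.mpr (Ideal.mem_map_of_mem _ ha)]
  exact Q.zero_mem

/-- The map from the fibre local ring of `A → B` to that of `A/I → B/IB`. -/
noncomputable def toQuot :
    EGA4.FibLocRing A B (Q.comap (Ideal.Quotient.mk (I.map (algebraMap A B)))) →+*
      EGA4.FibLocRing (A ⧸ I) (B ⧸ I.map (algebraMap A B)) Q :=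
  Ideal.quotientMap _
    (Localization.localRingHom (Q.comap (Ideal.Quotient.mk (I.map (algebraMap A B)))) Q
      (Ideal.Quotient.mk (I.map (algebraMap A B))) rfl) (by
    rw [Ideal.map_le_iff_le_comap]
    intro a ha
    rw [Ideal.mem_comap, Ideal.mem_comap,
      IsScalarTower.algebraMap_apply A B (Localization.AtPrime _),
      Localization.localRingHom_to_map]
    have h1 : algebraMap (B ⧸ I.map (algebraMap A B)) (Localization.AtPrime Q)
        (Ideal.Quotient.mk (I.map (algebraMap A B)) (algebraMap A B a)) =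
        algebraMap (A ⧸ I) (Localization.AtPrime Q) (Ideal.Quotient.mk I a) := by
      rw [IsScalarTower.algebraMap_apply (A ⧸ I) (B ⧸ I.map (algebraMap A B))
        (Localization.AtPrime Q)]
      rfl
    rw [h1]
    exact Ideal.mem_map_of_mem _ ((mem_comap_iff A B I Q a).mp ha))

theorem toQuot_mk_algebraMap (b : B) :
    toQuot A B I Q (Ideal.Quotient.mk _ (algebraMap B (Localization.AtPrime _) b)) =
      Ideal.Quotient.mk _ (algebraMap (B ⧸ I.map (algebraMap A B)) (Localization.AtPrime Q)
        (Ideal.Quotient.mk _ b)) := by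
  unfold toQuot
  rw [Ideal.quotientMap_mk, Localization.localRingHom_to_map]

/-- First step of the inverse map. -/
noncomputable def fromQuot₁ :
    (B ⧸ I.map (algebraMap A B)) →+*
      EGA4.FibLocRing A B (Q.comap (Ideal.Quotient.mk (I.map (algebraMap A B)))) :=
  Ideal.Quotient.lift (I.map (algebraMap A B))
    ((Ideal.Quotient.mk _).comp (algebraMap B (Localization.AtPrime
      (Q.comap (Ideal.Quotient.mk (I.map (algebraMap A B))))))) (by
    have hJ : I.map (algebraMap A B) ≤ RingHom.ker ((Ideal.Quotient.mk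
        ((((Q.comap (Ideal.Quotient.mk (I.map (algebraMap A B)))).comap (algebraMap A B))).map
          (algebraMap A (Localization.AtPrime
            (Q.comap (Ideal.Quotient.mk (I.map (algebraMap A B)))))))).comp
        (algebraMap B (Localization.AtPrime
          (Q.comap (Ideal.Quotient.mk (I.map (algebraMap A B))))))) := by
      rw [Ideal.map_le_iff_le_comap]
      intro a ha
      rw [Ideal.mem_comap, RingHom.mem_ker, RingHom.comp_apply,
        ← IsScalarTower.algebraMap_apply, Ideal.Quotient.eq_zero_iff_mem]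
      exact Ideal.mem_map_of_mem _ (le_comap A B I Q ha)
    intro b hb
    exact RingHom.mem_ker.mp (hJ hb))

theorem fromQuot₁_mk (b : B) :
    fromQuot₁ A B I Q (Ideal.Quotient.mk _ b) =
      Ideal.Quotient.mk _ (algebraMap B (Localization.AtPrime _) b) := by
  unfold fromQuot₁
  rw [Ideal.Quotient.lift_mk]
  rfl

theorem isUnit_fromQuot₁ (y : Q.primeCompl) : IsUnit (fromQuot₁ A B I Q y) := by
  obtain ⟨b, hb⟩ := Ideal.Quotient.mk_surjective (y : B ⧸ I.map (algebraMap A B))
  rw [← hb, fromQuot₁_mk]
  have hbq : b ∈ (Q.comap (Ideal.Quotient.mk (I.map (algebraMap A B)))).primeCompl := by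
    intro hmem
    apply y.2
    rw [← hb]
    exact hmem
  exact ((IsLocalization.map_units (Localization.AtPrime
    (Q.comap (Ideal.Quotient.mk (I.map (algebraMap A B))))) ⟨b, hbq⟩).map _)

/-- Second step of the inverse map. -/
noncomputable def fromQuot₀ :
    Localization.AtPrime Q →+*
      EGA4.FibLocRing A B (Q.comap (Ideal.Quotient.mk (I.map (algebraMap A B)))) :=
  IsLocalization.lift (M := Q.primeCompl) (g := fromQuot₁ A B I Q) (isUnit_fromQuot₁ A B I Q)

theorem fromQuot₀_algebraMap (x : B ⧸ I.map (algebraMap A B)) :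
    fromQuot₀ A B I Q (algebraMap _ (Localization.AtPrime Q) x) = fromQuot₁ A B I Q x := by
  unfold fromQuot₀
  rw [IsLocalization.lift_eq]

/-- The inverse map. -/
noncomputable def fromQuot :
    EGA4.FibLocRing (A ⧸ I) (B ⧸ I.map (algebraMap A B)) Q →+*
      EGA4.FibLocRing A B (Q.comap (Ideal.Quotient.mk (I.map (algebraMap A B)))) :=
  Ideal.Quotient.lift _ (fromQuot₀ A B I Q) (by
    have hle : (Q.comap (algebraMap (A ⧸ I) (B ⧸ I.map (algebraMap A B)))).map
        (algebraMap (A ⧸ I) (Localization.AtPrime Q)) ≤ RingHom.ker (fromQuot₀ A B I Q) := by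
      rw [Ideal.map_le_iff_le_comap]
      intro x hx
      obtain ⟨a, rfl⟩ := Ideal.Quotient.mk_surjective x
      rw [Ideal.mem_comap, RingHom.mem_ker,
        IsScalarTower.algebraMap_apply (A ⧸ I) (B ⧸ I.map (algebraMap A B))
          (Localization.AtPrime Q), fromQuot₀_algebraMap, algebraMap_mk, fromQuot₁_mk,
        ← IsScalarTower.algebraMap_apply, Ideal.Quotient.eq_zero_iff_mem]
      exact Ideal.mem_map_of_mem _ ((mem_comap_iff A B I Q a).mpr hx)
    intro x hx
    exact RingHom.mem_ker.mp (hle hx))

theorem fromQuot_mk_algebraMap (x : B ⧸ I.map (algebraMap A B)) :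
    fromQuot A B I Q (Ideal.Quotient.mk _ (algebraMap _ (Localization.AtPrime Q) x)) =
      fromQuot₁ A B I Q x := by
  unfold fromQuot
  rw [Ideal.Quotient.lift_mk, fromQuot₀_algebraMap]

/-- The fibre local ring of `A/I → B/IB` at `Q` is the fibre local ring of `A → B` at the
preimage of `Q`. -/
noncomputable def fibEquiv :
    EGA4.FibLocRing (A ⧸ I) (B ⧸ I.map (algebraMap A B)) Q ≃+*
      EGA4.FibLocRing A B (Q.comap (Ideal.Quotient.mk (I.map (algebraMap A B)))) :=
  RingEquiv.ofRingHom (fromQuot A B I Q) (toQuot A B I Q)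
    (by
      apply Ideal.Quotient.ringHom_ext
      apply IsLocalization.ringHom_ext
        (Q.comap (Ideal.Quotient.mk (I.map (algebraMap A B)))).primeCompl
      ext b
      simp only [RingHom.comp_apply, RingHom.id_apply]
      rw [toQuot_mk_algebraMap, fromQuot_mk_algebraMap, fromQuot₁_mk])
    (by
      apply Ideal.Quotient.ringHom_ext
      apply IsLocalization.ringHom_ext Q.primeCompl
      apply Ideal.Quotient.ringHom_ext
      ext b
      simp only [RingHom.comp_apply, RingHom.id_apply]
      rw [fromQuot_mk_algebraMap, fromQuot₁_mk, toQuot_mk_algebraMap])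

end Groth.Agent.H15.FibQuot
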