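import Groth.Agent.H15.FormEq
import Groth.Agent.H15.FibQuot
import Groth.Agent.S9127
import Groth.Agent.H87.ComplFlat
import Groth.Agent.Lead.CompleteNoetherian
import Mathlib.RingTheory.RingHom.Surjective
import Mathlib.RingTheory.EssentialFiniteness
import Mathlib.RingTheory.TensorProduct.MvPolynomial

/-!
# Formal equidimensionality for algebras essentially of finite type (helper15)

EGA IV 7.1.8: if `A` is a formally equidimensional Noetherian local ring then the localizations of
`A[X₁, …, Xₙ]` at primes are formally equidimensional.  Consequences: equidimensional local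
rings essentially of finite type over a formally catenary local ring are formally equidimensional,
and formally catenary local rings are universally catenary.
-/

set_option autoImplicit false
set_option linter.style.haveILetI false
set_option maxHeartbeats 400000

universe u

open IsLocalRing TensorProduct

namespace Groth.Agent.H15.FormEqPoly

section Descent

/-- Formal equidimensionality descends along flat local homomorphisms. -/
theorem isFormallyEquidim_of_flat_local (C C' : Type u) [CommRing C] [CommRing C']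
    [IsNoetherianRing C] [IsNoetherianRing C'] [IsLocalRing C] [IsLocalRing C'] [Algebra C C']
    [IsLocalHom (algebraMap C C')] [Module.Flat C C'] (h : EGA4.IsFormallyEquidim C') :
    EGA4.IsFormallyEquidim C := by
  have hle : (maximalIdeal C).map (algebraMap C C') ≤ maximalIdeal C' :=
    IsLocalRing.map_maximalIdeal_le (algebraMap C C')
  haveI : IsNoetherianRing (EGA4.Cpl C) :=
    Groth.Agent.Lead.isNoetherianRing_adicCompletion (maximalIdeal C)
      (maximalIdeal C).fg_of_isNoetherianRing
  haveI : IsNoetherianRing (EGA4.Cpl C') :=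
    Groth.Agent.Lead.isNoetherianRing_adicCompletion (maximalIdeal C')
      (maximalIdeal C').fg_of_isNoetherianRing
  have hg : ∀ a : C, FSch.complMap (maximalIdeal C) (maximalIdeal C')
      (algebraMap C C') hle (algebraMap C (EGA4.Cpl C) a) =
      algebraMap C' (EGA4.Cpl C') (algebraMap C C' a) :=
    fun a => Groth.Agent.H87.ComplFlat.complMap_algebraMap _ _ _ hle a
  have hgflat : (FSch.complMap (maximalIdeal C) (maximalIdeal C')
      (algebraMap C C') hle).Flat :=
    Groth.Agent.H87.ComplFlat.complMap_flat (maximalIdeal C)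
      (maximalIdeal C') (algebraMap C C')
      (RingHom.flat_algebraMap_iff.mpr inferInstance) hle
  have hcomp : (FSch.complMap (maximalIdeal C) (maximalIdeal C')
      (algebraMap C C') hle).comp (algebraMap C (EGA4.Cpl C)) =
      (algebraMap C' (EGA4.Cpl C')).comp (algebraMap C C') := RingHom.ext hg
  haveI hloc : IsLocalHom (FSch.complMap (maximalIdeal C)
      (maximalIdeal C') (algebraMap C C') hle) := by
    apply ((IsLocalRing.local_hom_TFAE _).out 0 2 rfl rfl).mpr
    rw [AdicCompletion.maximalIdeal_eq_map (R := C), Ideal.map_map, hcomp, ← Ideal.map_map,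
      AdicCompletion.maximalIdeal_eq_map (R := C')]
    exact Ideal.map_mono hle
  letI : Algebra (EGA4.Cpl C) (EGA4.Cpl C') :=
    (FSch.complMap (maximalIdeal C) (maximalIdeal C') (algebraMap C C') hle).toAlgebra
  haveI : Module.Flat (EGA4.Cpl C) (EGA4.Cpl C') := hgflat
  haveI : IsLocalHom (algebraMap (EGA4.Cpl C) (EGA4.Cpl C')) := hloc
  exact (Groth.Agent.S2630.result (EGA4.Cpl C) (EGA4.Cpl C') h
    (Groth.Agent.H15.FormEq.isCatenary_cpl C')).1

end Descent

section FlatPrime

/-- The contraction of a minimal prime along a flat homomorphism is a minimal prime. -/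
theorem comap_mem_minimalPrimes {R C : Type u} [CommRing R] [CommRing C] [Algebra R C]
    [Module.Flat R C] {𝔮 : Ideal C} (h𝔮 : 𝔮 ∈ minimalPrimes C) :
    𝔮.comap (algebraMap R C) ∈ minimalPrimes R := by
  haveI := h𝔮.1.1
  refine ⟨⟨Ideal.comap_isPrime _ 𝔮, bot_le⟩, fun p' hp' hle => ?_⟩
  haveI := hp'.1
  haveI : 𝔮.LiesOver (𝔮.comap (algebraMap R C)) := ⟨rfl⟩
  obtain ⟨P', hP'le, hP'prime, hP'over⟩ :=
    Ideal.exists_ideal_le_liesOver_of_le (p := p') (q := 𝔮.comap (algebraMap R C)) 𝔮 hle
  have h3 : 𝔮 ≤ P' := h𝔮.2 ⟨hP'prime, bot_le⟩ hP'le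
  have hPP' : P' = 𝔮 := le_antisymm hP'le h3
  rw [← hPP']
  exact le_of_eq hP'over.over.symm

variable (R C : Type u) [CommRing R] [CommRing C] [IsNoetherianRing R] [IsNoetherianRing C]
  [IsLocalRing C] [Algebra R C] [Module.Flat R C]

omit [IsNoetherianRing R] [IsNoetherianRing C] [IsLocalRing C] [Module.Flat R C] in
theorem ringKrullDim_fibLocRing_congr {I J : Ideal C} [I.IsPrime] [J.IsPrime] (h : I = J) :
    ringKrullDim (EGA4.FibLocRing R C I) = ringKrullDim (EGA4.FibLocRing R C J) := by
  subst h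
  rfl

/-- For a flat map `R → C` into a local ring and a prime `P₀ ⊆ 𝔓 := m_C ∩ R`:
`dim C/P₀C = ht(𝔓/P₀) + dim (C/𝔓C)`. -/
theorem ringKrullDim_quotient_map_of_prime (P0 : Ideal R) [P0.IsPrime]
    (hP0 : P0 ≤ (maximalIdeal C).comap (algebraMap R C)) :
    ringKrullDim (C ⧸ P0.map (algebraMap R C)) =
      ((((maximalIdeal C).comap (algebraMap R C)).map (Ideal.Quotient.mk P0)).height :
        WithBot ℕ∞) + ringKrullDim (EGA4.FibLocRing R C (maximalIdeal C)) := by
  have hJle : P0.map (algebraMap R C) ≤ maximalIdeal C := Ideal.map_le_iff_le_comap.mpr hP0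
  haveI : Nontrivial (C ⧸ P0.map (algebraMap R C)) := Ideal.Quotient.nontrivial_iff.mpr
    (ne_top_of_le_ne_top (maximalIdeal.isMaximal C).ne_top hJle)
  haveI : IsLocalRing (C ⧸ P0.map (algebraMap R C)) :=
    IsLocalRing.of_surjective' (Ideal.Quotient.mk _) Ideal.Quotient.mk_surjective
  haveI : Module.Flat (R ⧸ P0) (C ⧸ P0.map (algebraMap R C)) :=
    Module.Flat.of_linearEquiv
      (Algebra.TensorProduct.quotIdealMapEquivQuotTensor C P0).toLinearEquiv
  haveI := Groth.Agent.H15.FlatLoc.isLocalRing_fibLocRing (R ⧸ P0)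
    (C ⧸ P0.map (algebraMap R C)) (maximalIdeal (C ⧸ P0.map (algebraMap R C)))
  obtain ⟨hdim, -, -⟩ := Groth.Agent.H15.FlatLoc.flat_data (R ⧸ P0)
    (C ⧸ P0.map (algebraMap R C)) (maximalIdeal (C ⧸ P0.map (algebraMap R C)))
  have hmD : maximalIdeal (C ⧸ P0.map (algebraMap R C)) =
      (maximalIdeal C).map (Ideal.Quotient.mk (P0.map (algebraMap R C))) :=
    (IsLocalRing.map_maximalIdeal_of_surjective _ Ideal.Quotient.mk_surjective).symm
  have hcomap : (maximalIdeal (C ⧸ P0.map (algebraMap R C))).comap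
      (algebraMap (R ⧸ P0) (C ⧸ P0.map (algebraMap R C))) =
      ((maximalIdeal C).comap (algebraMap R C)).map (Ideal.Quotient.mk P0) := by
    ext x
    obtain ⟨a, rfl⟩ := Ideal.Quotient.mk_surjective x
    rw [Ideal.mem_comap, Groth.Agent.H15.FibQuot.algebraMap_mk, hmD,
      Ideal.mem_quotient_iff_mem hJle, Ideal.mem_quotient_iff_mem hP0, Ideal.mem_comap]
  have hm : (maximalIdeal (C ⧸ P0.map (algebraMap R C))).comap
      (Ideal.Quotient.mk (P0.map (algebraMap R C))) = maximalIdeal C := by
    rw [hmD, Ideal.comap_map_of_surjective _ Ideal.Quotient.mk_surjective,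
      ← RingHom.ker_eq_comap_bot, Ideal.mk_ker, sup_eq_left.mpr hJle]
  have e := Groth.Agent.H15.FibQuot.fibEquiv R C P0
    (maximalIdeal (C ⧸ P0.map (algebraMap R C)))
  rw [IsLocalRing.maximalIdeal_height_eq_ringKrullDim, ringKrullDim_eq_of_ringEquiv e,
    ringKrullDim_fibLocRing_congr R C hm, hcomap] at hdim
  exact hdim

/-- A local ring `C`, flat over `R`, is equidimensional provided that the minimal primes `P₀` of
`R` below `𝔓 = m_C ∩ R` all have the same `ht(𝔓/P₀)` and extend to prime ideals of `C`. -/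
theorem isEquidim_of_flat_of_prime (h : ℕ)
    (hht : ∀ (P0 : Ideal R) [P0.IsPrime], P0 ∈ minimalPrimes R →
      P0 ≤ (maximalIdeal C).comap (algebraMap R C) →
      (((maximalIdeal C).comap (algebraMap R C)).map (Ideal.Quotient.mk P0)).height = h)
    (hprime : ∀ (P0 : Ideal R) [P0.IsPrime], P0 ∈ minimalPrimes R →
      P0 ≤ (maximalIdeal C).comap (algebraMap R C) → (P0.map (algebraMap R C)).IsPrime) :
    EGA4.IsEquidim C := by
  have key : ∀ 𝔮 ∈ minimalPrimes C, ringKrullDim (C ⧸ 𝔮) =
      ((h : ℕ∞) : WithBot ℕ∞) + ringKrullDim (EGA4.FibLocRing R C (maximalIdeal C)) := by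
    intro 𝔮 h𝔮
    haveI := h𝔮.1.1
    have hP0min := comap_mem_minimalPrimes (R := R) h𝔮
    haveI : (𝔮.comap (algebraMap R C)).IsPrime := Ideal.comap_isPrime _ _
    have hP0le : 𝔮.comap (algebraMap R C) ≤ (maximalIdeal C).comap (algebraMap R C) :=
      Ideal.comap_mono (le_maximalIdeal h𝔮.1.1.ne_top)
    have hpr := hprime _ hP0min hP0le
    have heq : 𝔮 = (𝔮.comap (algebraMap R C)).map (algebraMap R C) :=
      le_antisymm (h𝔮.2 ⟨hpr, bot_le⟩ Ideal.map_comap_le) Ideal.map_comap_le
    rw [ringKrullDim_eq_of_ringEquiv (Ideal.quotEquivOfEq heq),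
      ringKrullDim_quotient_map_of_prime R C _ hP0le, hht _ hP0min hP0le]
  intro 𝔮 h𝔮
  obtain ⟨𝔮₁, h𝔮₁, hdim⟩ :=
    Groth.Agent.H15.FlatQuot.exists_minimalPrimes_ringKrullDim_eq (B := C) ⊥ bot_ne_top
  rw [key 𝔮 h𝔮, ← key 𝔮₁ h𝔮₁, hdim, ringKrullDim_eq_of_ringEquiv (RingEquiv.quotientBot C)]

end FlatPrime

section Poly

open MvPolynomial

theorem isPrime_map_C {R : Type u} [CommRing R] {σ : Type*} (P0 : Ideal R) [P0.IsPrime] :
    (P0.map (C : R →+* MvPolynomial σ R)).IsPrime := by
  rw [← Ideal.Quotient.isDomain_iff_prime]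
  exact (MvPolynomial.quotientEquivQuotientMvPolynomial (σ := σ)
    P0).symm.toRingEquiv.toMulEquiv.isDomain (MvPolynomial σ (R ⧸ P0))

/-- Localizations of polynomial rings over an equidimensional catenary Noetherian local ring are
equidimensional. -/
theorem isEquidim_localization_mvPolynomial (R : Type u) [CommRing R] [IsNoetherianRing R]
    [IsLocalRing R] (heq : EGA4.IsEquidim R) (hcat : CAlg.IsCatenary R) (n : ℕ)
    (Q' : Ideal (MvPolynomial (Fin n) R)) [Q'.IsPrime] :
    EGA4.IsEquidim (Localization.AtPrime Q') := by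
  haveI : Module.Flat R (Localization.AtPrime Q') :=
    Module.Flat.trans R (MvPolynomial (Fin n) R) (Localization.AtPrime Q')
  have h𝔓 : (maximalIdeal (Localization.AtPrime Q')).comap
      (algebraMap R (Localization.AtPrime Q')) =
      Q'.comap (algebraMap R (MvPolynomial (Fin n) R)) := by
    rw [IsScalarTower.algebraMap_eq R (MvPolynomial (Fin n) R) (Localization.AtPrime Q'),
      ← Ideal.comap_comap]
    congr 1
    exact IsLocalization.AtPrime.under_maximalIdeal (Localization.AtPrime Q') Q'
  haveI h𝔓prime : (Q'.comap (algebraMap R (MvPolynomial (Fin n) R))).IsPrime :=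
    Ideal.comap_isPrime _ _
  obtain ⟨d, hd⟩ := Groth.Agent.H15.FlatQuot.exists_nat_ringKrullDim R
  obtain ⟨δ, hδ⟩ := Groth.Agent.H15.FlatQuot.exists_nat_ringKrullDim
    (R ⧸ Q'.comap (algebraMap R (MvPolynomial (Fin n) R)))
  apply isEquidim_of_flat_of_prime R (Localization.AtPrime Q') (d - δ)
  · intro P0 _ hP0 hle
    rw [h𝔓] at hle ⊢
    have hcat' : CAlg.IsCatenary (R ⧸ P0) := Groth.Agent.S9125.result R P0 hcat
    have heq' : EGA4.IsEquidim (R ⧸ P0) := Groth.Agent.H15.FormEq.isEquidim_of_isDomain _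
    have hprime' : ((Q'.comap (algebraMap R (MvPolynomial (Fin n) R))).map
        (Ideal.Quotient.mk P0)).IsPrime :=
      Ideal.map_isPrime_of_surjective Ideal.Quotient.mk_surjective
        (by rw [Ideal.mk_ker]; exact hle)
    have key := Groth.Agent.H24.height_add_ringKrullDim_quotient_eq (R ⧸ P0) heq' hcat'
      ⟨_, hprime'⟩
    simp only at key
    rw [ringKrullDim_eq_of_ringEquiv (DoubleQuot.quotQuotEquivQuotOfLE hle), heq P0 hP0, hd,
      hδ] at key
    obtain ⟨k, hk⟩ := ENat.ne_top_iff_exists.1 (Ideal.height_ne_top hprime'.ne_top)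
    rw [← hk] at key ⊢
    have h1 : k + δ = d := by exact_mod_cast key
    have h2 : k = d - δ := by omega
    rw [h2]
  · intro P0 _ hP0 hle
    rw [h𝔓] at hle
    have h1 : P0.map (algebraMap R (Localization.AtPrime Q')) =
        (P0.map (algebraMap R (MvPolynomial (Fin n) R))).map
          (algebraMap (MvPolynomial (Fin n) R) (Localization.AtPrime Q')) := by
      rw [Ideal.map_map, ← IsScalarTower.algebraMap_eq]
    rw [h1]
    have hpr : (P0.map (algebraMap R (MvPolynomial (Fin n) R))).IsPrime := by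
      rw [MvPolynomial.algebraMap_eq]
      exact isPrime_map_C P0
    apply IsLocalization.isPrime_of_isPrime_disjoint Q'.primeCompl _ _ hpr
    rw [Set.disjoint_left]
    intro x hx hxp
    exact hx (Ideal.map_le_iff_le_comap.mpr hle hxp)

variable (A : Type u) [CommRing A] [IsNoetherianRing A] [IsLocalRing A]

/-- EGA IV 7.1.8: localizations of polynomial rings over a formally equidimensional Noetherian
local ring are formally equidimensional. -/
theorem isFormallyEquidim_localization_mvPolynomial (hA : EGA4.IsFormallyEquidim A) (n : ℕ)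
    (Q : Ideal (MvPolynomial (Fin n) A)) [Q.IsPrime] :
    EGA4.IsFormallyEquidim (Localization.AtPrime Q) := by
  haveI : Module.FaithfullyFlat A (EGA4.Cpl A) := Groth.Agent.H34.ComplQuot.faithfullyFlat_cpl A
  letI : Algebra (MvPolynomial (Fin n) A) (MvPolynomial (Fin n) (EGA4.Cpl A)) :=
    MvPolynomial.algebraMvPolynomial
  haveI : Module.FaithfullyFlat (MvPolynomial (Fin n) A) (MvPolynomial (Fin n) (EGA4.Cpl A)) :=
    Module.FaithfullyFlat.of_linearEquiv (MvPolynomial (Fin n) A)
      ((MvPolynomial (Fin n) A) ⊗[A] EGA4.Cpl A)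
      (Algebra.IsPushout.equiv A (MvPolynomial (Fin n) A) (EGA4.Cpl A)
        (MvPolynomial (Fin n) (EGA4.Cpl A))).symm.toLinearEquiv
  obtain ⟨Q', hQ'prime, hQ'over⟩ := Ideal.exists_isPrime_liesOver_of_faithfullyFlat
    (B := MvPolynomial (Fin n) (EGA4.Cpl A)) Q
  haveI := hQ'prime
  haveI := hQ'over
  letI := Localization.AtPrime.algebraOfLiesOver Q Q'
  haveI : IsLocalHom (algebraMap (Localization.AtPrime Q) (Localization.AtPrime Q')) :=
    Localization.isLocalHom_localRingHom _ _ _ _
  apply isFormallyEquidim_of_flat_local (Localization.AtPrime Q) (Localization.AtPrime Q')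
  obtain ⟨S, _, hS, g, hg⟩ := Groth.Agent.H15.FormEq.exists_CM_surjective (EGA4.Cpl A)
  haveI := hS
  haveI : LocCoh.IsCohenMacaulayRing S := Groth.Agent.H15.FinFlatCM.isCMRing_of_isCM hS
  haveI := Groth.Agent.H15.CMCat.isCMRing_mvPolynomial S n
  have hG : Function.Surjective (MvPolynomial.map (σ := Fin n) g) :=
    MvPolynomial.map_surjective g hg
  haveI : (Q'.comap (MvPolynomial.map (σ := Fin n) g)).IsPrime := Ideal.comap_isPrime _ _
  have hCM : LocCoh.IsCohenMacaulayLocalRing
      (Localization.AtPrime (Q'.comap (MvPolynomial.map (σ := Fin n) g))) :=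
    LocCoh.IsCohenMacaulayRing.isCohenMacaulayLocalRing_localization _
  exact Groth.Agent.H15.FormEq.isFormallyEquidim_of_surjective _
    (Groth.Agent.H15.FormEq.isFormallyEquidim_of_isCM _ hCM)
    (Localization.localRingHom _ Q' (MvPolynomial.map g) rfl)
    (RingHom.surjective_localRingHom_of_surjective _ hG Q')
    (isEquidim_localization_mvPolynomial (EGA4.Cpl A) hA
      (Groth.Agent.H15.FormEq.isCatenary_cpl A) n Q')

end Poly

section EssFT

/-- A local ring essentially of finite type over `R` is a quotient of the localization of a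
polynomial ring over `R` at a prime ideal. -/
theorem exists_surjective_of_essFiniteType (R S : Type u) [CommRing R] [CommRing S] [Algebra R S]
    [Algebra.EssFiniteType R S] [IsLocalRing S] :
    ∃ (n : ℕ) (Q : Ideal (MvPolynomial (Fin n) R)) (_ : Q.IsPrime)
      (ψ : Localization.AtPrime Q →+* S), Function.Surjective ψ := by
  obtain ⟨σ, hσ⟩ := (Algebra.essFiniteType_iff (R := R) (S := S)).mp inferInstance
  have hft : Algebra.FiniteType R (Algebra.adjoin R (σ : Set S)) := by
    constructor
    rw [Subalgebra.fg_top]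
    exact ⟨σ, rfl⟩
  obtain ⟨n, f, hf⟩ := Algebra.FiniteType.iff_quotient_mvPolynomial''.mp hft
  let φ : MvPolynomial (Fin n) R →+* S :=
    ((Algebra.adjoin R (σ : Set S)).val.comp f).toRingHom
  have hφ : ∀ x, φ x = (f x : S) := fun x => rfl
  haveI hQ : ((maximalIdeal S).comap φ).IsPrime := Ideal.comap_isPrime _ _
  have hunit : ∀ y : ((maximalIdeal S).comap φ).primeCompl, IsUnit (φ y) := fun y => by
    have h1 : φ y ∉ maximalIdeal S := y.2
    by_contra h2
    exact h1 ((IsLocalRing.mem_maximalIdeal _).mpr h2)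
  refine ⟨n, (maximalIdeal S).comap φ, hQ,
    IsLocalization.lift (M := ((maximalIdeal S).comap φ).primeCompl)
      (S := Localization.AtPrime ((maximalIdeal S).comap φ)) hunit, fun s => ?_⟩
  obtain ⟨t, ht, htu, hst⟩ := hσ s
  obtain ⟨g, hg⟩ := hf ⟨t, ht⟩
  obtain ⟨f', hf'⟩ := hf ⟨s * t, hst⟩
  have hφg : φ g = t := by rw [hφ, hg]
  have hφf : φ f' = s * t := by rw [hφ, hf']
  have hgQ : g ∈ ((maximalIdeal S).comap φ).primeCompl := by
    intro hmem
    have h1 : φ g ∈ maximalIdeal S := hmem
    rw [hφg] at h1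
    exact (IsLocalRing.mem_maximalIdeal _).mp h1 htu
  refine ⟨IsLocalization.mk' _ f' ⟨g, hgQ⟩, ?_⟩
  rw [IsLocalization.lift_mk'_spec]
  show φ f' = φ g * s
  rw [hφf, hφg, mul_comm]

variable (A : Type u) [CommRing A] [IsNoetherianRing A] [IsLocalRing A]

/-- An equidimensional local ring essentially of finite type over a formally equidimensional
Noetherian local ring is formally equidimensional. -/
theorem isFormallyEquidim_of_essFiniteType_of_isFormallyEquidim (hA : EGA4.IsFormallyEquidim A)
    (B : Type u) [CommRing B] [IsLocalRing B] [Algebra A B] [Algebra.EssFiniteType A B]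
    (hB : EGA4.IsEquidim B) : EGA4.IsFormallyEquidim B := by
  obtain ⟨n, Q, hQ, ψ, hψ⟩ := exists_surjective_of_essFiniteType A B
  haveI := hQ
  exact Groth.Agent.H15.FormEq.isFormallyEquidim_of_surjective _
    (isFormallyEquidim_localization_mvPolynomial A hA n Q) ψ hψ hB

/-- EGA IV 7.1.8: an equidimensional Noetherian local ring essentially of finite type over a
formally catenary Noetherian local ring is formally equidimensional. -/
theorem isFormallyEquidim_of_essFiniteType (hA : EGA4.IsFormallyCatenary A)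
    (B : Type u) [CommRing B] [IsNoetherianRing B] [IsLocalRing B] [Algebra A B]
    [Algebra.EssFiniteType A B] (hB : EGA4.IsEquidim B) : EGA4.IsFormallyEquidim B := by
  apply Groth.Agent.H15.FormEq.isFormallyEquidim_of_minimalPrimes B hB
  intro q _ _
  haveI : (q.comap (algebraMap A B)).IsPrime := Ideal.comap_isPrime _ _
  haveI : Algebra.EssFiniteType (A ⧸ q.comap (algebraMap A B)) (B ⧸ q) :=
    Algebra.EssFiniteType.of_comp A (A ⧸ q.comap (algebraMap A B)) (B ⧸ q)
  exact isFormallyEquidim_of_essFiniteType_of_isFormallyEquidim (A ⧸ q.comap (algebraMap A B))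
    (hA _) (B ⧸ q) (Groth.Agent.H15.FormEq.isEquidim_of_isDomain _)

/-- EGA IV 7.1.11: a formally catenary Noetherian local ring is universally catenary. -/
theorem isUniversallyCatenary_of_isFormallyCatenary (hA : EGA4.IsFormallyCatenary A) :
    CAlg.IsUniversallyCatenary A := by
  refine ⟨inferInstance, fun S _ _ hS => ?_⟩
  haveI := hS
  haveI : IsNoetherianRing S := Algebra.FiniteType.isNoetherianRing A S
  rw [Groth.Agent.S0552.result]
  intro m _
  rw [Groth.Agent.S9127.result]
  intro q hq
  haveI := hq.1.1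
  have h1 := isFormallyEquidim_of_essFiniteType A hA (Localization.AtPrime m ⧸ q)
    (Groth.Agent.H15.FormEq.isEquidim_of_isDomain _)
  exact (Groth.Agent.H15.FormEq.isEquidim_and_isCatenary _ h1).2

end EssFT

end Groth.Agent.H15.FormEqPoly
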