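import Groth.Agent.H15.FlatLoc

/-!
# Serre's condition `(S_n)` on fibres of ring homomorphisms

The condition `LocCoh.HasSk n (p.Fiber B) (p.Fiber B)` is translated into a condition on the fibre
local rings `EGA4.FibLocRing A B r = B_r / p B_r`, and the behaviour of these local rings along a
composite `A → B → C` with `B → C` flat is computed.
-/

set_option autoImplicit false
set_option linter.style.haveILetI false
set_option maxHeartbeats 400000

universe u

open IsLocalRing TensorProduct
open Groth.Agent.H15.Depth Groth.Agent.H15.DepthSpread Groth.Agent.H15.FlatLoc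

namespace Groth.Agent.H15.FibreSk

attribute [local instance] Groth.Agent.H15.FlatLoc.isLocalRing_fibLocRing

section Def

variable (A B : Type u) [CommRing A] [CommRing B] [Algebra A B]

/-- The `(S_n)` inequality for the fibre local ring at `r`. -/
def SkFib (n : ℕ) (r : Ideal B) [r.IsPrime] : Prop :=
  min (n : ℕ∞) (maximalIdeal (EGA4.FibLocRing A B r)).height ≤
    LocCoh.depth (EGA4.FibLocRing A B r) (EGA4.FibLocRing A B r)

theorem SkFib.congr {n : ℕ} {r r' : Ideal B} [r.IsPrime] [r'.IsPrime] (h : r = r')
    (hr : SkFib A B n r) : SkFib A B n r' := by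
  subst h
  exact hr

/-- The local rings of the fibre `κ(p) ⊗ B` are the fibre local rings of `B`. -/
theorem exists_fiber_equiv (p : Ideal A) [p.IsPrime] (q : Ideal (p.Fiber B)) [q.IsPrime] :
    (q.comap (Algebra.TensorProduct.includeRight : B →ₐ[A] p.Fiber B)).comap (algebraMap A B) = p ∧
    Nonempty (Localization.AtPrime q ≃+* EGA4.FibLocRing A B
      (q.comap (Algebra.TensorProduct.includeRight : B →ₐ[A] p.Fiber B))) := by
  have h1 : p = q.under A := Ideal.LiesOver.over
  have h2 : (q.comap (Algebra.TensorProduct.includeRight : B →ₐ[A] p.Fiber B)).comap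
      (algebraMap A B) = p := by
    refine Eq.trans ?_ h1.symm
    ext x
    simp only [Ideal.mem_comap, Ideal.under_def, AlgHom.commutes]
  refine ⟨h2, ?_⟩
  have e := (Ideal.Fiber.algEquivAux₂ p q).toRingEquiv
  have hI : (p.map (algebraMap A B)).map (algebraMap B (Localization.AtPrime
      (q.comap (Algebra.TensorProduct.includeRight : B →ₐ[A] p.Fiber B)))) =
      ((q.comap (Algebra.TensorProduct.includeRight : B →ₐ[A] p.Fiber B)).comap
        (algebraMap A B)).map (algebraMap A (Localization.AtPrime
          (q.comap (Algebra.TensorProduct.includeRight : B →ₐ[A] p.Fiber B)))) := by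
    rw [Ideal.map_map, ← IsScalarTower.algebraMap_eq, h2]
  exact ⟨e.trans (Ideal.quotEquivOfEq hI)⟩

/-- Every prime of `B` over `p` comes from a prime of the fibre. -/
theorem exists_fiber_prime (p : Ideal A) [hp : p.IsPrime] (r : Ideal B) [hr : r.IsPrime]
    (h : r.comap (algebraMap A B) = p) :
    ∃ (q : Ideal (p.Fiber B)) (_ : q.IsPrime),
      q.comap (Algebra.TensorProduct.includeRight : B →ₐ[A] p.Fiber B) = r := by
  have hmem : (⟨r, hr⟩ : PrimeSpectrum B) ∈
      PrimeSpectrum.comap (algebraMap A B) ⁻¹' {(⟨p, hp⟩ : PrimeSpectrum A)} := by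
    rw [Set.mem_preimage, Set.mem_singleton_iff]
    exact PrimeSpectrum.ext h
  have hx := (PrimeSpectrum.preimageEquivFiber A B ⟨p, hp⟩).symm_apply_apply ⟨⟨r, hr⟩, hmem⟩
  refine ⟨(PrimeSpectrum.preimageEquivFiber A B ⟨p, hp⟩ ⟨⟨r, hr⟩, hmem⟩).asIdeal,
    (PrimeSpectrum.preimageEquivFiber A B ⟨p, hp⟩ ⟨⟨r, hr⟩, hmem⟩).isPrime, ?_⟩
  exact congrArg (fun z => z.1.asIdeal) hx

variable {A B}

theorem skFib_of_equiv {n : ℕ} {r : Ideal B} [r.IsPrime] {D : Type u} [CommRing D] [IsLocalRing D]
    (e : D ≃+* EGA4.FibLocRing A B r)
    (h : min (n : ℕ∞) (maximalIdeal D).height ≤ LocCoh.depth D D) : SkFib A B n r := by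
  unfold SkFib
  have h1 : (maximalIdeal (EGA4.FibLocRing A B r)).height = (maximalIdeal D).height := by
    have e1 : (((maximalIdeal (EGA4.FibLocRing A B r)).height : ℕ∞) : WithBot ℕ∞) =
        (((maximalIdeal D).height : ℕ∞) : WithBot ℕ∞) := by
      rw [IsLocalRing.maximalIdeal_height_eq_ringKrullDim,
        IsLocalRing.maximalIdeal_height_eq_ringKrullDim, ringKrullDim_eq_of_ringEquiv e]
    exact WithBot.coe_injective e1
  rw [h1, ← Groth.Agent.H29.FlatCM.depth_ringEquiv e]
  exact h

theorem skFib_iff_of_equiv {n : ℕ} {r : Ideal B} [r.IsPrime] {D : Type u} [CommRing D]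
    [IsLocalRing D] (e : D ≃+* EGA4.FibLocRing A B r) :
    SkFib A B n r ↔ min (n : ℕ∞) (maximalIdeal D).height ≤ LocCoh.depth D D := by
  refine ⟨fun h => ?_, skFib_of_equiv e⟩
  unfold SkFib at h
  have h1 : (maximalIdeal (EGA4.FibLocRing A B r)).height = (maximalIdeal D).height := by
    have e1 : (((maximalIdeal (EGA4.FibLocRing A B r)).height : ℕ∞) : WithBot ℕ∞) =
        (((maximalIdeal D).height : ℕ∞) : WithBot ℕ∞) := by
      rw [IsLocalRing.maximalIdeal_height_eq_ringKrullDim,
        IsLocalRing.maximalIdeal_height_eq_ringKrullDim, ringKrullDim_eq_of_ringEquiv e]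
    exact WithBot.coe_injective e1
  rw [h1, ← Groth.Agent.H29.FlatCM.depth_ringEquiv e] at h
  exact h

variable (A B)

/-- `(S_n)` for the fibre ring over `p`, in terms of the fibre local rings. -/
theorem hasSk_fiber_iff (n : ℕ) (p : Ideal A) [p.IsPrime] :
    LocCoh.HasSk n (p.Fiber B) (p.Fiber B) ↔
      ∀ (r : Ideal B) [r.IsPrime], r.comap (algebraMap A B) = p → SkFib A B n r := by
  rw [Groth.Agent.S2659.hasSk_self_iff]
  have key : ∀ (q : Ideal (p.Fiber B)) [q.IsPrime],
      (min (n : ℕ∞) q.height ≤ LocCoh.depth (Localization.AtPrime q)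
        (LocalizedModule q.primeCompl (p.Fiber B))) ↔
      SkFib A B n (q.comap (Algebra.TensorProduct.includeRight : B →ₐ[A] p.Fiber B)) := by
    intro q _
    obtain ⟨-, ⟨e⟩⟩ := exists_fiber_equiv A B p q
    rw [skFib_iff_of_equiv (D := Localization.AtPrime q) e]
    have d1 : LocCoh.depth (Localization.AtPrime q) (LocalizedModule q.primeCompl (p.Fiber B)) =
        LocCoh.depth (Localization.AtPrime q) (Localization.AtPrime q) :=
      idealDepth_congr (Groth.Agent.S0602.locSelfEquiv q.primeCompl)
    have h1 : Ideal.height (R := Localization.AtPrime q) (maximalIdeal (Localization.AtPrime q)) =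
        q.height := by
      have e1 : ((Ideal.height (R := Localization.AtPrime q)
          (maximalIdeal (Localization.AtPrime q)) : ℕ∞) : WithBot ℕ∞) =
          ((q.height : ℕ∞) : WithBot ℕ∞) := by
        rw [IsLocalRing.maximalIdeal_height_eq_ringKrullDim,
          IsLocalization.AtPrime.ringKrullDim_eq_height q (Localization.AtPrime q)]
      exact WithBot.coe_injective e1
    rw [d1, h1]
  constructor
  · intro h r _ hr
    obtain ⟨q, hq, hqr⟩ := exists_fiber_prime A B p r hr
    exact ((key q).mp (h q)).congr A B hqr
  · intro h q _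
    exact (key q).mpr (h _ (exists_fiber_equiv A B p q).1)

end Def

section Flat

variable (A B : Type u) [CommRing A] [CommRing B] [Algebra A B] [IsNoetherianRing A]
  [IsNoetherianRing B] [Module.Flat A B]

/-- Ascent of `(S_n)` along a flat homomorphism whose fibre local rings satisfy `(S_n)`. -/
theorem hasSk_of_flat (n : ℕ) (hA : LocCoh.HasSk n A A)
    (hfib : ∀ (r : Ideal B) [r.IsPrime], SkFib A B n r) : LocCoh.HasSk n B B := by
  rw [Groth.Agent.S2659.hasSk_self_iff] at hA ⊢
  intro r _
  obtain ⟨hdim, hdepth, -⟩ := flat_data A B r
  rw [← IsLocalRing.maximalIdeal_height_eq_ringKrullDim] at hdim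
  have hdim' : r.height = (r.comap (algebraMap A B)).height +
      (maximalIdeal (EGA4.FibLocRing A B r)).height := by exact_mod_cast hdim
  have hA' := hA (r.comap (algebraMap A B))
  have dB : LocCoh.depth (Localization.AtPrime r) (LocalizedModule r.primeCompl B) =
      LocCoh.depth (Localization.AtPrime r) (Localization.AtPrime r) :=
    idealDepth_congr (Groth.Agent.S0602.locSelfEquiv r.primeCompl)
  have dA : LocCoh.depth (Localization.AtPrime (r.comap (algebraMap A B)))
      (LocalizedModule (r.comap (algebraMap A B)).primeCompl A) =
      LocCoh.depth (Localization.AtPrime (r.comap (algebraMap A B)))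
        (Localization.AtPrime (r.comap (algebraMap A B))) :=
    idealDepth_congr (Groth.Agent.S0602.locSelfEquiv (r.comap (algebraMap A B)).primeCompl)
  rw [dB, hdepth, hdim']
  rw [dA] at hA'
  exact le_trans (min_add_le _ _ _) (add_le_add hA' (hfib r))

end Flat

section Comp

variable (A B C : Type u) [CommRing A] [CommRing B] [CommRing C] [Algebra A B] [Algebra B C]
  [Algebra A C] [IsScalarTower A B C] [IsNoetherianRing B] [IsNoetherianRing C] [Module.Flat B C]

/-- Dimension and depth of the fibre local rings of a composite `A → B → C` with `B → C` flat. -/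
theorem fib_comp (r : Ideal C) [r.IsPrime] :
    (maximalIdeal (EGA4.FibLocRing A C r)).height =
      (maximalIdeal (EGA4.FibLocRing A B (r.comap (algebraMap B C)))).height +
        (maximalIdeal (EGA4.FibLocRing B C r)).height ∧
    LocCoh.depth (EGA4.FibLocRing A C r) (EGA4.FibLocRing A C r) =
      LocCoh.depth (EGA4.FibLocRing A B (r.comap (algebraMap B C)))
          (EGA4.FibLocRing A B (r.comap (algebraMap B C))) +
        LocCoh.depth (EGA4.FibLocRing B C r) (EGA4.FibLocRing B C r) := by
  haveI hlo : r.LiesOver (r.comap (algebraMap B C)) := ⟨rfl⟩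
  letI alg := Localization.AtPrime.algebraOfLiesOver (r.comap (algebraMap B C)) r
  haveI hloc : IsLocalHom (algebraMap (Localization.AtPrime (r.comap (algebraMap B C)))
      (Localization.AtPrime r)) := Localization.isLocalHom_localRingHom _ _ _ _
  -- the ideal `I = p R` of `R = B_q`
  have hIle : ((r.comap (algebraMap B C)).comap (algebraMap A B)).map
      (algebraMap A (Localization.AtPrime (r.comap (algebraMap B C)))) ≤
      maximalIdeal (Localization.AtPrime (r.comap (algebraMap B C))) :=
    map_le_maximalIdeal A B (r.comap (algebraMap B C))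
  have hIne : ((r.comap (algebraMap B C)).comap (algebraMap A B)).map
      (algebraMap A (Localization.AtPrime (r.comap (algebraMap B C)))) ≠ ⊤ :=
    ne_top_of_le_ne_top (maximalIdeal.isMaximal _).ne_top hIle
  -- `J = I S ≤ m_S`
  have hJle : (((r.comap (algebraMap B C)).comap (algebraMap A B)).map
      (algebraMap A (Localization.AtPrime (r.comap (algebraMap B C))))).map
      (algebraMap (Localization.AtPrime (r.comap (algebraMap B C))) (Localization.AtPrime r)) ≤
      maximalIdeal (Localization.AtPrime r) :=
    le_trans (Ideal.map_mono hIle) (IsLocalRing.map_maximalIdeal_le _)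
  haveI hnt : Nontrivial (Localization.AtPrime r ⧸
      (((r.comap (algebraMap B C)).comap (algebraMap A B)).map
        (algebraMap A (Localization.AtPrime (r.comap (algebraMap B C))))).map
        (algebraMap (Localization.AtPrime (r.comap (algebraMap B C)))
          (Localization.AtPrime r))) :=
    Ideal.Quotient.nontrivial_iff.mpr
      (ne_top_of_le_ne_top (maximalIdeal.isMaximal _).ne_top hJle)
  haveI hlocS' : IsLocalRing (Localization.AtPrime r ⧸
      (((r.comap (algebraMap B C)).comap (algebraMap A B)).map
        (algebraMap A (Localization.AtPrime (r.comap (algebraMap B C))))).map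
        (algebraMap (Localization.AtPrime (r.comap (algebraMap B C)))
          (Localization.AtPrime r))) :=
    IsLocalRing.of_surjective' (Ideal.Quotient.mk _) Ideal.Quotient.mk_surjective
  haveI hflat : Module.Flat (EGA4.FibLocRing A B (r.comap (algebraMap B C)))
      (Localization.AtPrime r ⧸
      (((r.comap (algebraMap B C)).comap (algebraMap A B)).map
        (algebraMap A (Localization.AtPrime (r.comap (algebraMap B C))))).map
        (algebraMap (Localization.AtPrime (r.comap (algebraMap B C)))
          (Localization.AtPrime r))) :=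
    Module.Flat.of_linearEquiv (Algebra.TensorProduct.quotIdealMapEquivQuotTensor
      (Localization.AtPrime r) (((r.comap (algebraMap B C)).comap (algebraMap A B)).map
        (algebraMap A (Localization.AtPrime (r.comap (algebraMap B C)))))).toLinearEquiv
  haveI hmkJ : IsLocalHom (Ideal.Quotient.mk
      ((((r.comap (algebraMap B C)).comap (algebraMap A B)).map
        (algebraMap A (Localization.AtPrime (r.comap (algebraMap B C))))).map
        (algebraMap (Localization.AtPrime (r.comap (algebraMap B C)))
          (Localization.AtPrime r)))) :=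
    IsLocalHom.of_surjective _ Ideal.Quotient.mk_surjective
  haveI hlocφ : IsLocalHom (algebraMap (EGA4.FibLocRing A B (r.comap (algebraMap B C)))
      (Localization.AtPrime r ⧸
      (((r.comap (algebraMap B C)).comap (algebraMap A B)).map
        (algebraMap A (Localization.AtPrime (r.comap (algebraMap B C))))).map
        (algebraMap (Localization.AtPrime (r.comap (algebraMap B C)))
          (Localization.AtPrime r)))) := ⟨fun a ha => by
      obtain ⟨x, rfl⟩ := Ideal.Quotient.mk_surjective a
      have h1 : IsUnit ((Ideal.Quotient.mk ((((r.comap (algebraMap B C)).comap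
          (algebraMap A B)).map
          (algebraMap A (Localization.AtPrime (r.comap (algebraMap B C))))).map
          (algebraMap (Localization.AtPrime (r.comap (algebraMap B C)))
            (Localization.AtPrime r))))
          (algebraMap (Localization.AtPrime (r.comap (algebraMap B C)))
            (Localization.AtPrime r) x)) := ha
      have h2 := (isUnit_map_iff (Ideal.Quotient.mk _) _).mp h1
      have h3 := (isUnit_map_iff (algebraMap (Localization.AtPrime (r.comap (algebraMap B C)))
            (Localization.AtPrime r)) _).mp h2
      exact h3.map _⟩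
  have hd := Groth.Agent.H29.FlatCM.ringKrullDim_eq_add_fibre
    (A := EGA4.FibLocRing A B (r.comap (algebraMap B C)))
    (B := Localization.AtPrime r ⧸
      (((r.comap (algebraMap B C)).comap (algebraMap A B)).map
        (algebraMap A (Localization.AtPrime (r.comap (algebraMap B C))))).map
        (algebraMap (Localization.AtPrime (r.comap (algebraMap B C)))
          (Localization.AtPrime r)))
  have hdp := Groth.Agent.H29.FlatCM.depth_eq_add_fibre
    (A := EGA4.FibLocRing A B (r.comap (algebraMap B C)))
    (B := Localization.AtPrime r ⧸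
      (((r.comap (algebraMap B C)).comap (algebraMap A B)).map
        (algebraMap A (Localization.AtPrime (r.comap (algebraMap B C))))).map
        (algebraMap (Localization.AtPrime (r.comap (algebraMap B C)))
          (Localization.AtPrime r)))
  -- identification of `S'` with the fibre local ring of `A → C`
  have hcomap : (r.comap (algebraMap B C)).comap (algebraMap A B) = r.comap (algebraMap A C) := by
    rw [Ideal.comap_comap, ← IsScalarTower.algebraMap_eq]
  have hJ : (((r.comap (algebraMap B C)).comap (algebraMap A B)).map
        (algebraMap A (Localization.AtPrime (r.comap (algebraMap B C))))).map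
        (algebraMap (Localization.AtPrime (r.comap (algebraMap B C)))
          (Localization.AtPrime r)) =
      (r.comap (algebraMap A C)).map (algebraMap A (Localization.AtPrime r)) := by
    rw [Ideal.map_map, ← IsScalarTower.algebraMap_eq A
      (Localization.AtPrime (r.comap (algebraMap B C))) (Localization.AtPrime r), hcomap]
  let e1 : (Localization.AtPrime r ⧸
      (((r.comap (algebraMap B C)).comap (algebraMap A B)).map
        (algebraMap A (Localization.AtPrime (r.comap (algebraMap B C))))).map
        (algebraMap (Localization.AtPrime (r.comap (algebraMap B C)))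
          (Localization.AtPrime r))) ≃+* EGA4.FibLocRing A C r := Ideal.quotEquivOfEq hJ
  -- identification of the closed fibre with the fibre local ring of `B → C`
  have hK : (maximalIdeal (Localization.AtPrime (r.comap (algebraMap B C)))).map
      (algebraMap (Localization.AtPrime (r.comap (algebraMap B C))) (Localization.AtPrime r)) =
      (r.comap (algebraMap B C)).map (algebraMap B (Localization.AtPrime r)) := by
    rw [← Localization.AtPrime.map_eq_maximalIdeal, Ideal.map_map,
      ← IsScalarTower.algebraMap_eq B (Localization.AtPrime (r.comap (algebraMap B C)))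
        (Localization.AtPrime r)]
  have hJK : (((r.comap (algebraMap B C)).comap (algebraMap A B)).map
        (algebraMap A (Localization.AtPrime (r.comap (algebraMap B C))))).map
        (algebraMap (Localization.AtPrime (r.comap (algebraMap B C)))
          (Localization.AtPrime r)) ≤
      (r.comap (algebraMap B C)).map (algebraMap B (Localization.AtPrime r)) := by
    rw [← hK]
    exact Ideal.map_mono hIle
  have hmB : EGA4.mB (EGA4.FibLocRing A B (r.comap (algebraMap B C)))
      (Localization.AtPrime r ⧸
      (((r.comap (algebraMap B C)).comap (algebraMap A B)).map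
        (algebraMap A (Localization.AtPrime (r.comap (algebraMap B C))))).map
        (algebraMap (Localization.AtPrime (r.comap (algebraMap B C)))
          (Localization.AtPrime r))) =
      ((r.comap (algebraMap B C)).map (algebraMap B (Localization.AtPrime r))).map
        (Ideal.Quotient.mk _) := by
    have hm : maximalIdeal (EGA4.FibLocRing A B (r.comap (algebraMap B C))) =
        (maximalIdeal (Localization.AtPrime (r.comap (algebraMap B C)))).map
          (Ideal.Quotient.mk _) :=
      (Groth.Agent.H29.FlatCM.map_mk_maximalIdeal _ hIne).symm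
    show (maximalIdeal (EGA4.FibLocRing A B (r.comap (algebraMap B C)))).map (algebraMap _ _) = _
    refine (congrArg (Ideal.map (algebraMap _ _)) hm).trans ?_
    refine (Ideal.map_map _ _).trans ?_
    refine Eq.trans ?_ (congrArg (Ideal.map (Ideal.Quotient.mk _)) hK)
    refine Eq.trans ?_ (Ideal.map_map (algebraMap (Localization.AtPrime (r.comap (algebraMap B C)))
      (Localization.AtPrime r)) (Ideal.Quotient.mk _)).symm
    rfl
  let e2 : EGA4.FibRing (EGA4.FibLocRing A B (r.comap (algebraMap B C)))
      (Localization.AtPrime r ⧸
      (((r.comap (algebraMap B C)).comap (algebraMap A B)).map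
        (algebraMap A (Localization.AtPrime (r.comap (algebraMap B C))))).map
        (algebraMap (Localization.AtPrime (r.comap (algebraMap B C)))
          (Localization.AtPrime r))) ≃+* EGA4.FibLocRing B C r :=
    (Ideal.quotEquivOfEq hmB).trans (DoubleQuot.quotQuotEquivQuotOfLE hJK)
  constructor
  · rw [ringKrullDim_eq_of_ringEquiv e1, ringKrullDim_eq_of_ringEquiv e2,
      ← IsLocalRing.maximalIdeal_height_eq_ringKrullDim,
      ← IsLocalRing.maximalIdeal_height_eq_ringKrullDim,
      ← IsLocalRing.maximalIdeal_height_eq_ringKrullDim] at hd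
    exact_mod_cast hd
  · rw [Groth.Agent.H29.FlatCM.depth_ringEquiv e1, Groth.Agent.H29.FlatCM.depth_ringEquiv e2] at hdp
    exact hdp

end Comp

end Groth.Agent.H15.FibreSk
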