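import Groth.Agent.H15.FibreSk

/-!
# Cohen–Macaulay fibres of ring homomorphisms
-/

set_option autoImplicit false
set_option linter.style.haveILetI false
set_option maxHeartbeats 400000

universe u

open IsLocalRing TensorProduct
open Groth.Agent.H15.Depth Groth.Agent.H15.DepthSpread Groth.Agent.H15.FlatLoc
  Groth.Agent.H15.FibreSk

namespace Groth.Agent.H15.FibreCM

attribute [local instance] Groth.Agent.H15.FlatLoc.isLocalRing_fibLocRing

theorem isCM_iff_height_eq_depth (F : Type u) [CommRing F] [IsLocalRing F] [IsNoetherianRing F] :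
    LocCoh.IsCohenMacaulayLocalRing F ↔ (maximalIdeal F).height = LocCoh.depth F F := by
  constructor
  · intro h
    have h1 := h.supportDim_eq_depth
    rw [Module.supportDim_self_eq_ringKrullDim,
      ← IsLocalRing.maximalIdeal_height_eq_ringKrullDim] at h1
    exact WithBot.coe_injective h1
  · intro h
    refine ⟨?_⟩
    rw [Module.supportDim_self_eq_ringKrullDim,
      ← IsLocalRing.maximalIdeal_height_eq_ringKrullDim, h]

section Def

variable (A B : Type u) [CommRing A] [CommRing B] [Algebra A B]

attribute [local instance] Algebra.TensorProduct.rightAlgebra in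
theorem isNoetherianRing_fiber (p : Ideal A) [p.IsPrime] [IsNoetherianRing B] :
    IsNoetherianRing (p.Fiber B) :=
  isNoetherianRing_of_ringEquiv _ (Ideal.Fiber.algEquivQuotient p (S := B)).symm.toRingEquiv

/-- Cohen–Macaulayness of the fibre ring over `p`, in terms of the fibre local rings. -/
theorem isCM_fiber_iff [IsNoetherianRing B] (p : Ideal A) [p.IsPrime] :
    LocCoh.IsCohenMacaulayRing (p.Fiber B) ↔
      ∀ (r : Ideal B) [r.IsPrime], r.comap (algebraMap A B) = p →
        LocCoh.IsCohenMacaulayLocalRing (EGA4.FibLocRing A B r) := by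
  haveI := isNoetherianRing_fiber A B p
  constructor
  · intro h r _ hr
    obtain ⟨q, hq, hqr⟩ := exists_fiber_prime A B p r hr
    haveI := hq
    obtain ⟨-, ⟨e⟩⟩ := exists_fiber_equiv A B p q
    have h1 := Groth.Agent.H29.FlatCM.isCM_ringEquiv e
      (h.isCohenMacaulayLocalRing_localization q)
    have gen : ∀ (I : Ideal B) [I.IsPrime], I = r →
        LocCoh.IsCohenMacaulayLocalRing (EGA4.FibLocRing A B I) →
        LocCoh.IsCohenMacaulayLocalRing (EGA4.FibLocRing A B r) := by
      intro I _ hI hc
      subst hI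
      exact hc
    exact gen _ hqr h1
  · intro h
    refine ⟨fun q hq => ?_⟩
    obtain ⟨hcomap, ⟨e⟩⟩ := exists_fiber_equiv A B p q
    exact Groth.Agent.H29.FlatCM.isCM_ringEquiv e.symm (h _ hcomap)

end Def

section Comp

variable (A B C : Type u) [CommRing A] [CommRing B] [CommRing C] [Algebra A B] [Algebra B C]
  [Algebra A C] [IsScalarTower A B C] [IsNoetherianRing B] [IsNoetherianRing C] [Module.Flat B C]

/-- Composition: CM fibre local rings of `A → B` and `B → C` give CM fibre local rings of `A → C`. -/
theorem isCM_fib_comp (r : Ideal C) [r.IsPrime]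
    (h1 : LocCoh.IsCohenMacaulayLocalRing (EGA4.FibLocRing A B (r.comap (algebraMap B C))))
    (h2 : LocCoh.IsCohenMacaulayLocalRing (EGA4.FibLocRing B C r)) :
    LocCoh.IsCohenMacaulayLocalRing (EGA4.FibLocRing A C r) := by
  obtain ⟨hht, hdp⟩ := fib_comp A B C r
  rw [isCM_iff_height_eq_depth] at h1 h2 ⊢
  rw [hht, hdp, h1, h2]

/-- Descent: if the closed fibre of `B_q → C_r` has dimension zero, CM descends. -/
theorem isCM_fib_of_comp (r : Ideal C) [r.IsPrime]
    (hzero : (maximalIdeal (EGA4.FibLocRing B C r)).height = 0)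
    (h : LocCoh.IsCohenMacaulayLocalRing (EGA4.FibLocRing A C r)) :
    LocCoh.IsCohenMacaulayLocalRing (EGA4.FibLocRing A B (r.comap (algebraMap B C))) := by
  obtain ⟨hht, hdp⟩ := fib_comp A B C r
  have hdepth0 : LocCoh.depth (EGA4.FibLocRing B C r) (EGA4.FibLocRing B C r) = 0 := by
    have h1 := Groth.Agent.H29.CM.depth_le_supportDim (A := EGA4.FibLocRing B C r)
      (M := EGA4.FibLocRing B C r)
    rw [Module.supportDim_self_eq_ringKrullDim,
      ← IsLocalRing.maximalIdeal_height_eq_ringKrullDim, hzero] at h1
    have h2 : LocCoh.depth (EGA4.FibLocRing B C r) (EGA4.FibLocRing B C r) ≤ 0 := by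
      exact_mod_cast h1
    exact le_antisymm h2 zero_le
  rw [isCM_iff_height_eq_depth] at h ⊢
  rw [hht, hdp, hzero, hdepth0, add_zero, add_zero] at h
  exact h

omit [IsNoetherianRing B] [IsNoetherianRing C] [Module.Flat B C] [Algebra A B] [Algebra A C]
  [IsScalarTower A B C] in
/-- For a faithfully flat `B → C` and a prime `q` of `B` there is a prime `r` of `C` over `q`
such that the closed fibre of `B_q → C_r` has dimension zero. -/
theorem exists_prime_fibre_dim_zero [IsNoetherianRing B] [IsNoetherianRing C]
    [Module.FaithfullyFlat B C] (q : Ideal B) [q.IsPrime] :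
    ∃ (r : Ideal C) (_ : r.IsPrime), q = r.comap (algebraMap B C) ∧
      (maximalIdeal (EGA4.FibLocRing B C r)).height = 0 := by
  obtain ⟨P, hPprime, hPover⟩ := Ideal.exists_isPrime_liesOver_of_faithfullyFlat (B := C) q
  have hle : q.map (algebraMap B C) ≤ P := by
    rw [Ideal.map_le_iff_le_comap]
    exact le_of_eq hPover.over
  obtain ⟨r, hrmin, hrP⟩ := Ideal.exists_minimalPrimes_le hle
  haveI hrprime : r.IsPrime := hrmin.1.1
  have hrover : q = r.comap (algebraMap B C) := by
    apply le_antisymm
    · exact Ideal.map_le_iff_le_comap.mp hrmin.1.2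
    · calc r.comap (algebraMap B C) ≤ P.comap (algebraMap B C) := Ideal.comap_mono hrP
        _ = q := hPover.over.symm
  haveI : r.LiesOver q := ⟨hrover⟩
  have hheight : r.height = q.height := by
    rw [Ideal.height_eq_height_add_of_liesOver_of_hasGoingDown q r]
    have h0 : (r.map (Ideal.Quotient.mk (q.map (algebraMap B C)))).height = 0 := by
      haveI : (r.map (Ideal.Quotient.mk (q.map (algebraMap B C)))).IsPrime :=
        Ideal.map_isPrime_of_surjective Ideal.Quotient.mk_surjective
          (by rw [Ideal.mk_ker]; exact hrmin.1.2)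
      rw [Ideal.height_eq_zero_iff]
      have h1 : r ∈ (q.map (algebraMap B C)).minimalPrimes := hrmin
      rw [Ideal.minimalPrimes_eq_comap] at h1
      obtain ⟨q', hq', hq'eq⟩ := h1
      rw [← hq'eq, Ideal.map_comap_of_surjective _ Ideal.Quotient.mk_surjective]
      exact hq'
    rw [h0, add_zero]
  refine ⟨r, hrprime, hrover, ?_⟩
  subst hrover
  obtain ⟨hdim, -, -⟩ := Groth.Agent.H15.FlatLoc.flat_data B C r
  rw [← IsLocalRing.maximalIdeal_height_eq_ringKrullDim] at hdim
  have hdim' : r.height = (r.comap (algebraMap B C)).height +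
      (maximalIdeal (EGA4.FibLocRing B C r)).height := by exact_mod_cast hdim
  have hne : (r.comap (algebraMap B C)).height ≠ ⊤ :=
    Ideal.height_ne_top (Ideal.IsPrime.ne_top inferInstance)
  apply ENat.add_right_injective_of_ne_top hne
  show (r.comap (algebraMap B C)).height + (maximalIdeal (EGA4.FibLocRing B C r)).height =
    (r.comap (algebraMap B C)).height + 0
  rw [← hdim', hheight, add_zero]

end Comp

end Groth.Agent.H15.FibreCM
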