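import Mathlib
import Groth.Prelude.Def_EGA4b
import Groth.Prelude.Def_CAlg2
import Groth.Agent.S2644
import Groth.Agent.S2646
import Groth.Agent.S4749
import Groth.Agent.S4754
import Groth.Agent.H29.CplFinite
import Groth.Agent.H34.ComplQuot
import Groth.Agent.H34.FibLoc
import Groth.Agent.H15.FlatLoc
import Groth.Agent.H15.FlatQuot
import Groth.Agent.H15.FormEq
import Groth.Agent.H15.FormEqPoly

/-!
# Completions of local rings with geometrically normal formal fibres (helper15)

* `isNormalRing_of_isNormalHom`: a normal homomorphism of Noetherian rings with normal source has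
  normal target.
* `isNormalRing_tensor`: for `D` Noetherian local with geometrically normal formal fibres and `C` a
  finite normal `D`-algebra, `C ⊗[D] Cpl D` is a normal ring.
* `isDomain_cpl_of_finite_local`: if moreover `C` is local and `D → C` is injective, `Cpl D` is a
  domain.
* `isEquidim_of_unique_minimalPrime`, `isFormallyEquidim_of_isDomain_cpl_red`.
-/

set_option autoImplicit false
set_option linter.style.haveILetI false
set_option linter.unusedVariables false
set_option linter.unusedSectionVars false

universe u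

open IsLocalRing TensorProduct

namespace Groth.Agent.H15.NorCpl

/-- A normal homomorphism of Noetherian rings with normal source has normal target. -/
theorem isNormalRing_of_isNormalHom (A B : Type u) [CommRing A] [CommRing B] [IsNoetherianRing A]
    [IsNoetherianRing B] [Algebra A B] (h : EGA4.IsNormalHom A B) (hA : EGA4.IsNormalRing A) :
    EGA4.IsNormalRing B := by
  intro Q _
  haveI : Module.Flat A B := h.1
  obtain ⟨hd, hic⟩ := hA (Q.comap (algebraMap A B))
  haveI := hd
  haveI := hic
  exact Groth.Agent.H15.FlatLoc.normal_of_flat A B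
    (fun Q' _ => Groth.Agent.S2644.fibLoc_normal_of_isGeomNormal A B Q'
      (h.2 (Q'.comap (algebraMap A B)))) Q

/-- A local normal ring is a domain. -/
theorem isDomain_of_isNormalRing_of_isLocalRing (R : Type u) [CommRing R] [IsLocalRing R]
    (h : EGA4.IsNormalRing R) : IsDomain R := by
  obtain ⟨hd, -⟩ := h (maximalIdeal R)
  haveI := hd
  exact (Groth.Agent.H15.FlatLoc.selfEquivLocMax R).toMulEquiv.isDomain _

/-- An integrally closed domain is a normal ring. -/
theorem isNormalRing_of_isIntegrallyClosed (R : Type u) [CommRing R] [IsDomain R]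
    [IsIntegrallyClosed R] : EGA4.IsNormalRing R := by
  intro p _
  exact ⟨inferInstance, isIntegrallyClosed_of_isLocalization (Localization.AtPrime p) p.primeCompl
    p.primeCompl_le_nonZeroDivisors⟩

/-- A Noetherian ring with a unique minimal prime is equidimensional. -/
theorem isEquidim_of_unique_minimalPrime (R : Type u) [CommRing R] [IsNoetherianRing R]
    [IsLocalRing R] (h : ∀ p ∈ minimalPrimes R, ∀ q ∈ minimalPrimes R, p = q) :
    EGA4.IsEquidim R := by
  intro p hp
  obtain ⟨Q, hQ, hdim⟩ := Groth.Agent.H15.FlatQuot.exists_minimalPrimes_ringKrullDim_eq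
    (B := R) (⊥ : Ideal R) bot_ne_top
  have hQ' : Q ∈ minimalPrimes R := hQ
  rw [h p hp Q hQ', hdim]
  exact ringKrullDim_eq_of_ringEquiv (RingEquiv.quotientBot R)

section Finite

variable (D : Type u) [CommRing D] [IsNoetherianRing D] [IsLocalRing D]
  (C : Type u) [CommRing C] [Algebra D C] [Module.Finite D C]

theorem isNormalHom_cpl (hD : EGA4.HasGeomNormalFormalFibres D) :
    EGA4.IsNormalHom D (EGA4.Cpl D) :=
  ⟨AdicCompletion.flat_of_isNoetherian (maximalIdeal D), fun p _ => hD p⟩

instance isNoetherianRing_tensor : IsNoetherianRing (C ⊗[D] EGA4.Cpl D) := by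
  haveI : Module.Finite (EGA4.Cpl D) (EGA4.Cpl D ⊗[D] C) :=
    Module.Finite.base_change D (EGA4.Cpl D) C
  haveI : IsNoetherianRing (EGA4.Cpl D ⊗[D] C) :=
    Algebra.FiniteType.isNoetherianRing (EGA4.Cpl D) _
  exact isNoetherianRing_of_ringEquiv _ (Algebra.TensorProduct.comm D (EGA4.Cpl D) C).toRingEquiv

include D in
theorem isNoetherianRing_of_finite : IsNoetherianRing C :=
  Algebra.FiniteType.isNoetherianRing D C

/-- `C ⊗[D] Cpl D` is a normal ring when `C` is a finite normal `D`-algebra and the formal fibres
of `D` are geometrically normal. -/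
theorem isNormalRing_tensor (hD : EGA4.HasGeomNormalFormalFibres D) (hC : EGA4.IsNormalRing C) :
    EGA4.IsNormalRing (C ⊗[D] EGA4.Cpl D) := by
  haveI := isNoetherianRing_of_finite D C
  have h1 : EGA4.IsNormalHom C (C ⊗[D] EGA4.Cpl D) :=
    (Groth.Agent.S4749.result D (EGA4.Cpl D) C (Or.inr inferInstance)).1 (isNormalHom_cpl D hD)
  exact isNormalRing_of_isNormalHom C (C ⊗[D] EGA4.Cpl D) h1 hC

/-- The map `Cpl D → C ⊗[D] Cpl D` is integral. -/
theorem includeRight_isIntegral :
    (Algebra.TensorProduct.includeRight : EGA4.Cpl D →ₐ[D] C ⊗[D] EGA4.Cpl D).toRingHom.IsIntegral := by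
  haveI : Module.Finite (EGA4.Cpl D) (EGA4.Cpl D ⊗[D] C) :=
    Module.Finite.base_change D (EGA4.Cpl D) C
  have h1 : (algebraMap (EGA4.Cpl D) (EGA4.Cpl D ⊗[D] C)).IsIntegral :=
    algebraMap_isIntegral_iff.mpr inferInstance
  have h2 : ((Algebra.TensorProduct.comm D (EGA4.Cpl D) C).toRingEquiv :
      EGA4.Cpl D ⊗[D] C →+* C ⊗[D] EGA4.Cpl D).IsIntegral :=
    RingHom.isIntegral_of_surjective _ (RingEquiv.surjective _)
  have h3 := RingHom.IsIntegral.trans _ _ h1 h2
  have h4 : (((Algebra.TensorProduct.comm D (EGA4.Cpl D) C).toRingEquiv :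
      EGA4.Cpl D ⊗[D] C →+* C ⊗[D] EGA4.Cpl D).comp
        (algebraMap (EGA4.Cpl D) (EGA4.Cpl D ⊗[D] C))) =
      (Algebra.TensorProduct.includeRight : EGA4.Cpl D →ₐ[D] C ⊗[D] EGA4.Cpl D).toRingHom := by
    ext x
    simp [Algebra.TensorProduct.algebraMap_apply]
  rw [← h4]
  exact h3

/-- The map `Cpl D → C ⊗[D] Cpl D` is injective when `D → C` is. -/
theorem includeRight_injective (hinj : Function.Injective (algebraMap D C)) :
    Function.Injective
      (Algebra.TensorProduct.includeRight : EGA4.Cpl D →ₐ[D] C ⊗[D] EGA4.Cpl D) := by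
  haveI : Module.Flat D (EGA4.Cpl D) := AdicCompletion.flat_of_isNoetherian (maximalIdeal D)
  have h1 : Function.Injective (LinearMap.rTensor (EGA4.Cpl D) (Algebra.linearMap D C)) :=
    Module.Flat.rTensor_preserves_injective_linearMap _ hinj
  have h2 : Function.Injective ((LinearMap.rTensor (EGA4.Cpl D) (Algebra.linearMap D C)).comp
      (TensorProduct.lid D (EGA4.Cpl D)).symm.toLinearMap) :=
    h1.comp (TensorProduct.lid D (EGA4.Cpl D)).symm.injective
  intro x y hxy
  apply h2
  simpa using hxy

/-- If the finite normal `D`-algebra `C` is local and contains `D`, then `Cpl D` is a domain. -/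
theorem isDomain_cpl_of_finite_local [IsLocalRing C] (hD : EGA4.HasGeomNormalFormalFibres D)
    (hC : EGA4.IsNormalRing C) (hinj : Function.Injective (algebraMap D C)) :
    IsDomain (EGA4.Cpl D) := by
  haveI := isNoetherianRing_of_finite D C
  obtain ⟨e⟩ := Groth.Agent.H29.CplFinite.nonempty_cplFiniteEquiv D C
  rw [IsLocalRing.jacobson_eq_maximalIdeal ⊥ bot_ne_top] at e
  haveI : IsLocalRing (C ⊗[D] EGA4.Cpl D) := e.toRingEquiv.isLocalRing
  haveI : IsDomain (C ⊗[D] EGA4.Cpl D) :=
    isDomain_of_isNormalRing_of_isLocalRing _ (isNormalRing_tensor D C hD hC)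
  exact Function.Injective.isDomain
    (Algebra.TensorProduct.includeRight : EGA4.Cpl D →ₐ[D] C ⊗[D] EGA4.Cpl D).toRingHom
    (includeRight_injective D C hinj)

end Finite

section Unibranch

variable (A : Type u) [CommRing A] [IsNoetherianRing A] [IsLocalRing A]

/-- For a unibranch Noetherian local ring with geometrically normal formal fibres, the extension
of the nilradical to the completion is a prime ideal. -/
theorem isPrime_map_nilradical (hA : EGA4.HasGeomNormalFormalFibres A)
    (hu : CAlg2.IsUnibranch A) :
    ((nilradical A).map (algebraMap A (EGA4.Cpl A))).IsPrime := by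
  haveI hdom : IsDomain (A ⧸ nilradical A) := hu.1
  haveI hloc : IsLocalRing (integralClosure (A ⧸ nilradical A)
    (FractionRing (A ⧸ nilradical A))) := hu.2
  have hD : EGA4.HasGeomNormalFormalFibres (A ⧸ nilradical A) :=
    Groth.Agent.S4754.result A hA (nilradical A)
  haveI hfin : Module.Finite (A ⧸ nilradical A)
      (integralClosure (A ⧸ nilradical A) (FractionRing (A ⧸ nilradical A))) :=
    (Groth.Agent.S2646.result _ hD).2
  haveI : IsIntegrallyClosed (integralClosure (A ⧸ nilradical A)
      (FractionRing (A ⧸ nilradical A))) :=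
    integralClosure.isIntegrallyClosedOfFiniteExtension (FractionRing (A ⧸ nilradical A))
  have hC : EGA4.IsNormalRing (integralClosure (A ⧸ nilradical A)
      (FractionRing (A ⧸ nilradical A))) := isNormalRing_of_isIntegrallyClosed _
  have hinj : Function.Injective (algebraMap (A ⧸ nilradical A)
      (integralClosure (A ⧸ nilradical A) (FractionRing (A ⧸ nilradical A)))) := by
    have h1 : Function.Injective (algebraMap (A ⧸ nilradical A)
        (FractionRing (A ⧸ nilradical A))) := IsFractionRing.injective _ _
    rw [IsScalarTower.algebraMap_eq (A ⧸ nilradical A)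
      (integralClosure (A ⧸ nilradical A) (FractionRing (A ⧸ nilradical A)))
      (FractionRing (A ⧸ nilradical A)), RingHom.coe_comp] at h1
    exact Function.Injective.of_comp h1
  haveI : IsDomain (EGA4.Cpl (A ⧸ nilradical A)) :=
    isDomain_cpl_of_finite_local _ (integralClosure (A ⧸ nilradical A)
      (FractionRing (A ⧸ nilradical A))) hD hC hinj
  have e := (Groth.Agent.H34.ComplQuot.cplQuotEquiv A (nilradical A)).toRingEquiv
  haveI : IsDomain (EGA4.Cpl A ⧸ (nilradical A).map (algebraMap A (EGA4.Cpl A))) :=
    e.symm.toMulEquiv.isDomain _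
  exact (Ideal.Quotient.isDomain_iff_prime _).mp this

/-- A unibranch Noetherian local ring with geometrically normal formal fibres is formally
equidimensional (its completion has a unique minimal prime). -/
theorem isFormallyEquidim_of_isUnibranch (hA : EGA4.HasGeomNormalFormalFibres A)
    (hu : CAlg2.IsUnibranch A) : EGA4.IsFormallyEquidim A := by
  have hprime := isPrime_map_nilradical A hA hu
  have hnil : (nilradical A).map (algebraMap A (EGA4.Cpl A)) ≤ nilradical (EGA4.Cpl A) := by
    rw [Ideal.map_le_iff_le_comap]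
    intro x hx
    rw [Ideal.mem_comap, mem_nilradical]
    exact (mem_nilradical.mp hx).map _
  have key : ∀ p ∈ minimalPrimes (EGA4.Cpl A),
      p = (nilradical A).map (algebraMap A (EGA4.Cpl A)) := by
    intro p hp
    haveI := hp.1.1
    have h1 : (nilradical A).map (algebraMap A (EGA4.Cpl A)) ≤ p :=
      hnil.trans (nilradical_le_prime p)
    exact le_antisymm (hp.2 ⟨hprime, bot_le⟩ h1) h1
  show EGA4.IsEquidim (EGA4.Cpl A)
  apply isEquidim_of_unique_minimalPrime
  intro p hp q hq
  rw [key p hp, key q hq]

/-- A formally equidimensional Noetherian local ring is formally catenary. -/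
theorem isFormallyCatenary_of_isFormallyEquidim (h : EGA4.IsFormallyEquidim A) :
    EGA4.IsFormallyCatenary A := by
  intro p _
  exact (Groth.Agent.H15.FormEq.isEquidim_quotient_iff A h p).mp
    (Groth.Agent.H15.FormEq.isEquidim_of_isDomain _)

end Unibranch

end Groth.Agent.H15.NorCpl
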