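import Groth.Agent.H15.DepthSpread
import Mathlib.RingTheory.Ideal.AssociatedPrime.Finiteness

/-!
# Depth at primes near a given prime: the locus where the depth does not jump is finite
-/

set_option autoImplicit false

universe u

open scoped Pointwise
open RingTheory.Sequence IsLocalRing

namespace Groth.Agent.H15.DepthSpread

open Groth.Agent.H15.Depth Groth.Agent.H15

set_option linter.unusedSectionVars false

variable {A : Type u} [CommRing A] [IsNoetherianRing A]

/-- Normalising the first element of a regular sequence on `M_p` to come from `I`. -/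
theorem exists_mem_regular_of_hasSeq_succ (I : Ideal A) (p : Ideal A) [p.IsPrime]
    (M : Type u) [AddCommGroup M] [Module A M] (e : ℕ)
    (hseq : HasSeq (I.map (algebraMap A (Localization.AtPrime p)))
      (LocalizedModule p.primeCompl M) (e + 1)) :
    ∃ x ∈ I, IsSMulRegular (LocalizedModule p.primeCompl M)
        (algebraMap A (Localization.AtPrime p) x) ∧
      HasSeq (I.map (algebraMap A (Localization.AtPrime p)))
        (LocalizedModule p.primeCompl (QuotSMulTop x M)) e := by
  obtain ⟨y, hyI, hyreg, hyseq⟩ := hasSeq_succ_iff.mp hseq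
  obtain ⟨⟨⟨x, hxI⟩, s⟩, hxs⟩ :=
    (IsLocalization.mem_map_algebraMap_iff p.primeCompl (Localization.AtPrime p)).mp hyI
  have hu : IsUnit (algebraMap A (Localization.AtPrime p) (s : A)) :=
    IsLocalization.map_units (Localization.AtPrime p) s
  have hxs' : y * algebraMap A (Localization.AtPrime p) (s : A) =
      algebraMap A (Localization.AtPrime p) x := hxs
  have hxreg : IsSMulRegular (LocalizedModule p.primeCompl M)
      (algebraMap A (Localization.AtPrime p) x) := by
    rw [← hxs', isSMulRegular_mul_unit_iff _ _ _ hu]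
    exact hyreg
  have htop : algebraMap A (Localization.AtPrime p) x •
      (⊤ : Submodule (Localization.AtPrime p) (LocalizedModule p.primeCompl M)) =
      y • (⊤ : Submodule (Localization.AtPrime p) (LocalizedModule p.primeCompl M)) := by
    rw [← hxs', smul_top_mul_unit _ _ _ hu]
  exact ⟨x, hxI, hxreg, (hyseq.congr (Submodule.quotEquivOfEq _ _ htop.symm)).congr
    (locQuotEquiv p.primeCompl M x).symm⟩

/-- A socle element of `M_q` for the maximal ideal of `A_q` makes `q` an associated prime of `M`. -/
theorem mem_associatedPrimes_of_hasSocle (q : Ideal A) [q.IsPrime] (M : Type u) [AddCommGroup M]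
    [Module A M]
    (h : HasSocle (maximalIdeal (Localization.AtPrime q)) (LocalizedModule q.primeCompl M)) :
    q ∈ associatedPrimes A M := by
  classical
  obtain ⟨z, hz0, hz⟩ := h
  induction z using LocalizedModule.induction_on with
  | h m s =>
    have hkill : ∀ a ∈ q, ∃ t : A, t ∉ q ∧ t • a • m = 0 := by
      intro a ha
      have h1 := hz (algebraMap A (Localization.AtPrime q) a)
        ((IsLocalization.AtPrime.to_map_mem_maximal_iff (Localization.AtPrime q) q a).mpr ha)
      rw [algebraMap_smul_mk] at h1
      obtain ⟨t, ht, htm⟩ := exists_smul_eq_zero_of_mk_eq_zero q.primeCompl (a • m) s h1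
      exact ⟨t, ht, htm⟩
    obtain ⟨F, hF⟩ : ∃ F : Finset A, Ideal.span (F : Set A) = q :=
      (IsNoetherian.noetherian q)
    have hFq : ∀ a ∈ F, a ∈ q := fun a ha => hF ▸ Ideal.subset_span ha
    choose! t ht htm using hkill
    let T : A := ∏ a ∈ F, t a
    have hT : T ∉ q := by
      intro hTq
      obtain ⟨a, ha, hta⟩ := (Ideal.IsPrime.prod_mem_iff).mp hTq
      exact ht a (hFq a ha) hta
    have hgen : ∀ a ∈ F, a • T • m = 0 := by
      intro a ha
      obtain ⟨c, hc⟩ := Finset.dvd_prod_of_mem t ha
      have hc' : T = t a * c := hc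
      rw [hc', smul_smul, show a * (t a * c) = c * (t a * a) by ring, mul_smul, mul_smul,
        htm a (hFq a ha), smul_zero]
    have hall : ∀ b ∈ q, b • T • m = 0 := by
      intro b hb
      rw [← hF] at hb
      refine Submodule.span_induction (p := fun b _ => b • T • m = 0) ?_ ?_ ?_ ?_ hb
      · intro a ha
        exact hgen a ha
      · rw [zero_smul]
      · intro b c _ _ hb hc
        rw [add_smul, hb, hc, add_zero]
      · intro r b _ hb
        rw [smul_eq_mul, mul_smul, hb, smul_zero]
    change IsAssociatedPrime q M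
    rw [isAssociatedPrime_iff]
    refine ⟨inferInstance, T • m, ?_⟩
    ext b
    rw [Submodule.mem_colon_singleton, Submodule.mem_bot]
    constructor
    · exact hall b
    · intro hb
      by_contra hbq
      apply hz0
      refine mk_eq_zero_of_smul_eq_zero q.primeCompl m s (b * T) ?_ (by rw [mul_smul]; exact hb)
      exact q.primeCompl.mul_mem hbq hT

theorem mem_associatedPrimes_of_depth_eq_zero (q : Ideal A) [q.IsPrime] (M : Type u)
    [AddCommGroup M] [Module A M] [Module.Finite A M]
    (h : LocCoh.depth (Localization.AtPrime q) (LocalizedModule q.primeCompl M) = 0) :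
    q ∈ associatedPrimes A M := by
  apply mem_associatedPrimes_of_hasSocle
  rcases exists_regular_or_hasSocle (I := maximalIdeal (Localization.AtPrime q))
    (LocalizedModule q.primeCompl M) with ⟨a, ha, hreg⟩ | hsoc
  · exfalso
    have h1 : ((1 : ℕ) : ℕ∞) ≤ LocCoh.depth (Localization.AtPrime q)
        (LocalizedModule q.primeCompl M) :=
      le_idealDepth_of_hasSeq (hasSeq_succ_iff.mpr ⟨a, ha, hreg, hasSeq_zero⟩)
    rw [h] at h1
    simp at h1
  · exact hsoc

theorem enat_add_one_cancel {d : ℕ∞} {e : ℕ} (h : d + 1 = ((e + 1 : ℕ) : ℕ∞)) : d = e := by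
  cases d using ENat.recTopCoe with
  | top =>
    exfalso
    rw [top_add] at h
    exact ENat.top_ne_natCast _ h
  | coe n =>
    have h2 : n + 1 = e + 1 := by exact_mod_cast h
    have h3 : n = e := by omega
    rw [h3]

/-- Near `p`, the primes `q ⊇ p` at which the depth of `M_q` equals the length `e` of a regular
sequence in `p A_p` on `M_p` form a finite set. -/
theorem exists_finite_of_depth_eq (p : Ideal A) [p.IsPrime] (e : ℕ) :
    ∀ (M : Type u) [AddCommGroup M] [Module A M] [Module.Finite A M],
      HasSeq (p.map (algebraMap A (Localization.AtPrime p))) (LocalizedModule p.primeCompl M) e →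
      ∃ f : A, f ∉ p ∧ ∃ T : Set (Ideal A), T.Finite ∧ ∀ (q : Ideal A) [q.IsPrime], p ≤ q → f ∉ q →
        LocCoh.depth (Localization.AtPrime q) (LocalizedModule q.primeCompl M) = e → q ∈ T := by
  induction e with
  | zero =>
    intro M _ _ _ _
    refine ⟨1, fun h => ‹p.IsPrime›.ne_top ((Ideal.eq_top_iff_one p).mpr h),
      associatedPrimes A M, associatedPrimes.finite A M, ?_⟩
    intro q _ _ _ hq
    exact mem_associatedPrimes_of_depth_eq_zero q M (by simpa using hq)
  | succ e ih =>
    intro M _ _ _ hseq
    obtain ⟨x, hxp, hxreg, hseq'⟩ := exists_mem_regular_of_hasSeq_succ p p M e hseq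
    obtain ⟨f₁, hf₁, T, hT, h₁⟩ := ih (QuotSMulTop x M) hseq'
    obtain ⟨f₂, hf₂, h₂⟩ := exists_notMem_forall_isSMulRegular M p x hxreg
    refine ⟨f₁ * f₂, fun h => (‹p.IsPrime›.mem_or_mem h).elim hf₁ hf₂, T, hT, ?_⟩
    intro q _ hpq hq hdepth
    have hq₁ : f₁ ∉ q := fun h => hq (q.mul_mem_right _ h)
    have hq₂ : f₂ ∉ q := fun h => hq (q.mul_mem_left _ h)
    apply h₁ q hpq hq₁
    have hreg := h₂ q hq₂
    have hxq : algebraMap A (Localization.AtPrime q) x ∈ maximalIdeal (Localization.AtPrime q) :=
      (IsLocalization.AtPrime.to_map_mem_maximal_iff (Localization.AtPrime q) q x).mpr (hpq hxp)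
    have hIM : maximalIdeal (Localization.AtPrime q) •
        (⊤ : Submodule (Localization.AtPrime q) (LocalizedModule q.primeCompl M)) ≠ ⊤ := by
      intro h
      have h3 : LocCoh.depth (Localization.AtPrime q) (LocalizedModule q.primeCompl M) = ⊤ :=
        idealDepth_eq_top_of_smul_top_eq_top h
      rw [h3] at hdepth
      exact ENat.top_ne_natCast _ hdepth
    have h4 := idealDepth_quotSMulTop_add_one hIM hxq hreg
    have h5 : LocCoh.idealDepth (maximalIdeal (Localization.AtPrime q))
        (QuotSMulTop (algebraMap A (Localization.AtPrime q) x)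
          (LocalizedModule q.primeCompl M)) = e := by
      apply enat_add_one_cancel
      rw [h4]
      exact hdepth
    rw [← h5]
    exact idealDepth_congr (locQuotEquiv q.primeCompl M x)

end Groth.Agent.H15.DepthSpread
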