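import Groth.Agent.H15.ExtDepth
import Mathlib.Algebra.Category.ModuleCat.Ext.Finite
import Mathlib.RingTheory.KrullDimension.Regular
import Mathlib.RingTheory.Ideal.AssociatedPrime.Finiteness

/-!
# Ischebeck's theorem

For finite modules `M`, `N` over a Noetherian local ring, `Ext^i(N, M) = 0` for
`i < depth M - dim N`.
-/

set_option autoImplicit false

universe w v' u' u

open CategoryTheory Abelian IsLocalRing

namespace Groth.Agent.H15.Ischebeck

open Groth.Agent.H15.Depth Groth.Agent.H15

section Cat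

variable {C : Type u'} [Category.{v'} C] [Abelian C] [HasExt.{w} C]

theorem subsingleton_ext_of_iso {X X' Y : C} (e : X ≅ X') (n : ℕ)
    (h : Subsingleton (Ext X' Y n)) : Subsingleton (Ext X Y n) := by
  refine subsingleton_of_forall_eq 0 fun α => ?_
  have h1 : (Ext.mk₀ e.hom).comp ((Ext.mk₀ e.inv).comp α (zero_add n)) (zero_add n) = α := by
    rw [Ext.mk₀_comp_mk₀_assoc, e.hom_inv_id, Ext.mk₀_id_comp]
  rw [← h1, Subsingleton.elim ((Ext.mk₀ e.inv).comp α (zero_add n)) 0, Ext.comp_zero]

theorem subsingleton_ext_contra_X₂ {S : ShortComplex C} (hS : S.ShortExact) (Y : C) (n : ℕ)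
    (h1 : Subsingleton (Ext S.X₁ Y n)) (h3 : Subsingleton (Ext S.X₃ Y n)) :
    Subsingleton (Ext S.X₂ Y n) := by
  refine subsingleton_of_forall_eq 0 fun x₂ => ?_
  obtain ⟨x₃, hx₃⟩ := Ext.contravariant_sequence_exact₂ hS Y x₂ (Subsingleton.elim _ _)
  rw [← hx₃, Subsingleton.elim x₃ 0, Ext.comp_zero]

end Cat

section Aux

theorem withBot_aux {a : WithBot ℕ∞} {r : ℕ} (h : a + 1 ≤ ((r + 1 : ℕ) : WithBot ℕ∞)) :
    a ≤ (r : WithBot ℕ∞) := by
  cases a using WithBot.recBotCoe with
  | bot => exact bot_le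
  | coe n =>
    cases n using ENat.recTopCoe with
    | top =>
      exfalso
      have h1 : ((⊤ : ℕ∞) : WithBot ℕ∞) ≤ ((⊤ : ℕ∞) : WithBot ℕ∞) + 1 :=
        le_add_of_nonneg_right zero_le_one
      have h2 : ((⊤ : ℕ∞) : WithBot ℕ∞) ≤ (((r + 1 : ℕ) : ℕ∞) : WithBot ℕ∞) :=
        le_trans h1 h
      rw [WithBot.coe_le_coe, top_le_iff] at h2
      exact ENat.natCast_ne_top _ h2
    | coe m =>
      have h2 : m + 1 ≤ r + 1 := by exact_mod_cast h
      exact_mod_cast (by omega : m ≤ r)

theorem exists_nat_eq {a : WithBot ℕ∞} (h1 : a ≠ ⊥) (h2 : a ≠ ⊤) : ∃ n : ℕ, a = n := by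
  cases a using WithBot.recBotCoe with
  | bot => exact absurd rfl h1
  | coe b =>
    cases b using ENat.recTopCoe with
    | top => exact absurd rfl h2
    | coe n => exact ⟨n, rfl⟩

end Aux

variable {A : Type u} [CommRing A] [IsNoetherianRing A] [IsLocalRing A]

omit [IsNoetherianRing A] in
theorem support_subset_of_supportDim_le_zero (N : Type u) [AddCommGroup N] [Module A N]
    (h : Module.supportDim A N ≤ 0) :
    Module.support A N ⊆ PrimeSpectrum.zeroLocus (maximalIdeal A : Set A) := by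
  intro p hp
  rw [PrimeSpectrum.mem_zeroLocus]
  have hle : p ≤ closedPoint A := IsLocalRing.le_maximalIdeal p.2.ne_top
  have hc : closedPoint A ∈ Module.support A N := Module.mem_support_mono hle hp
  have hmax : ∀ x : Module.support A N, IsMax x := Order.krullDim_nonpos_iff_forall_isMax.mp h
  have h2 : (⟨closedPoint A, hc⟩ : Module.support A N) ≤ ⟨p, hp⟩ :=
    hmax ⟨p, hp⟩ (show (⟨p, hp⟩ : Module.support A N) ≤ ⟨closedPoint A, hc⟩ from hle)
  exact SetLike.coe_subset_coe.mpr h2

omit [IsNoetherianRing A] [IsLocalRing A] in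
theorem isSMulRegular_quotient_prime (p : Ideal A) [p.IsPrime] {x : A} (hx : x ∉ p) :
    IsSMulRegular (A ⧸ p) x := by
  intro a b hab
  have h1 : ∀ c : A ⧸ p, x • c = Ideal.Quotient.mk p x * c := by
    intro c
    obtain ⟨c', rfl⟩ := Ideal.Quotient.mk_surjective c
    rfl
  simp only [h1] at hab
  have hx0 : Ideal.Quotient.mk p x ≠ 0 := fun h => hx (Ideal.Quotient.eq_zero_iff_mem.mp h)
  exact mul_left_cancel₀ hx0 hab

/-- **Ischebeck's theorem**: `Ext^i(N, M) = 0` for `i + dim N < d ≤ depth M`. -/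
theorem ischebeck (M : Type u) [AddCommGroup M] [Module A M] [Module.Finite A M] [Nontrivial M]
    (d : ℕ) (hd : (d : ℕ∞) ≤ LocCoh.depth A M) (r : ℕ) :
    ∀ (N : Type u) [AddCommGroup N] [Module A N] [Module.Finite A N],
      Module.supportDim A N ≤ (r : WithBot ℕ∞) → ∀ i, i + r < d →
        Subsingleton (Ext (ModuleCat.of A N) (ModuleCat.of A M) i) := by
  have hIM : maximalIdeal A • (⊤ : Submodule A M) ≠ ⊤ :=
    (Submodule.top_ne_ideal_smul_of_le_jacobson_annihilator
      (IsLocalRing.maximalIdeal_le_jacobson _)).symm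
  obtain ⟨rs, hw, hI, hl⟩ := (le_idealDepth_iff hIM d).mp hd
  have hreg : RingTheory.Sequence.IsRegular M rs := ⟨hw, ExtDepth.ofList_smul_top_ne_top hIM hI⟩
  have base : ∀ (N : Type u) [AddCommGroup N] [Module A N] [Module.Finite A N],
      Module.support A N ⊆ PrimeSpectrum.zeroLocus (maximalIdeal A : Set A) → ∀ i, i < d →
        Subsingleton (Ext (ModuleCat.of A N) (ModuleCat.of A M) i) := by
    intro N _ _ _ hsupp i hi
    exact ModuleCat.subsingleton_ext_of_exists_isRegular (maximalIdeal A) (ModuleCat.of A N) hsupp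
      (ModuleCat.of A M) (lt_top_iff_ne_top.mpr hIM) rs hI hreg i (hl ▸ hi)
  induction r with
  | zero =>
    intro N _ _ _ hdim i hi
    exact base N (support_subset_of_supportDim_le_zero N (by simpa using hdim)) i (by omega)
  | succ r ih =>
    intro N _ _ hfin
    refine IsNoetherianRing.induction_on_isQuotientEquivQuotientPrime A hfin
      (motive := fun N _ _ _ => Module.supportDim A N ≤ ((r + 1 : ℕ) : WithBot ℕ∞) →
        ∀ i, i + (r + 1) < d → Subsingleton (Ext (ModuleCat.of A N) (ModuleCat.of A M) i))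
      ?_ ?_ ?_
    · intro N _ _ _ _ _ i hi
      refine base N ?_ i (by omega)
      rw [Module.support_eq_empty]
      exact Set.empty_subset _
    · intro N _ _ _ p e hdim i hi
      have := p.2
      refine subsingleton_ext_of_iso e.toModuleIso i ?_
      rw [Module.supportDim_eq_of_equiv e] at hdim
      by_cases hpm : p.1 = maximalIdeal A
      · refine base (A ⧸ p.1) ?_ i (by omega)
        rw [ExtDepth.support_quotient, hpm]
      · have hlt : p.1 < maximalIdeal A :=
          lt_of_le_of_ne (IsLocalRing.le_maximalIdeal p.2.ne_top) hpm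
        obtain ⟨x, hxm, hxp⟩ := SetLike.exists_of_lt hlt
        have hxreg : IsSMulRegular (A ⧸ p.1) x := isSMulRegular_quotient_prime p.1 hxp
        have hdim' : Module.supportDim A (QuotSMulTop x (A ⧸ p.1)) ≤ (r : WithBot ℕ∞) := by
          apply withBot_aux
          exact le_trans (Module.supportDim_quotSMulTop_succ_le_of_notMem_minimalPrimes
            (fun _ ↦ hxreg.notMem_of_mem_minimalPrimes)) hdim
        have hvan : Subsingleton (Ext (ModuleCat.of A (QuotSMulTop x (A ⧸ p.1)))
            (ModuleCat.of A M) (i + 1)) := ih (QuotSMulTop x (A ⧸ p.1)) hdim' (i + 1) (by omega)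
        have hS := IsSMulRegular.smulShortComplex_shortExact (M := ModuleCat.of A (A ⧸ p.1)) hxreg
        have hsurj : ∀ x₁ : Ext (ModuleCat.of A (A ⧸ p.1)) (ModuleCat.of A M) i,
            ∃ x₂ : Ext (ModuleCat.of A (A ⧸ p.1)) (ModuleCat.of A M) i, x • x₂ = x₁ := by
          intro x₁
          obtain ⟨x₂, hx₂⟩ : ∃ x₂ : Ext (ModuleCat.of A (A ⧸ p.1)) (ModuleCat.of A M) i,
              (Ext.mk₀ (x • 𝟙 (ModuleCat.of A (A ⧸ p.1)))).comp x₂ (zero_add i) = x₁ :=
            Ext.contravariant_sequence_exact₁ hS (ModuleCat.of A M) x₁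
              (show 1 + i = i + 1 by omega) (@Subsingleton.elim _ hvan _ _)
          refine ⟨x₂, ?_⟩
          rw [← hx₂, Ext.mk₀_smul, Ext.smul_comp, Ext.mk₀_id_comp]
        have htop : (⊤ : Submodule A (Ext (ModuleCat.of A (A ⧸ p.1)) (ModuleCat.of A M) i)) = ⊥ := by
          apply Submodule.eq_bot_of_le_smul_of_le_jacobson_bot (maximalIdeal A) ⊤
            Module.Finite.fg_top ?_ (IsLocalRing.maximalIdeal_le_jacobson ⊥)
          intro x₁ _
          obtain ⟨x₂, rfl⟩ := hsurj x₁
          exact Submodule.smul_mem_smul hxm trivial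
        refine subsingleton_of_forall_eq 0 fun x₁ => ?_
        have hmem : x₁ ∈ (⊤ : Submodule A (Ext (ModuleCat.of A (A ⧸ p.1)) (ModuleCat.of A M) i)) :=
          trivial
        rw [htop] at hmem
        exact (Submodule.mem_bot A).mp hmem
    · intro N₁ _ _ _ N₂ _ _ _ N₃ _ _ _ f g hf hg hfg h₁ h₃ hdim i hi
      have hcomp : g.comp f = 0 := hfg.linearMap_comp_eq_zero
      have hS : (ModuleCat.shortComplexOfCompEqZero f g hcomp).ShortExact :=
        ModuleCat.shortComplex_shortExact _ hfg hf hg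
      exact subsingleton_ext_contra_X₂ hS (ModuleCat.of A M) i
        (h₁ (le_trans (Module.supportDim_le_of_injective f hf) hdim) i hi)
        (h₃ (le_trans (Module.supportDim_le_of_surjective g hg) hdim) i hi)

end Groth.Agent.H15.Ischebeck
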