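import Mathlib
import Groth.Agent.H3.HenselFactor

/-!
# Adic tools for complete valuation rings of height one

* `isPrecomplete_pi`, `finite_of_finite_quotient`: complete Nakayama.
* `mem_of_forall_mem_sup_span_pow`: a finitely generated `t`-saturated ideal of a `t`-adically
  complete ring is closed.
* `henselianLocalRing_of_henselianRing`: a local ring henselian along an ideal whose radical is the
  maximal ideal is a henselian local ring.
* `isLocalRing_of_isIntegral_of_isDomain`: a domain integral over a henselian local ring is local.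
* `mem_range_or_inv_mem_range`: a root of a polynomial with a unit coefficient over a local ring
  integrally closed in a field lies in the ring or its inverse does.
* `isIntegral_or_isIntegral_inv`: over a henselian valuation ring, an algebraic element of a field
  extension is integral or its inverse is.
-/

set_option autoImplicit false
universe u v

namespace Groth.Agent.H15.AdicVal

open Polynomial IsLocalRing

/-- A finite power of a precomplete ring is precomplete. -/
theorem isPrecomplete_pi {R : Type*} [CommRing R] (I : Ideal R) [IsPrecomplete I R]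
    (ι : Type*) [Finite ι] : IsPrecomplete I (ι → R) := by
  classical
  cases nonempty_fintype ι
  refine ⟨fun f hf => ?_⟩
  have hproj : ∀ (n : ℕ) (x : ι → R), x ∈ (I ^ n • ⊤ : Submodule R (ι → R)) →
      ∀ i, x i ∈ I ^ n := by
    intro n x hx i
    refine Submodule.smul_induction_on hx (fun r hr y _ => ?_) (fun a b ha hb => ?_)
    · simp only [Pi.smul_apply, smul_eq_mul]; exact Ideal.mul_mem_right _ _ hr
    · simp only [Pi.add_apply]; exact add_mem ha hb
  have hcoord : ∀ i, ∃ L : R, ∀ n, f n i ≡ L [SMOD (I ^ n • ⊤ : Submodule R R)] := by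
    intro i
    apply IsPrecomplete.prec' (I := I) (fun n => f n i)
    intro m n hmn
    rw [SModEq.sub_mem, smul_eq_mul, Ideal.mul_top]
    have := hf hmn
    rw [SModEq.sub_mem] at this
    exact hproj m _ this i
  choose L hL using hcoord
  refine ⟨L, fun n => ?_⟩
  rw [SModEq.sub_mem]
  have : f n - L = ∑ i, (f n i - L i) • (Pi.single i 1 : ι → R) := by
    ext j
    simp [Finset.sum_apply, Pi.single_apply]
  rw [this]
  refine Submodule.sum_mem _ fun i _ => Submodule.smul_mem_smul ?_ trivial
  have := hL i n
  rwa [SModEq.sub_mem, smul_eq_mul, Ideal.mul_top] at this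

/-- **Complete Nakayama**: over a precomplete ring, an `I`-adically separated module whose
reduction modulo `I` is finite is finite. -/
theorem finite_of_finite_quotient {R : Type*} [CommRing R] (I : Ideal R) [IsPrecomplete I R]
    {M : Type*} [AddCommGroup M] [Module R M] [IsHausdorff I M]
    (h : Module.Finite R (M ⧸ (I • ⊤ : Submodule R M))) : Module.Finite R M := by
  obtain ⟨n, s, hs⟩ := Module.Finite.exists_fin (R := R) (M := M ⧸ (I • ⊤ : Submodule R M))
  have hlift : ∀ i, ∃ b : M, (I • ⊤ : Submodule R M).mkQ b = s i :=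
    fun i => Submodule.mkQ_surjective _ (s i)
  choose b hb using hlift
  let f : (Fin n → R) →ₗ[R] M := Fintype.linearCombination R b
  have hsurj : Function.Surjective ((I • ⊤ : Submodule R M).mkQ ∘ₗ f) := by
    rw [← LinearMap.range_eq_top, LinearMap.range_comp, Fintype.range_linearCombination,
      Submodule.map_span, ← Set.range_comp]
    have : (⇑(I • ⊤ : Submodule R M).mkQ ∘ b) = s := funext hb
    rw [this, hs]
  haveI := isPrecomplete_pi I (Fin n)
  have := surjective_of_mkQ_comp_surjective (I := I) (f := f) hsurj
  exact Module.Finite.of_surjective f this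

/-- A finitely generated ideal `a` of a `t`-adically complete ring such that the quotient has no
`t`-torsion is closed for the `t`-adic topology. -/
theorem mem_of_forall_mem_sup_span_pow {S : Type*} [CommRing S] (t : S)
    [IsAdicComplete (Ideal.span {t}) S] (a : Ideal S) (hfg : a.FG)
    (hsat : ∀ x, t * x ∈ a → x ∈ a) (s : S)
    (hs : ∀ n : ℕ, s ∈ a ⊔ Ideal.span {t ^ n}) : s ∈ a := by
  classical
  have hsat' : ∀ (n : ℕ) x, t ^ n * x ∈ a → x ∈ a := by
    intro n
    induction n with
    | zero => intro x hx; simpa using hx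
    | succ n ih =>
      intro x hx
      exact hsat x (ih _ (by rwa [pow_succ, mul_assoc] at hx))
  obtain ⟨r, g, hg⟩ := Submodule.fg_iff_exists_fin_generating_family.mp hfg
  have hdec : ∀ n, ∃ f ∈ a, ∃ y, s = f + t ^ n * y := by
    intro n
    obtain ⟨f, hf, z, hz, hfz⟩ := Submodule.mem_sup.mp (hs n)
    obtain ⟨y, rfl⟩ := Ideal.mem_span_singleton'.mp hz
    exact ⟨f, hf, y, by rw [← hfz]; ring⟩
  choose f hf y hy using hdec
  have hstep : ∀ n, t ^ n * (y n - t * y (n + 1)) = f (n + 1) - f n := by
    intro n
    have h1 := hy n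
    have h2 := hy (n + 1)
    linear_combination h2 - h1
  have hw : ∀ n, y n - t * y (n + 1) ∈ a := by
    intro n
    apply hsat' n
    rw [hstep]
    exact sub_mem (hf _) (hf _)
  have hc : ∀ n, ∃ c : Fin r → S, ∑ i, c i • g i = y n - t * y (n + 1) := by
    intro n
    have := hw n
    rw [← hg] at this
    exact (Submodule.mem_span_range_iff_exists_fun S).mp this
  choose c hc using hc
  have hlim : ∀ i, ∃ d : S, ∀ N, (∑ n ∈ Finset.range N, t ^ n * c n i) ≡ d
      [SMOD ((Ideal.span {t}) ^ N • ⊤ : Submodule S S)] := by
    intro i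
    apply IsPrecomplete.prec' (I := Ideal.span {t}) (fun N => ∑ n ∈ Finset.range N, t ^ n * c n i)
    intro m n hmn
    rw [SModEq.sub_mem, smul_eq_mul, Ideal.mul_top, Ideal.span_singleton_pow,
      Ideal.mem_span_singleton]
    rw [← Finset.sum_range_add_sum_Ico _ hmn, sub_add_cancel_left, dvd_neg]
    apply Finset.dvd_sum
    intro k hk
    exact Dvd.dvd.mul_right (pow_dvd_pow t (Finset.mem_Ico.mp hk).1) _
  choose d hd using hlim
  have key : s = f 0 + ∑ i, d i * g i := by
    rw [IsHausdorff.eq_iff_smodEq (I := Ideal.span {t})]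
    intro N
    rw [SModEq.sub_mem, smul_eq_mul, Ideal.mul_top, Ideal.span_singleton_pow,
      Ideal.mem_span_singleton]
    have h1 : ∀ i, t ^ N ∣ (∑ n ∈ Finset.range N, t ^ n * c n i) - d i := by
      intro i
      have := hd i N
      rwa [SModEq.sub_mem, smul_eq_mul, Ideal.mul_top, Ideal.span_singleton_pow,
        Ideal.mem_span_singleton] at this
    have h2 : ∑ i, (∑ n ∈ Finset.range N, t ^ n * c n i) * g i = f N - f 0 := by
      simp_rw [Finset.sum_mul]
      rw [Finset.sum_comm]
      have h3 : ∀ n, ∑ i, t ^ n * c n i * g i = f (n + 1) - f n := by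
        intro n
        have h4 := hc n
        simp only [smul_eq_mul] at h4
        calc ∑ i, t ^ n * c n i * g i = t ^ n * ∑ i, c n i * g i := by
              rw [Finset.mul_sum]; simp_rw [mul_assoc]
          _ = t ^ n * (y n - t * y (n + 1)) := by rw [h4]
          _ = f (n + 1) - f n := hstep n
      simp_rw [h3]
      exact Finset.sum_range_sub f N
    have h3 : s - (f 0 + ∑ i, d i * g i) =
        t ^ N * y N + ∑ i, ((∑ n ∈ Finset.range N, t ^ n * c n i) - d i) * g i := by
      simp_rw [sub_mul]
      rw [Finset.sum_sub_distrib, h2]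
      linear_combination hy N
    rw [h3]
    exact dvd_add (dvd_mul_right _ _)
      (Finset.dvd_sum fun i _ => Dvd.dvd.mul_right (h1 i) _)
  rw [key]
  refine add_mem (hf 0) (Submodule.sum_mem _ fun i _ => ?_)
  apply Ideal.mul_mem_left
  rw [← hg]
  exact Submodule.subset_span ⟨i, rfl⟩

/-- In a local domain of Krull dimension at most one, every element of the maximal ideal has a
power divisible by any given nonzero element. -/
theorem exists_pow_mem_span_of_mem_maximalIdeal {A : Type*} [CommRing A] [IsDomain A]
    [IsLocalRing A] [Ring.KrullDimLE 1 A] {t : A} (ht : t ≠ 0) {x : A}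
    (hx : x ∈ maximalIdeal A) : ∃ n : ℕ, x ^ n ∈ Ideal.span {t} := by
  have : maximalIdeal A ≤ (Ideal.span {t}).radical := by
    rw [Ideal.radical_eq_sInf]
    refine le_sInf fun J ⟨hJ1, hJ2⟩ => ?_
    have hJne : J ≠ ⊥ := fun h => ht (by
      have : t ∈ J := hJ1 (Ideal.mem_span_singleton_self t)
      rwa [h, Ideal.mem_bot] at this)
    have : J.IsMaximal := hJ2.isMaximal_of_ne_bot hJne
    exact le_of_eq (IsLocalRing.eq_maximalIdeal this).symm
  exact this hx

/-- A local ring which is henselian along an ideal whose radical is the maximal ideal is a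
henselian local ring. -/
theorem henselianLocalRing_of_henselianRing {R : Type*} [CommRing R] [IsLocalRing R]
    (I : Ideal R) [hI : HenselianRing R I]
    (hrad : ∀ x ∈ maximalIdeal R, ∃ n : ℕ, x ^ n ∈ I) : HenselianLocalRing R where
  is_henselian := by
    intro f hf a₀ h₁ h₂
    have hIm : I ≤ maximalIdeal R := by
      have := hI.jac
      rwa [IsLocalRing.jacobson_eq_maximalIdeal ⊥ bot_ne_top] at this
    set c₀ := f.eval a₀ with hc₀
    -- Newton iteration
    have newton : ∀ k : ℕ, ∃ a : R, a - a₀ ∈ maximalIdeal R ∧ IsUnit (f.derivative.eval a) ∧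
        c₀ ^ (k + 1) ∣ f.eval a := by
      intro k
      induction k with
      | zero => exact ⟨a₀, by simp, h₂, by simp [hc₀]⟩
      | succ k ih =>
        obtain ⟨a, ha1, ha2, ha3⟩ := ih
        obtain ⟨u, hu⟩ := ha2
        set c := f.eval a with hc
        have hcm : c ∈ maximalIdeal R := by
          obtain ⟨e, he⟩ := ha3
          rw [he, pow_succ, mul_assoc]
          exact Ideal.mul_mem_left _ _ (Ideal.mul_mem_right _ _ h₁)
        set a' := a + -(c * ↑u⁻¹) with ha'
        obtain ⟨kk, hkk⟩ := f.binomExpansion a (-(c * ↑u⁻¹))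
        obtain ⟨z, hz⟩ := f.derivative.evalSubFactor a' a
        refine ⟨a', ?_, ?_, ?_⟩
        · have : a' - a₀ = (a - a₀) + -(c * ↑u⁻¹) := by rw [ha']; ring
          rw [this]
          exact add_mem ha1 (neg_mem (Ideal.mul_mem_right _ _ hcm))
        · have h5 : f.derivative.eval a' = ↑u + z * -(c * ↑u⁻¹) := by
            have : a' - a = -(c * ↑u⁻¹) := by rw [ha']; ring
            rw [this] at hz
            rw [← hz, hu]; ring
          rw [h5]
          have h6 : z * -(c * ↑u⁻¹) ∈ maximalIdeal R :=
            Ideal.mul_mem_left _ _ (neg_mem (Ideal.mul_mem_right _ _ hcm))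
          by_contra hnu
          have h7 : (↑u + z * -(c * ↑u⁻¹)) ∈ maximalIdeal R := hnu
          have h8 : (↑u : R) ∈ maximalIdeal R := by
            have := sub_mem h7 h6
            simpa using this
          exact h8 u.isUnit
        · have h5 : f.eval a' = kk * ↑u⁻¹ ^ 2 * c ^ 2 := by
            rw [ha', hkk, ← hc, ← hu]
            have : (↑u : R) * ↑u⁻¹ = 1 := u.mul_inv
            linear_combination (-c) * this
          rw [h5]
          obtain ⟨e, he⟩ := ha3
          refine ⟨kk * ↑u⁻¹ ^ 2 * e ^ 2 * c₀ ^ k, ?_⟩
          rw [he]; ring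
    obtain ⟨N, hN⟩ := hrad c₀ h₁
    obtain ⟨a, ha1, ha2, ha3⟩ := newton N
    have hfa : f.eval a ∈ I := by
      obtain ⟨e, he⟩ := ha3
      rw [he, pow_succ, mul_assoc]
      exact Ideal.mul_mem_right _ _ hN
    obtain ⟨b, hb1, hb2⟩ := hI.is_henselian f hf a hfa (ha2.map _)
    refine ⟨b, hb1, ?_⟩
    have : b - a₀ = (b - a) + (a - a₀) := by ring
    rw [this]
    exact add_mem (hIm hb2) ha1

/-- A root of a monic polynomial whose lower coefficients lie in `I` is nilpotent modulo `I`. -/
theorem pow_mem_map_of_aeval_eq_zero {R : Type*} [CommRing R] {D : Type*} [CommRing D]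
    [Algebra R D] (I : Ideal R) {z : D} {p : R[X]} (hpm : p.Monic)
    (hpc : ∀ k, k < p.natDegree → p.coeff k ∈ I) (hp0 : aeval z p = 0) :
    z ^ p.natDegree ∈ I.map (algebraMap R D) := by
  rw [Polynomial.aeval_eq_sum_range, Finset.sum_range_succ, hpm.coeff_natDegree, one_smul] at hp0
  have h1 : z ^ p.natDegree = - ∑ i ∈ Finset.range p.natDegree, p.coeff i • z ^ i := by
    rw [eq_neg_iff_add_eq_zero, add_comm]; exact hp0
  rw [h1]
  refine neg_mem (Ideal.sum_mem _ (fun i hi => ?_))
  rw [Algebra.smul_def]
  exact Ideal.mul_mem_right _ _ (Ideal.mem_map_of_mem _ (hpc i (Finset.mem_range.mp hi)))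

/-- A domain integral over a henselian local ring is a local ring. -/
theorem isLocalRing_of_isIntegral_of_isDomain (R : Type u) [CommRing R] [HenselianLocalRing R]
    (D : Type v) [CommRing D] [IsDomain D] [Algebra R D] [Algebra.IsIntegral R D] :
    IsLocalRing D := by
  set m := maximalIdeal R with hm
  set N : Ideal D := (m.map (algebraMap R D)).radical with hN
  have hNtop : N ≠ ⊤ := by
    have hker : RingHom.ker (algebraMap R D) ≤ m :=
      IsLocalRing.le_maximalIdeal (RingHom.ker_ne_top _)
    obtain ⟨Q, hQ, hQm⟩ := Ideal.exists_ideal_over_maximal_of_isIntegral (S := D) m hker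
    have h1 : m.map (algebraMap R D) ≤ Q := by
      rw [Ideal.map_le_iff_le_comap, hQm]
    intro h
    have h2 : N ≤ Q := by
      rw [hN]
      exact (Ideal.IsRadical.radical_le_iff hQ.isPrime.isRadical).mpr h1
    rw [h] at h2
    exact hQ.ne_top (top_le_iff.mp h2)
  have hdich : ∀ x : D, IsUnit x ∨ x ∈ N := by
    intro x
    obtain ⟨f, hf, hfx⟩ := Algebra.IsIntegral.isIntegral (R := R) x
    have hfx' : aeval x f = 0 := by rwa [← Polynomial.aeval_def] at hfx
    set fbar := f.map (residue R) with hfbar
    have hfbarm : fbar.Monic := hf.map _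
    obtain ⟨q, hq1, hq2⟩ := Polynomial.exists_eq_pow_rootMultiplicity_mul_and_not_dvd fbar
      hfbarm.ne_zero 0
    set a := Polynomial.rootMultiplicity 0 fbar with ha
    rw [map_zero, sub_zero] at hq1 hq2
    have hqm : q.Monic := (monic_X_pow a).of_mul_monic_left (hq1 ▸ hfbarm)
    have hcop : IsCoprime (X ^ a : (ResidueField R)[X]) q :=
      IsCoprime.pow_left ((Polynomial.irreducible_X.coprime_iff_not_dvd).mpr hq2)
    obtain ⟨g, h, hgm, hhm, hfgh, hg, hh⟩ :=
      Groth.Agent.H3.exists_monic_factorization f hf (X ^ a) q (monic_X_pow a) hqm hcop hq1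
    have hprod : aeval x g * aeval x h = 0 := by rw [← map_mul, ← hfgh, hfx']
    rcases mul_eq_zero.mp hprod with hgx | hhx
    · right
      have hdeg : g.natDegree = a := by
        rw [← hgm.natDegree_map (residue R), hg, natDegree_X_pow]
      have hcoef : ∀ k, k < g.natDegree → g.coeff k ∈ m := by
        intro k hk
        have h1 : (g.map (residue R)).coeff k = 0 := by
          rw [hg, coeff_X_pow, if_neg (by omega)]
        rw [coeff_map] at h1
        exact (residue_eq_zero_iff _).mp h1
      have := pow_mem_map_of_aeval_eq_zero m hgm hcoef hgx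
      exact ⟨g.natDegree, this⟩
    · left
      have hc0 : IsUnit (h.coeff 0) := by
        have h1 : (h.map (residue R)).coeff 0 ≠ 0 := by
          rw [hh]; intro h0; exact hq2 (Polynomial.X_dvd_iff.mpr h0)
        rw [coeff_map] at h1
        by_contra hnu
        exact h1 ((residue_eq_zero_iff _).mpr hnu)
      obtain ⟨u, hu⟩ := hc0
      have h2 : x * aeval x (divX h) + algebraMap R D (h.coeff 0) = 0 := by
        have := congrArg (aeval x) (Polynomial.X_mul_divX_add h)
        rw [hhx, map_add, map_mul, aeval_X, aeval_C] at this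
        exact this
      refine IsUnit.of_mul_eq_one (-(aeval x (divX h)) * algebraMap R D ↑u⁻¹) ?_
      have h3 : algebraMap R D (h.coeff 0) * algebraMap R D ↑u⁻¹ = 1 := by
        rw [← map_mul, ← hu, u.mul_inv, map_one]
      linear_combination (-(algebraMap R D ↑u⁻¹)) * h2 + h3
  refine IsLocalRing.of_isUnit_or_isUnit_one_sub_self fun x => ?_
  rcases hdich x with hx | hx
  · exact Or.inl hx
  · rcases hdich (1 - x) with hx' | hx'
    · exact Or.inr hx'
    · exfalso
      apply hNtop
      rw [Ideal.eq_top_iff_one]
      have := add_mem hx hx'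
      simpa using this

/-- Let `A` be a local ring with a map to a field `L` such that every element of `L` integral over
`A` comes from `A`. If `x ∈ L` is a root of a polynomial over `A` one of whose coefficients is a
unit, then `x` or `x⁻¹` comes from `A`. -/
theorem mem_range_or_inv_mem_range {A : Type*} [CommRing A] [IsLocalRing A] {L : Type*} [Field L]
    [Algebra A L] (hic : ∀ y : L, IsIntegral A y → y ∈ (algebraMap A L).range) :
    ∀ (n : ℕ) (f : A[X]), f.natDegree ≤ n → (∃ i, IsUnit (f.coeff i)) → ∀ x : L,
      aeval x f = 0 → x ∈ (algebraMap A L).range ∨ x⁻¹ ∈ (algebraMap A L).range := by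
  intro n
  induction n with
  | zero =>
    intro f hf ⟨i, hi⟩ x hx
    exfalso
    rw [Polynomial.eq_C_of_natDegree_le_zero hf] at hx hi
    rw [coeff_C] at hi
    split_ifs at hi with h0
    · rw [aeval_C] at hx
      exact (hi.map (algebraMap A L)).ne_zero hx
    · exact not_isUnit_zero hi
  | succ n ih =>
    intro f hf ⟨i, hi⟩ x hx
    by_cases hdeg : f.natDegree ≤ n
    · exact ih f hdeg ⟨i, hi⟩ x hx
    have hdeg' : f.natDegree = n + 1 := by omega
    by_cases hlead : IsUnit f.leadingCoeff
    · left
      obtain ⟨u, hu⟩ := hlead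
      have hmonic : (C (↑u⁻¹ : A) * f).Monic :=
        Polynomial.monic_C_mul_of_mul_leadingCoeff_eq_one (by rw [← hu]; exact u.inv_mul)
      exact hic x ⟨_, hmonic, by
        rw [← Polynomial.aeval_def, map_mul, hx, mul_zero]⟩
    · have hy : IsIntegral A (f.leadingCoeff • x) := isIntegral_leadingCoeff_smul f x hx
      obtain ⟨y', hy'⟩ := hic _ hy
      have hi_le : i ≤ n := by
        have h1 : i ≤ f.natDegree := by
          by_contra hgt
          rw [Polynomial.coeff_eq_zero_of_natDegree_lt (by omega)] at hi
          exact not_isUnit_zero hi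
        have h2 : i ≠ n + 1 := by
          rintro rfl
          apply hlead
          rwa [Polynomial.leadingCoeff, hdeg']
        omega
      by_cases hyu : IsUnit y'
      · right
        have hx0 : x ≠ 0 := by
          rintro rfl
          rw [smul_zero] at hy'
          exact (hyu.map (algebraMap A L)).ne_zero hy'
        obtain ⟨v, hv⟩ := hyu
        refine ⟨f.leadingCoeff * ↑v⁻¹, ?_⟩
        have h1 : algebraMap A L y' = algebraMap A L f.leadingCoeff * x := by
          rw [hy', Algebra.smul_def]
        have h2 : algebraMap A L y' * algebraMap A L ↑v⁻¹ = 1 := by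
          rw [← map_mul, ← hv, v.mul_inv, map_one]
        rw [map_mul]
        field_simp
        rw [h1] at h2
        linear_combination h2
      · set g : A[X] := f.eraseLead + C y' * X ^ n with hg
        have hgdeg : g.natDegree ≤ n := by
          refine (Polynomial.natDegree_add_le _ _).trans (max_le ?_ (natDegree_C_mul_X_pow_le _ _))
          have := Polynomial.eraseLead_natDegree_le f
          omega
        have hgx : aeval x g = 0 := by
          have h1 : aeval x f = aeval x f.eraseLead +
              algebraMap A L f.leadingCoeff * x ^ (n + 1) := by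
            conv_lhs => rw [← Polynomial.eraseLead_add_C_mul_X_pow f, hdeg']
            simp [aeval_C]
          rw [hg, map_add, map_mul, aeval_C, map_pow, aeval_X, hy', Algebra.smul_def]
          rw [hx] at h1
          linear_combination -h1
        have hgi : IsUnit (g.coeff i) := by
          rw [hg, coeff_add, coeff_C_mul, coeff_X_pow,
            Polynomial.eraseLead_coeff_of_ne i (by omega)]
          by_cases hin : i = n
          · rw [if_pos hin, mul_one]
            by_contra hnu
            have h1 : f.coeff i + y' ∈ maximalIdeal A := hnu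
            have h2 : y' ∈ maximalIdeal A := hyu
            have h3 : f.coeff i ∈ maximalIdeal A := by
              have := sub_mem h1 h2
              simpa using this
            exact h3 hi
          · rw [if_neg hin, mul_zero, add_zero]
            exact hi
        exact ih g hgdeg ⟨i, hgi⟩ x hgx

/-- In a valuation domain, a nonzero polynomial is a nonzero constant times a polynomial having a
coefficient equal to one. -/
theorem exists_eq_C_mul_coeff_eq_one {R : Type*} [CommRing R] [IsDomain R] [ValuationRing R]
    (p : R[X]) (hp : p ≠ 0) :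
    ∃ (c : R) (q : R[X]) (j : ℕ), c ≠ 0 ∧ p = C c * q ∧ q.coeff j = 1 := by
  classical
  have hmin : ∀ s : Finset ℕ, s.Nonempty → ∃ j ∈ s, ∀ i ∈ s, p.coeff j ∣ p.coeff i := by
    intro s hs
    induction hs using Finset.Nonempty.cons_induction with
    | singleton a => exact ⟨a, by simp, by simp⟩
    | cons a s ha hs ih =>
      obtain ⟨j, hj, hji⟩ := ih
      rcases ValuationRing.dvd_total (p.coeff j) (p.coeff a) with h | h
      · refine ⟨j, by simp [hj], fun i hi => ?_⟩
        rcases Finset.mem_cons.mp hi with rfl | hi
        · exact h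
        · exact hji i hi
      · refine ⟨a, by simp, fun i hi => ?_⟩
        rcases Finset.mem_cons.mp hi with rfl | hi
        · exact dvd_rfl
        · exact h.trans (hji i hi)
  have hsupp : p.support.Nonempty := Polynomial.support_nonempty.mpr hp
  obtain ⟨j, hj, hji⟩ := hmin p.support hsupp
  have hcj : p.coeff j ≠ 0 := Polynomial.mem_support_iff.mp hj
  have hall : ∀ i, p.coeff j ∣ p.coeff i := by
    intro i
    by_cases hi : i ∈ p.support
    · exact hji i hi
    · rw [Polynomial.notMem_support_iff.mp hi]; exact dvd_zero _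
  obtain ⟨q, hq⟩ := (Polynomial.C_dvd_iff_dvd_coeff _ _).mpr hall
  refine ⟨p.coeff j, q, j, hcj, hq, ?_⟩
  have h1 : p.coeff j = p.coeff j * q.coeff j := by
    conv_lhs => rw [hq, coeff_C_mul]
  have h2 : p.coeff j * 1 = p.coeff j * q.coeff j := by rw [mul_one]; exact h1
  exact (mul_left_cancel₀ hcj h2).symm

/-- Over a henselian valuation domain `R`, an element of a field extension which is algebraic over
`R` is integral over `R` or its inverse is. -/
theorem isIntegral_or_isIntegral_inv (R : Type u) [CommRing R] [IsDomain R] [ValuationRing R]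
    [HenselianLocalRing R] {L : Type v} [Field L] [Algebra R L]
    (hinj : Function.Injective (algebraMap R L)) (x : L) (hx : IsAlgebraic R x) :
    IsIntegral R x ∨ IsIntegral R x⁻¹ := by
  let A := integralClosure R L
  haveI : Algebra.IsIntegral R A := integralClosure.AlgebraIsIntegral
  haveI : IsLocalRing A := isLocalRing_of_isIntegral_of_isDomain R A
  have hic : ∀ y : L, IsIntegral A y → y ∈ (algebraMap A L).range := by
    intro y hy
    have : IsIntegral R y := isIntegral_trans y hy
    exact ⟨⟨y, this⟩, rfl⟩
  obtain ⟨p, hp0, hpx⟩ := hx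
  obtain ⟨c, q, j, hc, hpq, hqj⟩ := exists_eq_C_mul_coeff_eq_one p hp0
  have hqx : aeval x q = 0 := by
    rw [hpq, map_mul, aeval_C] at hpx
    rcases mul_eq_zero.mp hpx with h | h
    · exact absurd ((map_eq_zero_iff _ hinj).mp h) hc
    · exact h
  have key := mem_range_or_inv_mem_range hic (q.map (algebraMap R A)).natDegree
    (q.map (algebraMap R A)) le_rfl ⟨j, by rw [coeff_map, hqj, map_one]; exact isUnit_one⟩ x
    (by rw [Polynomial.aeval_map_algebraMap]; exact hqx)
  rcases key with ⟨a, ha⟩ | ⟨a, ha⟩
  · left; rw [← ha]; exact a.2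
  · right; rw [← ha]; exact a.2

end Groth.Agent.H15.AdicVal
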