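import Mathlib
import Groth.Prelude.Def_W4bk4boschfrg79
import Groth.Agent.H15.AdicVal

/-!
# Admissible algebras over a complete valuation ring of height one

* `isAdicComplete_rPow`: `R⟨ζ⟩` is `t`-adically complete.
* `exists_eq_add_mul`: every restricted power series is a polynomial plus a multiple of `t`.
* `isHausdorff_of_admissible`: admissible algebras are `t`-adically separated.
* `finite_of_admissible`: an admissible local domain of dimension one is finite over `R`.
* `valuationRing_integralClosure`: the integral closure of a domain integral over `R` is a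
  valuation ring.
-/

set_option autoImplicit false
universe u v

namespace Groth.Agent.H15.AdicAdm

open Polynomial IsLocalRing AdicRing

section General

variable (R : Type u) [CommRing R] (t : R) (n : ℕ)

/-- `R⟨ζ_1, …, ζ_n⟩` is complete for the `t`-adic topology. -/
theorem isAdicComplete_rPow :
    IsAdicComplete (Ideal.span {algebraMap R (RPow R (Ideal.span {t}) n) t})
      (RPow R (Ideal.span {t}) n) := by
  set J : Ideal (MvPolynomial (Fin n) R) :=
    (Ideal.span {t}).map (MvPolynomial.C : R →+* MvPolynomial (Fin n) R) with hJ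
  have hJfg : J.FG := Ideal.FG.map ⟨{t}, by simp⟩ _
  have h1 : IsAdicComplete J (AdicCompletion J (MvPolynomial (Fin n) R)) :=
    AdicCompletion.isAdicComplete hJfg
  have h2 : IsAdicComplete (J.map (algebraMap (MvPolynomial (Fin n) R)
      (AdicCompletion J (MvPolynomial (Fin n) R)))) (AdicCompletion J (MvPolynomial (Fin n) R)) :=
    (IsAdicComplete.map_algebraMap_iff J _).mpr h1
  have h3 : J.map (algebraMap (MvPolynomial (Fin n) R)
      (AdicCompletion J (MvPolynomial (Fin n) R))) =
      Ideal.span {algebraMap R (AdicCompletion J (MvPolynomial (Fin n) R)) t} := by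
    rw [hJ, Ideal.map_span, Set.image_singleton, Ideal.map_span, Set.image_singleton]
    congr 2
  rwa [h3] at h2

/-- Every restricted power series is a polynomial plus a multiple of `t`. -/
theorem exists_eq_add_mul (s : RPow R (Ideal.span {t}) n) :
    ∃ (p : MvPolynomial (Fin n) R) (s' : RPow R (Ideal.span {t}) n),
      s = algebraMap (MvPolynomial (Fin n) R) (RPow R (Ideal.span {t}) n) p +
        algebraMap R (RPow R (Ideal.span {t}) n) t * s' := by
  set J : Ideal (MvPolynomial (Fin n) R) :=
    (Ideal.span {t}).map (MvPolynomial.C : R →+* MvPolynomial (Fin n) R) with hJ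
  have hJfg : J.FG := Ideal.FG.map ⟨{t}, by simp⟩ _
  have hJ' : J = Ideal.span {MvPolynomial.C t} := by
    rw [hJ, Ideal.map_span, Set.image_singleton]
  obtain ⟨p, hp⟩ := Submodule.Quotient.mk_surjective _
    (AdicCompletion.eval J (MvPolynomial (Fin n) R) 1 s)
  have hmem : s - AdicCompletion.of J (MvPolynomial (Fin n) R) p ∈
      (J ^ 1 • ⊤ : Submodule (MvPolynomial (Fin n) R)
        (AdicCompletion J (MvPolynomial (Fin n) R))) := by
    rw [AdicCompletion.pow_smul_top_eq_ker_eval hJfg, LinearMap.mem_ker, map_sub,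
      AdicCompletion.eval_of, ← hp]
    exact sub_self _
  have hmul : ∀ z ∈ (J ^ 1 • ⊤ : Submodule (MvPolynomial (Fin n) R)
        (AdicCompletion J (MvPolynomial (Fin n) R))),
      ∃ s' : AdicCompletion J (MvPolynomial (Fin n) R),
        z = algebraMap R (AdicCompletion J (MvPolynomial (Fin n) R)) t * s' := by
    intro z hz
    refine Submodule.smul_induction_on hz (fun r hr z' _ => ?_) (fun a b ha hb => ?_)
    · rw [pow_one, hJ', Ideal.mem_span_singleton'] at hr
      obtain ⟨r', rfl⟩ := hr
      refine ⟨r' • z', ?_⟩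
      rw [mul_comm r', mul_smul, Algebra.smul_def (MvPolynomial.C t)]
      congr 1
    · obtain ⟨a', rfl⟩ := ha
      obtain ⟨b', rfl⟩ := hb
      exact ⟨a' + b', by ring⟩
  obtain ⟨s', hs'⟩ := hmul _ hmem
  refine ⟨p, s', ?_⟩
  have : s = AdicCompletion.of J (MvPolynomial (Fin n) R) p +
      (s - AdicCompletion.of J (MvPolynomial (Fin n) R) p) := by ring
  rw [this, hs']
  congr 1

variable (B : Type v) [CommRing B] [Algebra R B]

/-- An admissible algebra is separated for the `t`-adic topology. -/
theorem isHausdorff_of_admissible (hB : Admissible R (Ideal.span {t}) B) :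
    IsHausdorff (Ideal.span {t}) B := by
  obtain ⟨⟨n, φ, hφ, hker⟩, htor⟩ := hB
  haveI := isAdicComplete_rPow R t n
  have hsat : ∀ x : RPow R (Ideal.span {t}) n,
      algebraMap R (RPow R (Ideal.span {t}) n) t * x ∈ RingHom.ker φ.toRingHom →
        x ∈ RingHom.ker φ.toRingHom := by
    intro x hx
    rw [RingHom.mem_ker] at hx ⊢
    have hx' : φ (algebraMap R (RPow R (Ideal.span {t}) n) t * x) = 0 := hx
    show φ x = 0
    apply htor (φ x) 1
    intro a ha
    rw [pow_one, Ideal.mem_span_singleton'] at ha
    obtain ⟨r, rfl⟩ := ha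
    have h1 : φ (algebraMap R (RPow R (Ideal.span {t}) n) t * x) = t • φ x := by
      rw [map_mul, AlgHom.commutes, Algebra.smul_def]
    rw [mul_smul, ← h1, hx', smul_zero]
  refine ⟨fun x hx => ?_⟩
  obtain ⟨s, rfl⟩ := hφ x
  have hmem : ∀ N : ℕ, s ∈ RingHom.ker φ.toRingHom ⊔
      Ideal.span {algebraMap R (RPow R (Ideal.span {t}) n) t ^ N} := by
    intro N
    have h1 := hx N
    rw [SModEq.zero, Ideal.span_singleton_pow, Submodule.ideal_span_singleton_smul,
      Submodule.mem_smul_pointwise_iff_exists] at h1
    obtain ⟨y, -, hy⟩ := h1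
    obtain ⟨s', rfl⟩ := hφ y
    have h2 : s = (s - algebraMap R (RPow R (Ideal.span {t}) n) t ^ N * s') +
        algebraMap R (RPow R (Ideal.span {t}) n) t ^ N * s' := by ring
    rw [h2]
    refine Submodule.add_mem_sup ?_
      (Ideal.mul_mem_right _ _ (Ideal.mem_span_singleton_self _))
    rw [RingHom.mem_ker]
    show φ (s - algebraMap R (RPow R (Ideal.span {t}) n) t ^ N * s') = 0
    rw [map_sub, map_mul, map_pow, AlgHom.commutes, ← hy, Algebra.smul_def, map_pow, sub_self]
  have := AdicVal.mem_of_forall_mem_sup_span_pow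
    (algebraMap R (RPow R (Ideal.span {t}) n) t) _ hker hsat s hmem
  exact this

end General

section Valuation

variable (R : Type u) [CommRing R] [IsDomain R] [ValuationRing R] [Ring.KrullDimLE 1 R]
  (t : R) [IsAdicComplete (Ideal.span {t}) R]

theorem t_mem_maximalIdeal : t ∈ maximalIdeal R := by
  have h := IsAdicComplete.le_jacobson_bot (Ideal.span {t}) (Ideal.mem_span_singleton_self t)
  rwa [IsLocalRing.jacobson_eq_maximalIdeal ⊥ bot_ne_top] at h

variable {t} in
/-- A complete valuation ring of height one is a henselian local ring. -/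
theorem henselianLocalRing (ht : t ≠ 0) : HenselianLocalRing R :=
  AdicVal.henselianLocalRing_of_henselianRing (Ideal.span {t})
    fun _ hx => AdicVal.exists_pow_mem_span_of_mem_maximalIdeal ht hx

variable {t} in
/-- A nonzero domain without `t`-power torsion contains `R`. -/
theorem injective_algebraMap (B : Type v) [CommRing B] [Algebra R B] [IsDomain B]
    (htor : NoPowTorsion (Ideal.span {t}) B) : Function.Injective (algebraMap R B) := by
  rw [RingHom.injective_iff_ker_eq_bot]
  by_contra hne
  haveI : (RingHom.ker (algebraMap R B)).IsPrime := RingHom.ker_isPrime _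
  have hmax : (RingHom.ker (algebraMap R B)).IsMaximal :=
    Ideal.IsPrime.isMaximal_of_ne_bot inferInstance hne
  have hk : RingHom.ker (algebraMap R B) = maximalIdeal R := IsLocalRing.eq_maximalIdeal hmax
  have ht0 : algebraMap R B t = 0 := by
    rw [← RingHom.mem_ker, hk]
    exact t_mem_maximalIdeal R t
  have : (1 : B) = 0 := by
    apply htor 1 1
    intro a ha
    rw [pow_one, Ideal.mem_span_singleton'] at ha
    obtain ⟨r, rfl⟩ := ha
    rw [mul_smul, Algebra.smul_def t, ht0, zero_mul, smul_zero]
  exact one_ne_zero this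

variable {t} in
/-- An admissible `R`-algebra which is a local domain of Krull dimension one is finite over `R`. -/
theorem finite_of_admissible (ht : t ≠ 0) (B : Type u) [CommRing B] [Algebra R B] [IsDomain B]
    [IsLocalRing B] (hB : Admissible R (Ideal.span {t}) B) (hdim : ringKrullDim B = 1) :
    Module.Finite R B := by
  haveI : IsHausdorff (Ideal.span {t}) B := isHausdorff_of_admissible R t B hB
  obtain ⟨⟨n, φ, hφ, hker⟩, htor⟩ := hB
  haveI hcS := isAdicComplete_rPow R t n
  have hφt : φ (algebraMap R (RPow R (Ideal.span {t}) n) t) = algebraMap R B t := φ.commutes t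
  have hinj := injective_algebraMap R B htor
  have htB0 : algebraMap R B t ≠ 0 := fun h0 => ht ((map_eq_zero_iff _ hinj).mp h0)
  have htBm : algebraMap R B t ∈ maximalIdeal B := by
    rw [← IsLocalRing.jacobson_eq_maximalIdeal ⊥ bot_ne_top, Ideal.mem_jacobson_bot]
    intro b
    obtain ⟨s, rfl⟩ := hφ b
    have h1 : algebraMap R (RPow R (Ideal.span {t}) n) t ∈
        (⊥ : Ideal (RPow R (Ideal.span {t}) n)).jacobson :=
      IsAdicComplete.le_jacobson_bot (Ideal.span {algebraMap R (RPow R (Ideal.span {t}) n) t})
        (Ideal.mem_span_singleton_self _)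
    have h2 := Ideal.mem_jacobson_bot.mp h1 s
    have := h2.map φ
    rwa [map_add, map_mul, map_one, hφt] at this
  have hloc : ∀ r ∈ maximalIdeal R, algebraMap R B r ∈ maximalIdeal B := by
    intro r hr
    obtain ⟨N, hN⟩ := AdicVal.exists_pow_mem_span_of_mem_maximalIdeal ht hr
    obtain ⟨c, hc⟩ := Ideal.mem_span_singleton'.mp hN
    have : (algebraMap R B r) ^ N ∈ maximalIdeal B := by
      rw [← map_pow, ← hc, map_mul]
      exact Ideal.mul_mem_left _ _ htBm
    exact Ideal.IsPrime.mem_of_pow_mem inferInstance N this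
  haveI : IsLocalHom (algebraMap R B) :=
    ((IsLocalRing.local_hom_TFAE (algebraMap R B)).out 0 3).mpr fun r hr => hloc r hr
  -- the polynomial map
  let ψ : MvPolynomial (Fin n) R →ₐ[R] B :=
    φ.comp (IsScalarTower.toAlgHom R (MvPolynomial (Fin n) R) (RPow R (Ideal.span {t}) n))
  have hdecomp : ∀ b : B, ∃ (p : MvPolynomial (Fin n) R) (b' : B),
      b = ψ p + algebraMap R B t * b' := by
    intro b
    obtain ⟨s, rfl⟩ := hφ b
    obtain ⟨p, s', hs⟩ := exists_eq_add_mul R t n s
    refine ⟨p, φ s', ?_⟩
    rw [hs, map_add, map_mul, hφt]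
    rfl
  -- residue field is finite over the residue field of `R`
  have hsurjκ : Function.Surjective ((IsScalarTower.toAlgHom R B (ResidueField B)).comp ψ) := by
    intro z
    obtain ⟨b, rfl⟩ := IsLocalRing.residue_surjective z
    obtain ⟨p, b', hb⟩ := hdecomp b
    refine ⟨p, ?_⟩
    show residue B (ψ p) = residue B b
    rw [hb, map_add, map_mul, (residue_eq_zero_iff _).mpr htBm, zero_mul, add_zero]
  haveI : Algebra.FiniteType R (ResidueField B) := Algebra.FiniteType.of_surjective _ hsurjκ
  haveI : Algebra.FiniteType (ResidueField R) (ResidueField B) :=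
    Algebra.FiniteType.of_restrictScalars_finiteType R _ _
  haveI : Module.Finite (ResidueField R) (ResidueField B) :=
    finite_of_finite_type_of_isJacobsonRing _ _
  haveI : Algebra.IsIntegral (ResidueField R) (ResidueField B) := inferInstance
  haveI : Algebra.IsIntegral R (ResidueField R) :=
    Algebra.isIntegral_of_surjective IsLocalRing.residue_surjective
  haveI : Algebra.IsIntegral R (ResidueField B) :=
    Algebra.IsIntegral.trans (ResidueField R)
  -- the quotient modulo `t`
  have hrad : ∀ x ∈ maximalIdeal B, ∃ N : ℕ, x ^ N ∈ Ideal.span {algebraMap R B t} := by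
    intro x hx
    exact ((ringKrullDim_eq_one_iff_of_isLocalRing_isDomain.mp hdim).2 _ htB0) hx
  let π : B →ₐ[R] B ⧸ Ideal.span {algebraMap R B t} := Ideal.Quotient.mkₐ R _
  have hint : ∀ b : B, IsIntegral R (π b) := by
    intro b
    obtain ⟨p, hpm, hp⟩ := Algebra.IsIntegral.isIntegral (R := R) (residue B b)
    have h1 : aeval b p ∈ maximalIdeal B := by
      rw [← residue_eq_zero_iff]
      have h2 : residue B (aeval b p) = aeval (residue B b) p :=
        (Polynomial.aeval_algHom_apply (IsScalarTower.toAlgHom R B (ResidueField B)) b p).symm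
      rw [h2, Polynomial.aeval_def]
      exact hp
    obtain ⟨N, hN⟩ := hrad _ h1
    refine ⟨p ^ N, hpm.pow N, ?_⟩
    rw [← Polynomial.aeval_def, map_pow]
    have h3 : aeval (π b) p = π (aeval b p) := Polynomial.aeval_algHom_apply π b p
    rw [h3, ← map_pow]
    exact Ideal.Quotient.eq_zero_iff_mem.mpr hN
  haveI : Algebra.IsIntegral R (B ⧸ Ideal.span {algebraMap R B t}) := ⟨fun q => by
    obtain ⟨b, rfl⟩ := Ideal.Quotient.mk_surjective q
    exact hint b⟩
  have hsurjQ : Function.Surjective (π.comp ψ) := by
    intro q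
    obtain ⟨b, rfl⟩ := Ideal.Quotient.mk_surjective q
    obtain ⟨p, b', hb⟩ := hdecomp b
    refine ⟨p, ?_⟩
    show π (ψ p) = π b
    rw [hb, map_add, map_mul]
    have : π (algebraMap R B t) = 0 :=
      Ideal.Quotient.eq_zero_iff_mem.mpr (Ideal.mem_span_singleton_self _)
    rw [this, zero_mul, add_zero]
  haveI : Algebra.FiniteType R (B ⧸ Ideal.span {algebraMap R B t}) :=
    Algebra.FiniteType.of_surjective _ hsurjQ
  haveI : Module.Finite R (B ⧸ Ideal.span {algebraMap R B t}) := Algebra.IsIntegral.finite
  have heq : (Ideal.span {t} • ⊤ : Submodule R B) =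
      (Ideal.span {algebraMap R B t}).restrictScalars R := by
    rw [Ideal.smul_top_eq_map, Ideal.map_span, Set.image_singleton]
  have e1 : (B ⧸ (Ideal.span {t} • ⊤ : Submodule R B)) ≃ₗ[R]
      (B ⧸ (Ideal.span {algebraMap R B t}).restrictScalars R) := Submodule.quotEquivOfEq _ _ heq
  have e2 : (B ⧸ (Ideal.span {algebraMap R B t}).restrictScalars R) ≃ₗ[R]
      (B ⧸ Ideal.span {algebraMap R B t}) := Submodule.Quotient.restrictScalarsEquiv R _
  have hfinq : Module.Finite R (B ⧸ (Ideal.span {t} • ⊤ : Submodule R B)) :=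
    Module.Finite.equiv (e1.trans e2).symm
  exact AdicVal.finite_of_finite_quotient (Ideal.span {t}) hfinq

variable {t} in
/-- The integral closure, in its fraction field, of a domain integral over a complete valuation
ring of height one is a valuation ring. -/
theorem valuationRing_integralClosure (ht : t ≠ 0) (B : Type v) [CommRing B] [Algebra R B]
    [IsDomain B] [Algebra.IsIntegral R B] (hinj : Function.Injective (algebraMap R B)) :
    ValuationRing (integralClosure B (FractionRing B)) := by
  haveI := henselianLocalRing R ht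
  haveI : Nontrivial R := inferInstance
  haveI : Algebra.IsAlgebraic B (FractionRing B) :=
    IsLocalization.isAlgebraic (FractionRing B) (nonZeroDivisors B)
  haveI : Algebra.IsAlgebraic R (FractionRing B) :=
    Algebra.IsIntegral.trans_isAlgebraic R B (FractionRing B)
  have hinjL : Function.Injective (algebraMap R (FractionRing B)) := by
    rw [IsScalarTower.algebraMap_eq R B (FractionRing B)]
    exact (IsFractionRing.injective B (FractionRing B)).comp hinj
  refine { toPreValuationRing := ⟨fun a b => ?_⟩ }
  by_cases ha : a = 0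
  · exact ⟨0, Or.inr (by rw [ha, mul_zero])⟩
  by_cases hb : b = 0
  · exact ⟨0, Or.inl (by rw [hb, mul_zero])⟩
  have ha' : (a : FractionRing B) ≠ 0 := fun h => ha (Subtype.ext h)
  have hb' : (b : FractionRing B) ≠ 0 := fun h => hb (Subtype.ext h)
  rcases AdicVal.isIntegral_or_isIntegral_inv R hinjL ((b : FractionRing B) / a)
    (Algebra.IsAlgebraic.isAlgebraic _) with h | h
  · have h' : IsIntegral B ((b : FractionRing B) / a) := h.tower_top
    refine ⟨⟨_, h'⟩, Or.inl (Subtype.ext ?_)⟩
    show (a : FractionRing B) * ((b : FractionRing B) / a) = b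
    field_simp
  · have h' : IsIntegral B ((b : FractionRing B) / a)⁻¹ := h.tower_top
    refine ⟨⟨_, h'⟩, Or.inr (Subtype.ext ?_)⟩
    show (b : FractionRing B) * ((b : FractionRing B) / a)⁻¹ = a
    field_simp

end Valuation

end Groth.Agent.H15.AdicAdm
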