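import Mathlib
import Groth.Prelude.Def_W4bk4boschfrg79
import Groth.Agent.H15.AdicAdm

/-!
# Complete localizations: small lemmas

* `exists_eq_add_mul'`: every element of the `t`-adic completion of an `R`-algebra `A'` is the
  image of an element of `A'` plus a multiple of `t`.
* `exists_algebraMap_eq_of_isIntegral_of_mul_eq_one`: an integral inverse of an element of the
  base ring comes from the base ring.
-/

set_option autoImplicit false
universe u v

namespace Groth.Agent.H15.AdicCLoc

open Polynomial IsLocalRing AdicRing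

theorem exists_eq_add_mul_aux (R : Type u) [CommRing R] (t : R) (A' : Type v) [CommRing A']
    [Algebra R A'] (J : Ideal A') (hJ' : J = Ideal.span {algebraMap R A' t})
    (s : AdicCompletion J A') :
    ∃ (a : A') (s' : AdicCompletion J A'),
      s = algebraMap A' (AdicCompletion J A') a + algebraMap R (AdicCompletion J A') t * s' := by
  have hJfg : J.FG := ⟨{algebraMap R A' t}, by rw [hJ']; simp⟩
  obtain ⟨p, hp⟩ := Submodule.Quotient.mk_surjective _ (AdicCompletion.eval J A' 1 s)
  have hmem : s - AdicCompletion.of J A' p ∈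
      (J ^ 1 • ⊤ : Submodule A' (AdicCompletion J A')) := by
    rw [AdicCompletion.pow_smul_top_eq_ker_eval hJfg, LinearMap.mem_ker, map_sub,
      AdicCompletion.eval_of, ← hp]
    exact sub_self _
  have hmul : ∀ z ∈ (J ^ 1 • ⊤ : Submodule A' (AdicCompletion J A')),
      ∃ s' : AdicCompletion J A', z = algebraMap R (AdicCompletion J A') t * s' := by
    intro z hz
    refine Submodule.smul_induction_on hz (fun r hr z' _ => ?_) (fun a b ha hb => ?_)
    · rw [pow_one, hJ', Ideal.mem_span_singleton'] at hr
      obtain ⟨r', rfl⟩ := hr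
      refine ⟨r' • z', ?_⟩
      rw [mul_comm r', mul_smul, Algebra.smul_def (algebraMap R A' t)]
      congr 1
    · obtain ⟨a', rfl⟩ := ha
      obtain ⟨b', rfl⟩ := hb
      exact ⟨a' + b', by ring⟩
  obtain ⟨s', hs'⟩ := hmul _ hmem
  refine ⟨p, s', ?_⟩
  have : s = AdicCompletion.of J A' p + (s - AdicCompletion.of J A' p) := by ring
  rw [this, hs']
  congr 1

/-- Every element of the `t`-adic completion of `A'` is an element of `A'` plus a multiple of
`t`. -/
theorem exists_eq_add_mul' (R : Type u) [CommRing R] (t : R) (A' : Type v) [CommRing A']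
    [Algebra R A'] (s : AdicCompletion ((Ideal.span {t}).map (algebraMap R A')) A') :
    ∃ (a : A') (s' : AdicCompletion ((Ideal.span {t}).map (algebraMap R A')) A'),
      s = algebraMap A' (AdicCompletion ((Ideal.span {t}).map (algebraMap R A')) A') a +
        algebraMap R (AdicCompletion ((Ideal.span {t}).map (algebraMap R A')) A') t * s' :=
  exists_eq_add_mul_aux R t A' _ (by rw [Ideal.map_span, Set.image_singleton]) s

/-- If `c * w = 1` with `c` in the base ring and `w` integral over it, then `w` comes from the
base ring. -/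
theorem exists_algebraMap_eq_of_isIntegral_of_mul_eq_one {C B : Type*} [CommRing C] [CommRing B]
    [Algebra C B] (c : C) (w : B) (hcw : algebraMap C B c * w = 1) (hw : IsIntegral C w) :
    ∃ d : C, algebraMap C B d = w := by
  obtain ⟨p, hpm, hp⟩ := hw
  rw [← Polynomial.aeval_def, Polynomial.aeval_eq_sum_range, Finset.sum_range_succ,
    hpm.coeff_natDegree, one_smul] at hp
  set n := p.natDegree with hn
  refine ⟨-∑ i ∈ Finset.range n, p.coeff i * c ^ (n - 1 - i), ?_⟩
  have h1 : algebraMap C B c ^ n * (∑ i ∈ Finset.range n, p.coeff i • w ^ i + w ^ n) = 0 := by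
    rw [hp, mul_zero]
  have h2 : algebraMap C B c ^ n * w ^ n = 1 := by rw [← mul_pow, hcw, one_pow]
  have h3 : ∀ i ∈ Finset.range n, algebraMap C B c ^ n * (p.coeff i • w ^ i) =
      algebraMap C B c * algebraMap C B (p.coeff i * c ^ (n - 1 - i)) := by
    intro i hi
    have hi' : i < n := Finset.mem_range.mp hi
    have hni : n = (n - 1 - i) + 1 + i := by omega
    have h4 : algebraMap C B c ^ i * w ^ i = 1 := by rw [← mul_pow, hcw, one_pow]
    rw [Algebra.smul_def, map_mul, map_pow]
    calc algebraMap C B c ^ n * (algebraMap C B (p.coeff i) * w ^ i)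
        = algebraMap C B c ^ ((n - 1 - i) + 1 + i) *
            (algebraMap C B (p.coeff i) * w ^ i) := by rw [← hni]
      _ = algebraMap C B c * (algebraMap C B (p.coeff i) * algebraMap C B c ^ (n - 1 - i)) *
            (algebraMap C B c ^ i * w ^ i) := by ring
      _ = _ := by rw [h4, mul_one]
  rw [mul_add, Finset.mul_sum, Finset.sum_congr rfl h3, h2, ← Finset.mul_sum, ← map_sum] at h1
  rw [map_neg]
  linear_combination (-w) * h1 +
    (algebraMap C B (∑ i ∈ Finset.range n, p.coeff i * c ^ (n - 1 - i))) * hcw

end Groth.Agent.H15.AdicCLoc
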