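import Mathlib
import Groth.Prelude.Def_W4bk4boschfrg79
import Groth.Agent.H15.AdicVal
import Groth.Agent.H15.AdicAdm
import Groth.Agent.H15.AdicCLoc

set_option autoImplicit false
set_option linter.style.haveILetI false

/-!
# The universal property of an admissible formal blowing-up chart (algebraic core of S13353)
-/

namespace Groth.Agent.H15.AdicBlow

open AdicRing IsLocalRing
open scoped TensorProduct

universe u v

section

variable (R : Type u) [CommRing R] [IsDomain R] [ValuationRing R] [Ring.KrullDimLE 1 R]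
  (t : R) [IsAdicComplete (Ideal.span {t}) R]

variable {t} in
/-- In a complete valuation ring of height one every nonzero element divides a power of `t`. -/
theorem exists_dvd_pow (ht : t ≠ 0) {c : R} (hc : c ≠ 0) : ∃ m : ℕ, c ∣ t ^ m := by
  obtain ⟨m, hm⟩ := AdicVal.exists_pow_mem_span_of_mem_maximalIdeal hc
    (AdicAdm.t_mem_maximalIdeal R t)
  exact ⟨m, Ideal.mem_span_singleton.mp hm⟩

variable {t} in
/-- Without `t`-power torsion, nonzero scalars act injectively. -/
theorem eq_zero_of_smul_eq_zero (ht : t ≠ 0) {D : Type v} [AddCommGroup D] [Module R D]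
    (hD : NoPowTorsion (Ideal.span {t}) D) {c : R} (hc : c ≠ 0) {x : D} (h : c • x = 0) :
    x = 0 := by
  obtain ⟨m, e, he⟩ := exists_dvd_pow R ht hc
  apply hD x m
  intro a ha
  rw [Ideal.span_singleton_pow, Ideal.mem_span_singleton'] at ha
  obtain ⟨r, rfl⟩ := ha
  rw [he, show r * (c * e) = (r * e) * c by ring, mul_smul, h, smul_zero]

variable {t} in
theorem flat_of_noPowTorsion (ht : t ≠ 0) (D : Type v) [AddCommGroup D] [Module R D]
    (hD : NoPowTorsion (Ideal.span {t}) D) : Module.Flat R D := by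
  rw [Module.Flat.flat_iff_torsion_eq_bot_of_isBezout, eq_bot_iff]
  rintro x ⟨⟨r, hr⟩, h⟩
  exact eq_zero_of_smul_eq_zero R ht hD (nonZeroDivisors.ne_zero hr) h

variable {t} in
/-- `D → D ⊗_R K` is injective when `D` has no `t`-power torsion. -/
theorem algebraMap_tensor_injective (ht : t ≠ 0) (D : Type v) [CommRing D] [Algebra R D]
    (hD : NoPowTorsion (Ideal.span {t}) D) :
    Function.Injective (algebraMap D (D ⊗[R] FractionRing R)) := by
  haveI := flat_of_noPowTorsion R ht D hD
  have h1 := Module.Flat.lTensor_preserves_injective_linearMap (M := D)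
    (Algebra.linearMap R (FractionRing R)) (IsFractionRing.injective R (FractionRing R))
  intro x y hxy
  have h2 : (Algebra.linearMap R (FractionRing R)).lTensor D (x ⊗ₜ[R] (1 : R)) =
      (Algebra.linearMap R (FractionRing R)).lTensor D (y ⊗ₜ[R] (1 : R)) := by
    simpa [Algebra.TensorProduct.algebraMap_apply] using hxy
  have h3 := congrArg (TensorProduct.rid R D) (h1 h2)
  simpa using h3

theorem isUnit_algebraMap_tensor {c : R} (hc : c ≠ 0) (D : Type v) [CommRing D] [Algebra R D] :
    IsUnit (algebraMap R (D ⊗[R] FractionRing R) c) := by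
  have h1 : IsUnit (algebraMap R (FractionRing R) c) :=
    IsUnit.mk0 _ ((map_ne_zero_iff _ (IsFractionRing.injective R (FractionRing R))).mpr hc)
  have h2 := h1.map
    (Algebra.TensorProduct.includeRight : FractionRing R →ₐ[R] D ⊗[R] FractionRing R)
  rwa [AlgHom.commutes] at h2

end

section Main

variable (R : Type u) [CommRing R] [IsDomain R] [ValuationRing R] [Ring.KrullDimLE 1 R]
  (t : R) [IsAdicComplete (Ideal.span {t}) R]

variable {t} in
/-- Universal property of the chart `A[f_1, …, f_n]`, `f_i = g_i / c`, of the blowing-up of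
`(c, g_1, …, g_n)`. -/
theorem chart_universal (ht : t ≠ 0)
    (A : Type u) [CommRing A] [Algebra R A]
    (n : ℕ) (f : Fin n → A ⊗[R] FractionRing R) (hf : ∀ i, IsIntegral A (f i))
    (c : R) (hc : c ≠ 0) (g : Fin n → A)
    (hg : ∀ i, algebraMap A (A ⊗[R] FractionRing R) (g i) = c • f i)
    (D : Type u) [CommRing D] [Algebra R D] (hD : NoPowTorsion (Ideal.span {t}) D)
    (φ : A →ₐ[R] D)
    (hgen : (Ideal.span (insert (algebraMap R A c) (Set.range g))).map φ =
          Ideal.span {algebraMap R D c} ∨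
      ∃ i, (Ideal.span (insert (algebraMap R A c) (Set.range g))).map φ = Ideal.span {φ (g i)}) :
    (Ideal.span (insert (algebraMap R A c) (Set.range g))).map φ = Ideal.span {algebraMap R D c} ∧
      ∃! ψ : ↥(Algebra.adjoin A (Set.range f)) →ₐ[R] D,
        ψ.comp (IsScalarTower.toAlgHom R A ↥(Algebra.adjoin A (Set.range f))) = φ := by
  classical
  set 𝔞 := Ideal.span (insert (algebraMap R A c) (Set.range g)) with h𝔞
  let φK : (A ⊗[R] FractionRing R) →ₐ[R] (D ⊗[R] FractionRing R) := Algebra.TensorProduct.map φ (AlgHom.id R (FractionRing R))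
  have hφK : ∀ a : A, φK (algebraMap A (A ⊗[R] FractionRing R) a) = algebraMap D (D ⊗[R] FractionRing R) (φ a) := by
    intro a
    rw [Algebra.TensorProduct.algebraMap_apply, Algebra.TensorProduct.algebraMap_apply]
    simp [φK]
  have hDinj : Function.Injective (algebraMap D (D ⊗[R] FractionRing R)) := algebraMap_tensor_injective R ht D hD
  have hcu : IsUnit (algebraMap R (D ⊗[R] FractionRing R) c) := isUnit_algebraMap_tensor R hc D
  have key : ∀ i, algebraMap R (D ⊗[R] FractionRing R) c * φK (f i) = algebraMap D (D ⊗[R] FractionRing R) (φ (g i)) := by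
    intro i
    rw [← hφK, hg, map_smul]
    exact (Algebra.smul_def c _).symm
  -- Part 1
  have h1 : 𝔞.map φ = Ideal.span {algebraMap R D c} := by
    rcases hgen with h | ⟨i, hi⟩
    · exact h
    · have hcmem : algebraMap R D c ∈ 𝔞.map φ := by
        have h2 : algebraMap R A c ∈ 𝔞 := Ideal.subset_span (Set.mem_insert _ _)
        have h3 := Ideal.mem_map_of_mem φ h2
        rwa [AlgHom.commutes] at h3
      rw [hi] at hcmem
      obtain ⟨δ, hδ⟩ := Ideal.mem_span_singleton'.mp hcmem
      have hδy : algebraMap D (D ⊗[R] FractionRing R) δ * φK (f i) = 1 := by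
        apply hcu.mul_left_cancel
        calc algebraMap R (D ⊗[R] FractionRing R) c * (algebraMap D (D ⊗[R] FractionRing R) δ * φK (f i))
            = algebraMap D (D ⊗[R] FractionRing R) δ * (algebraMap R (D ⊗[R] FractionRing R) c * φK (f i)) := by ring
          _ = algebraMap D (D ⊗[R] FractionRing R) δ * algebraMap D (D ⊗[R] FractionRing R) (φ (g i)) := by rw [key i]
          _ = algebraMap D (D ⊗[R] FractionRing R) (algebraMap R D c) := by rw [← map_mul, hδ]
          _ = algebraMap R (D ⊗[R] FractionRing R) c * 1 := by rw [mul_one, ← IsScalarTower.algebraMap_apply]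
      have hyint : IsIntegral D (φK (f i)) := by
        obtain ⟨P, hPm, hP⟩ := hf i
        refine ⟨P.map φ.toRingHom, hPm.map _, ?_⟩
        rw [Polynomial.eval₂_map]
        have h4 := congrArg (φK : (A ⊗[R] FractionRing R) →+* (D ⊗[R] FractionRing R)) hP
        rw [Polynomial.hom_eval₂, map_zero] at h4
        have h5 : (algebraMap D (D ⊗[R] FractionRing R)).comp φ.toRingHom = (φK : (A ⊗[R] FractionRing R) →+* (D ⊗[R] FractionRing R)).comp (algebraMap A (A ⊗[R] FractionRing R)) := by
          ext a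
          exact (hφK a).symm
        rw [h5]
        exact h4
      obtain ⟨y₀, hy₀⟩ :=
        AdicCLoc.exists_algebraMap_eq_of_isIntegral_of_mul_eq_one δ (φK (f i)) hδy hyint
      have hδy₀ : δ * y₀ = 1 := hDinj (by rw [map_mul, hy₀, hδy, map_one])
      rw [hi]
      apply le_antisymm
      · rw [Ideal.span_singleton_le_span_singleton]
        refine ⟨y₀, ?_⟩
        rw [← hδ]
        linear_combination (-(φ (g i))) * hδy₀
      · rw [Ideal.span_singleton_le_span_singleton]
        exact ⟨δ, by rw [← hδ, mul_comm]⟩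
  refine ⟨h1, ?_⟩
  -- Part 2
  have hdiv : ∀ i, ∃ d : D, φ (g i) = d * algebraMap R D c := by
    intro i
    have h2 : φ (g i) ∈ 𝔞.map φ :=
      Ideal.mem_map_of_mem φ (Ideal.subset_span (Set.mem_insert_of_mem _ ⟨i, rfl⟩))
    rw [h1] at h2
    obtain ⟨d, hd⟩ := Ideal.mem_span_singleton'.mp h2
    exact ⟨d, hd.symm⟩
  choose d hd using hdiv
  have hφKf : ∀ i, φK (f i) = algebraMap D (D ⊗[R] FractionRing R) (d i) := by
    intro i
    apply hcu.mul_left_cancel
    rw [key i, hd i, map_mul, ← IsScalarTower.algebraMap_apply, mul_comm]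
  set A' : Subalgebra A (A ⊗[R] FractionRing R) := Algebra.adjoin A (Set.range f) with hA'
  let ιD : D →ₐ[R] (D ⊗[R] FractionRing R) := IsScalarTower.toAlgHom R D (D ⊗[R] FractionRing R)
  have hιD : ∀ x, ιD x = algebraMap D (D ⊗[R] FractionRing R) x := fun x => rfl
  have hrange : ∀ x ∈ A', φK x ∈ ιD.range := by
    intro x hx
    induction hx using Algebra.adjoin_induction with
    | mem x hx =>
      obtain ⟨i, rfl⟩ := hx
      exact ⟨d i, (hφKf i).symm⟩
    | algebraMap a => exact ⟨φ a, (hφK a).symm⟩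
    | add x y _ _ hx hy =>
      rw [map_add]
      exact ιD.range.add_mem hx hy
    | mul x y _ _ hx hy =>
      rw [map_mul]
      exact ιD.range.mul_mem hx hy
  let e : D ≃ₐ[R] ιD.range := AlgEquiv.ofInjective ιD hDinj
  let ψ₀ : A' →ₐ[R] ιD.range :=
    (φK.comp ((A'.val).restrictScalars R)).codRestrict ιD.range (fun x => hrange x x.2)
  let ψ : A' →ₐ[R] D := (e.symm : ιD.range →ₐ[R] D).comp ψ₀
  have hψ : ∀ x : A', algebraMap D (D ⊗[R] FractionRing R) (ψ x) = φK x := by
    intro x
    have h2 : e (ψ x) = ψ₀ x := by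
      show e (e.symm (ψ₀ x)) = ψ₀ x
      exact e.apply_symm_apply _
    exact congrArg Subtype.val h2
  have hcancel : ∀ (ψ' : A' →ₐ[R] D), ψ'.comp (IsScalarTower.toAlgHom R A A') = φ →
      ∀ (x : (A ⊗[R] FractionRing R)) (hx : x ∈ A'), algebraMap D (D ⊗[R] FractionRing R) (ψ' ⟨x, hx⟩) = φK x := by
    intro ψ' hψ'
    have hψ'A : ∀ a : A, ψ' (algebraMap A A' a) = φ a := fun a => AlgHom.congr_fun hψ' a
    intro x hx
    induction hx using Algebra.adjoin_induction with
    | mem x hx =>
      obtain ⟨i, rfl⟩ := hx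
      apply hcu.mul_left_cancel
      rw [key i]
      have h2 : (c • (⟨f i, Algebra.subset_adjoin ⟨i, rfl⟩⟩ : A')) = algebraMap A A' (g i) :=
        Subtype.ext (hg i).symm
      have h3 : ψ' (c • (⟨f i, Algebra.subset_adjoin ⟨i, rfl⟩⟩ : A')) = φ (g i) := by
        rw [h2, hψ'A]
      rw [← h3, map_smul, Algebra.smul_def c (ψ' _), map_mul, ← IsScalarTower.algebraMap_apply]
    | algebraMap a =>
      rw [hφK, ← hψ'A]
      rfl
    | add x y hx hy ihx ihy =>
      have : (⟨x + y, A'.add_mem hx hy⟩ : A') = ⟨x, hx⟩ + ⟨y, hy⟩ := rfl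
      rw [this, map_add, map_add, map_add, ihx, ihy]
    | mul x y hx hy ihx ihy =>
      have : (⟨x * y, A'.mul_mem hx hy⟩ : A') = ⟨x, hx⟩ * ⟨y, hy⟩ := rfl
      rw [this, map_mul, map_mul, map_mul, ihx, ihy]
  refine ⟨ψ, ?_, ?_⟩
  · apply AlgHom.ext
    intro a
    apply hDinj
    rw [AlgHom.comp_apply, hψ]
    exact hφK a
  · intro ψ' hψ'
    apply AlgHom.ext
    intro x
    apply hDinj
    rw [hψ, hcancel ψ' hψ' x.1 x.2]

end Main

end Groth.Agent.H15.AdicBlow
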