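import Mathlib
import Groth.Agent.H15.AdicVal
import Groth.Agent.H3.HenselNonmonic

/-!
# Integrality over a henselian valuation ring via the constant coefficient of the minimal polynomial

`isIntegral_of_minpoly_coeff_zero_mem`: if `R` is a henselian valuation domain with fraction field
`K` and `α` is algebraic over `K` with minimal polynomial having constant coefficient in `R`, then
`α` is integral over `R`.
-/

set_option autoImplicit false
universe u v

namespace Groth.Agent.H15.AdicNorm

open Polynomial IsLocalRing

theorem isIntegral_of_minpoly_coeff_zero_mem (R : Type u) [CommRing R] [IsDomain R]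
    [ValuationRing R] [HenselianLocalRing R] {K : Type*} [Field K] [Algebra R K]
    [IsFractionRing R K] {L : Type*} [Field L] [Algebra R L] [Algebra K L] [IsScalarTower R K L]
    (α : L) (hα : IsIntegral K α) (h0 : (minpoly K α).coeff 0 ∈ (algebraMap R K).range) :
    IsIntegral R α := by
  classical
  have hφinj : Function.Injective (algebraMap R K) := IsFractionRing.injective R K
  set f := minpoly K α with hf
  have hfm : f.Monic := minpoly.monic hα
  have hfirr : Irreducible f := minpoly.irreducible hα
  have hfα : aeval α f = 0 := minpoly.aeval K α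
  obtain ⟨r₀, hr₀⟩ := h0
  -- integer normalization
  obtain ⟨b, hb⟩ := (fun ⟨b, hb₁, hb₂⟩ => (⟨⟨b, hb₁⟩, hb₂⟩ : ∃ b : nonZeroDivisors R,
    (IsLocalization.integerNormalization (nonZeroDivisors R) f).map (algebraMap R K) = (b : R) • f))
    (IsLocalization.integerNormalization_spec (nonZeroDivisors R) f)
  set p := IsLocalization.integerNormalization (nonZeroDivisors R) f with hp
  have hb0 : algebraMap R K (b : R) ≠ 0 := by
    intro h
    exact nonZeroDivisors.coe_ne_zero b ((map_eq_zero_iff _ hφinj).mp h)
  have hp0 : p ≠ 0 := by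
    intro h
    rw [h, Polynomial.map_zero] at hb
    have h1 : (b : R) • f = C (algebraMap R K (b : R)) * f := by
      rw [Algebra.smul_def]; rfl
    rw [h1] at hb
    rcases mul_eq_zero.mp hb.symm with h2 | h2
    · exact hb0 (Polynomial.C_eq_zero.mp h2)
    · exact hfm.ne_zero h2
  obtain ⟨c, q, j, hc, hpq, hqj⟩ := AdicVal.exists_eq_C_mul_coeff_eq_one p hp0
  have hc0 : algebraMap R K c ≠ 0 := fun h => hc ((map_eq_zero_iff _ hφinj).mp h)
  set e : K := algebraMap R K (b : R) * (algebraMap R K c)⁻¹ with he
  have he0 : e ≠ 0 := mul_ne_zero hb0 (inv_ne_zero hc0)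
  have hqmap : q.map (algebraMap R K) = C e * f := by
    have h1 : C (algebraMap R K c) * q.map (algebraMap R K) = C (algebraMap R K (b : R)) * f := by
      have h2 : p.map (algebraMap R K) = C (algebraMap R K c) * q.map (algebraMap R K) := by
        rw [hpq, Polynomial.map_mul, Polynomial.map_C]
      rw [← h2, hb, Algebra.smul_def]; rfl
    have h3 : q.map (algebraMap R K) =
        C ((algebraMap R K c)⁻¹) * (C (algebraMap R K c) * q.map (algebraMap R K)) := by
      rw [← mul_assoc, ← C_mul, inv_mul_cancel₀ hc0, C_1, one_mul]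
    rw [h3, h1, ← mul_assoc, ← C_mul, he, mul_comm ((algebraMap R K c)⁻¹)]
  have hqirr : Irreducible (q.map (algebraMap R K)) := by
    rw [hqmap]
    exact (irreducible_isUnit_mul (Polynomial.isUnit_C.mpr he0.isUnit)).mpr hfirr
  -- reduce modulo the maximal ideal
  set qbar := q.map (residue R) with hqbar
  have hqbar0 : qbar ≠ 0 := by
    intro h
    have := congrArg (fun P => P.coeff j) h
    simp only [hqbar, coeff_map, hqj, map_one, coeff_zero] at this
    exact one_ne_zero this
  obtain ⟨q', hq1, hq2⟩ := Polynomial.exists_eq_pow_rootMultiplicity_mul_and_not_dvd qbar hqbar0 0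
  set r := Polynomial.rootMultiplicity 0 qbar with hr
  rw [map_zero, sub_zero] at hq1 hq2
  have hcop : IsCoprime (X ^ r : (ResidueField R)[X]) q' :=
    IsCoprime.pow_left ((Polynomial.irreducible_X.coprime_iff_not_dvd).mpr hq2)
  obtain ⟨g, h, hqgh, hgm, hg, hh⟩ :=
    Groth.Agent.H3.factor_lift_nonmonic R q (X ^ r) q' (monic_X_pow r) hcop hq1
  have hmapgh : q.map (algebraMap R K) = g.map (algebraMap R K) * h.map (algebraMap R K) := by
    rw [hqgh, Polynomial.map_mul]
  rcases hqirr.isUnit_or_isUnit hmapgh with hgu | hhu
  · -- `g = 1`, the constant coefficient of `q` is a unit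
    have hg1 : g.map (algebraMap R K) = 1 := (hgm.map _).eq_one_of_isUnit hgu
    have hgdeg : g.natDegree = 0 := by
      rw [← hgm.natDegree_map (algebraMap R K), hg1, natDegree_one]
    have hr0 : r = 0 := by
      have : (g.map (residue R)).natDegree = r := by rw [hg, natDegree_X_pow]
      rw [hgm.natDegree_map] at this
      omega
    have hq0 : IsUnit (q.coeff 0) := by
      have h1 : qbar.coeff 0 ≠ 0 := by
        rw [hq1, hr0, pow_zero, one_mul]
        intro h0
        exact hq2 (Polynomial.X_dvd_iff.mpr h0)
      rw [hqbar, coeff_map] at h1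
      by_contra hnu
      exact h1 ((residue_eq_zero_iff _).mpr hnu)
    set d := f.natDegree with hd
    have hcoef0 : algebraMap R K (q.coeff 0) = e * algebraMap R K r₀ := by
      have := congrArg (fun P => P.coeff 0) hqmap
      simp only [coeff_map, coeff_C_mul] at this
      rw [this, hr₀]
    have hcoefd : algebraMap R K (q.coeff d) = e := by
      have := congrArg (fun P => P.coeff d) hqmap
      simp only [coeff_map, coeff_C_mul] at this
      rw [this, hd, hfm.coeff_natDegree, mul_one]
    have hprod : q.coeff 0 = q.coeff d * r₀ := by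
      apply hφinj
      rw [map_mul, hcoefd, hcoef0]
    have hdu : IsUnit (q.coeff d) := by
      rw [hprod] at hq0
      exact isUnit_of_mul_isUnit_left hq0
    obtain ⟨v, hv⟩ := hdu
    set P : R[X] := C (↑v⁻¹ : R) * q with hP
    have hPmap : P.map (algebraMap R K) = f := by
      rw [hP, Polynomial.map_mul, Polynomial.map_C, hqmap, ← mul_assoc, ← C_mul]
      have : algebraMap R K (↑v⁻¹ : R) * e = 1 := by
        rw [← hcoefd, ← hv, ← map_mul, v.inv_mul, map_one]
      rw [this, C_1, one_mul]
    have hPm : P.Monic := Polynomial.monic_of_injective hφinj (by rw [hPmap]; exact hfm)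
    refine ⟨P, hPm, ?_⟩
    rw [← Polynomial.aeval_def, ← Polynomial.aeval_map_algebraMap K α P, hPmap]
    exact hfα
  · -- `h` is a unit constant, `f = g`
    obtain ⟨k, hk, hkh⟩ := Polynomial.isUnit_iff.mp hhu
    have h1 : g.map (algebraMap R K) * C k = C e * f := by
      rw [hkh, ← hmapgh, hqmap]
    have hlead : k = e := by
      have := congrArg Polynomial.leadingCoeff h1
      rw [leadingCoeff_mul, leadingCoeff_mul, (hgm.map _).leadingCoeff, leadingCoeff_C,
        leadingCoeff_C, hfm.leadingCoeff, one_mul, mul_one] at this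
      exact this
    have hgf : g.map (algebraMap R K) = f := by
      rw [hlead, mul_comm] at h1
      exact mul_left_cancel₀ (Polynomial.C_ne_zero.mpr he0) h1
    refine ⟨g, hgm, ?_⟩
    rw [← Polynomial.aeval_def, ← Polynomial.aeval_map_algebraMap K α g, hgf]
    exact hfα

end Groth.Agent.H15.AdicNorm
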