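import Mathlib
import Groth.Prelude.Def_W4bk4boschfrg79
import Groth.Agent.H15.AdicAdm
import Groth.Agent.H54.IntegralDim

/-!
# Images of topologically finite type algebras in finite domains over a complete valuation ring

* `isHausdorff_of_injective`: a module injecting into a separated module is separated.
* `le_of_le_sup_mul`: complete Nakayama for ideals: `N ≤ M ≤ N + I M`, `N` finitely generated,
  the ring `I`-adically complete, implies `M = N`.
* `range_admissible`: the image of a topologically finite type algebra in a `t`-torsion-free domain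
  integral over `R` is admissible, local, of the same dimension.
-/

set_option autoImplicit false
universe u v

namespace Groth.Agent.H15.AdicRange

open Polynomial IsLocalRing AdicRing Groth.Agent.H15

theorem isHausdorff_of_injective {R : Type*} [CommRing R] (I : Ideal R) {M N : Type*}
    [AddCommGroup M] [Module R M] [AddCommGroup N] [Module R N] [IsHausdorff I M]
    (f : N →ₗ[R] M) (hf : Function.Injective f) : IsHausdorff I N := by
  refine ⟨fun x hx => hf ?_⟩
  rw [map_zero]
  apply IsHausdorff.haus' (I := I) (f x)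
  intro n
  have := hx n
  rw [SModEq.zero] at this ⊢
  have h2 : f x ∈ Submodule.map f (I ^ n • ⊤) := Submodule.mem_map_of_mem this
  rw [Submodule.map_smul''] at h2
  exact Submodule.smul_mono le_rfl le_top h2

/-- Complete Nakayama for ideals. -/
theorem le_of_le_sup_mul {S : Type*} [CommRing S] (I : Ideal S) [IsPrecomplete I S]
    [IsHausdorff I S] (N M : Ideal S) (hN : N.FG) (hNM : N ≤ M) (h : M ≤ N ⊔ I * M) :
    M ≤ N := by
  classical
  obtain ⟨r, g, hg⟩ := Submodule.fg_iff_exists_fin_generating_family.mp hN
  have hgM : ∀ i, g i ∈ M := fun i => hNM (hg ▸ Submodule.subset_span ⟨i, rfl⟩)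
  let g' : Fin r → M := fun i => ⟨g i, hgM i⟩
  let f : (Fin r → S) →ₗ[S] M := Fintype.linearCombination S g'
  haveI : IsHausdorff I M := isHausdorff_of_injective I M.subtype Subtype.val_injective
  haveI := AdicVal.isPrecomplete_pi I (Fin r)
  have hfval : ∀ v, ((f v : M) : S) = ∑ i, v i * g i := by
    intro v
    simp [f, g', Fintype.linearCombination_apply]
  have hsurj : Function.Surjective ((I • ⊤ : Submodule S M).mkQ ∘ₗ f) := by
    intro q
    obtain ⟨x, rfl⟩ := Submodule.mkQ_surjective _ q
    obtain ⟨y, hy, z, hz, hyz⟩ := Submodule.mem_sup.mp (h x.2)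
    rw [← hg] at hy
    obtain ⟨v, hv⟩ := (Submodule.mem_span_range_iff_exists_fun S).mp hy
    refine ⟨v, ?_⟩
    rw [LinearMap.comp_apply, Submodule.mkQ_apply, Submodule.mkQ_apply, Submodule.Quotient.eq,
      Submodule.mem_smul_top_iff]
    have h1 : ((f v - x : M) : S) = -z := by
      rw [Submodule.coe_sub, hfval, ← hyz]
      simp only [smul_eq_mul] at hv
      rw [hv]; ring
    rw [h1]
    exact neg_mem hz
  have hs := surjective_of_mkQ_comp_surjective (I := I) (f := f) hsurj
  intro x hx
  obtain ⟨v, hv⟩ := hs ⟨x, hx⟩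
  have h2 : x = ∑ i, v i * g i := by rw [← hfval, hv]
  rw [h2, ← hg]
  exact Submodule.sum_mem _ fun i _ => Submodule.smul_mem _ _ (Submodule.subset_span ⟨i, rfl⟩)

section Valuation

variable (R : Type u) [CommRing R] [IsDomain R] [ValuationRing R] [Ring.KrullDimLE 1 R]
  {t : R} [IsAdicComplete (Ideal.span {t}) R]

/-- The image of a topologically finite type `R`-algebra in a domain which is integral over `R`,
`t`-adically separated and without `t`-torsion is an admissible `R`-algebra, a local ring, and has
the same Krull dimension as the target. -/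
theorem range_admissible (ht : t ≠ 0)
    (A : Type u) [CommRing A] [Algebra R A] (hA : TopFiniteType R (Ideal.span {t}) A)
    (B' : Type u) [CommRing B'] [Algebra R B'] [IsDomain B'] [Algebra.IsIntegral R B']
    [IsHausdorff (Ideal.span {t}) B'] (htor : NoPowTorsion (Ideal.span {t}) B')
    (θ₀ : A →ₐ[R] B') :
    Admissible R (Ideal.span {t}) θ₀.range ∧ IsLocalRing θ₀.range ∧
      ringKrullDim θ₀.range = ringKrullDim B' := by
  haveI := AdicAdm.henselianLocalRing R ht
  have hinj : Function.Injective (algebraMap R B') := AdicAdm.injective_algebraMap R B' htor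
  haveI : Algebra.IsIntegral R θ₀.range := ⟨fun c => by
    have h1 : IsIntegral R (θ₀.range.val c) := Algebra.IsIntegral.isIntegral _
    exact (isIntegral_algHom_iff θ₀.range.val Subtype.val_injective).mp h1⟩
  haveI : IsLocalRing θ₀.range := AdicVal.isLocalRing_of_isIntegral_of_isDomain R θ₀.range
  haveI : Algebra.IsIntegral θ₀.range B' := Algebra.IsIntegral.tower_top R
  have hdimC : ringKrullDim B' = ringKrullDim θ₀.range :=
    H54.ringKrullDim_eq_of_isIntegral_of_injective (R := θ₀.range) (S := B')
      Subtype.val_injective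
  have htorC : NoPowTorsion (Ideal.span {t}) θ₀.range := by
    intro x k hx
    apply Subtype.ext
    apply htor (x : B') k
    intro a ha
    have := congrArg Subtype.val (hx a ha)
    simpa using this
  refine ⟨⟨?_, htorC⟩, inferInstance, hdimC.symm⟩
  -- topological finite presentation
  obtain ⟨m, φA, hφA⟩ := hA
  let ψ : RPow R (Ideal.span {t}) m →ₐ[R] θ₀.range := θ₀.rangeRestrict.comp φA
  have hψ : Function.Surjective ψ := θ₀.rangeRestrict_surjective.comp hφA
  refine ⟨m, ψ, hψ, ?_⟩
  haveI hcS := AdicAdm.isAdicComplete_rPow R t m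
  let ι : MvPolynomial (Fin m) R →ₐ[R] RPow R (Ideal.span {t}) m :=
    IsScalarTower.toAlgHom R _ _
  let ψP : MvPolynomial (Fin m) R →ₐ[R] θ₀.range := ψ.comp ι
  have hdecomp : ∀ c : θ₀.range, ∃ (p : MvPolynomial (Fin m) R) (c' : θ₀.range),
      c = ψP p + t • c' := by
    intro c
    obtain ⟨s, rfl⟩ := hψ c
    obtain ⟨p, s', hs⟩ := AdicAdm.exists_eq_add_mul R t m s
    refine ⟨p, ψ s', ?_⟩
    rw [hs, map_add, map_mul, AlgHom.commutes, Algebra.smul_def]
    rfl
  haveI : IsHausdorff (Ideal.span {t}) θ₀.range :=
    isHausdorff_of_injective _ θ₀.range.val.toLinearMap Subtype.val_injective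
  -- the range of `ψP` is a finitely generated `R`-module
  have hNfg : (LinearMap.range ψP.toLinearMap).FG := by
    have h2 : ψP.range = Algebra.adjoin R (Set.range (⇑ψP ∘ MvPolynomial.X)) := by
      conv_lhs => rw [MvPolynomial.aeval_unique ψP]
      exact (Algebra.adjoin_range_eq_range_aeval R _).symm
    have h3 : (Algebra.adjoin R (Set.range (⇑ψP ∘ MvPolynomial.X))).toSubmodule.FG :=
      fg_adjoin_of_finite (Set.finite_range _) fun x _ => Algebra.IsIntegral.isIntegral x
    rw [← h2] at h3
    exact h3
  obtain ⟨r, g, hg⟩ := Submodule.fg_iff_exists_fin_generating_family.mp hNfg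
  let f : (Fin r → R) →ₗ[R] θ₀.range := Fintype.linearCombination R g
  have hfr : LinearMap.range f = LinearMap.range ψP.toLinearMap := by
    rw [Fintype.range_linearCombination, hg]
  haveI := AdicVal.isPrecomplete_pi (Ideal.span {t}) (Fin r)
  have hsurjf : Function.Surjective f := by
    apply surjective_of_mkQ_comp_surjective (I := Ideal.span {t})
    intro q
    obtain ⟨c, rfl⟩ := Submodule.mkQ_surjective _ q
    obtain ⟨p, c', hc⟩ := hdecomp c
    have hmem : ψP p ∈ LinearMap.range f := by rw [hfr]; exact ⟨p, rfl⟩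
    obtain ⟨v, hv⟩ := hmem
    refine ⟨v, ?_⟩
    rw [LinearMap.comp_apply, Submodule.mkQ_apply, Submodule.mkQ_apply, Submodule.Quotient.eq,
      hv, hc]
    have h1 : ψP p - (ψP p + t • c') = -(t • c') := by abel
    rw [h1]
    exact neg_mem (Submodule.smul_mem_smul (Ideal.mem_span_singleton_self t) trivial)
  haveI : Module.Finite R θ₀.range := Module.Finite.of_surjective f hsurjf
  have hψPsurj : Function.Surjective ψP := by
    intro c
    have h1 : c ∈ LinearMap.range f := by
      rw [LinearMap.range_eq_top.mpr hsurjf]; exact Submodule.mem_top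
    rw [hfr] at h1
    exact h1
  -- the range is a free `R`-module
  haveI : Module.Flat R θ₀.range := by
    rw [Module.Flat.flat_iff_torsion_eq_bot_of_isBezout, eq_bot_iff]
    intro x hx
    rw [Submodule.mem_torsion_iff] at hx
    obtain ⟨⟨a, ha⟩, hax⟩ := hx
    have ha0 : a ≠ 0 := nonZeroDivisors.ne_zero ha
    rw [Submodule.mem_bot]
    apply Subtype.ext
    have h1 : algebraMap R B' a * (x : B') = 0 := by
      have := congrArg Subtype.val hax
      simpa [Algebra.smul_def] using this
    rcases mul_eq_zero.mp h1 with h | h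
    · exact absurd ((map_eq_zero_iff _ hinj).mp h) ha0
    · exact h
  haveI : Module.Free R θ₀.range := Module.free_of_flat_of_isLocalRing
  haveI : Module.FinitePresentation R θ₀.range := Module.finitePresentation_of_projective R _
  have hbfg : (RingHom.ker ψP.toRingHom).FG :=
    Algebra.FinitePresentation.ker_fg_of_mvPolynomial ψP hψPsurj
  -- the kernel of `ψ`
  have hιt : ι (MvPolynomial.C t) = algebraMap R (RPow R (Ideal.span {t}) m) t := ι.commutes t
  have hbSfg : ((RingHom.ker ψP.toRingHom).map ι.toRingHom).FG := hbfg.map _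
  have hle : (RingHom.ker ψP.toRingHom).map ι.toRingHom ≤ RingHom.ker ψ.toRingHom := by
    rw [Ideal.map_le_iff_le_comap]
    intro p hp
    exact hp
  have hkey : RingHom.ker ψ.toRingHom ≤ (RingHom.ker ψP.toRingHom).map ι.toRingHom ⊔
      Ideal.span {algebraMap R (RPow R (Ideal.span {t}) m) t} * RingHom.ker ψ.toRingHom := by
    intro s hs
    have hs0 : ψ s = 0 := hs
    obtain ⟨p, s', hsp⟩ := AdicAdm.exists_eq_add_mul R t m s
    have hsp' : s = ι p + algebraMap R (RPow R (Ideal.span {t}) m) t * s' := hsp
    obtain ⟨p', hp'⟩ := hψPsurj (ψ s')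
    have hp'' : ψ (ι p') = ψ s' := hp'
    have hb : p + MvPolynomial.C t * p' ∈ RingHom.ker ψP.toRingHom := by
      show ψ (ι (p + MvPolynomial.C t * p')) = 0
      rw [map_add, map_mul, hιt, map_add, map_mul, hp'', ← map_mul, ← map_add, ← hsp', hs0]
    have hdec : s = ι (p + MvPolynomial.C t * p') +
        algebraMap R (RPow R (Ideal.span {t}) m) t * (s' - ι p') := by
      rw [hsp', map_add, map_mul, hιt]; ring
    rw [hdec]
    refine Submodule.add_mem_sup (Ideal.mem_map_of_mem _ hb)
      (Ideal.mul_mem_mul (Ideal.mem_span_singleton_self _) ?_)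
    show ψ (s' - ι p') = 0
    rw [map_sub, hp'', sub_self]
  have hfinal := le_of_le_sup_mul (Ideal.span {algebraMap R (RPow R (Ideal.span {t}) m) t})
    _ (RingHom.ker ψ.toRingHom) hbSfg hle hkey
  rw [le_antisymm hfinal hle]
  exact hbSfg

end Valuation

end Groth.Agent.H15.AdicRange
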