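import Mathlib
import Groth.Prelude.Def_EGA4b
import Groth.Agent.H47.BranchCount
import Groth.Agent.H47.MinPrimeTensor
import Groth.Agent.H34.ComplQuot
import Groth.Agent.H3.HInt
import Groth.Agent.H15.FlatLoc
import Groth.Agent.H15.NorCpl
import Groth.Agent.H23.RegularLocal

/-!
# Minimal primes of the completion versus maximal ideals of a birational integral extension
(helper15)

For a Noetherian local ring `A` and an integral `A`-algebra `A'` which is "birational" over `A`
(hypotheses `H1 H2 H3` of `H47.MinPrimeTensor`), if all localizations of `A' ⊗[A] Cpl A` at maximal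
ideals are domains then the minimal primes of `Cpl A` are in bijection with the maximal ideals of
`A'`.
-/

set_option autoImplicit false
set_option linter.style.haveILetI false
set_option linter.unusedSectionVars false
set_option linter.unusedVariables false

universe u

open TensorProduct IsLocalRing

namespace Groth.Agent.H15.BranchCpl

open Groth.Agent.H47.BranchCount

attribute [local instance] Algebra.TensorProduct.rightAlgebra

section Count

variable (A : Type u) [CommRing A] [IsLocalRing A] [IsNoetherianRing A]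

theorem hres_cpl (y : EGA4.Cpl A) :
    ∃ r : A, y - algebraMap A (EGA4.Cpl A) r ∈ maximalIdeal (EGA4.Cpl A) := by
  obtain ⟨z, hz⟩ := (AdicCompletion.residueField_map_bijective A).2 (residue (EGA4.Cpl A) y)
  obtain ⟨r, rfl⟩ := residue_surjective z
  refine ⟨r, ?_⟩
  rw [IsLocalRing.ResidueField.map_residue] at hz
  rw [← residue_eq_zero_iff, map_sub, hz, sub_self]

theorem henselian_cpl : HenselianLocalRing (EGA4.Cpl A) :=
  Groth.Agent.H3.henselianLocalRing_of_henselianRing_maximalIdeal _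

variable (A' : Type u) [CommRing A'] [Algebra A A'] [Algebra.IsIntegral A A']
  (T₀ : Submonoid A)
  (H1 : ∀ a' : A', ∃ t ∈ T₀, ∃ a : A, t • a' = algebraMap A A' a)
  (H2 : ∀ t ∈ T₀, ∀ x : A', t • x = 0 → x = 0)
  (H3 : RingHom.ker (algebraMap A A') ≤ nilradical A)

include H1 H2 H3 in
/-- Minimal primes of the completion correspond to maximal ideals of `A'`. -/
theorem nonempty_equiv
    (hloc : ∀ (M : Ideal (A' ⊗[A] EGA4.Cpl A)) [M.IsMaximal], LocDom M) :
    Nonempty (minimalPrimes (EGA4.Cpl A) ≃ MaximalSpectrum A') := by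
  haveI : Module.Flat A (EGA4.Cpl A) := AdicCompletion.flat_of_isNoetherian (maximalIdeal A)
  haveI : Module.FaithfullyFlat A (EGA4.Cpl A) := Groth.Agent.H34.ComplQuot.faithfullyFlat_cpl A
  haveI := henselian_cpl A
  have hbij := Groth.Agent.H47.MinPrimeTensor.bijOn_minimalPrimes A A' (EGA4.Cpl A) T₀ H1 H2 H3
  obtain ⟨f, hf, -⟩ := exists_bijective_minimalPrimes_maximal A (EGA4.Cpl A) A' hloc
  have hc := bijective_contr' A (EGA4.Cpl A) A' (hres_cpl A)
  exact ⟨(Set.BijOn.equiv _ hbij).symm.trans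
    ((Equiv.ofBijective f hf).trans (Equiv.ofBijective _ hc))⟩

/-- The maximal ideals of `A' ⊗[A] Cpl A` are extended from `A'`. -/
theorem maximal_eq_map (M : Ideal (A' ⊗[A] EGA4.Cpl A)) [M.IsMaximal] :
    M = (M.comap (algebraMap A' (A' ⊗[A] EGA4.Cpl A))).map
      (algebraMap A' (A' ⊗[A] EGA4.Cpl A)) := by
  set N : Ideal A' := M.comap (algebraMap A' (A' ⊗[A] EGA4.Cpl A)) with hN
  set J : Ideal (A' ⊗[A] EGA4.Cpl A) := N.map (algebraMap A' (A' ⊗[A] EGA4.Cpl A)) with hJ
  have hJM : J ≤ M := Ideal.map_comap_le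
  -- `m ⊆ N ∩ A`
  have hmN : ∀ x ∈ maximalIdeal A, ∀ a' : A', x • a' ∈ N := by
    intro x hx a'
    have h1 : algebraMap A A' x ∈ N := by
      rw [hN, Ideal.mem_comap]
      have h2 : algebraMap A' (A' ⊗[A] EGA4.Cpl A) (algebraMap A A' x) =
          algebraMap (EGA4.Cpl A) (A' ⊗[A] EGA4.Cpl A) (algebraMap A (EGA4.Cpl A) x) := by
        show (algebraMap A A' x) ⊗ₜ[A] (1 : EGA4.Cpl A) =
          (1 : A') ⊗ₜ[A] (algebraMap A (EGA4.Cpl A) x)
        rw [Algebra.algebraMap_eq_smul_one, Algebra.algebraMap_eq_smul_one,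
          TensorProduct.smul_tmul]
      rw [h2]
      haveI : Algebra.IsIntegral (EGA4.Cpl A) (A' ⊗[A] EGA4.Cpl A) :=
        isIntegral_right' A (EGA4.Cpl A) A'
      have h3 : M.comap (algebraMap (EGA4.Cpl A) (A' ⊗[A] EGA4.Cpl A)) =
          maximalIdeal (EGA4.Cpl A) :=
        IsLocalRing.eq_maximalIdeal (Ideal.isMaximal_comap_of_isIntegral_of_isMaximal M)
      have h4 : algebraMap A (EGA4.Cpl A) x ∈ maximalIdeal (EGA4.Cpl A) := by
        rw [AdicCompletion.maximalIdeal_eq_map]
        exact Ideal.mem_map_of_mem _ hx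
      rw [← h3] at h4
      exact h4
    rw [Algebra.smul_def]
    exact Ideal.mul_mem_right _ _ h1
  -- `a' ⊗ e ∈ J` for `e` in the maximal ideal of the completion
  have hkey : ∀ (a' : A') (e : EGA4.Cpl A), e ∈ maximalIdeal (EGA4.Cpl A) →
      a' ⊗ₜ[A] e ∈ J := by
    intro a' e he
    rw [AdicCompletion.maximalIdeal_eq_map, Ideal.map] at he
    refine Submodule.span_induction (p := fun e _ => a' ⊗ₜ[A] e ∈ J) ?_ ?_ ?_ ?_ he
    · rintro _ ⟨x, hx, rfl⟩
      have h1 : a' ⊗ₜ[A] (algebraMap A (EGA4.Cpl A) x) =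
          algebraMap A' (A' ⊗[A] EGA4.Cpl A) (x • a') := by
        show _ = (x • a') ⊗ₜ[A] (1 : EGA4.Cpl A)
        rw [Algebra.algebraMap_eq_smul_one, TensorProduct.smul_tmul]
      rw [h1]
      exact Ideal.mem_map_of_mem _ (hmN x hx a')
    · rw [TensorProduct.tmul_zero]
      exact J.zero_mem
    · intro x y _ _ hx hy
      rw [TensorProduct.tmul_add]
      exact J.add_mem hx hy
    · intro c x _ hx
      have h1 : a' ⊗ₜ[A] (c • x) = ((1 : A') ⊗ₜ[A] c) * (a' ⊗ₜ[A] x) := by
        rw [Algebra.TensorProduct.tmul_mul_tmul, one_mul, smul_eq_mul]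
      rw [h1]
      exact J.mul_mem_left _ hx
  -- every element is congruent to an element of `A'` modulo `J`
  have hrep : ∀ t : A' ⊗[A] EGA4.Cpl A, ∃ a'' : A',
      t - a'' ⊗ₜ[A] (1 : EGA4.Cpl A) ∈ J := by
    intro t
    induction t using TensorProduct.induction_on with
    | zero => exact ⟨0, by rw [TensorProduct.zero_tmul, sub_zero]; exact J.zero_mem⟩
    | tmul a' c =>
      obtain ⟨r, hr⟩ := hres_cpl A c
      refine ⟨r • a', ?_⟩
      have h1 : a' ⊗ₜ[A] c - (r • a') ⊗ₜ[A] (1 : EGA4.Cpl A) =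
          a' ⊗ₜ[A] (c - algebraMap A (EGA4.Cpl A) r) := by
        rw [TensorProduct.tmul_sub, Algebra.algebraMap_eq_smul_one, TensorProduct.smul_tmul]
      rw [h1]
      exact hkey a' _ hr
    | add x y hx hy =>
      obtain ⟨a₁, h₁⟩ := hx
      obtain ⟨a₂, h₂⟩ := hy
      refine ⟨a₁ + a₂, ?_⟩
      have h1 : x + y - (a₁ + a₂) ⊗ₜ[A] (1 : EGA4.Cpl A) =
          (x - a₁ ⊗ₜ[A] (1 : EGA4.Cpl A)) + (y - a₂ ⊗ₜ[A] (1 : EGA4.Cpl A)) := by
        rw [TensorProduct.add_tmul]
        ring
      rw [h1]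
      exact J.add_mem h₁ h₂
  refine le_antisymm ?_ hJM
  intro t ht
  obtain ⟨a'', ha''⟩ := hrep t
  have h1 : a'' ⊗ₜ[A] (1 : EGA4.Cpl A) ∈ M := by
    have := M.sub_mem ht (hJM ha'')
    rwa [sub_sub_cancel] at this
  have h2 : a'' ∈ N := by
    rw [hN, Ideal.mem_comap]
    exact h1
  have h3 : a'' ⊗ₜ[A] (1 : EGA4.Cpl A) ∈ J := Ideal.mem_map_of_mem _ h2
  have := J.add_mem ha'' h3
  rwa [sub_add_cancel] at this

/-- A quotient of a local ring by its maximal ideal is a regular local ring. -/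
theorem isRegularLocalRing_quotient_of_eq (R : Type u) [CommRing R] [IsLocalRing R] (I : Ideal R)
    (h : I = maximalIdeal R) : IsRegularLocalRing (R ⧸ I) := by
  subst h
  exact (inferInstance : IsRegularLocalRing (ResidueField R))

omit [Algebra.IsIntegral A A'] in
/-- If `A'` is finite over `A` with regular localizations at maximal ideals, the localizations
of `A' ⊗[A] Cpl A` at maximal ideals are domains. -/
theorem locDom_of_regular [Module.Finite A A']
    (hreg : ∀ (N : Ideal A') [N.IsMaximal], IsRegularLocalRing (Localization.AtPrime N))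
    (M : Ideal (A' ⊗[A] EGA4.Cpl A)) [M.IsMaximal] : LocDom M := by
  haveI : Algebra.IsIntegral A A' := inferInstance
  haveI : IsNoetherianRing A' := Groth.Agent.H15.NorCpl.isNoetherianRing_of_finite A A'
  haveI : Module.Flat A (EGA4.Cpl A) := AdicCompletion.flat_of_isNoetherian (maximalIdeal A)
  haveI : IsNoetherianRing (A' ⊗[A] EGA4.Cpl A) := inferInstance
  haveI : Module.Flat A' (A' ⊗[A] EGA4.Cpl A) := inferInstance
  haveI : IsLocalRing (EGA4.FibLocRing A' (A' ⊗[A] EGA4.Cpl A) M) :=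
    Groth.Agent.H15.FlatLoc.isLocalRing_fibLocRing A' (A' ⊗[A] EGA4.Cpl A) M
  have hNmax : (M.comap (algebraMap A' (A' ⊗[A] EGA4.Cpl A))).IsMaximal :=
    isMaximal_contr' A (EGA4.Cpl A) A' M
  haveI := hNmax
  have hreg1 : IsRegularLocalRing
      (Localization.AtPrime (M.comap (algebraMap A' (A' ⊗[A] EGA4.Cpl A)))) := hreg _
  have hI : (M.comap (algebraMap A' (A' ⊗[A] EGA4.Cpl A))).map
      (algebraMap A' (Localization.AtPrime M)) = maximalIdeal (Localization.AtPrime M) := by
    rw [IsScalarTower.algebraMap_eq A' (A' ⊗[A] EGA4.Cpl A) (Localization.AtPrime M),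
      ← Ideal.map_map, ← maximal_eq_map A A' M, Localization.AtPrime.map_eq_maximalIdeal]
  have hreg2 : IsRegularLocalRing (EGA4.FibLocRing A' (A' ⊗[A] EGA4.Cpl A) M) :=
    isRegularLocalRing_quotient_of_eq _ _ hI
  have hreg3 := (Groth.Agent.H15.FlatLoc.flat_data A' (A' ⊗[A] EGA4.Cpl A) M).2.2 hreg1 hreg2
  haveI := hreg3
  exact locDom_of_isDomain M (Groth.Agent.H23.isDomain_of_isRegularLocalRing _)

end Count

end Groth.Agent.H15.BranchCpl
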