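import Mathlib
import Groth.Agent.H15.BranchCpl
import Groth.Agent.H47.NormRedLocal
import Groth.Agent.H15.FlatLoc
import Groth.Agent.H15.NorCpl
import Groth.Agent.H23.RegularLocal
import Groth.Agent.H54.IntegralDim

/-!
# Reduced one-dimensional local rings with finite normalization (helper15)

For `A` reduced Noetherian local of dimension one with finite normalization `A'`, the
localizations of `A'` at maximal ideals are discrete valuation rings, the ring
`A' ⊗[A] Cpl A` has regular localizations at its maximal ideals, and the minimal primes of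
`Cpl A` correspond to the maximal ideals of `A'`.
-/

set_option autoImplicit false
set_option linter.style.haveILetI false
set_option linter.unusedSectionVars false
set_option linter.unusedVariables false

universe u

open TensorProduct IsLocalRing

namespace Groth.Agent.H15.BranchDimOne

open Groth.Agent.H47.BranchCount Groth.Agent.H15.BranchCpl

attribute [local instance] Algebra.TensorProduct.rightAlgebra

section NZD

variable (A : Type u) [CommRing A] [IsLocalRing A] [IsNoetherianRing A] [IsReduced A]

/-- A reduced Noetherian local ring of dimension one has a nonzerodivisor in its maximal ideal. -/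
theorem exists_nzd (hdim : ringKrullDim A = 1) :
    ∃ x ∈ maximalIdeal A, x ∈ nonZeroDivisors A := by
  classical
  by_contra hcon
  have hcon : ∀ x ∈ maximalIdeal A, x ∉ nonZeroDivisors A := fun x hx hx' => hcon ⟨x, hx, hx'⟩
  have hsub : ((maximalIdeal A : Ideal A) : Set A) ⊆
      ⋃ p ∈ associatedPrimes A A, (p : Set A) := by
    rw [biUnion_associatedPrimes_eq_compl_nonZeroDivisors]
    intro x hx
    exact hcon x hx
  have hfin : (associatedPrimes A A).Finite := associatedPrimes.finite A A
  have h2 : ∃ p ∈ hfin.toFinset, maximalIdeal A ≤ p := by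
    refine (Ideal.subset_union_prime (s := hfin.toFinset) (f := fun p : Ideal A => p) ⊥ ⊥
      (fun p hp _ _ => ((hfin.mem_toFinset).mp hp).isPrime) (I := maximalIdeal A)).mp ?_
    rw [hfin.coe_toFinset]
    exact hsub
  obtain ⟨p, hp, hle⟩ := h2
  have hp' : IsAssociatedPrime p A := (hfin.mem_toFinset).mp hp
  obtain ⟨hprime, y, hy⟩ := isAssociatedPrime_iff.mp hp'
  have hpm : p = maximalIdeal A :=
    ((maximalIdeal.isMaximal A).eq_of_le hprime.ne_top hle).symm
  have hann : ∀ a : A, a ∈ maximalIdeal A ↔ a * y = 0 := by
    intro a
    rw [← hpm, hy, Submodule.mem_colon_singleton, Submodule.mem_bot, smul_eq_mul]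
  by_cases hyu : IsUnit y
  · -- then the maximal ideal is zero, so `A` is a field of dimension zero
    have hbot : maximalIdeal A = ⊥ := by
      rw [eq_bot_iff]
      intro a ha
      have := (hann a).mp ha
      exact (hyu.mul_left_eq_zero).mp this
    have hfield : IsField A := IsLocalRing.isField_iff_maximalIdeal_eq.mpr hbot
    have h0 := ringKrullDim_eq_zero_of_isField hfield
    rw [hdim] at h0
    exact one_ne_zero h0
  · have hym : y ∈ maximalIdeal A := (IsLocalRing.mem_maximalIdeal y).mpr hyu
    have hyy : y * y = 0 := (hann y).mp hym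
    have hy0 : y = 0 := by
      have : IsNilpotent y := ⟨2, by rw [pow_two]; exact hyy⟩
      exact this.eq_zero
    have h1 : (1 : A) ∈ maximalIdeal A := by
      rw [hann, hy0, mul_zero]
    exact (maximalIdeal.isMaximal A).ne_top ((Ideal.eq_top_iff_one _).mpr h1)

end NZD

section Main

variable (A : Type u) [CommRing A] [IsLocalRing A] [IsNoetherianRing A] [IsReduced A]

local notation "A'" => integralClosure A (FractionRing A)

theorem H1 (a' : A') :
    ∃ t ∈ nonZeroDivisors A, ∃ a : A, t • a' = algebraMap A A' a := by
  obtain ⟨⟨r, s⟩, hrs⟩ := IsLocalization.surj (nonZeroDivisors A) (a' : FractionRing A)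
  refine ⟨s, s.2, r, ?_⟩
  apply Subtype.ext
  show (s : A) • (a' : FractionRing A) = algebraMap A (FractionRing A) r
  rw [Algebra.smul_def, mul_comm]
  exact hrs

theorem H2 (t : A) (ht : t ∈ nonZeroDivisors A) (x : A') (hx : t • x = 0) : x = 0 := by
  have h1 : (t : A) • (x : FractionRing A) = 0 := congrArg Subtype.val hx
  rw [Algebra.smul_def] at h1
  have hu : IsUnit (algebraMap A (FractionRing A) t) :=
    IsLocalization.map_units (FractionRing A) (⟨t, ht⟩ : nonZeroDivisors A)
  apply Subtype.ext
  exact (hu.mul_right_eq_zero).mp h1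

theorem H3 : RingHom.ker (algebraMap A A') ≤ nilradical A := by
  intro a ha
  rw [RingHom.mem_ker] at ha
  have h1 : algebraMap A (FractionRing A) a = 0 := congrArg Subtype.val ha
  have hinj : Function.Injective (algebraMap A (FractionRing A)) :=
    IsLocalization.injective _ (le_refl (nonZeroDivisors A))
  have h3 : a = 0 := hinj (by rw [h1, map_zero])
  rw [h3]
  exact Ideal.zero_mem _

variable (hdim : ringKrullDim A = 1)
  (hfin : Module.Finite A (integralClosure A (FractionRing A)))

include hdim hfin in
/-- The localizations of the normalization at maximal ideals are regular (discrete valuation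
rings). -/
theorem isRegularLocalRing_localization (N : Ideal A') [N.IsMaximal] :
    IsRegularLocalRing (Localization.AtPrime N) := by
  haveI hfin' : @Module.Finite A A' _ _ Algebra.toModule := hfin
  have hminfin : (minimalPrimes A).Finite := minimalPrimes.finite_of_isNoetherianRing A
  haveI hdom : IsDomain (Localization.AtPrime N) :=
    Groth.Agent.H47.NormRedLocal.isDomain_localization (FractionRing A) hminfin N
  haveI hic : IsIntegrallyClosed (Localization.AtPrime N) :=
    Groth.Agent.H47.NormRedLocal.isIntegrallyClosed_localization (FractionRing A) hminfin N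
  haveI : IsNoetherianRing A' := Groth.Agent.H15.NorCpl.isNoetherianRing_of_finite A A'
  haveI : IsNoetherianRing (Localization.AtPrime N) :=
    IsLocalization.isNoetherianRing N.primeCompl _ inferInstance
  haveI : Algebra.IsIntegral A A' := inferInstance
  -- dimension at most one
  have hd1 : ringKrullDim (Localization.AtPrime N) ≤ 1 := by
    rw [IsLocalization.AtPrime.ringKrullDim_eq_height N (Localization.AtPrime N)]
    calc ((N.height : ℕ∞) : WithBot ℕ∞) ≤ ringKrullDim A' := Ideal.height_le_ringKrullDim_of_ne_top
          (Ideal.IsPrime.ne_top inferInstance)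
      _ ≤ ringKrullDim A := Groth.Agent.H54.ringKrullDim_le_of_isIntegral
      _ = 1 := hdim
  haveI hkd : Ring.KrullDimLE 1 (Localization.AtPrime N) := Ring.krullDimLE_iff.mpr hd1
  -- not a field
  obtain ⟨x, hxm, hxnzd⟩ := exists_nzd A hdim
  have hcomap : N.comap (algebraMap A A') = maximalIdeal A :=
    IsLocalRing.eq_maximalIdeal (Ideal.isMaximal_comap_of_isIntegral_of_isMaximal N)
  have hxN : algebraMap A A' x ∈ N := by
    rw [← hcomap] at hxm
    exact hxm
  have hx1 : algebraMap A' (Localization.AtPrime N) (algebraMap A A' x) ∈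
      maximalIdeal (Localization.AtPrime N) :=
    (IsLocalization.AtPrime.to_map_mem_maximal_iff (Localization.AtPrime N) N _).mpr hxN
  have hx2 : algebraMap A' (Localization.AtPrime N) (algebraMap A A' x) ≠ 0 := by
    intro h0
    obtain ⟨s, hs⟩ := (IsLocalization.map_eq_zero_iff N.primeCompl _ _).mp h0
    have h1 : x • (s : A') = 0 := by
      rw [Algebra.smul_def, mul_comm]
      exact hs
    have h2 := H2 A x hxnzd _ h1
    exact s.2 (h2 ▸ N.zero_mem)
  have hnf : ¬ IsField (Localization.AtPrime N) := by
    intro hf
    have hbot := IsLocalRing.isField_iff_maximalIdeal_eq.mp hf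
    rw [hbot, Ideal.mem_bot] at hx1
    exact hx2 hx1
  have hmne : maximalIdeal (Localization.AtPrime N) ≠ ⊥ := fun h =>
    hnf (IsLocalRing.isField_iff_maximalIdeal_eq.mpr h)
  have hdvr : IsDiscreteValuationRing (Localization.AtPrime N) := by
    have h03 := (IsDiscreteValuationRing.TFAE (Localization.AtPrime N) hnf).out 0 3
    refine h03.mpr ⟨hic, ?_⟩
    refine ⟨maximalIdeal (Localization.AtPrime N), ?_, ?_⟩
    · show maximalIdeal (Localization.AtPrime N) ≠ ⊥ ∧
        (maximalIdeal (Localization.AtPrime N)).IsPrime
      exact ⟨hmne, inferInstance⟩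
    intro P hP
    have hP' : P ≠ ⊥ ∧ P.IsPrime := hP
    obtain ⟨hP0, hPp⟩ := hP'
    have hPmax : P.IsMaximal :=
      Ring.krullDimLE_one_iff_of_noZeroDivisors.mp hkd P hP0 hPp
    exact IsLocalRing.eq_maximalIdeal hPmax
  haveI := hdvr
  infer_instance

include hdim hfin in
/-- The localizations of `A' ⊗[A] Cpl A` at maximal ideals are domains. -/
theorem locDom (M : Ideal (A' ⊗[A] EGA4.Cpl A)) [M.IsMaximal] :
    LocDom (B := A' ⊗[A] EGA4.Cpl A) M := by
  haveI hfin' : @Module.Finite A A' _ _ Algebra.toModule := hfin
  exact Groth.Agent.H15.BranchCpl.locDom_of_regular A A'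
    (fun N _ => isRegularLocalRing_localization A hdim hfin N) M

include hdim hfin in
/-- Minimal primes of the completion correspond to maximal ideals of the normalization. -/
theorem nonempty_equiv :
    Nonempty (minimalPrimes (EGA4.Cpl A) ≃ MaximalSpectrum A') := by
  haveI : Algebra.IsIntegral A A' := inferInstance
  exact Groth.Agent.H15.BranchCpl.nonempty_equiv A A' (nonZeroDivisors A) (H1 A) (H2 A) (H3 A)
    (fun M _ => locDom A hdim hfin M)

end Main

end Groth.Agent.H15.BranchDimOne
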