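import Mathlib
import Groth.Prelude.Def_Brnch
import Groth.Agent.H47.GeomBranchCount

/-!
# Maximal ideals of `A' ⊗[A] S` and geometric branches, for `S` with separably closed residue
field (helper15)

This is `Groth.Agent.H47.GeomBranchCount` (helper47) with the hypothesis "`S` is a strict
henselization of `A`" weakened to "the residue field of `S` is a separable closure of that of
`A`", which is all that the argument uses.
-/

set_option autoImplicit false
set_option linter.style.haveILetI false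
set_option linter.unusedSectionVars false
universe u
open TensorProduct IsLocalRing

namespace Groth.Agent.H15.GeomCount

open Groth.Agent.H47.BranchCount

attribute [local instance] Algebra.TensorProduct.rightAlgebra

section Main

variable (A : Type u) [CommRing A] [IsLocalRing A]
  (S : Type u) [CommRing S] [IsLocalRing S] [Algebra A S] [IsLocalHom (algebraMap A S)]
  [IsSepClosure (ResidueField A) (ResidueField S)]

/-- The chosen embedding of the residue field of the strict henselization. -/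
noncomputable def jemb : ResidueField S →ₐ[ResidueField A] AlgebraicClosure (ResidueField A) :=
  haveI hsc : IsSepClosure (ResidueField A) (ResidueField S) := inferInstance
  haveI : Algebra.IsSeparable (ResidueField A) (ResidueField S) := hsc.separable
  haveI : Algebra.IsAlgebraic (ResidueField A) (ResidueField S) :=
    Algebra.IsSeparable.isAlgebraic _ _
  IsAlgClosed.lift

theorem jemb_algebraMap (a : A) :
    jemb A S (residue S (algebraMap A S a)) = Brnch.toClosure A a := by
  have h := (jemb A S).commutes (residue A a)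
  rw [ResidueField.algebraMap_residue] at h
  exact h

variable (A' : Type u) [CommRing A'] [Algebra A A'] [Algebra.IsIntegral A A']

local instance isIntegral_T : Algebra.IsIntegral S (A' ⊗[A] S) := isIntegral_right' A S A'

variable (m : Ideal (A' ⊗[A] S)) [m.IsMaximal]

theorem comap_right_eq : m.comap (algebraMap S (A' ⊗[A] S)) = maximalIdeal S :=
  IsLocalRing.eq_maximalIdeal (Ideal.isMaximal_comap_of_isIntegral_of_isMaximal m)

/-- `S → T'/m`. -/
noncomputable def toKm : S →+* (A' ⊗[A] S) ⧸ m :=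
  (Ideal.Quotient.mk m).comp (algebraMap S (A' ⊗[A] S))

theorem toKm_apply (s : S) :
    toKm A S A' m s = Ideal.Quotient.mk m ((1 : A') ⊗ₜ[A] s) := rfl

noncomputable local instance : Field ((A' ⊗[A] S) ⧸ m) := Ideal.Quotient.field m

local instance isLocalHom_toKm : IsLocalHom (toKm A S A' m) := by
  constructor
  intro s hs
  have h := hs.ne_zero
  have h2 : s ∉ maximalIdeal S := by
    rw [← comap_right_eq A S A' m, Ideal.mem_comap]
    intro h3
    exact h (Ideal.Quotient.eq_zero_iff_mem.mpr h3)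
  exact IsLocalRing.notMem_maximalIdeal.mp h2

theorem exists_lam : ∃ lam : (A' ⊗[A] S) ⧸ m →+* AlgebraicClosure (ResidueField A),
    ∀ s : S, lam (Ideal.Quotient.mk m ((1 : A') ⊗ₜ[A] s)) =
      jemb A S (residue S s) := by
  letI : Algebra (ResidueField S) ((A' ⊗[A] S) ⧸ m) :=
    (ResidueField.lift (toKm A S A' m)).toAlgebra
  letI : Algebra (ResidueField S) (AlgebraicClosure (ResidueField A)) :=
    (jemb A S).toRingHom.toAlgebra
  haveI : Algebra.IsAlgebraic (ResidueField S) ((A' ⊗[A] S) ⧸ m) := by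
    haveI : Algebra.IsIntegral (ResidueField S) ((A' ⊗[A] S) ⧸ m) := by
      constructor
      intro y
      obtain ⟨x, rfl⟩ := Ideal.Quotient.mk_surjective y
      obtain ⟨p, hp, hpx⟩ := (Algebra.IsIntegral.isIntegral (R := S) x)
      refine ⟨p.map (residue S), hp.map _, ?_⟩
      rw [Polynomial.eval₂_map]
      have h1 : (algebraMap (ResidueField S) ((A' ⊗[A] S) ⧸ m)).comp (residue S) =
          (Ideal.Quotient.mk m).comp (algebraMap S (A' ⊗[A] S)) := rfl
      rw [h1, ← Polynomial.hom_eval₂, hpx, map_zero]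
    exact Algebra.IsIntegral.isAlgebraic
  let l : (A' ⊗[A] S) ⧸ m →ₐ[ResidueField S] AlgebraicClosure (ResidueField A) :=
    IsAlgClosed.lift
  refine ⟨l.toRingHom, fun s => ?_⟩
  exact l.commutes (residue S s)

theorem lam_unique (l₁ l₂ : (A' ⊗[A] S) ⧸ m →+* AlgebraicClosure (ResidueField A))
    (h₁ : ∀ s : S, l₁ (Ideal.Quotient.mk m ((1 : A') ⊗ₜ[A] s)) =
      jemb A S (residue S s))
    (h₂ : ∀ s : S, l₂ (Ideal.Quotient.mk m ((1 : A') ⊗ₜ[A] s)) =
      jemb A S (residue S s)) : l₁ = l₂ := by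
  letI : Algebra (ResidueField S) ((A' ⊗[A] S) ⧸ m) :=
    (ResidueField.lift (toKm A S A' m)).toAlgebra
  haveI : Algebra.IsAlgebraic (ResidueField S) ((A' ⊗[A] S) ⧸ m) := by
    haveI : Algebra.IsIntegral (ResidueField S) ((A' ⊗[A] S) ⧸ m) := by
      constructor
      intro y
      obtain ⟨x, rfl⟩ := Ideal.Quotient.mk_surjective y
      obtain ⟨p, hp, hpx⟩ := (Algebra.IsIntegral.isIntegral (R := S) x)
      refine ⟨p.map (residue S), hp.map _, ?_⟩
      rw [Polynomial.eval₂_map]
      have h1 : (algebraMap (ResidueField S) ((A' ⊗[A] S) ⧸ m)).comp (residue S) =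
          (Ideal.Quotient.mk m).comp (algebraMap S (A' ⊗[A] S)) := rfl
      rw [h1, ← Polynomial.hom_eval₂, hpx, map_zero]
    exact Algebra.IsIntegral.isAlgebraic
  haveI : IsSepClosed (ResidueField S) :=
    (inferInstance : IsSepClosure (ResidueField A) (ResidueField S)).sep_closed
  apply Groth.Agent.H47.GeomBranchCount.ringHom_ext_of_isSepClosed (ResidueField S)
  refine RingHom.ext fun x => ?_
  obtain ⟨s, rfl⟩ := residue_surjective x
  show l₁ (Ideal.Quotient.mk m ((1 : A') ⊗ₜ[A] s)) =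
    l₂ (Ideal.Quotient.mk m ((1 : A') ⊗ₜ[A] s))
  rw [h₁, h₂]

/-- The chosen embedding of `T'/m`. -/
noncomputable def lam : (A' ⊗[A] S) ⧸ m →+* AlgebraicClosure (ResidueField A) :=
  Classical.choose (exists_lam A S A' m)

theorem lam_spec (s : S) : lam A S A' m (Ideal.Quotient.mk m ((1 : A') ⊗ₜ[A] s)) =
    jemb A S (residue S s) := Classical.choose_spec (exists_lam A S A' m) s

/-- The map `T' → κ̄` with kernel `m`. -/
noncomputable def Psi : A' ⊗[A] S →+* AlgebraicClosure (ResidueField A) :=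
  (lam A S A' m).comp (Ideal.Quotient.mk m)

theorem ker_Psi : RingHom.ker (Psi A S A' m) = m := by
  ext x
  rw [RingHom.mem_ker]
  show lam A S A' m (Ideal.Quotient.mk m x) = 0 ↔ _
  rw [map_eq_zero_iff _ (lam A S A' m).injective, Ideal.Quotient.eq_zero_iff_mem]

theorem Psi_right (s : S) : Psi A S A' m ((1 : A') ⊗ₜ[A] s) = jemb A S (residue S s) :=
  lam_spec A S A' m s

omit [IsLocalRing A] [IsLocalHom (algebraMap A S)] [IsSepClosure (ResidueField A) (ResidueField S)]
  [Algebra.IsIntegral A A'] [IsLocalRing S] in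
theorem algebraMap_tmul_one (a : A) :
    (algebraMap A A' a) ⊗ₜ[A] (1 : S) = (1 : A') ⊗ₜ[A] algebraMap A S a := by
  rw [Algebra.algebraMap_eq_smul_one, Algebra.algebraMap_eq_smul_one, TensorProduct.smul_tmul]

/-- The residue map `A → A'/M'`. -/
def rho (M' : Ideal A') : A →+* A' ⧸ M' := (Ideal.Quotient.mk M').comp (algebraMap A A')

/-- General form of `Brnch.Emb`. -/
def EmbG (M' : MaximalSpectrum A') : Type u :=
  {σ : A' ⧸ M'.asIdeal →+* AlgebraicClosure (ResidueField A) //
    σ.comp (rho A A' M'.asIdeal) = Brnch.toClosure A}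

/-- Evaluation of a pair (maximal ideal, embedding) on elements of `A'`. -/
noncomputable def ev (x : Σ M' : MaximalSpectrum A', EmbG A A' M') :
    A' → AlgebraicClosure (ResidueField A) :=
  fun a' => x.2.1 (Ideal.Quotient.mk x.1.asIdeal a')

omit [Algebra.IsIntegral A A'] in
theorem ev_injective : Function.Injective (ev A A') := by
  rintro ⟨⟨M₁, hM₁⟩, σ₁, hσ₁⟩ ⟨⟨M₂, hM₂⟩, σ₂, hσ₂⟩ h
  have hk : ∀ (M : Ideal A') (hM : M.IsMaximal)
      (σ : A' ⧸ M →+* AlgebraicClosure (ResidueField A)),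
      M = RingHom.ker (σ.comp (Ideal.Quotient.mk M)) := by
    intro M hM σ
    refine hM.eq_of_le (RingHom.ker_ne_top _) ?_
    intro a' ha'
    rw [RingHom.mem_ker, RingHom.comp_apply, Ideal.Quotient.eq_zero_iff_mem.mpr ha', map_zero]
  have hM : M₁ = M₂ := by
    rw [hk M₁ hM₁ σ₁, hk M₂ hM₂ σ₂]
    ext a'
    rw [RingHom.mem_ker, RingHom.mem_ker]
    have h3 : σ₁ (Ideal.Quotient.mk M₁ a') = σ₂ (Ideal.Quotient.mk M₂ a') := congrFun h a'
    rw [RingHom.comp_apply, RingHom.comp_apply, h3]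
  subst hM
  have hσ : σ₁ = σ₂ := Ideal.Quotient.ringHom_ext (RingHom.ext fun a' => congrFun h a')
  subst hσ
  rfl

/-- The embedding attached to a maximal ideal of `A' ⊗[A] S`. -/
noncomputable def sigmaOf :
    A' ⧸ contr' A S A' m →+* AlgebraicClosure (ResidueField A) :=
  (lam A S A' m).comp (Ideal.quotientMap m
    (Algebra.TensorProduct.includeLeft : A' →ₐ[A] A' ⊗[A] S).toRingHom (le_of_eq rfl))

theorem sigmaOf_mk (a' : A') :
    sigmaOf A S A' m (Ideal.Quotient.mk _ a') = Psi A S A' m (a' ⊗ₜ[A] (1 : S)) := rfl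

theorem sigmaOf_comp :
    (sigmaOf A S A' m).comp (rho A A' (contr' A S A' m)) = Brnch.toClosure A := by
  refine RingHom.ext fun a => ?_
  show sigmaOf A S A' m (Ideal.Quotient.mk _ (algebraMap A A' a)) = _
  rw [sigmaOf_mk, algebraMap_tmul_one, Psi_right, jemb_algebraMap]

/-- The map from maximal ideals of `A' ⊗[A] S` to pairs. -/
noncomputable def Phi (x : {m : Ideal (A' ⊗[A] S) // m.IsMaximal}) :
    Σ M' : MaximalSpectrum A', EmbG A A' M' :=
  haveI := x.2
  ⟨⟨contr' A S A' x.1, isMaximal_contr' A S A' x.1⟩, ⟨sigmaOf A S A' x.1, sigmaOf_comp A S A' x.1⟩⟩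

theorem ev_Phi (x : {m : Ideal (A' ⊗[A] S) // m.IsMaximal}) (a' : A') :
    ev A A' (Phi A S A' x) a' = (haveI := x.2; Psi A S A' x.1) (a' ⊗ₜ[A] (1 : S)) := rfl

theorem Phi_injective : Function.Injective (Phi A S A') := by
  rintro ⟨m₁, hm₁⟩ ⟨m₂, hm₂⟩ h
  haveI := hm₁
  haveI := hm₂
  apply Subtype.ext
  show m₁ = m₂
  have h1 : Psi A S A' m₁ = Psi A S A' m₂ := by
    apply Groth.Agent.H47.HensTensor.ringHom_ext_tensor
    · intro a'
      have := congrFun (congrArg (ev A A') h) a'
      exact this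
    · intro s
      rw [Psi_right, Psi_right]
  rw [← ker_Psi A S A' m₁, ← ker_Psi A S A' m₂, h1]

theorem Phi_surjective : Function.Surjective (Phi A S A') := by
  rintro ⟨⟨M', hM'⟩, σ, hσ⟩
  letI : Algebra A (AlgebraicClosure (ResidueField A)) := (Brnch.toClosure A).toAlgebra
  let f : A' →ₐ[A] AlgebraicClosure (ResidueField A) :=
    { σ.comp (Ideal.Quotient.mk M') with
      commutes' := fun a => RingHom.congr_fun hσ a }
  let g : S →ₐ[A] AlgebraicClosure (ResidueField A) :=
    { (jemb A S).toRingHom.comp (residue S) with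
      commutes' := fun a => jemb_algebraMap A S a }
  let Ψ₀ : A' ⊗[A] S →+* AlgebraicClosure (ResidueField A) :=
    (Algebra.TensorProduct.lift f g (fun _ _ => Commute.all _ _)).toRingHom
  have hΨl : ∀ a' : A', Ψ₀ (a' ⊗ₜ[A] (1 : S)) = σ (Ideal.Quotient.mk M' a') := fun a' => by
    show Algebra.TensorProduct.lift f g _ (a' ⊗ₜ[A] (1 : S)) = _
    rw [Algebra.TensorProduct.lift_tmul, map_one, mul_one]
    rfl
  have hΨr : ∀ s : S, Ψ₀ ((1 : A') ⊗ₜ[A] s) = jemb A S (residue S s) := fun s => by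
    show Algebra.TensorProduct.lift f g _ ((1 : A') ⊗ₜ[A] s) = _
    rw [Algebra.TensorProduct.lift_tmul, map_one, one_mul]
    rfl
  haveI hprime : (RingHom.ker Ψ₀).IsPrime := RingHom.ker_isPrime _
  have hcm : (RingHom.ker Ψ₀).comap (algebraMap S (A' ⊗[A] S)) = maximalIdeal S := by
    ext s
    rw [Ideal.mem_comap, RingHom.mem_ker]
    show Ψ₀ ((1 : A') ⊗ₜ[A] s) = 0 ↔ _
    rw [hΨr, map_eq_zero_iff (jemb A S) (jemb A S).toRingHom.injective, residue_eq_zero_iff]
  haveI hmax : (RingHom.ker Ψ₀).IsMaximal :=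
    Ideal.isMaximal_of_isIntegral_of_isMaximal_comap (R := S) _ (by
      rw [hcm]
      exact maximalIdeal.isMaximal S)
  refine ⟨⟨RingHom.ker Ψ₀, hmax⟩, ?_⟩
  apply ev_injective A A'
  funext a'
  rw [ev_Phi]
  show Psi A S A' (RingHom.ker Ψ₀) (a' ⊗ₜ[A] (1 : S)) = σ (Ideal.Quotient.mk M' a')
  rw [← hΨl]
  have hlam : lam A S A' (RingHom.ker Ψ₀) = RingHom.kerLift Ψ₀ := by
    apply lam_unique A S A' (RingHom.ker Ψ₀)
    · exact lam_spec A S A' (RingHom.ker Ψ₀)
    · intro s
      rw [RingHom.kerLift_mk, hΨr]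
  show lam A S A' (RingHom.ker Ψ₀) (Ideal.Quotient.mk _ (a' ⊗ₜ[A] (1 : S))) = _
  rw [hlam, RingHom.kerLift_mk]

theorem card_maximal_eq :
    ENat.card {m : Ideal (A' ⊗[A] S) // m.IsMaximal} =
      ENat.card (Σ M' : MaximalSpectrum A', EmbG A A' M') :=
  ENat.card_congr (Equiv.ofBijective (Phi A S A') ⟨Phi_injective A S A', Phi_surjective A S A'⟩)

end Main

end Groth.Agent.H15.GeomCount
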