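import Mathlib
import Groth.Prelude.Def_Brnch
import Groth.Agent.H15.BranchCpl
import Groth.Agent.H15.GeomCount
import Groth.Agent.H15.NorCpl
import Groth.Agent.S9237
import Groth.Agent.S9238
import Groth.Agent.S2646
import Groth.Agent.S4754
import Groth.Agent.H47.BranchCountStrict
import Groth.Agent.H47.NormRedStrict
import Groth.Agent.H47.HensK3
import Groth.Agent.H47.HensNoeth
import Groth.Agent.H47.HensTensor
import Groth.Agent.H34.FibLoc

/-!
# Branches of the completion of a local ring with geometrically normal formal fibres (helper15)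

For a Noetherian local ring `A` with geometrically normal formal fibres, `A` and its completion
have the same number of branches and of geometric branches.
-/

set_option autoImplicit false
set_option linter.style.haveILetI false
set_option linter.unusedSectionVars false
set_option linter.unusedVariables false

universe u

open TensorProduct IsLocalRing

namespace Groth.Agent.H15.BranchNormal

open Groth.Agent.H47.BranchCount Groth.Agent.H15.BranchCpl

attribute [local instance] Algebra.TensorProduct.rightAlgebra

/-- Transfer of `LocDom` along `A' ⊗[R] S ≃ S ⊗[S'] (S' ⊗[R] A')`. -/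
theorem locDom_of_cancel (R S' S A' : Type u) [CommRing R] [CommRing S'] [CommRing S]
    [CommRing A'] [Algebra R S'] [Algebra S' S] [Algebra R S] [IsScalarTower R S' S]
    [Algebra R A'] (m : Ideal (A' ⊗[R] S)) [m.IsMaximal]
    (h : ∀ (m' : Ideal (S ⊗[S'] (S' ⊗[R] A'))) [m'.IsMaximal],
      IsDomain (Localization.AtPrime m')) : LocDom m := by
  let e : A' ⊗[R] S ≃+* S ⊗[S'] (S' ⊗[R] A') :=
    (Algebra.TensorProduct.comm R A' S).toRingEquiv.trans
      (Algebra.TensorProduct.cancelBaseChange R S' S' S A').symm.toRingEquiv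
  haveI : (m.comap (e.symm : S ⊗[S'] (S' ⊗[R] A') →+* A' ⊗[R] S)).IsMaximal :=
    Ideal.comap_isMaximal_of_surjective
      (e.symm : S ⊗[S'] (S' ⊗[R] A') →+* A' ⊗[R] S) e.symm.surjective
  exact LocDom.of_ringEquiv e m (locDom_of_isDomain _ (h _))

variable (A : Type u) [CommRing A] [IsLocalRing A] [IsNoetherianRing A]

theorem nontrivial_red : Nontrivial (A ⧸ nilradical A) := by
  rw [Ideal.Quotient.nontrivial_iff]
  intro h
  have h1 : (1 : A) ∈ nilradical A := h ▸ Submodule.mem_top
  exact not_isNilpotent_one (mem_nilradical.mp h1)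

/-- The normalization of the reduction is finite over `A`. -/
theorem finite_normRed (hA : EGA4.HasGeomNormalFormalFibres A) :
    Module.Finite A (CAlg2.normRed A) := by
  haveI := nontrivial_red A
  have hD : EGA4.HasGeomNormalFormalFibres (A ⧸ nilradical A) :=
    Groth.Agent.S4754.result A hA (nilradical A)
  haveI hfin : Module.Finite (A ⧸ nilradical A)
      (integralClosure (A ⧸ nilradical A) (FractionRing (A ⧸ nilradical A))) :=
    (Groth.Agent.S2646.result _ hD).2
  exact Module.Finite.trans (A ⧸ nilradical A) _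

/-- The normalization of the reduction is a normal ring. -/
theorem isNormalRing_normRed : EGA4.IsNormalRing (CAlg2.normRed A) := fun P _ =>
  normRed_localization A (minimalPrimes.finite_of_isNoetherianRing A) P

variable (hA : EGA4.HasGeomNormalFormalFibres A)

include hA in
theorem locDom_cpl (M : Ideal (CAlg2.normRed A ⊗[A] EGA4.Cpl A)) [M.IsMaximal] :
    LocDom (B := CAlg2.normRed A ⊗[A] EGA4.Cpl A) M := by
  haveI := finite_normRed A hA
  have hT := Groth.Agent.H15.NorCpl.isNormalRing_tensor A (CAlg2.normRed A) hA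
    (isNormalRing_normRed A)
  exact locDom_of_isDomain (B := CAlg2.normRed A ⊗[A] EGA4.Cpl A) M (hT M).1

include hA in
theorem nonempty_equiv :
    Nonempty (minimalPrimes (EGA4.Cpl A) ≃ MaximalSpectrum (CAlg2.normRed A)) := by
  haveI : Algebra.IsIntegral A (CAlg2.normRed A) :=
    Groth.Agent.H47.MinPrimeTensor.isIntegral_normRed A
  exact Groth.Agent.H15.BranchCpl.nonempty_equiv A (CAlg2.normRed A)
    (Groth.Agent.H47.MinPrimeTensor.T A) (Groth.Agent.H47.MinPrimeTensor.H1_normRed A)
    (Groth.Agent.H47.MinPrimeTensor.H2_normRed A) (Groth.Agent.H47.MinPrimeTensor.H3_normRed A)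
    (fun M _ => locDom_cpl A hA M)

include hA in
/-- Same number of branches. -/
theorem numBranches_eq : Brnch.numBranches (EGA4.Cpl A) = Brnch.numBranches A := by
  classical
  haveI := henselian_cpl A
  haveI := Groth.Agent.H47.HensTensor.isLocalHom_algebraMap_self (EGA4.Cpl A)
  haveI := Groth.Agent.H47.HensTensor.isHenselization_self (EGA4.Cpl A)
  rw [← Groth.Agent.S9237.result (EGA4.Cpl A) (EGA4.Cpl A)]
  have hfin : (minimalPrimes A).Finite := minimalPrimes.finite_of_isNoetherianRing A
  have hnb : Brnch.numBranches A = ENat.card (MaximalSpectrum (CAlg2.normRed A)) := by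
    unfold Brnch.numBranches
    rw [if_pos hfin]
  rw [hnb]
  obtain ⟨e⟩ := nonempty_equiv A hA
  exact ENat.card_congr e

section Geom

/-- The strict henselization of the completion. -/
abbrev Sh : Type u := Groth.Agent.H47.HensK.Hsh (EGA4.Cpl A)

/-- `Sh A` as an `A`-algebra. -/
@[reducible] noncomputable def algSh : Algebra A (Sh A) :=
  ((algebraMap (EGA4.Cpl A) (Sh A)).comp (algebraMap A (EGA4.Cpl A))).toAlgebra

attribute [local instance] algSh

theorem isScalarTower_Sh : IsScalarTower A (EGA4.Cpl A) (Sh A) :=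
  IsScalarTower.of_algebraMap_eq (fun _ => rfl)

attribute [local instance] isScalarTower_Sh

theorem isLocalHom_Sh : IsLocalHom (algebraMap A (Sh A)) := by
  show IsLocalHom ((algebraMap (EGA4.Cpl A) (Sh A)).comp (algebraMap A (EGA4.Cpl A)))
  infer_instance

attribute [local instance] isLocalHom_Sh

theorem flat_Sh : Module.Flat A (Sh A) := by
  haveI : Module.Flat A (EGA4.Cpl A) := AdicCompletion.flat_of_isNoetherian (maximalIdeal A)
  haveI : Module.Flat (EGA4.Cpl A) (Sh A) :=
    (Groth.Agent.H47.HensNoeth.isIndEtaleLocal_of_isStrictHenselization (EGA4.Cpl A) _).flat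
  exact Module.Flat.trans A (EGA4.Cpl A) (Sh A)

theorem isSepClosure_Sh : IsSepClosure (ResidueField A) (ResidueField (Sh A)) := by
  haveI hsc : IsSepClosure (ResidueField (EGA4.Cpl A)) (ResidueField (Sh A)) :=
    Hensel.IsStrictHenselization.isSepClosure
  haveI := hsc.sep_closed
  haveI := hsc.separable
  have hsurj : Function.Surjective (algebraMap (ResidueField A) (ResidueField (EGA4.Cpl A))) := by
    intro y
    obtain ⟨z, hz⟩ := (AdicCompletion.residueField_map_bijective A).2 y
    obtain ⟨r, rfl⟩ := residue_surjective z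
    refine ⟨residue A r, ?_⟩
    rw [ResidueField.algebraMap_residue, ← hz, ResidueField.map_residue]
  haveI : Algebra.IsSeparable (ResidueField A) (ResidueField (EGA4.Cpl A)) :=
    ⟨fun x => by
      obtain ⟨a, rfl⟩ := hsurj x
      exact isSeparable_algebraMap a⟩
  haveI : Algebra.IsSeparable (ResidueField A) (ResidueField (Sh A)) :=
    Algebra.IsSeparable.trans (ResidueField A) (ResidueField (EGA4.Cpl A)) (ResidueField (Sh A))
  exact ⟨inferInstance, inferInstance⟩

include hA in
theorem locDom_Sh (m : Ideal (CAlg2.normRed A ⊗[A] Sh A)) [m.IsMaximal] :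
    LocDom (B := CAlg2.normRed A ⊗[A] Sh A) m := by
  haveI := finite_normRed A hA
  have hT := Groth.Agent.H15.NorCpl.isNormalRing_tensor A (CAlg2.normRed A) hA
    (isNormalRing_normRed A)
  have hT' : EGA4.IsNormalRing (EGA4.Cpl A ⊗[A] CAlg2.normRed A) :=
    Groth.Agent.H34.FibLoc.isNormalRing_of_ringEquiv
      (Algebra.TensorProduct.comm A (CAlg2.normRed A) (EGA4.Cpl A)).toRingEquiv hT
  haveI : Module.Finite (EGA4.Cpl A) (EGA4.Cpl A ⊗[A] CAlg2.normRed A) :=
    Module.Finite.base_change A (EGA4.Cpl A) (CAlg2.normRed A)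
  haveI : Algebra.IsIntegral (EGA4.Cpl A) (EGA4.Cpl A ⊗[A] CAlg2.normRed A) :=
    Algebra.IsIntegral.of_finite _ _
  exact locDom_of_cancel A (EGA4.Cpl A) (Sh A) (CAlg2.normRed A) m (fun m' _ =>
    Groth.Agent.H47.NormRedStrict.isDomain_localization_tensor_strictHenselization
      (EGA4.Cpl A) (Sh A) (EGA4.Cpl A ⊗[A] CAlg2.normRed A) m' (fun N _ => hT' N))

include hA in
/-- Same number of geometric branches. -/
theorem numGeomBranches_eq :
    Brnch.numGeomBranches (EGA4.Cpl A) = Brnch.numGeomBranches A := by
  classical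
  have hfin : (minimalPrimes A).Finite := minimalPrimes.finite_of_isNoetherianRing A
  have hnb : Brnch.numGeomBranches A =
      ENat.card (Σ m' : MaximalSpectrum (CAlg2.normRed A), Brnch.Emb A m') := by
    unfold Brnch.numGeomBranches
    rw [if_pos hfin]
  rw [hnb, ← Groth.Agent.S9238.result (EGA4.Cpl A) (Sh A)]
  haveI := flat_Sh A
  haveI : HenselianLocalRing (Sh A) :=
    Hensel.IsStrictHenselization.henselian (R := EGA4.Cpl A)
  haveI : Algebra.IsIntegral A (CAlg2.normRed A) :=
    Groth.Agent.H47.MinPrimeTensor.isIntegral_normRed A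
  haveI := isSepClosure_Sh A
  have hbij := Groth.Agent.H47.MinPrimeTensor.bijOn_minimalPrimes_normRed A (Sh A)
  obtain ⟨f, hf, -⟩ := exists_bijective_minimalPrimes_maximal A (Sh A) (CAlg2.normRed A)
    (fun m _ => locDom_Sh A hA m)
  rw [← ENat.card_congr (Set.BijOn.equiv _ hbij), ENat.card_congr (Equiv.ofBijective f hf)]
  exact Groth.Agent.H15.GeomCount.card_maximal_eq A (Sh A) (CAlg2.normRed A)

end Geom

end Groth.Agent.H15.BranchNormal
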