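import Groth.Prelude.Def_CDiv
import Mathlib.AlgebraicGeometry.Noetherian
import Mathlib.Topology.KrullDimension
import Mathlib.Topology.NoetherianSpace
import Mathlib.Topology.Sober

/-!
# API for `CDiv` (Cartier divisors on an integral scheme, as families of germs)

* `germOf_eq_one_iff`, `isOpen_unitLocus`, `germOf_genericPoint`, `isClosed_supp`,
  `genericPoint_not_mem_supp`;
* topology of integral locally Noetherian schemes of dimension `≤ 1`: non-generic points are closed,
  closed sets missing the generic point are discrete, with all subsets closed;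
* `exists_divisor_of_germs`: a divisor with prescribed germs on a closed discrete set.
-/

set_option autoImplicit false

universe u

open CategoryTheory AlgebraicGeometry TopologicalSpace CDiv

namespace Groth.Agent.H15.CDivLib

section General

variable {X : Scheme.{u}} [IsIntegral X]

theorem germOf_eq_one_iff (x : X) (f : KUnits X) :
    germOf X x f = 1 ↔ ∃ u : (X.presheaf.stalk x)ˣ,
      algebraMap (X.presheaf.stalk x) X.functionField (u : X.presheaf.stalk x) =
        (f : X.functionField) := by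
  rw [germOf, QuotientGroup.eq_one_iff, stalkUnits, MonoidHom.mem_range]
  constructor
  · rintro ⟨u, hu⟩
    exact ⟨u, congrArg Units.val hu⟩
  · rintro ⟨u, hu⟩
    exact ⟨u, Units.ext hu⟩

theorem germOf_eq_one_of_isUnit {U : X.Opens} (s : Γ(X, U)) (x : X) (hx : x ∈ U)
    (hs : IsUnit (X.presheaf.germ U x hx s)) (f : KUnits X)
    (hf : algebraMap (X.presheaf.stalk x) X.functionField (X.presheaf.germ U x hx s) =
      (f : X.functionField)) : germOf X x f = 1 := by
  rw [germOf_eq_one_iff]
  exact ⟨hs.unit, by rw [IsUnit.unit_spec, hf]⟩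

theorem isOpen_unitLocus (f : KUnits X) : IsOpen {y : X | germOf X y f = 1} := by
  rw [isOpen_iff_forall_mem_open]
  intro y hy
  obtain ⟨u, hu⟩ := (germOf_eq_one_iff y f).mp hy
  obtain ⟨W, hyW, s, hs⟩ := X.presheaf.exists_germ_eq (u : X.presheaf.stalk y)
  refine ⟨X.basicOpen s, ?_, (X.basicOpen s).isOpen, ?_⟩
  · intro z hz
    have hzW : z ∈ W := X.basicOpen_le s hz
    have : Nonempty W := ⟨⟨z, hzW⟩⟩
    have hunit := (Scheme.mem_basicOpen X s z hzW).mp hz
    refine germOf_eq_one_of_isUnit s z hzW hunit f ?_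
    rw [Scheme.algebraMap_germ_eq_germToFunctionField, ← hu, ← hs,
      Scheme.algebraMap_germ_eq_germToFunctionField]
  · rw [SetLike.mem_coe, Scheme.mem_basicOpen X s y hyW, hs]
    exact u.isUnit

theorem germOf_genericPoint (f : KUnits X) : germOf X (genericPoint X) f = 1 := by
  obtain ⟨U, -, f', hne, hf', hunit⟩ := exists_isUnit_germ_eq X (f : X.functionField) f.ne_zero
  have hη : genericPoint X ∈ U :=
    ((genericPoint_spec X).mem_open_set_iff U.isOpen).mpr (by simpa using hne)
  refine germOf_eq_one_of_isUnit f' _ hη (hunit.map _) f ?_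
  rw [Scheme.algebraMap_germ_eq_germToFunctionField, hf']

theorem germ_genericPoint_eq_one (D : Divisor X) : D.1 (genericPoint X) = 1 := by
  obtain ⟨U, f, hx, hU⟩ := D.2 (genericPoint X)
  rw [hU _ hx]
  exact germOf_genericPoint f

theorem genericPoint_not_mem_supp (D : Divisor X) : genericPoint X ∉ supp D := by
  intro h
  exact h (germ_genericPoint_eq_one D)

theorem isClosed_supp (D : Divisor X) : IsClosed (supp D) := by
  rw [← isOpen_compl_iff, isOpen_iff_forall_mem_open]
  intro x hx
  have hx1 : D.1 x = 1 := by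
    by_contra h
    exact hx h
  obtain ⟨U, f, hxU, hU⟩ := D.2 x
  refine ⟨(U : Set X) ∩ {y : X | germOf X y f = 1}, ?_, U.isOpen.inter (isOpen_unitLocus f), ?_⟩
  · rintro y ⟨hyU, hy⟩ hys
    apply hys
    rw [hU y hyU]
    exact hy
  · refine ⟨hxU, ?_⟩
    show germOf X x f = 1
    rw [← hU x hxU]
    exact hx1

end General

section Topology

/-- In a quasi-sober space, a closed set of closed points meets every open Noetherian subspace in a
finite set. -/
theorem finite_inter_of_noetherian {Y : Type*} [TopologicalSpace Y] [QuasiSober Y] (W : Set Y)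
    (hW : IsOpen W) [NoetherianSpace W] (Z : Set Y) (hZ : IsClosed Z)
    (hpt : ∀ z ∈ Z, IsClosed ({z} : Set Y)) : (Z ∩ W).Finite := by
  have : QuasiSober W := hW.isOpenEmbedding_subtypeVal.quasiSober
  have hZ' : IsClosed ((Subtype.val : W → Y) ⁻¹' Z) := hZ.preimage continuous_subtype_val
  obtain ⟨S, hSf, hSc, hSi, hSU⟩ := NoetherianSpace.exists_finite_set_isClosed_irreducible hZ'
  have hfin : ((Subtype.val : W → Y) ⁻¹' Z).Finite := by
    rw [hSU]
    refine Set.Finite.sUnion hSf ?_
    intro t ht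
    obtain ⟨ζ, hζ⟩ := QuasiSober.sober (hSi t ht) (hSc t ht)
    have hζt : ζ ∈ t := hζ.mem
    have hζZ : (ζ : Y) ∈ Z := by
      have : ζ ∈ (Subtype.val : W → Y) ⁻¹' Z := by
        rw [hSU]; exact Set.mem_sUnion.mpr ⟨t, ht, hζt⟩
      exact this
    have hcl : IsClosed ({ζ} : Set W) := by
      have h1 : ({ζ} : Set W) = (Subtype.val : W → Y) ⁻¹' {(ζ : Y)} := by
        ext w
        simp only [Set.mem_singleton_iff, Set.mem_preimage]
        exact ⟨fun h => by rw [h], fun h => Subtype.ext h⟩
      rw [h1]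
      exact (hpt _ hζZ).preimage continuous_subtype_val
    have ht' : t = {ζ} := by
      rw [← hζ.def, hcl.closure_eq]
    rw [ht']
    exact Set.finite_singleton ζ
  have : Z ∩ W = (Subtype.val : W → Y) '' ((Subtype.val : W → Y) ⁻¹' Z) := by
    rw [Subtype.image_preimage_coe, Set.inter_comm]
  rw [this]
  exact hfin.image _

variable {X : Scheme.{u}} [IsIntegral X]

theorem isClosed_singleton_of_ne_genericPoint (hdim : topologicalKrullDim X ≤ 1) {x : X}
    (hx : x ≠ genericPoint X) : IsClosed ({x} : Set X) := by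
  let Zx : IrreducibleCloseds X := ⟨closure {x}, isIrreducible_singleton.closure, isClosed_closure⟩
  have h := (Order.krullDim_le_one_iff.mp hdim) Zx
  rcases h with hmin | hmax
  · rw [← closure_eq_iff_isClosed]
    apply Set.Subset.antisymm _ subset_closure
    intro y hy
    let Zy : IrreducibleCloseds X :=
      ⟨closure {y}, isIrreducible_singleton.closure, isClosed_closure⟩
    have hle : Zy ≤ Zx := by
      show closure {y} ⊆ closure {x}
      exact closure_minimal (Set.singleton_subset_iff.mpr hy) isClosed_closure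
    have hge : Zx ≤ Zy := hmin hle
    have hxy : x ∈ closure {y} := hge (subset_closure rfl)
    have h1 : x ⤳ y := specializes_iff_mem_closure.mpr hy
    have h2 : y ⤳ x := specializes_iff_mem_closure.mpr hxy
    exact Set.mem_singleton_iff.mpr (h2.antisymm h1).eq
  · exfalso
    let Top : IrreducibleCloseds X :=
      ⟨Set.univ, IrreducibleSpace.isIrreducible_univ X, isClosed_univ⟩
    have hle : Zx ≤ Top := fun _ _ => Set.mem_univ _
    have hge : Top ≤ Zx := hmax hle
    have hgen : IsGenericPoint x (Set.univ : Set X) :=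
      Set.eq_univ_of_univ_subset hge
    exact hx (hgen.eq (genericPoint_spec X))

variable [IsLocallyNoetherian X]

/-- A closed set missing the generic point is "locally a singleton" when `dim X ≤ 1`. -/
theorem exists_open_inter_eq_singleton (hdim : topologicalKrullDim X ≤ 1) (Z : Set X)
    (hZ : IsClosed Z) (hη : genericPoint X ∉ Z) (z : X) (hz : z ∈ Z) :
    ∃ U : Set X, IsOpen U ∧ U ∩ Z = {z} := by
  have hpt : ∀ y ∈ Z, IsClosed ({y} : Set X) := fun y hy =>
    isClosed_singleton_of_ne_genericPoint hdim (fun h => hη (h ▸ hy))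
  obtain ⟨_, ⟨W, hWaff, rfl⟩, hzW, -⟩ :=
    X.isBasis_affineOpens.exists_subset_of_mem_open (Set.mem_univ z) isOpen_univ
  have : IsNoetherianRing Γ(X, W) := IsLocallyNoetherian.component_noetherian ⟨W, hWaff⟩
  have hN : NoetherianSpace (W : Set X) := noetherianSpace_of_isAffineOpen W hWaff
  have hfin : (Z ∩ (W : Set X)).Finite :=
    finite_inter_of_noetherian (W : Set X) W.isOpen Z hZ hpt
  have hfin' : ((Z ∩ (W : Set X)) \ {z}).Finite := hfin.subset Set.sdiff_subset
  have hcl : IsClosed ((Z ∩ (W : Set X)) \ {z}) := by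
    have : (Z ∩ (W : Set X)) \ {z} = ⋃ y ∈ (Z ∩ (W : Set X)) \ {z}, {y} := by
      ext w; simp
    rw [this]
    exact hfin'.isClosed_biUnion (fun y hy => hpt y hy.1.1)
  refine ⟨(W : Set X) \ ((Z ∩ (W : Set X)) \ {z}), W.isOpen.sdiff hcl, ?_⟩
  ext y
  simp only [Set.mem_inter_iff, Set.mem_sdiff, Set.mem_singleton_iff, SetLike.mem_coe]
  constructor
  · rintro ⟨⟨hyW, hy⟩, hyZ⟩
    by_contra hne
    exact hy ⟨⟨hyZ, hyW⟩, hne⟩
  · rintro rfl
    exact ⟨⟨hzW, fun h => h.2 rfl⟩, hz⟩

theorem discreteTopology_of_genericPoint_not_mem (hdim : topologicalKrullDim X ≤ 1) (Z : Set X)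
    (hZ : IsClosed Z) (hη : genericPoint X ∉ Z) : DiscreteTopology Z := by
  rw [discreteTopology_iff_isOpen_singleton]
  intro z
  obtain ⟨U, hU, hUZ⟩ := exists_open_inter_eq_singleton hdim Z hZ hη z z.2
  have : ({z} : Set Z) = (Subtype.val : Z → X) ⁻¹' U := by
    ext w
    simp only [Set.mem_singleton_iff, Set.mem_preimage]
    constructor
    · rintro rfl
      have : (w : X) ∈ U ∩ Z := by rw [hUZ]; rfl
      exact this.1
    · intro hw
      have : (w : X) ∈ U ∩ Z := ⟨hw, w.2⟩
      rw [hUZ] at this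
      exact Subtype.ext this
  rw [this]
  exact hU.preimage continuous_subtype_val

theorem isClosed_of_subset (hdim : topologicalKrullDim X ≤ 1) (Z : Set X)
    (hZ : IsClosed Z) (hη : genericPoint X ∉ Z) (T : Set X) (hT : T ⊆ Z) : IsClosed T := by
  rw [← closure_eq_iff_isClosed]
  apply Set.Subset.antisymm _ subset_closure
  intro y hy
  have hyZ : y ∈ Z := (closure_minimal hT hZ) hy
  obtain ⟨U, hU, hUZ⟩ := exists_open_inter_eq_singleton hdim Z hZ hη y hyZ
  have hyU : y ∈ U := by
    have : y ∈ U ∩ Z := by rw [hUZ]; rfl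
    exact this.1
  obtain ⟨t, htU, htT⟩ := mem_closure_iff.mp hy U hU hyU
  have : t ∈ U ∩ Z := ⟨htU, hT htT⟩
  rw [hUZ] at this
  rw [← Set.mem_singleton_iff.mp this]
  exact htT

open Classical in
/-- A divisor with prescribed germs on a closed discrete set and trivial germs elsewhere. -/
theorem exists_divisor_of_germs (hdim : topologicalKrullDim X ≤ 1) (E : Set X) (hE : IsClosed E)
    (hEd : DiscreteTopology E) (d : ∀ x : X, Germ X x) :
    ∃ D : Divisor X, (∀ x ∈ E, D.1 x = d x) ∧ ∀ x ∉ E, D.1 x = 1 := by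
  let D0 : ∀ x : X, Germ X x := fun x => if x ∈ E then d x else 1
  have hD0E : ∀ x ∈ E, D0 x = d x := fun x hx => if_pos hx
  have hD0N : ∀ x ∉ E, D0 x = 1 := fun x hx => if_neg hx
  have hmem : D0 ∈ divisorGroup X := by
    intro x
    by_cases hx : x ∈ E
    · obtain ⟨f, hf⟩ := QuotientGroup.mk_surjective (d x)
      -- an open set meeting E only in x
      obtain ⟨U₁, hU₁, hU₁E⟩ : ∃ U₁ : Set X, IsOpen U₁ ∧ U₁ ∩ E = {x} := by
        have hop : IsOpen ({⟨x, hx⟩} : Set E) := isOpen_discrete _
        obtain ⟨U₁, hU₁, hpre⟩ := isOpen_induced_iff.mp hop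
        refine ⟨U₁, hU₁, ?_⟩
        ext y
        constructor
        · rintro ⟨hyU, hyE⟩
          have : (⟨y, hyE⟩ : E) ∈ (Subtype.val : E → X) ⁻¹' U₁ := hyU
          rw [hpre] at this
          exact congrArg Subtype.val (Set.mem_singleton_iff.mp this)
        · intro hy
          rw [Set.mem_singleton_iff.mp hy]
          have : (⟨x, hx⟩ : E) ∈ (Subtype.val : E → X) ⁻¹' U₁ := by rw [hpre]; rfl
          exact ⟨this, hx⟩
      -- the non-unit locus of f is closed and misses the generic point
      let Z₂ : Set X := {y : X | germOf X y f = 1}ᶜ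
      have hZ₂ : IsClosed Z₂ := (isOpen_unitLocus f).isClosed_compl
      have hηZ₂ : genericPoint X ∉ Z₂ := fun h => h (germOf_genericPoint f)
      have hT : IsClosed (Z₂ \ {x}) := isClosed_of_subset hdim Z₂ hZ₂ hηZ₂ _ Set.sdiff_subset
      let U : X.Opens := ⟨U₁ ∩ (Z₂ \ {x})ᶜ, hU₁.inter hT.isOpen_compl⟩
      have hxU₁ : x ∈ U₁ := by
        have : x ∈ U₁ ∩ E := by rw [hU₁E]; rfl
        exact this.1
      refine ⟨U, f, ⟨hxU₁, fun h => h.2 rfl⟩, ?_⟩
      rintro y ⟨hyU₁, hyT⟩
      by_cases hyx : y = x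
      · rw [hyx, hD0E x hx, ← hf]
      · have hyE : y ∉ E := by
          intro hyE
          have : y ∈ U₁ ∩ E := ⟨hyU₁, hyE⟩
          rw [hU₁E] at this
          exact hyx this
        rw [hD0N y hyE]
        have hyZ₂ : y ∉ Z₂ := fun h => hyT ⟨h, hyx⟩
        have : germOf X y f = 1 := by
          by_contra h
          exact hyZ₂ h
        exact this.symm
    · refine ⟨⟨Eᶜ, hE.isOpen_compl⟩, 1, hx, ?_⟩
      intro y hy
      rw [hD0N y hy]
      exact (QuotientGroup.mk_one _).symm
  exact ⟨⟨D0, hmem⟩, hD0E, hD0N⟩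

end Topology

end Groth.Agent.H15.CDivLib
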