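import Groth.Agent.H15.FinFlatCM
import Groth.Agent.H15.FlatQuot
import Groth.Agent.H34.CMChain
import Groth.Agent.H38.CatRing
import Groth.Agent.S0552
import Groth.Agent.S9125
import Mathlib.RingTheory.KrullDimension.Polynomial
import Mathlib.RingTheory.KrullDimension.PID

/-!
# Cohen–Macaulay rings are universally catenary (helper15)

* a Cohen–Macaulay local ring is equidimensional and catenary;
* polynomial rings over Cohen–Macaulay rings are Cohen–Macaulay;
* a Cohen–Macaulay ring is universally catenary.
-/

set_option autoImplicit false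
set_option linter.style.haveILetI false
set_option maxHeartbeats 400000

universe u

open IsLocalRing TensorProduct Polynomial

namespace Groth.Agent.H15.CMCat

theorem support_self (A : Type u) [CommRing A] : Module.support A A = Set.univ := by
  rw [Set.eq_univ_iff_forall]
  intro p
  rw [Module.mem_support_iff']
  refine ⟨1, fun r hr h => hr ?_⟩
  have : r = 0 := by simpa using h
  rw [this]
  exact p.asIdeal.zero_mem

section Local

variable (A : Type u) [CommRing A] [hCM : LocCoh.IsCohenMacaulayLocalRing A]

/-- In a Cohen–Macaulay local ring, `dim A/P + ht P = dim A`. -/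
theorem dim_add_height (P : Ideal A) [P.IsPrime] :
    ringKrullDim (A ⧸ P) + (P.height : WithBot ℕ∞) = ringKrullDim A :=
  Groth.Agent.H34.CMChain.height_add_dim (N := A) hCM.supportDim_eq_depth (support_self A) P

/-- A Cohen–Macaulay local ring is equidimensional. -/
theorem isEquidim : EGA4.IsEquidim A := by
  intro P hP
  haveI := hP.1.1
  have h := dim_add_height A P
  rw [Ideal.height_eq_zero_iff.mpr hP] at h
  simpa using h

/-- A Cohen–Macaulay local ring is catenary. -/
theorem isCatenary : CAlg.IsCatenary A := by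
  rw [Groth.Agent.H24.isCatenary_iff_dimFun]
  intro p q hpq
  constructor
  · rw [Groth.Agent.H24.ringKrullDim_quotient_eq_coheight,
      Groth.Agent.H24.ringKrullDim_quotient_eq_coheight]
    exact WithBot.coe_lt_coe.mpr (Order.coheight_strictAnti hpq (Order.coheight_lt_top q))
  · intro hcov
    have h1 := dim_add_height A p.asIdeal
    have h2 := dim_add_height A q.asIdeal
    have h3 : q.asIdeal.height = p.asIdeal.height + 1 :=
      Groth.Agent.H34.CMChain.height_eq_succ_of_covBy (N := A) hCM.supportDim_eq_depth
        (support_self A) p.asIdeal q.asIdeal hpq (fun c hc hpc hcq => by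
          by_contra hne
          exact hcov.2 (c := ⟨c, hc⟩) hpc
            (lt_of_le_of_ne hcq (fun h => hne (congrArg PrimeSpectrum.asIdeal h))))
    obtain ⟨a, ha⟩ := Groth.Agent.H15.FlatQuot.exists_nat_ringKrullDim (A ⧸ p.asIdeal)
    obtain ⟨b, hb⟩ := Groth.Agent.H15.FlatQuot.exists_nat_ringKrullDim (A ⧸ q.asIdeal)
    obtain ⟨d, hd⟩ := Groth.Agent.H15.FlatQuot.exists_nat_ringKrullDim A
    obtain ⟨h, hh⟩ := ENat.ne_top_iff_exists.1 (Ideal.height_ne_top p.2.ne_top)
    rw [ha, ← hh, hd] at h1
    rw [hb, h3, ← hh, hd] at h2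
    rw [ha, hb]
    have h1' : a + h = d := by exact_mod_cast h1
    have h2' : b + (h + 1) = d := by exact_mod_cast h2
    have h4 : a = b + 1 := by omega
    rw [h4]
    push_cast
    rfl

end Local

/-- A Cohen–Macaulay ring is catenary. -/
theorem isCatenary_of_isCMRing (R : Type u) [CommRing R] [hR : LocCoh.IsCohenMacaulayRing R] :
    CAlg.IsCatenary R := by
  rw [Groth.Agent.S0552.result]
  intro m _
  haveI := hR.isCohenMacaulayLocalRing_localization m
  exact isCatenary (Localization.AtPrime m)

/-- A Noetherian domain of dimension at most one is a Cohen–Macaulay ring. -/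
theorem isCMRing_of_isDomain_of_dimLEOne (F : Type u) [CommRing F] [IsDomain F]
    [IsNoetherianRing F] [Ring.KrullDimLE 1 F] : LocCoh.IsCohenMacaulayRing F := by
  refine ⟨fun p hp => ?_⟩
  haveI := hp
  apply Groth.Agent.H15.FinFlatCM.isCM_of_isDomain_of_dim_le_one
  rw [IsLocalization.AtPrime.ringKrullDim_eq_height p]
  exact (Ideal.height_le_ringKrullDim_of_ne_top hp.ne_top).trans
    (Ring.krullDimLE_iff.mp inferInstance)

theorem isCMRing_fiber_polynomial (A : Type u) [CommRing A] (p : Ideal A) [p.IsPrime] :
    LocCoh.IsCohenMacaulayRing (p.Fiber A[X]) :=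
  Groth.Agent.S4744.isCMRing_of_ringEquiv (polyEquivTensor A p.ResidueField).toRingEquiv
    (isCMRing_of_isDomain_of_dimLEOne _)

/-- The polynomial ring over a Cohen–Macaulay ring is Cohen–Macaulay. -/
theorem isCMRing_polynomial (R : Type u) [CommRing R] [hR : LocCoh.IsCohenMacaulayRing R] :
    LocCoh.IsCohenMacaulayRing R[X] := by
  haveI : IsNoetherianRing R := inferInstance
  refine ⟨fun q hq => ?_⟩
  haveI := hq
  refine (Groth.Agent.H15.FinFlatCM.cmAt_iff_fib R R[X] q
    (hR.isCohenMacaulayLocalRing_localization _)).mpr ?_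
  exact (Groth.Agent.H15.FibreCM.isCM_fiber_iff R R[X] (q.comap (algebraMap R R[X]))).mp
    (isCMRing_fiber_polynomial R _) q rfl

/-- Polynomial rings in finitely many variables over a Cohen–Macaulay ring are Cohen–Macaulay. -/
theorem isCMRing_mvPolynomial (R : Type u) [CommRing R] [hR : LocCoh.IsCohenMacaulayRing R]
    (n : ℕ) : LocCoh.IsCohenMacaulayRing (MvPolynomial (Fin n) R) := by
  induction n with
  | zero =>
    exact Groth.Agent.S4744.isCMRing_of_ringEquiv
      (MvPolynomial.isEmptyRingEquiv R (Fin 0)).symm hR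
  | succ n ih =>
    haveI := ih
    exact Groth.Agent.S4744.isCMRing_of_ringEquiv
      (MvPolynomial.finSuccEquiv R n).symm.toRingEquiv (isCMRing_polynomial _)

/-- A Cohen–Macaulay ring is universally catenary. -/
theorem isUniversallyCatenary_of_isCMRing (R : Type u) [CommRing R]
    [hR : LocCoh.IsCohenMacaulayRing R] : CAlg.IsUniversallyCatenary R := by
  refine ⟨inferInstance, fun S _ _ hS => ?_⟩
  obtain ⟨n, f, hf⟩ := Algebra.FiniteType.iff_quotient_mvPolynomial''.mp hS
  haveI := isCMRing_mvPolynomial R n
  exact Groth.Agent.H38.isCatenary_of_ringEquiv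
    (Ideal.quotientKerAlgEquivOfSurjective hf).toRingEquiv
    (Groth.Agent.S9125.result _ _ (isCatenary_of_isCMRing _))

end Groth.Agent.H15.CMCat
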