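import Groth.Agent.H15.GenericCM
import Groth.Agent.H15.FibQuot
import Groth.Agent.H15.CohenNorm2
import Groth.Agent.H15.FlatQuot
import Groth.Agent.H61.CRingLib
import Groth.Agent.H54.IntegralDim

/-!
# Cohen–Macaulay fibres of flat local homomorphisms with complete base

If `A → B` is a flat local homomorphism of Noetherian local rings with `A` complete, the residue
field of `B` finite over that of `A`, and Cohen–Macaulay closed fibre, then all fibres are
Cohen–Macaulay.
-/

set_option autoImplicit false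
set_option linter.style.haveILetI false
set_option maxHeartbeats 800000

universe u

open IsLocalRing Groth.Agent.H15.FinFlatCM Groth.Agent.H15.CohenNorm2

namespace Groth.Agent.H15.CMFibres

attribute [local instance] Groth.Agent.H15.FlatLoc.isLocalRing_fibLocRing

theorem resFinite_of_square {P P' R R' : Type*} [CommRing P] [CommRing P'] [CommRing R]
    [CommRing R'] [IsLocalRing R] [IsLocalRing R'] (F : P →+* R) (F' : P' →+* R') (ρ : P →+* P')
    (π : R →+* R') (hπ : Function.Surjective π) (hcomm : π.comp F = F'.comp ρ)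
    (hF : ResFinite F) : ResFinite F' := by
  obtain ⟨t, z, hz⟩ := hF
  haveI : IsLocalHom π := IsLocalHom.of_surjective π hπ
  refine ⟨t, fun j => π (z j), fun r' => ?_⟩
  obtain ⟨r, rfl⟩ := hπ r'
  obtain ⟨a, ha⟩ := hz r
  refine ⟨fun j => ρ (a j), ?_⟩
  have h1 : π r - ∑ j, F' (ρ (a j)) * π (z j) = π (r - ∑ j, F (a j) * z j) := by
    rw [map_sub, map_sum]
    congr 1
    refine Finset.sum_congr rfl fun j _ => ?_
    rw [map_mul]
    congr 1
    exact (RingHom.congr_fun hcomm (a j)).symm
  rw [h1]
  exact map_nonunit π _ ha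

section Generic

variable (A B : Type u) [CommRing A] [CommRing B] [IsDomain A] [IsLocalRing A] [IsLocalRing B]
  [IsNoetherianRing A] [IsNoetherianRing B] [Algebra A B] [IsLocalHom (algebraMap A B)]
  [Module.Flat A B] [IsAdicComplete (maximalIdeal A) A]

/-- The generic fibre is Cohen–Macaulay if all the other fibres are. -/
theorem cm_generic_fibre (hres : ResFinite (algebraMap A B))
    (hIH : ∀ (q : Ideal B) [q.IsPrime], q.comap (algebraMap A B) ≠ ⊥ →
      LocCoh.IsCohenMacaulayLocalRing (EGA4.FibLocRing A B q))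
    (hcl : ∀ (q : Ideal B) [q.IsPrime], q.comap (algebraMap A B) = maximalIdeal A →
      LocCoh.IsCohenMacaulayLocalRing (EGA4.FibLocRing A B q)) :
    ∀ (q : Ideal B) [q.IsPrime], q.comap (algebraMap A B) = ⊥ →
      LocCoh.IsCohenMacaulayLocalRing (EGA4.FibLocRing A B q) := by
  intro q hq hq0
  by_cases hm : maximalIdeal A = ⊥
  · exact hcl q (hq0.trans hm.symm)
  by_contra hbad
  obtain ⟨f, hf0, hf⟩ := Groth.Agent.H15.GenericCM.exists_ne_zero_cmAt A
  have key : ∀ (Q : Ideal B) [Q.IsPrime], algebraMap A B f ∉ Q →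
      (CMat Q ↔ LocCoh.IsCohenMacaulayLocalRing (EGA4.FibLocRing A B Q)) :=
    fun Q _ hQ => cmAt_iff_fib A B Q (hf _ (fun h => hQ h))
  have hfq : algebraMap A B f ∉ q := by
    intro h
    have h1 : f ∈ q.comap (algebraMap A B) := h
    rw [hq0, Ideal.mem_bot] at h1
    exact hf0 h1
  have hq_notCM : ¬ CMat q := fun h => hbad ((key q hfq).mp h)
  -- a maximal prime containing `q` and avoiding `f`
  have hex : ∃ q' : Ideal B, (q'.IsPrime ∧ q ≤ q' ∧ algebraMap A B f ∉ q') ∧
      ∀ Q ∈ {Q : Ideal B | Q.IsPrime ∧ q ≤ Q ∧ algebraMap A B f ∉ Q}, ¬ q' < Q := by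
    obtain ⟨q', h1, h2⟩ :=
      set_has_maximal_iff_noetherian.mpr (inferInstance : IsNoetherianRing B)
        {Q : Ideal B | Q.IsPrime ∧ q ≤ Q ∧ algebraMap A B f ∉ Q} ⟨q, hq, le_rfl, hfq⟩
    exact ⟨q', h1, h2⟩
  obtain ⟨q', ⟨hq'prime, hqq', hfq'⟩, hq'max⟩ := hex
  haveI := hq'prime
  have hq'_notCM : ¬ CMat q' := fun h => hq_notCM (cmAt_of_le q' q hqq' h)
  have hq'fib : ¬ LocCoh.IsCohenMacaulayLocalRing (EGA4.FibLocRing A B q') :=
    fun h => hq'_notCM ((key q' hfq').mpr h)
  have hq'0 : q'.comap (algebraMap A B) = ⊥ := by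
    by_contra h
    exact hq'fib (hIH q' h)
  have hmB : (maximalIdeal B).comap (algebraMap A B) = maximalIdeal A :=
    ((IsLocalRing.local_hom_TFAE (algebraMap A B)).out 0 4).mp ‹IsLocalHom (algebraMap A B)›
  have hfm : f ∈ maximalIdeal A := by
    by_contra hfu
    have hfu' : IsUnit f := by
      rwa [mem_maximalIdeal, mem_nonunits_iff, not_not] at hfu
    have hmBS : maximalIdeal B ∈ {Q : Ideal B | Q.IsPrime ∧ q ≤ Q ∧ algebraMap A B f ∉ Q} :=
      ⟨inferInstance, le_maximalIdeal hq.ne_top, fun h =>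
        (maximalIdeal.isMaximal B).ne_top (Ideal.eq_top_of_isUnit_mem _ h (hfu'.map _))⟩
    have hle : q' ≤ maximalIdeal B := le_maximalIdeal hq'prime.ne_top
    have heq : q' = maximalIdeal B := by
      by_contra hne
      exact hq'max _ hmBS (lt_of_le_of_ne hle hne)
    apply hm
    rw [← hmB, ← heq, hq'0]
  -- the quotient `C = B / q'`
  haveI : IsDomain (B ⧸ q') := Ideal.Quotient.isDomain q'
  haveI : IsLocalRing (B ⧸ q') :=
    IsLocalRing.of_surjective' (Ideal.Quotient.mk q') Ideal.Quotient.mk_surjective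
  haveI : IsLocalHom (Ideal.Quotient.mk q') :=
    IsLocalHom.of_surjective _ Ideal.Quotient.mk_surjective
  set F : A →+* B ⧸ q' := (Ideal.Quotient.mk q').comp (algebraMap A B) with hFdef
  have hFinj : Function.Injective F := by
    rw [injective_iff_map_eq_zero]
    intro a ha
    have h1 : a ∈ q'.comap (algebraMap A B) :=
      (Ideal.Quotient.eq_zero_iff_mem (I := q') (a := algebraMap A B a)).mp ha
    rw [hq'0, Ideal.mem_bot] at h1
    exact h1
  have hFres : ResFinite F :=
    resFinite_of_square (algebraMap A B) F (RingHom.id A) (Ideal.Quotient.mk q')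
      Ideal.Quotient.mk_surjective rfl hres
  have hFm : ∀ a ∈ maximalIdeal A, F a ∈ maximalIdeal (B ⧸ q') := fun a ha =>
    map_nonunit (Ideal.Quotient.mk q') _ (map_nonunit (algebraMap A B) a ha)
  have hfbar0 : F f ≠ 0 := fun h => hfq'
    ((Ideal.Quotient.eq_zero_iff_mem (I := q') (a := algebraMap A B f)).mp h)
  have hfbarm : F f ∈ maximalIdeal (B ⧸ q') := hFm f hfm
  -- every nonzero prime of `C` contains the image of `f`
  have hall : ∀ (P : Ideal (B ⧸ q')) [P.IsPrime], P ≠ ⊥ → F f ∈ P := by
    intro P hP hP0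
    by_contra hfP
    have hq'le : q' ≤ P.comap (Ideal.Quotient.mk q') := by
      intro x hx
      rw [Ideal.mem_comap, Ideal.Quotient.eq_zero_iff_mem.mpr hx]
      exact P.zero_mem
    have hQS : P.comap (Ideal.Quotient.mk q') ∈
        {Q : Ideal B | Q.IsPrime ∧ q ≤ Q ∧ algebraMap A B f ∉ Q} :=
      ⟨Ideal.comap_isPrime _ _, hqq'.trans hq'le, hfP⟩
    have hne : q' ≠ P.comap (Ideal.Quotient.mk q') := by
      intro h
      apply hP0
      rw [← Ideal.map_comap_of_surjective (Ideal.Quotient.mk q') Ideal.Quotient.mk_surjective P,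
        ← h, Ideal.map_quotient_self]
    exact hq'max _ hQS (lt_of_le_of_ne hq'le hne)
  -- the maximal ideal of `C` is minimal over the image of `f`
  have hmin : maximalIdeal (B ⧸ q') ∈ (Ideal.span {F f}).minimalPrimes := by
    by_contra hnot
    have hfin : (Ideal.span {F f}).minimalPrimes.Finite :=
      Ideal.finite_minimalPrimes_of_isNoetherianRing (B ⧸ q') _
    have hspan_ne : Ideal.span {F f} ≠ ⊤ := fun h =>
      (maximalIdeal.isMaximal (B ⧸ q')).ne_top
        (top_le_iff.mp (h ▸ (Ideal.span_singleton_le_iff_mem _).mpr hfbarm))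
    have hnotsub : ¬ ((maximalIdeal (B ⧸ q') : Set (B ⧸ q')) ⊆
        ⋃ P ∈ (hfin.toFinset : Set (Ideal (B ⧸ q'))), ((fun P => P) P : Set (B ⧸ q'))) := by
      rw [Ideal.subset_union_prime (f := fun P => P) ⊥ ⊥
        (fun P hP _ _ => ((hfin.mem_toFinset).mp hP).1.1)]
      rintro ⟨P, hP, hle⟩
      have hPmin := (hfin.mem_toFinset).mp hP
      have hPprime : P.IsPrime := hPmin.1.1
      have : P = maximalIdeal (B ⧸ q') :=
        le_antisymm (le_maximalIdeal hPprime.ne_top) hle
      exact hnot (this ▸ hPmin)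
    rw [Set.not_subset] at hnotsub
    obtain ⟨x, hxm, hxnot⟩ := hnotsub
    have hxnot' : ∀ P ∈ (Ideal.span {F f}).minimalPrimes, x ∉ P := by
      intro P hP hxP
      apply hxnot
      simp only [Set.mem_iUnion]
      exact ⟨P, by simpa using hP, hxP⟩
    obtain ⟨⟨P₀, hP₀⟩⟩ := Ideal.nonempty_minimalPrimes hspan_ne
    have hx0 : x ≠ 0 := fun h => hxnot' P₀ hP₀ (h ▸ P₀.zero_mem)
    have hxspan_ne : Ideal.span {x} ≠ ⊤ := fun h =>
      (maximalIdeal.isMaximal (B ⧸ q')).ne_top
        (top_le_iff.mp (h ▸ (Ideal.span_singleton_le_iff_mem _).mpr hxm))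
    obtain ⟨⟨P, hP⟩⟩ := Ideal.nonempty_minimalPrimes hxspan_ne
    haveI hPprime : P.IsPrime := hP.1.1
    have hxP : x ∈ P := hP.1.2 (Ideal.mem_span_singleton_self x)
    have hPht : P.height ≤ 1 :=
      Ideal.height_le_one_of_isPrincipal_of_mem_minimalPrimes (Ideal.span {x}) P hP
    have hP0 : P ≠ ⊥ := fun h => hx0 (by rw [h, Ideal.mem_bot] at hxP; exact hxP)
    have hfP : F f ∈ P := hall P hP0
    obtain ⟨P₁, hP₁min, hP₁le⟩ := Ideal.exists_minimalPrimes_le
      ((Ideal.span_singleton_le_iff_mem P).mpr hfP)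
    haveI hP₁prime : P₁.IsPrime := hP₁min.1.1
    have hfP₁ : F f ∈ P₁ := hP₁min.1.2 (Ideal.mem_span_singleton_self _)
    have hP₁0 : (⊥ : Ideal (B ⧸ q')) < P₁ := by
      rw [bot_lt_iff_ne_bot]
      intro h
      rw [h, Ideal.mem_bot] at hfP₁
      exact hfbar0 hfP₁
    have hP₁P : P₁ = P := by
      by_contra hne
      have hlt : P₁ < P := lt_of_le_of_ne hP₁le hne
      have h1 : (⊥ : Ideal (B ⧸ q')).height < P₁.height :=
        Ideal.height_strict_mono_of_isPrime_of_isPrime hP₁0
      have h2 : P₁.height < P.height := Ideal.height_strict_mono_of_isPrime_of_isPrime hlt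
      have h3 : (1 : ℕ∞) ≤ P₁.height := Order.one_le_iff_pos.mpr (lt_of_le_of_lt zero_le h1)
      exact lt_irrefl _ (h2.trans_le (hPht.trans h3))
    exact hxnot' P₁ hP₁min (hP₁P ▸ hxP)
  have hmin' : maximalIdeal (B ⧸ q') ∈ ((maximalIdeal A).map F).minimalPrimes := by
    refine ⟨⟨inferInstance, ?_⟩, ?_⟩
    · rw [Ideal.map_le_iff_le_comap]
      exact fun a ha => hFm a ha
    · intro P hP hPm
      exact hmin.2 ⟨hP.1, (Ideal.span_singleton_le_iff_mem _).mpr
        (hP.2 (Ideal.mem_map_of_mem F hfm))⟩ hPm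
  have hFfin : F.Finite := finite_of_mem_minimalPrimes F hFres hmin'
  have hdimeq : ringKrullDim (B ⧸ q') = ringKrullDim A :=
    Groth.Agent.H54.ringKrullDim_eq_of_ringHom_isIntegral_of_injective F hFfin.to_isIntegral hFinj
  have hdimC : ringKrullDim (B ⧸ q') ≤ 1 := by
    rw [← IsLocalRing.maximalIdeal_height_eq_ringKrullDim]
    have h1 := Ideal.height_le_one_of_isPrincipal_of_mem_minimalPrimes (Ideal.span {F f})
      (maximalIdeal (B ⧸ q')) hmin
    exact_mod_cast h1
  have hACM : LocCoh.IsCohenMacaulayLocalRing A :=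
    isCM_of_isDomain_of_dim_le_one A (hdimeq ▸ hdimC)
  have h1 : CMat ((maximalIdeal B).comap (algebraMap A B)) := cmAt_of_isCM A hACM _
  have h2 : CMat (maximalIdeal B) :=
    (cmAt_iff_fib A B (maximalIdeal B) h1).mpr (hcl _ hmB)
  exact hq_notCM (cmAt_of_le (maximalIdeal B) q (le_maximalIdeal hq.ne_top) h2)

end Generic

section Complete

variable (A B : Type u) [CommRing A] [CommRing B] [IsLocalRing A] [IsLocalRing B]
  [IsNoetherianRing A] [IsNoetherianRing B] [Algebra A B] [IsLocalHom (algebraMap A B)]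
  [Module.Flat A B] [IsAdicComplete (maximalIdeal A) A]

/-- All fibres of a flat local homomorphism with complete base, finite residue field extension and
Cohen–Macaulay closed fibre are Cohen–Macaulay. -/
theorem cm_fibres_of_complete (hres : ResFinite (algebraMap A B))
    (hcl : ∀ (q : Ideal B) [q.IsPrime], q.comap (algebraMap A B) = maximalIdeal A →
      LocCoh.IsCohenMacaulayLocalRing (EGA4.FibLocRing A B q)) :
    ∀ (q : Ideal B) [q.IsPrime], LocCoh.IsCohenMacaulayLocalRing (EGA4.FibLocRing A B q) := by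
  have main : ∀ (p : Ideal A) (q : Ideal B) [q.IsPrime], q.comap (algebraMap A B) = p →
      LocCoh.IsCohenMacaulayLocalRing (EGA4.FibLocRing A B q) := by
    intro p
    induction p using WellFoundedGT.induction with
    | ind p ih =>
    intro q hq hqp
    subst hqp
    have hI : q.comap (algebraMap A B) ≠ ⊤ := Ideal.IsPrime.ne_top inferInstance
    obtain ⟨h1, h2, h3, h4⟩ :=
      Groth.Agent.H15.FlatQuot.quotient_flat_local (B := B) (q.comap (algebraMap A B)) hI
    haveI := h1
    haveI := h2
    haveI := h3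
    haveI := h4
    haveI : IsDomain (A ⧸ q.comap (algebraMap A B)) := Ideal.Quotient.isDomain _
    haveI : IsAdicComplete (maximalIdeal (A ⧸ q.comap (algebraMap A B)))
        (A ⧸ q.comap (algebraMap A B)) :=
      Groth.Agent.H61.isAdicComplete_quotient (q.comap (algebraMap A B))
    have hres' : ResFinite (algebraMap (A ⧸ q.comap (algebraMap A B))
        (B ⧸ (q.comap (algebraMap A B)).map (algebraMap A B))) :=
      resFinite_of_square (algebraMap A B) _ (Ideal.Quotient.mk _) (Ideal.Quotient.mk _)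
        Ideal.Quotient.mk_surjective rfl hres
    haveI hlocmk : IsLocalHom (Ideal.Quotient.mk (q.comap (algebraMap A B))) :=
      IsLocalHom.of_surjective _ Ideal.Quotient.mk_surjective
    have hmA : (maximalIdeal (A ⧸ q.comap (algebraMap A B))).comap
        (Ideal.Quotient.mk (q.comap (algebraMap A B))) = maximalIdeal A :=
      ((IsLocalRing.local_hom_TFAE (Ideal.Quotient.mk (q.comap (algebraMap A B)))).out 0 4).mp
        hlocmk
    have hIH' : ∀ (Q' : Ideal (B ⧸ (q.comap (algebraMap A B)).map (algebraMap A B)))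
        [Q'.IsPrime], Q'.comap (algebraMap (A ⧸ q.comap (algebraMap A B))
          (B ⧸ (q.comap (algebraMap A B)).map (algebraMap A B))) ≠ ⊥ →
        LocCoh.IsCohenMacaulayLocalRing (EGA4.FibLocRing (A ⧸ q.comap (algebraMap A B))
          (B ⧸ (q.comap (algebraMap A B)).map (algebraMap A B)) Q') := by
      intro Q' _ hne
      have hlt : q.comap (algebraMap A B) <
          (Q'.comap (Ideal.Quotient.mk ((q.comap (algebraMap A B)).map
            (algebraMap A B)))).comap (algebraMap A B) := by
        refine lt_of_le_of_ne (Groth.Agent.H15.FibQuot.le_comap A B _ Q') ?_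
        intro heq
        apply hne
        rw [eq_bot_iff]
        intro x hx
        obtain ⟨a, rfl⟩ := Ideal.Quotient.mk_surjective x
        have ha : a ∈ (Q'.comap (Ideal.Quotient.mk ((q.comap (algebraMap A B)).map
            (algebraMap A B)))).comap (algebraMap A B) :=
          (Groth.Agent.H15.FibQuot.mem_comap_iff A B _ Q' a).mpr hx
        rw [← heq] at ha
        rw [Ideal.mem_bot, Ideal.Quotient.eq_zero_iff_mem]
        exact ha
      have h := ih _ hlt (Q'.comap (Ideal.Quotient.mk ((q.comap (algebraMap A B)).map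
        (algebraMap A B)))) rfl
      exact Groth.Agent.H29.FlatCM.isCM_ringEquiv
        (Groth.Agent.H15.FibQuot.fibEquiv A B _ Q').symm h
    have hcl' : ∀ (Q' : Ideal (B ⧸ (q.comap (algebraMap A B)).map (algebraMap A B)))
        [Q'.IsPrime], Q'.comap (algebraMap (A ⧸ q.comap (algebraMap A B))
          (B ⧸ (q.comap (algebraMap A B)).map (algebraMap A B))) =
          maximalIdeal (A ⧸ q.comap (algebraMap A B)) →
        LocCoh.IsCohenMacaulayLocalRing (EGA4.FibLocRing (A ⧸ q.comap (algebraMap A B))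
          (B ⧸ (q.comap (algebraMap A B)).map (algebraMap A B)) Q') := by
      intro Q' _ hQ'm
      have h := hcl (Q'.comap (Ideal.Quotient.mk ((q.comap (algebraMap A B)).map
        (algebraMap A B)))) (by
          rw [← Groth.Agent.H15.FibQuot.comap_comap A B _ Q', hQ'm, hmA])
      exact Groth.Agent.H29.FlatCM.isCM_ringEquiv
        (Groth.Agent.H15.FibQuot.fibEquiv A B _ Q').symm h
    -- the prime of the quotient corresponding to `q`
    have hJq : (q.comap (algebraMap A B)).map (algebraMap A B) ≤ q := Ideal.map_comap_le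
    haveI hQprime : (q.map (Ideal.Quotient.mk ((q.comap (algebraMap A B)).map
        (algebraMap A B)))).IsPrime :=
      Ideal.map_isPrime_of_surjective Ideal.Quotient.mk_surjective
        (by rw [Ideal.mk_ker]; exact hJq)
    have hQc : (q.map (Ideal.Quotient.mk ((q.comap (algebraMap A B)).map
        (algebraMap A B)))).comap (Ideal.Quotient.mk ((q.comap (algebraMap A B)).map
        (algebraMap A B))) = q := by
      rw [Ideal.comap_map_of_surjective _ Ideal.Quotient.mk_surjective,
        ← RingHom.ker_eq_comap_bot, Ideal.mk_ker]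
      exact sup_eq_left.mpr hJq
    have hQ0 : (q.map (Ideal.Quotient.mk ((q.comap (algebraMap A B)).map
        (algebraMap A B)))).comap (algebraMap (A ⧸ q.comap (algebraMap A B))
          (B ⧸ (q.comap (algebraMap A B)).map (algebraMap A B))) = ⊥ := by
      rw [eq_bot_iff]
      intro x hx
      obtain ⟨a, rfl⟩ := Ideal.Quotient.mk_surjective x
      have ha : a ∈ ((q.map (Ideal.Quotient.mk ((q.comap (algebraMap A B)).map
          (algebraMap A B)))).comap (Ideal.Quotient.mk ((q.comap (algebraMap A B)).map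
          (algebraMap A B)))).comap (algebraMap A B) :=
        (Groth.Agent.H15.FibQuot.mem_comap_iff A B _ _ a).mpr hx
      rw [hQc] at ha
      rw [Ideal.mem_bot, Ideal.Quotient.eq_zero_iff_mem]
      exact ha
    have hres := cm_generic_fibre (A ⧸ q.comap (algebraMap A B))
      (B ⧸ (q.comap (algebraMap A B)).map (algebraMap A B)) hres' hIH' hcl' _ hQ0
    have hres2 := Groth.Agent.H29.FlatCM.isCM_ringEquiv
      (Groth.Agent.H15.FibQuot.fibEquiv A B _ _) hres
    exact fib_congr hQc hres2
  intro q _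
  exact main _ q rfl

end Complete

end Groth.Agent.H15.CMFibres
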