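import Mathlib
import Groth.Agent.S0578
import Groth.Agent.S0579
import Groth.Agent.H15.CohenLift

/-!
# Coefficient fields of equicharacteristic complete local rings (helper15)
-/

set_option autoImplicit false
universe u

namespace Groth.Agent.H15.CoeffField

open IsLocalRing

/-- A complete local ring whose residue characteristic `p` vanishes in the ring has a coefficient
field: a ring section of the residue map. -/
theorem exists_residue_section (R : Type u) [CommRing R] [IsLocalRing R]
    [IsAdicComplete (maximalIdeal R) R] (p : ℕ) [hchar : CharP (ResidueField R) p]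
    (hp0 : (p : R) = 0) :
    ∃ s : ResidueField R →+* R, (residue R).comp s = RingHom.id _ := by
  classical
  rcases CharP.char_is_prime_or_zero (ResidueField R) p with hpp | hp
  · have : Fact p.Prime := ⟨hpp⟩
    obtain ⟨Λ, _, _, hΛ, ⟨e⟩⟩ := Groth.Agent.S0578.result p (ResidueField R)
    obtain ⟨hdom, hdvr, hcomp, p', hp', hm⟩ := hΛ
    have h1 : ((p' : ℕ) : ResidueField R) = 0 := by
      have h1 : residue Λ (p' : Λ) = 0 := by
        rw [IsLocalRing.residue_eq_zero_iff, hm]
        exact Ideal.mem_span_singleton_self _
      rw [map_natCast] at h1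
      have h2 := congrArg e h1
      rwa [map_natCast, map_zero] at h2
    have hpp' : p = p' :=
      (Nat.prime_dvd_prime_iff_eq hpp hp').mp ((CharP.cast_eq_zero_iff (ResidueField R) p p').mp h1)
    subst hpp'
    have hpR : (p : R) ∈ maximalIdeal R := by rw [hp0]; exact Ideal.zero_mem _
    let g₁ : Λ →+* R ⧸ maximalIdeal R :=
      (e : ResidueField Λ →+* ResidueField R).comp (residue Λ)
    obtain ⟨v, hv⟩ := Groth.Agent.H15.CohenLift.exists_lift_complete Λ p hp' hm
      (maximalIdeal R) hpR g₁
    have hker : ∀ a ∈ maximalIdeal Λ, v a = 0 := by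
      intro a ha
      rw [hm] at ha
      obtain ⟨b, rfl⟩ := Ideal.mem_span_singleton'.mp ha
      rw [map_mul, map_natCast, hp0, mul_zero]
    let ψ : ResidueField Λ →+* R := Ideal.Quotient.lift (maximalIdeal Λ) v hker
    refine ⟨ψ.comp (e.symm : ResidueField R →+* ResidueField Λ), ?_⟩
    ext y
    obtain ⟨a, ha⟩ := IsLocalRing.residue_surjective (e.symm y)
    simp only [RingHom.comp_apply, RingHom.id_apply, RingHom.coe_coe]
    rw [← ha]
    have h3 : ψ (residue Λ a) = v a := rfl
    rw [h3]
    have h4 : residue R (v a) = g₁ a := congr($hv a)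
    rw [h4]
    show e (residue Λ a) = y
    rw [ha, RingEquiv.apply_symm_apply]
  · subst hp
    have : CharZero (ResidueField R) := CharP.charP_to_charZero _
    exact Groth.Agent.S0579.result R

end Groth.Agent.H15.CoeffField
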