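import Mathlib

set_option autoImplicit false
set_option linter.style.haveILetI false

/-!
# Common factors in finite extensions of one-dimensional local rings

Helper library for S1834: for nonzerodivisors `a, b` of a one-dimensional Noetherian local ring
there is a homogeneous relation between the monomials `a^(d-k) b^k` with one coefficient `1`;
the fraction `b/a` is then a root of a polynomial with a coefficient `1`, whose "tails" are integral
and generate a finite extension ring in which `(a, b)` becomes principal.
-/

namespace Groth.Agent.H15.ComFac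

open Polynomial IsLocalRing Pointwise

section Length

variable {R : Type*} [CommRing R]

/-- A strict inclusion of ideals strictly increases the colength. -/
theorem length_quot_add_one_le {K J : Ideal R} (h : K ≤ J) (hne : K ≠ J) :
    Module.length R (R ⧸ J) + 1 ≤ Module.length R (R ⧸ K) := by
  have hs := Submodule.factor_surjective h
  rw [Module.length_eq_add_of_exact (LinearMap.ker (Submodule.factor h)).subtype
    (Submodule.factor h) (Submodule.subtype_injective _) hs
    (LinearMap.exact_subtype_ker_map _), add_comm]
  gcongr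
  rw [Order.one_le_iff_pos, Module.length_pos_iff]
  obtain ⟨y, hyJ, hyK⟩ := SetLike.exists_of_lt (lt_of_le_of_ne h hne)
  refine ⟨⟨⟨Submodule.mkQ K y, ?_⟩, 0, ?_⟩⟩
  · rw [LinearMap.mem_ker, Submodule.factor_mk]
    exact (Submodule.Quotient.mk_eq_zero J).mpr hyJ
  · intro h0
    have h1 := congrArg Subtype.val h0
    exact hyK ((Submodule.Quotient.mk_eq_zero K).mp h1)

/-- A strictly increasing chain of `n` steps of ideals costs colength `n`. -/
theorem chain_length {K : ℕ → Ideal R} (hmono : ∀ i, K i ≤ K (i + 1)) (n : ℕ)
    (hne : ∀ i < n, K i ≠ K (i + 1)) :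
    Module.length R (R ⧸ K n) + n ≤ Module.length R (R ⧸ K 0) := by
  induction n with
  | zero => simp
  | succ n ih =>
    have h1 := ih (fun i hi => hne i (by omega))
    have h2 := length_quot_add_one_le (hmono n) (hne n (by omega))
    calc Module.length R (R ⧸ K (n + 1)) + ((n + 1 : ℕ) : ℕ∞)
        = (Module.length R (R ⧸ K (n + 1)) + 1) + n := by push_cast; ring
      _ ≤ Module.length R (R ⧸ K n) + n := by gcongr
      _ ≤ _ := h1

/-- Colength of `a • J` for a nonzerodivisor `a`. -/
theorem length_quot_smul {a : R} (ha : a ∈ nonZeroDivisors R) (J : Ideal R) :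
    Module.length R (R ⧸ a • J) =
      Module.length R (R ⧸ J) + Module.length R (R ⧸ Ideal.span {a}) :=
  Module.length_eq_add_of_exact (Ideal.mulQuot a J) (Ideal.quotOfMul a J)
    (Ideal.mulQuot_injective J ha) (Ideal.quotOfMul_surjective J) (Ideal.exact_mulQuot_quotOfMul J)

end Length

section Relation

variable (R : Type*) [CommRing R] [IsNoetherianRing R] [IsLocalRing R]

/-- In a one-dimensional Noetherian local ring, for a nonzerodivisor `a` and any `b`, some monomial
`a^(d-i) b^i` is a linear combination of the other monomials of the same degree `d`. -/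
theorem exists_relation (hR : ringKrullDim R = 1) (a b : R) (ha : a ∈ nonZeroDivisors R) :
    ∃ (d i : ℕ) (e : ℕ → R), i ≤ d ∧
      a ^ (d - i) * b ^ i =
        ∑ k ∈ (Finset.range (d + 1)).erase i, e k * (a ^ (d - k) * b ^ k) := by
  classical
  by_cases hau : IsUnit a
  · obtain ⟨u, rfl⟩ := hau
    refine ⟨1, 1, fun _ => b * ↑u⁻¹, le_rfl, ?_⟩
    have h01 : (Finset.range (1 + 1)).erase 1 = {0} := by decide
    rw [h01, Finset.sum_singleton]
    simp
  have ham : a ∈ maximalIdeal R := (mem_maximalIdeal a).mpr hau
  have : Ring.KrullDimLE 1 R := Ring.krullDimLE_iff.mpr (by rw [hR, Nat.cast_one])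
  have hfl : Module.length R (R ⧸ Ideal.span {a}) ≠ ⊤ :=
    Module.length_ne_top_iff.mpr (isFiniteLength_quotient_span_singleton R ha)
  obtain ⟨d, hd⟩ := ENat.ne_top_iff_exists.mp hfl
  set g : ℕ → R := fun k => a ^ (d - k) * b ^ k with hg
  set S : Finset ℕ := Finset.range (d + 1) with hS
  set J : Ideal R := Ideal.span (g '' (S : Set ℕ)) with hJ
  set m := maximalIdeal R with hm
  -- finite colength of `J`
  have hJfl : Module.length R (R ⧸ J) ≠ ⊤ := by
    have hle : Ideal.span {a ^ d} ≤ J := by
      rw [Ideal.span_singleton_le_iff_mem]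
      apply Ideal.subset_span
      exact ⟨0, by simp [S], by simp [g]⟩
    have h1 : Module.length R (R ⧸ Ideal.span {a ^ d}) ≠ ⊤ :=
      Module.length_ne_top_iff.mpr (isFiniteLength_quotient_span_singleton R (pow_mem ha d))
    exact ne_top_of_le_ne_top h1
      (Module.length_le_of_surjective _ (Submodule.factor_surjective hle))
  -- colength of `m * J`
  have hmJ : Module.length R (R ⧸ m * J) ≤ Module.length R (R ⧸ J) + d := by
    have hle : a • J ≤ m * J := by
      rintro _ ⟨y, hy, rfl⟩
      exact Ideal.mul_mem_mul ham hy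
    calc Module.length R (R ⧸ m * J) ≤ Module.length R (R ⧸ a • J) :=
          Module.length_le_of_surjective _ (Submodule.factor_surjective hle)
      _ = Module.length R (R ⧸ J) + d := by rw [length_quot_smul ha J, ← hd]
  -- the chain
  set K : ℕ → Ideal R := fun i => Ideal.span (g '' ((Finset.range i : Finset ℕ) : Set ℕ)) ⊔ m * J
    with hK
  have hmono : ∀ i, K i ≤ K (i + 1) := fun i =>
    sup_le_sup_right (Ideal.span_mono (Set.image_mono (by
      intro k hk
      simp only [Finset.coe_range, Set.mem_Iio] at hk ⊢
      omega))) _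
  have hex : ∃ i < d + 1, K i = K (i + 1) := by
    by_contra hcon
    push Not at hcon
    have h1 := chain_length hmono (d + 1) hcon
    have hK0 : K 0 = m * J := by simp [K]
    have hKd : K (d + 1) = J := by
      simp only [K]
      exact sup_eq_left.mpr Ideal.mul_le_right
    rw [hK0, hKd] at h1
    have h2 := h1.trans hmJ
    obtain ⟨L, hL⟩ := ENat.ne_top_iff_exists.mp hJfl
    rw [← hL] at h2
    norm_cast at h2
    omega
  obtain ⟨i, hi, hKi⟩ := hex
  have hi' : i ≤ d := by omega
  set J' : Ideal R := Ideal.span (g '' ((S.erase i : Finset ℕ) : Set ℕ)) with hJ'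
  have hgi : g i ∈ J' ⊔ m * J := by
    have h1 : g i ∈ K (i + 1) :=
      Ideal.mem_sup_left (Ideal.subset_span ⟨i, by simp, rfl⟩)
    rw [← hKi] at h1
    have hle : K i ≤ J' ⊔ m * J := by
      refine sup_le_sup_right (Ideal.span_mono (Set.image_mono ?_)) _
      intro k hk
      simp only [Finset.coe_range, Set.mem_Iio] at hk
      simp only [S, Finset.coe_erase, Finset.coe_range, Set.mem_sdiff, Set.mem_Iio,
        Set.mem_singleton_iff]
      omega
    exact hle h1
  have hJle : J ≤ J' ⊔ m • J := by
    rw [hJ, Ideal.span_le]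
    rintro _ ⟨k, hk, rfl⟩
    by_cases hki : k = i
    · subst hki
      exact hgi
    · refine Ideal.mem_sup_left (Ideal.subset_span ⟨k, ?_, rfl⟩)
      simp only [Finset.coe_erase, Set.mem_sdiff, Set.mem_singleton_iff]
      exact ⟨hk, hki⟩
  have hJJ' : J ≤ J' :=
    Submodule.le_of_le_smul_of_le_jacobson_bot (IsNoetherian.noetherian J)
      (maximalIdeal_le_jacobson ⊥) hJle
  have hmem : g i ∈ J' := hJJ' (Ideal.subset_span ⟨i, by simp [S]; omega, rfl⟩)
  obtain ⟨e, he⟩ := (Submodule.mem_span_image_finset_iff_exists_fun' R).mp hmem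
  exact ⟨d, i, e, hi', he.symm⟩

end Relation

section Tails

variable {R S : Type*} [CommRing R] [CommRing S] [Algebra R S]

/-- If `f(x) = 0` then `(f / X)(x)` is integral. -/
theorem isIntegral_aeval_divX (x : S) (f : R[X]) (hf : aeval x f = 0) :
    IsIntegral R (aeval x f.divX) := by
  set h := f.divX with hh
  set N := h.natDegree with hN
  set y := aeval x h with hy
  set c : R := -f.coeff 0 with hc
  have hxy : x * y = algebraMap R S c := by
    have h1 := congrArg (aeval x) (divX_mul_X_add f)
    rw [hf, map_add, map_mul, aeval_X, aeval_C] at h1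
    rw [hc, map_neg, mul_comm]
    exact eq_neg_of_add_eq_zero_left h1
  have hysum : y = ∑ k ∈ Finset.range (N + 1), h.coeff k • x ^ k := aeval_eq_sum_range x
  have key : ∀ k ∈ Finset.range (N + 1), x ^ k * y ^ N = algebraMap R S (c ^ k) * y ^ (N - k) := by
    intro k hk
    have hk' : k ≤ N := by
      have := Finset.mem_range.mp hk
      omega
    have h2 : y ^ N = y ^ k * y ^ (N - k) := by
      rw [← pow_add]
      congr 1
      omega
    rw [h2, ← mul_assoc, ← mul_pow, hxy, map_pow]
  refine ⟨X ^ (N + 1) - ∑ k ∈ Finset.range (N + 1), C (h.coeff k * c ^ k) * X ^ (N - k), ?_, ?_⟩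
  · apply monic_X_pow_sub
    have hle : (∑ k ∈ Finset.range (N + 1), C (h.coeff k * c ^ k) * X ^ (N - k)).degree ≤ ((N : ℕ) : WithBot ℕ) := by
      refine (degree_sum_le (Finset.range (N + 1))
        (fun k => C (h.coeff k * c ^ k) * X ^ (N - k))).trans (Finset.sup_le fun k hk => ?_)
      refine (degree_C_mul_X_pow_le _ _).trans ?_
      exact_mod_cast Nat.sub_le N k
    exact lt_of_le_of_lt hle (by exact_mod_cast Nat.lt_succ_self N)
  · rw [eval₂_sub, eval₂_pow, eval₂_X, eval₂_finsetSum, sub_eq_zero]
    have h3 : y ^ (N + 1) = ∑ k ∈ Finset.range (N + 1), h.coeff k • (x ^ k * y ^ N) := by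
      rw [pow_succ]
      nth_rewrite 2 [hysum]
      rw [Finset.mul_sum]
      refine Finset.sum_congr rfl fun k _ => ?_
      rw [mul_smul_comm, mul_comm]
    rw [h3]
    refine Finset.sum_congr rfl fun k hk => ?_
    rw [key k hk, eval₂_mul, eval₂_C, eval₂_pow, eval₂_X, map_mul, Algebra.smul_def, mul_assoc]

/-- Over the integral closure, all the tails `(f / X^(m+1))(x)` of a polynomial with root `x` are
integral. -/
theorem isIntegral_aeval_iterate_divX_aux (x : S) :
    ∀ (m : ℕ) (f : (integralClosure R S)[X]), aeval x f = 0 →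
      IsIntegral R (aeval x (divX^[m + 1] f)) := by
  intro m
  induction m with
  | zero =>
    intro f hf
    rw [zero_add, Function.iterate_one]
    exact isIntegral_trans (A := integralClosure R S) _ (isIntegral_aeval_divX x f hf)
  | succ m ih =>
    intro f hf
    have h0 : IsIntegral R (aeval x f.divX) :=
      isIntegral_trans (A := integralClosure R S) _ (isIntegral_aeval_divX x f hf)
    set y' : integralClosure R S := ⟨aeval x f.divX, h0⟩ with hy'
    have h1 : aeval x (f.divX + C (-y')) = 0 := by
      rw [map_add, aeval_C, map_neg]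
      show aeval x f.divX + -(aeval x f.divX) = 0
      ring
    have h2 := ih (f.divX + C (-y')) h1
    have h3 : divX^[m + 1] (f.divX + C (-y')) = divX^[m + 1 + 1] f := by
      rw [Function.iterate_succ_apply, divX_add, divX_C, add_zero,
        Function.iterate_succ_apply (n := m + 1), Function.iterate_succ_apply]
    rwa [h3] at h2

theorem divX_iterate_map {A : Type*} [CommRing A] (φ : R →+* A) (f : R[X]) (m : ℕ) :
    divX^[m] (f.map φ) = (divX^[m] f).map φ := by
  induction m with
  | zero => rfl
  | succ m ih =>
    rw [Function.iterate_succ_apply', Function.iterate_succ_apply', ih]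
    ext k
    simp [coeff_divX]

theorem coeff_divX_iterate (f : R[X]) (m k : ℕ) : (divX^[m] f).coeff k = f.coeff (k + m) := by
  induction m generalizing k with
  | zero => rfl
  | succ m ih =>
    rw [Function.iterate_succ_apply', coeff_divX, ih]
    congr 1
    omega

/-- All the tails `(f / X^m)(x)`, `m ≥ 0`, of a polynomial with root `x` are integral. -/
theorem isIntegral_aeval_iterate_divX (x : S) (f : R[X]) (hf : aeval x f = 0) (m : ℕ) :
    IsIntegral R (aeval x (divX^[m] f)) := by
  cases m with
  | zero =>
    rw [Function.iterate_zero, id, hf]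
    exact isIntegral_zero
  | succ m =>
    have h1 : aeval x (f.map (algebraMap R (integralClosure R S))) = 0 := by
      rw [aeval_map_algebraMap, hf]
    have h2 := isIntegral_aeval_iterate_divX_aux x m _ h1
    rwa [divX_iterate_map, aeval_map_algebraMap] at h2

/-- The recursion between consecutive tails. -/
theorem aeval_iterate_divX_succ (x : S) (f : R[X]) (m : ℕ) :
    aeval x (divX^[m] f) = aeval x (divX^[m + 1] f) * x + algebraMap R S (f.coeff m) := by
  have h1 := congrArg (aeval x) (divX_mul_X_add (divX^[m] f))
  rw [map_add, map_mul, aeval_X, aeval_C, coeff_divX_iterate, zero_add,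
    ← Function.iterate_succ_apply' divX m f] at h1
  exact h1.symm

end Tails

section Semilocal

/-- A ring finite over a local ring has finitely many maximal ideals. -/
theorem finite_setOf_isMaximal_of_finite (R B : Type*) [CommRing R] [IsLocalRing R] [CommRing B]
    [Algebra R B] [Module.Finite R B] : {I : Ideal B | I.IsMaximal}.Finite := by
  set m := maximalIdeal R with hm
  set mB := m.map (algebraMap R B) with hmB
  haveI : IsArtinianRing (B ⧸ mB) := by
    letI : Field (R ⧸ m) := Ideal.Quotient.field m
    haveI : Module.Finite (R ⧸ m) (B ⧸ mB) := Module.Finite.of_restrictScalars_finite R _ _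
    exact IsArtinianRing.of_finite (R ⧸ m) (B ⧸ mB)
  have hfin := IsArtinianRing.setOfPred_isMaximal_finite (B ⧸ mB)
  refine (hfin.image (Ideal.comap (Ideal.Quotient.mk mB))).subset ?_
  intro M hM
  haveI : M.IsMaximal := hM
  haveI : Algebra.IsIntegral R B := Algebra.IsIntegral.of_finite R B
  have hcomap : M.comap (algebraMap R B) = m :=
    eq_maximalIdeal (Ideal.isMaximal_comap_of_isIntegral_of_isMaximal (R := R) M)
  have hle : mB ≤ M := Ideal.map_le_iff_le_comap.mpr hcomap.ge
  refine ⟨M.map (Ideal.Quotient.mk mB), ?_, ?_⟩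
  · exact Ideal.IsMaximal.map_of_surjective_of_ker_le Ideal.Quotient.mk_surjective
      (by rwa [Ideal.mk_ker])
  · rw [Ideal.comap_map_of_surjective _ Ideal.Quotient.mk_surjective, ← RingHom.ker_eq_comap_bot,
      Ideal.mk_ker, sup_eq_left.mpr hle]

/-- A localisation of `R` is also a localisation of any intermediate ring. -/
theorem isLocalization_subalgebra {R Q : Type*} [CommRing R] [CommRing Q] [Algebra R Q]
    (M : Submonoid R) [IsLocalization M Q] (B : Subalgebra R Q) :
    IsLocalization ((IsUnit.submonoid Q).comap (algebraMap B Q)) Q where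
  map_units := fun ⟨_, hy⟩ => hy
  surj := fun q => by
    obtain ⟨⟨r, s⟩, h⟩ := IsLocalization.surj M q
    refine ⟨(algebraMap R B r, ⟨algebraMap R B s, ?_⟩), ?_⟩
    · show IsUnit (algebraMap B Q (algebraMap R B s))
      rw [← IsScalarTower.algebraMap_apply]
      exact IsLocalization.map_units Q s
    · show q * algebraMap B Q (algebraMap R B s) = algebraMap B Q (algebraMap R B r)
      rw [← IsScalarTower.algebraMap_apply, ← IsScalarTower.algebraMap_apply]
      exact h
  exists_of_eq := fun {x y} h => ⟨1, by
    have : x = y := Subtype.ext h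
    rw [this]⟩

theorem comap_isUnit_le_nonZeroDivisors {Q : Type*} [CommRing Q] {B : Type*} [CommRing B]
    [Algebra B Q] (hinj : Function.Injective (algebraMap B Q)) :
    (IsUnit.submonoid Q).comap (algebraMap B Q) ≤ nonZeroDivisors B := by
  intro y hy
  have hy' : IsUnit (algebraMap B Q y) := hy
  exact mem_nonZeroDivisors_of_injective hinj hy'.mem_nonZeroDivisors

end Semilocal

end Groth.Agent.H15.ComFac
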