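import Mathlib
import Groth.Agent.H15.ComFac

set_option autoImplicit false
set_option linter.style.haveILetI false

/-!
# Common factors in finite extensions of one-dimensional local rings, II

Main construction for S1834.
-/

namespace Groth.Agent.H15.ComFac

open Polynomial IsLocalRing
open scoped Pointwise

universe u

/-- The key step: if `x = b/a` in `Q = R[1/a]` is a root of a polynomial over `R` with a coefficient
equal to `1`, there is a finite `R`-subalgebra `B` of `Q` in which the fractional ideal `(1, x)` is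
principal. -/
theorem exists_subalgebra_principal {R : Type u} [CommRing R] [IsLocalRing R]
    {Q : Type u} [CommRing Q] [Algebra R Q] (M : Submonoid R) [IsLocalization M Q]
    (x : Q) (p : R[X]) (hp : aeval x p = 0) (i : ℕ) (hpi : p.coeff i = 1) :
    ∃ B : Subalgebra R Q, B.toSubmodule.FG ∧ ∃ (s : Q) (β₁ β₂ γ₁ γ₂ : B),
      (β₁ : Q) * s = 1 ∧ (β₂ : Q) * s = x ∧ (γ₁ : Q) + (γ₂ : Q) * x = s := by
  classical
  set ι := algebraMap R Q with hι
  set ω : ℕ → Q := fun m => aeval x (divX^[m] p) with hω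
  have hω0 : ω 0 = 0 := hp
  have hωrec : ∀ m, ω m = ω (m + 1) * x + ι (p.coeff m) := fun m =>
    aeval_iterate_divX_succ x p m
  have hωint : ∀ m, IsIntegral R (ω m) := fun m => isIntegral_aeval_iterate_divX x p hp m
  set T : Set Q := {ω (i - 1), ω i, ω (i + 1)} with hT
  have hTfin : T.Finite := by simp [T]
  have hTint : ∀ y ∈ T, IsIntegral R y := by
    intro y hy
    simp only [T, Set.mem_insert_iff, Set.mem_singleton_iff] at hy
    rcases hy with rfl | rfl | rfl <;> exact hωint _
  set B : Subalgebra R Q := Algebra.adjoin R T with hB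
  have hBfg : B.toSubmodule.FG := fg_adjoin_of_finite hTfin hTint
  haveI hBfin : Module.Finite R B := Algebra.finite_adjoin_of_finite_of_isIntegral hTfin hTint
  obtain ⟨v, hv⟩ : ∃ v, v = ω i := ⟨_, rfl⟩
  obtain ⟨w, hw⟩ : ∃ w, w = ω (i + 1) := ⟨_, rfl⟩
  have hvB : v ∈ B := Algebra.subset_adjoin (by rw [hv]; simp [T])
  have hwB : w ∈ B := Algebra.subset_adjoin (by rw [hw]; simp [T])
  have hvw : v = w * x + 1 := by
    have := hωrec i
    rwa [hpi, map_one, ← hv, ← hw] at this
  have hxwB : x * w ∈ B := by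
    have : x * w = v - 1 := by rw [hvw]; ring
    rw [this]
    exact B.sub_mem hvB B.one_mem
  have hxvB : x * v ∈ B := by
    rcases Nat.eq_zero_or_pos i with h0 | hpos
    · have : v = 0 := by rw [hv, h0]; exact hω0
      rw [this, mul_zero]
      exact B.zero_mem
    · have h1 := hωrec (i - 1)
      rw [Nat.sub_add_cancel hpos, ← hv] at h1
      have : x * v = ω (i - 1) - ι (p.coeff (i - 1)) := by rw [h1]; ring
      rw [this]
      exact B.sub_mem (Algebra.subset_adjoin (by simp [T])) (B.algebraMap_mem _)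
  -- semilocal
  have hfinmax := finite_setOf_isMaximal_of_finite R B
  haveI := isLocalization_subalgebra M B
  set S : Submonoid B := (IsUnit.submonoid Q).comap (algebraMap B Q) with hS
  have hSle : S ≤ nonZeroDivisors B :=
    comap_isUnit_le_nonZeroDivisors (B := B) (Q := Q) Subtype.val_injective
  set I : FractionalIdeal S Q :=
    FractionalIdeal.spanSingleton S 1 + FractionalIdeal.spanSingleton S x with hI
  set I' : FractionalIdeal S Q :=
    FractionalIdeal.spanSingleton S v + FractionalIdeal.spanSingleton S (-w) with hI'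
  have hIcoe : (I : Submodule B Q) = Submodule.span B {1} ⊔ Submodule.span B {x} := by
    rw [hI, FractionalIdeal.coe_add, FractionalIdeal.coe_spanSingleton,
      FractionalIdeal.coe_spanSingleton, Submodule.add_eq_sup]
  have hI'coe : (I' : Submodule B Q) = Submodule.span B {v} ⊔ Submodule.span B {-w} := by
    rw [hI', FractionalIdeal.coe_add, FractionalIdeal.coe_spanSingleton,
      FractionalIdeal.coe_spanSingleton, Submodule.add_eq_sup]
  have hinv : I * I' = 1 := by
    apply FractionalIdeal.coeToSubmodule_injective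
    show ((I * I' : FractionalIdeal S Q) : Submodule B Q) = ((1 : FractionalIdeal S Q) : Submodule B Q)
    rw [FractionalIdeal.coe_mul, FractionalIdeal.coe_one, hIcoe, hI'coe, ← Submodule.span_union,
      ← Submodule.span_union, Submodule.span_mul_span]
    apply le_antisymm
    · rw [Submodule.span_le]
      rintro _ ⟨y, hy, z, hz, rfl⟩
      show y * z ∈ ((1 : Submodule B Q) : Set Q)
      have hmem : ∀ q : Q, q ∈ B → q ∈ ((1 : Submodule B Q) : Set Q) := fun q hq =>
        Submodule.mem_one.mpr ⟨⟨q, hq⟩, rfl⟩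
      simp only [Set.union_singleton, Set.mem_insert_iff, Set.mem_singleton_iff] at hy hz
      rcases hy with rfl | rfl <;> rcases hz with rfl | rfl
      · exact hmem _ (by rw [mul_neg]; exact B.neg_mem hxwB)
      · exact hmem _ hxvB
      · exact hmem _ (by rw [one_mul]; exact B.neg_mem hwB)
      · exact hmem _ (by rw [one_mul]; exact hvB)
    · rw [Submodule.one_le]
      have h2 : 1 * v + x * (-w) ∈
          Submodule.span B (({(1 : Q)} ∪ {x} : Set Q) * ({v} ∪ {-w} : Set Q)) :=
        Submodule.add_mem _ (Submodule.subset_span (Set.mul_mem_mul (by simp) (by simp)))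
          (Submodule.subset_span (Set.mul_mem_mul (by simp) (by simp)))
      have h1 : 1 * v + x * (-w) = (1 : Q) := by rw [hvw]; ring
      rwa [h1] at h2
  obtain ⟨⟨s, hs⟩⟩ :=
    FractionalIdeal.isPrincipal.of_finite_maximals_of_inv hSle hfinmax I I' hinv
  rw [hIcoe] at hs
  have h1mem : (1 : Q) ∈ Submodule.span B {s} := by
    rw [← hs]
    exact Submodule.mem_sup_left (Submodule.mem_span_singleton_self 1)
  have hxmem : x ∈ Submodule.span B {s} := by
    rw [← hs]
    exact Submodule.mem_sup_right (Submodule.mem_span_singleton_self x)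
  have hsmem : s ∈ Submodule.span B {1} ⊔ Submodule.span B {x} := by
    rw [hs]
    exact Submodule.mem_span_singleton_self s
  obtain ⟨β₁, hβ₁⟩ := Submodule.mem_span_singleton.mp h1mem
  obtain ⟨β₂, hβ₂⟩ := Submodule.mem_span_singleton.mp hxmem
  obtain ⟨y, hy, z, hz, hyz⟩ := Submodule.mem_sup.mp hsmem
  obtain ⟨γ₁, rfl⟩ := Submodule.mem_span_singleton.mp hy
  obtain ⟨γ₂, rfl⟩ := Submodule.mem_span_singleton.mp hz
  refine ⟨B, hBfg, s, β₁, β₂, γ₁, γ₂, ?_, ?_, ?_⟩
  · rw [← hβ₁]; rfl
  · rw [← hβ₂]; rfl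
  · rw [← hyz]
    show (γ₁ : Q) + (γ₂ : Q) * x = (γ₁ : Q) * 1 + (γ₂ : Q) * x
    rw [mul_one]

/-- **Common factor in a finite extension.** For nonzerodivisors `a, b` of a one-dimensional
Noetherian local ring `R` there is a finite extension `R ⊆ R'`, with `R'/R` killed by a power of the
maximal ideal, in which `a = t a'`, `b = t b'` with `(a', b') = R'`. -/
theorem exists_common_factor (R : Type u) [CommRing R] [IsNoetherianRing R] [IsLocalRing R]
    (hR : ringKrullDim R = 1) (a b : R) (ha : a ∈ nonZeroDivisors R)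
    (hb : b ∈ nonZeroDivisors R) :
    ∃ (R' : Type u) (_ : CommRing R') (_ : Algebra R R'),
      (Function.Injective (algebraMap R R') ∧ Module.Finite R R' ∧
        ∃ n : ℕ, ∀ r ∈ maximalIdeal R ^ n, ∀ y : R', r • y ∈ (algebraMap R R').range) ∧
      ∃ t a' b' : R', t ∈ nonZeroDivisors R' ∧ a' ∈ nonZeroDivisors R' ∧
        b' ∈ nonZeroDivisors R' ∧ algebraMap R R' a = t * a' ∧ algebraMap R R' b = t * b' ∧
        Ideal.span {a', b'} = ⊤ := by
  classical
  have hdim : Ring.KrullDimLE 1 R := Ring.krullDimLE_iff.mpr (by rw [hR, Nat.cast_one])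
  set Q := Localization.Away a with hQ
  set ι := algebraMap R Q with hι
  have hua : IsUnit (ι a) := IsLocalization.Away.algebraMap_isUnit a
  have hιinj : Function.Injective ι :=
    IsLocalization.injective Q (Submonoid.powers_le.mpr ha)
  obtain ⟨d, i, e, hid, hrel⟩ := exists_relation R hR a b ha
  obtain ⟨ua, hua'⟩ := id hua
  set x : Q := ι b * ↑ua⁻¹ with hx
  have hax : ι a * x = ι b := by
    rw [hx, ← hua', mul_left_comm, Units.mul_inv, mul_one]
  have hmon : ∀ k ≤ d, ι a ^ d * x ^ k = ι (a ^ (d - k) * b ^ k) := by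
    intro k hk
    have h1 : ι a ^ d = ι a ^ (d - k) * ι a ^ k := by
      rw [← pow_add]
      congr 1
      omega
    rw [h1, mul_assoc, ← mul_pow, hax, map_mul, map_pow, map_pow]
  set p : R[X] := X ^ i - ∑ k ∈ (Finset.range (d + 1)).erase i, C (e k) * X ^ k with hpdef
  have hp : aeval x p = 0 := by
    have h1 : ι a ^ d * aeval x p = 0 := by
      simp only [p, map_sub, map_pow, aeval_X, map_sum, map_mul, aeval_C]
      rw [mul_sub, Finset.mul_sum, hmon i hid, hrel, map_sum, sub_eq_zero]
      refine Finset.sum_congr rfl fun k hk => ?_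
      have hk' : k ≤ d := by
        have := Finset.mem_range.mp (Finset.mem_of_mem_erase hk)
        omega
      rw [map_mul, ← hmon k hk']
      ring
    exact (hua.pow d).mul_right_eq_zero.mp h1
  have hpi : p.coeff i = 1 := by
    rw [hpdef, coeff_sub, coeff_X_pow_self, finsetSum_coeff, Finset.sum_eq_zero, sub_zero]
    intro k hk
    rw [coeff_C_mul_X_pow, if_neg (Ne.symm (Finset.ne_of_mem_erase hk))]
  obtain ⟨B, hBfg, s, β₁, β₂, γ₁, γ₂, h1, h2, h3⟩ :=
    exists_subalgebra_principal (Submonoid.powers a) x p hp i hpi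
  have hsu : IsUnit s := IsUnit.of_mul_eq_one (β₁ : Q) (by rw [mul_comm]; exact h1)
  set t : B := algebraMap R B a * γ₁ + algebraMap R B b * γ₂ with ht
  have htQ : (t : Q) = ι a * s := by
    show ι a * (γ₁ : Q) + ι b * (γ₂ : Q) = ι a * s
    rw [← h3, ← hax]
    ring
  have hta : algebraMap R B a = t * β₁ := by
    apply Subtype.ext
    show ι a = (t : Q) * (β₁ : Q)
    rw [htQ, mul_assoc, mul_comm s, h1, mul_one]
  have htb : algebraMap R B b = t * β₂ := by
    apply Subtype.ext
    show ι b = (t : Q) * (β₂ : Q)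
    rw [htQ, mul_assoc, mul_comm s, h2, hax]
  have hvalinj : Function.Injective (algebraMap B Q) := Subtype.val_injective
  have haB : algebraMap R B a ∈ nonZeroDivisors B :=
    mem_nonZeroDivisors_of_injective hvalinj (x := algebraMap R B a)
      (show ι a ∈ nonZeroDivisors Q from hua.mem_nonZeroDivisors)
  have hbB : algebraMap R B b ∈ nonZeroDivisors B :=
    mem_nonZeroDivisors_of_injective hvalinj (x := algebraMap R B b)
      (show ι b ∈ nonZeroDivisors Q from
        IsLocalization.nonZeroDivisors_le_comap (Submonoid.powers a) Q hb)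
  rw [hta] at haB
  rw [htb] at hbB
  obtain ⟨htn, hβ₁n⟩ := mul_mem_nonZeroDivisors.mp haB
  obtain ⟨-, hβ₂n⟩ := mul_mem_nonZeroDivisors.mp hbB
  refine ⟨B, inferInstance, inferInstance, ⟨?_, Module.Finite.of_fg hBfg, ?_⟩,
    t, β₁, β₂, htn, hβ₁n, hβ₂n, hta, htb, ?_⟩
  · intro r r' hrr'
    exact hιinj (congrArg Subtype.val hrr')
  · obtain ⟨sgen, hsgen⟩ := hBfg
    obtain ⟨⟨c, hc⟩, hcs⟩ :=
      IsLocalization.exist_integer_multiples_of_finset (Submonoid.powers a) sgen
    have key : ∀ q ∈ Submodule.span R (sgen : Set Q), ∃ z : R, ι z = ι c * q := by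
      intro q hq
      induction hq using Submodule.span_induction with
      | mem y hy =>
        obtain ⟨z, hz⟩ := hcs y hy
        exact ⟨z, by rw [hz, Algebra.smul_def]⟩
      | zero => exact ⟨0, by simp⟩
      | add y z _ _ hy hz =>
        obtain ⟨y', hy'⟩ := hy
        obtain ⟨z', hz'⟩ := hz
        exact ⟨y' + z', by rw [map_add, hy', hz', mul_add]⟩
      | smul r y _ hy =>
        obtain ⟨y', hy'⟩ := hy
        exact ⟨r * y', by rw [map_mul, hy', Algebra.smul_def]; ring⟩
    have hrad : maximalIdeal R ≤ (Ideal.span {c}).radical := by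
      obtain ⟨N, rfl⟩ := hc
      rw [Ideal.radical_eq_sInf]
      refine le_sInf ?_
      rintro P ⟨hcP, hP⟩
      have haP : a ∈ P := hP.mem_of_pow_mem N (hcP (Ideal.mem_span_singleton_self _))
      rcases (Ring.krullDimLE_one_iff.mp hdim) P hP with hmin | hmax
      · exact absurd ha (notMem_nonZeroDivisors_of_mem_mem_minimalPrimes haP hmin)
      · rw [eq_maximalIdeal hmax]
    obtain ⟨n, hn⟩ := Ideal.exists_pow_le_of_le_radical_of_fg hrad (IsNoetherian.noetherian _)
    refine ⟨n, fun r hr y => ?_⟩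
    obtain ⟨r', hr'⟩ := Ideal.mem_span_singleton'.mp (hn hr)
    obtain ⟨z, hz⟩ := key (y : Q) (by rw [hsgen]; exact y.2)
    refine ⟨r' * z, Subtype.ext ?_⟩
    show ι (r' * z) = r • (y : Q)
    rw [map_mul, hz, ← hr', Algebra.smul_def, map_mul]
    ring
  · rw [Ideal.eq_top_iff_one]
    refine Ideal.mem_span_pair.mpr ⟨γ₁, γ₂, Subtype.ext ?_⟩
    show (γ₁ : Q) * (β₁ : Q) + (γ₂ : Q) * (β₂ : Q) = 1
    apply hsu.mul_left_injective
    show ((γ₁ : Q) * (β₁ : Q) + (γ₂ : Q) * (β₂ : Q)) * s = 1 * s
    calc ((γ₁ : Q) * (β₁ : Q) + (γ₂ : Q) * (β₂ : Q)) * s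
        = (γ₁ : Q) * ((β₁ : Q) * s) + (γ₂ : Q) * ((β₂ : Q) * s) := by ring
      _ = 1 * s := by rw [h1, h2, mul_one, h3, one_mul]

end Groth.Agent.H15.ComFac
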