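import Mathlib
import Groth.Prelude.Def_Curv2
import Groth.Agent.H99.DimOne
import Groth.Agent.H47.HensNoeth2

/-!
# Invariance of the δ-invariant under flat local maps with `𝔪_A B = 𝔪_B` (helper15)

`A` a reduced Noetherian local ring of dimension one, `A → B` a flat local homomorphism of
Noetherian local rings with `𝔪_A B = 𝔪_B`.

* `isFractionRing_tensor`: `B ⊗[A] Frac A` is the total ring of fractions of `B`.
* `deltaInv_eq_of_surjective`: if integral closure commutes with the base change `A → B`
  (surjectivity of `TensorProduct.toIntegralClosure A B (Frac A)`), then `δ(B) = δ(A)`.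
-/

set_option autoImplicit false
set_option linter.style.haveILetI false
set_option linter.unusedVariables false
set_option linter.unusedSectionVars false

universe u

open IsLocalRing TensorProduct

namespace Groth.Agent.H15.DeltaFlat

theorem isSMulRegular_of_mem {R : Type*} [CommRing R] {a : R} (ha : a ∈ nonZeroDivisors R) :
    IsSMulRegular R a := by
  intro x y h
  have h0 : a * x = a * y := h
  have h1 : (x - y) * a = 0 := by
    rw [sub_mul, mul_comm x a, mul_comm y a, h0, sub_self]
  exact sub_eq_zero.mp ((mem_nonZeroDivisors_iff_right.mp ha) _ h1)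

theorem mem_of_isSMulRegular {R : Type*} [CommRing R] {a : R} (ha : IsSMulRegular R a) :
    a ∈ nonZeroDivisors R := by
  rw [mem_nonZeroDivisors_iff_right]
  intro x hx
  apply ha
  show a * x = a * 0
  rw [mul_zero, mul_comm, hx]

section General

variable (A B : Type u) [CommRing A] [CommRing B] [Algebra A B] [IsLocalRing A] [IsLocalRing B]
  [IsLocalHom (algebraMap A B)] [Module.Flat A B] [IsNoetherianRing A] [IsNoetherianRing B]
  [IsReduced A]

omit [IsLocalRing A] [IsLocalRing B] [IsLocalHom (algebraMap A B)] [IsNoetherianRing A]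
  [IsNoetherianRing B] [IsReduced A] in
/-- nonzerodivisors of `A` stay nonzerodivisors in the flat algebra `B`. -/
theorem algebraMapSubmonoid_le :
    Algebra.algebraMapSubmonoid B (nonZeroDivisors A) ≤ nonZeroDivisors B := by
  rintro _ ⟨a, ha, rfl⟩
  exact mem_of_isSMulRegular ((isSMulRegular_of_mem ha).of_flat)

variable {A B}

/-- every nonzerodivisor of `B` becomes a unit in `B ⊗[A] Frac A`. -/
theorem isUnit_algebraMap_of_mem_nonZeroDivisors (hdim : ringKrullDim A = 1)
    (hm : (maximalIdeal A).map (algebraMap A B) = maximalIdeal B)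
    {s : B} (hs : s ∈ nonZeroDivisors B) :
    IsUnit (algebraMap B (B ⊗[A] FractionRing A) s) := by
  classical
  obtain ⟨f, hfm, hfmin⟩ := Groth.Agent.H99.DimOne.exists_mem_maximalIdeal_notMem_minimalPrimes hdim
  have hfnzd : f ∈ nonZeroDivisors A :=
    Groth.Agent.H99.DimOne.mem_nonZeroDivisors_of_notMem_minimalPrimes hdim hfmin
      (Or.inr inferInstance)
  haveI hloc : IsLocalization (Algebra.algebraMapSubmonoid B (nonZeroDivisors A))
      (B ⊗[A] FractionRing A) := inferInstance
  by_contra hu
  obtain ⟨P', hP'max, hsP'⟩ := exists_max_ideal_of_mem_nonunits (mem_nonunits_iff.mpr hu)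
  obtain ⟨hPprime, hPdisj⟩ := (IsLocalization.isPrime_iff_isPrime_disjoint
    (Algebra.algebraMapSubmonoid B (nonZeroDivisors A)) _ P').mp hP'max.isPrime
  set P : Ideal B := P'.comap (algebraMap B (B ⊗[A] FractionRing A)) with hP
  have hsP : s ∈ P := hsP'
  have hf'T : algebraMap A B f ∈ Algebra.algebraMapSubmonoid B (nonZeroDivisors A) :=
    ⟨f, hfnzd, rfl⟩
  have hf'P : algebraMap A B f ∉ P := fun h => Set.disjoint_left.mp hPdisj hf'T h
  have hkey : ∀ Q : Ideal B, Q.IsPrime → algebraMap A B f ∈ Q → Q = maximalIdeal B := by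
    intro Q hQ hfQ
    haveI := hQ
    have hq : Q.comap (algebraMap A B) = maximalIdeal A := by
      rcases Groth.Agent.H99.DimOne.eq_maximalIdeal_or_mem_minimalPrimes hdim
        (Q.comap (algebraMap A B)) with h | h
      · exact h
      · exact absurd hfQ (hfmin _ h)
    apply le_antisymm (le_maximalIdeal hQ.ne_top)
    rw [← hm, Ideal.map_le_iff_le_comap, hq]
  have hfmB : algebraMap A B f ∈ maximalIdeal B := by
    rw [← hm]; exact Ideal.mem_map_of_mem _ hfm
  have hmin : maximalIdeal B ∈ (Ideal.span {algebraMap A B f}).minimalPrimes := by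
    refine ⟨⟨inferInstance, ?_⟩, ?_⟩
    · rw [Ideal.span_le, Set.singleton_subset_iff]
      exact hfmB
    · rintro Q ⟨hQ, hQle⟩ hQm
      rw [hkey Q hQ (hQle (Ideal.mem_span_singleton_self _))]
  have hht : (maximalIdeal B).height ≤ 1 :=
    Ideal.height_le_one_of_isPrincipal_of_mem_minimalPrimes _ _ hmin
  have hPlt : P < maximalIdeal B := by
    refine lt_of_le_of_ne (le_maximalIdeal hPprime.ne_top) (fun h => hf'P ?_)
    rw [h]; exact hfmB
  haveI := hPprime
  have hP0 : P.height = 0 := by
    have h1 : P.height < (maximalIdeal B).height :=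
      Ideal.height_strict_mono_of_isPrime_of_isPrime hPlt
    exact Order.lt_one_iff.mp (lt_of_lt_of_le h1 hht)
  have hPmin : P ∈ minimalPrimes B := Ideal.height_eq_zero_iff.mp hP0
  exact Set.disjoint_left.mp (Ideal.disjoint_nonZeroDivisors_of_mem_minimalPrimes hPmin) hsP hs

/-- `B ⊗[A] Frac A` is the total ring of fractions of `B`. -/
theorem isFractionRing_tensor (hdim : ringKrullDim A = 1)
    (hm : (maximalIdeal A).map (algebraMap A B) = maximalIdeal B) :
    IsFractionRing B (B ⊗[A] FractionRing A) := by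
  haveI hloc : IsLocalization (Algebra.algebraMapSubmonoid B (nonZeroDivisors A))
      (B ⊗[A] FractionRing A) := inferInstance
  exact IsLocalization.of_le (Algebra.algebraMapSubmonoid B (nonZeroDivisors A))
    (nonZeroDivisors B) (algebraMapSubmonoid_le A B)
    (fun s hs => isUnit_algebraMap_of_mem_nonZeroDivisors hdim hm hs)

/-- the cokernel of `B → B ⊗[A] A'` is the base change of the cokernel of `A → A'`. -/
theorem length_quot_baseChange (A' : Type u) [CommRing A'] [Algebra A A']
    (hm : (maximalIdeal A).map (algebraMap A B) = maximalIdeal B) :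
    Module.length B ((B ⊗[A] A') ⧸ LinearMap.range (Algebra.linearMap B (B ⊗[A] A'))) =
      Module.length A (A' ⧸ LinearMap.range (Algebra.linearMap A A')) := by
  set N₀ : Submodule A A' := LinearMap.range (Algebra.linearMap A A') with hN₀
  let g : A' →ₗ[A] A' ⧸ N₀ := N₀.mkQ
  let gB : B ⊗[A] A' →ₗ[B] B ⊗[A] (A' ⧸ N₀) := g.baseChange B
  have hgB : ∀ z, gB z = g.lTensor B z := fun z => by
    show g.baseChange B z = _
    rw [LinearMap.baseChange_eq_ltensor]
  have hsurj : Function.Surjective gB := by
    intro w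
    obtain ⟨z, hz⟩ := LinearMap.lTensor_surjective B (Submodule.mkQ_surjective N₀) w
    exact ⟨z, by rw [hgB]; exact hz⟩
  have hex : Function.Exact (Algebra.linearMap A A') g := by
    intro x
    show N₀.mkQ x = 0 ↔ _
    rw [Submodule.mkQ_apply, Submodule.Quotient.mk_eq_zero]
    rfl
  have hexB := lTensor_exact B hex (Submodule.mkQ_surjective N₀)
  have hker : LinearMap.range (Algebra.linearMap B (B ⊗[A] A')) = LinearMap.ker gB := by
    ext z
    rw [LinearMap.mem_ker, hgB]
    constructor
    · rintro ⟨b, rfl⟩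
      rw [Algebra.linearMap_apply, Algebra.TensorProduct.algebraMap_apply,
        Algebra.algebraMap_self, RingHom.id_apply, LinearMap.lTensor_tmul]
      have h1 : g (1 : A') = 0 := by
        show N₀.mkQ 1 = 0
        rw [Submodule.mkQ_apply, Submodule.Quotient.mk_eq_zero]
        exact ⟨1, by rw [Algebra.linearMap_apply, map_one]⟩
      rw [h1, TensorProduct.tmul_zero]
    · intro hz
      obtain ⟨w, rfl⟩ := (hexB z).mp hz
      refine ⟨TensorProduct.rid A B w, ?_⟩
      have hw : w = (TensorProduct.rid A B w) ⊗ₜ[A] (1 : A) := by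
        conv_lhs => rw [← (TensorProduct.rid A B).symm_apply_apply w]
        rw [TensorProduct.rid_symm_apply]
      conv_rhs => rw [hw]
      rw [Algebra.linearMap_apply, Algebra.TensorProduct.algebraMap_apply,
        Algebra.algebraMap_self, RingHom.id_apply, LinearMap.lTensor_tmul,
        Algebra.linearMap_apply, map_one]
  have e : ((B ⊗[A] A') ⧸ LinearMap.range (Algebra.linearMap B (B ⊗[A] A'))) ≃ₗ[B]
      B ⊗[A] (A' ⧸ N₀) :=
    (Submodule.quotEquivOfEq _ _ hker).trans (LinearMap.quotKerEquivOfSurjective gB hsurj)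
  have hone : Module.length B (B ⧸ (maximalIdeal A).map (algebraMap A B)) = 1 := by
    rw [hm, Module.length_eq_one_iff]
    exact isSimpleModule_iff_quot_maximal.2 ⟨maximalIdeal B, inferInstance, ⟨LinearEquiv.refl B _⟩⟩
  rw [e.length_eq, IsLocalRing.length_baseChange A B, hone, mul_one]

/-- **Invariance of `δ`.**  If integral closure commutes with the base change `A → B`, then
`δ(B) = δ(A)`. -/
theorem deltaInv_eq_of_surjective (hdim : ringKrullDim A = 1)
    (hm : (maximalIdeal A).map (algebraMap A B) = maximalIdeal B)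
    (hIC : Function.Surjective (TensorProduct.toIntegralClosure A B (FractionRing A))) :
    Curv2.deltaInv B = Curv2.deltaInv A := by
  haveI := isFractionRing_tensor hdim hm
  let e₁ : B ⊗[A] integralClosure A (FractionRing A) ≃ₐ[B]
      integralClosure B (B ⊗[A] FractionRing A) :=
    AlgEquiv.ofBijective (TensorProduct.toIntegralClosure A B (FractionRing A))
      ⟨TensorProduct.toIntegralClosure_injective_of_flat, hIC⟩
  let e₂ : B ⊗[A] FractionRing A ≃ₐ[B] FractionRing B :=
    IsLocalization.algEquiv (nonZeroDivisors B) _ _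
  let e₃ : integralClosure B (B ⊗[A] FractionRing A) ≃ₐ[B] integralClosure B (FractionRing B) :=
    AlgEquiv.mapIntegralClosure e₂
  let e : B ⊗[A] integralClosure A (FractionRing A) ≃ₐ[B] integralClosure B (FractionRing B) :=
    e₁.trans e₃
  have hmap : (LinearMap.range (Algebra.linearMap B
      (B ⊗[A] integralClosure A (FractionRing A)))).map e.toLinearEquiv.toLinearMap =
      LinearMap.range (Algebra.linearMap B ↥(integralClosure B (FractionRing B))) := by
    ext x
    constructor
    · rintro ⟨_, ⟨b, rfl⟩, rfl⟩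
      refine ⟨b, ?_⟩
      show _ = e (algebraMap B _ b)
      rw [e.commutes]
      rfl
    · rintro ⟨b, rfl⟩
      refine ⟨algebraMap B _ b, ⟨b, rfl⟩, ?_⟩
      show e (algebraMap B _ b) = _
      rw [e.commutes]
      rfl
  unfold Curv2.deltaInv
  rw [← (Submodule.Quotient.equiv _ _ e.toLinearEquiv hmap).length_eq]
  exact length_quot_baseChange _ hm

end General

section Stages

variable {A B : Type u} [CommRing A] [CommRing B] [Algebra A B]

/-- Integral closure commutes with the base change to `B` as soon as it does so for enough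
"stages" `B₁ ↪ B`. -/
theorem surjective_toIntegralClosure_of_stages (K : Type u) [CommRing K] [Algebra A K]
    [Module.Flat A K]
    (hstage : ∀ Y : Finset B, ∃ (B₁ : Type u) (_ : CommRing B₁) (_ : Algebra A B₁)
      (g : B₁ →ₐ[A] B), Function.Injective g ∧ (∀ y ∈ Y, ∃ y₁, g y₁ = y) ∧
      Function.Surjective (TensorProduct.toIntegralClosure A B₁ K)) :
    Function.Surjective (TensorProduct.toIntegralClosure A B K) := by
  classical
  rintro ⟨z, hz⟩
  obtain ⟨p, hpm, hp⟩ := hz
  obtain ⟨s, hs⟩ := TensorProduct.exists_finset z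
  obtain ⟨B₁, _, _, g, hginj, hgY, hsurj⟩ := hstage (s.image Prod.fst ∪ p.coeffs)
  have hlifts : p ∈ Polynomial.lifts g.toRingHom := by
    rw [Polynomial.lifts_iff_coeff_lifts]
    intro n
    by_cases h0 : p.coeff n = 0
    · exact ⟨0, by rw [h0]; exact map_zero _⟩
    · obtain ⟨y₁, hy₁⟩ := hgY _ (Finset.mem_union_right _ (Polynomial.coeff_mem_coeffs h0))
      exact ⟨y₁, hy₁⟩
  obtain ⟨p₁, hp₁map, -, hp₁m⟩ := Polynomial.lifts_and_natDegree_eq_and_monic hlifts hpm
  have hpre : ∀ i ∈ s, ∃ y₁, g y₁ = i.1 := fun i hi =>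
    hgY _ (Finset.mem_union_left _ (Finset.mem_image_of_mem _ hi))
  let pre : B × K → B₁ := fun i => if h : ∃ y₁, g y₁ = i.1 then h.choose else 0
  have hpre' : ∀ i ∈ s, g (pre i) = i.1 := fun i hi => by
    simp only [pre]
    rw [dif_pos (hpre i hi)]
    exact (hpre i hi).choose_spec
  let z₁ : B₁ ⊗[A] K := ∑ i ∈ s, pre i ⊗ₜ[A] i.2
  let j : B₁ ⊗[A] K →ₐ[A] B ⊗[A] K := Algebra.TensorProduct.map g (AlgHom.id A K)
  have hjinj : Function.Injective j := by
    have h1 : ∀ x, j x = g.toLinearMap.rTensor K x := by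
      intro x
      induction x using TensorProduct.induction_on with
      | zero => rw [map_zero, map_zero]
      | tmul b k => rfl
      | add x y hx hy => rw [map_add, map_add, hx, hy]
    have h2 := Module.Flat.rTensor_preserves_injective_linearMap (M := K) g.toLinearMap hginj
    intro x y hxy
    apply h2
    rw [← h1, ← h1, hxy]
  have hjz : j z₁ = z := by
    rw [hs]
    simp only [z₁, map_sum]
    refine Finset.sum_congr rfl (fun i hi => ?_)
    show (g (pre i)) ⊗ₜ[A] i.2 = _
    rw [hpre' i hi]
  have hcomp : ((j : B₁ ⊗[A] K →+* B ⊗[A] K)).comp (algebraMap B₁ (B₁ ⊗[A] K)) =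
      (algebraMap B (B ⊗[A] K)).comp g.toRingHom := by
    ext b
    rfl
  have hev : Polynomial.eval₂ (algebraMap B₁ (B₁ ⊗[A] K)) z₁ p₁ = 0 := by
    apply hjinj
    rw [map_zero]
    have h1 := Polynomial.hom_eval₂ p₁ (algebraMap B₁ (B₁ ⊗[A] K))
      (j : B₁ ⊗[A] K →+* B ⊗[A] K) z₁
    have h2 : (j : B₁ ⊗[A] K →+* B ⊗[A] K) z₁ = z := hjz
    rw [h2, hcomp, ← Polynomial.eval₂_map, hp₁map, hp] at h1
    exact h1
  have hz₁ : IsIntegral B₁ z₁ := ⟨p₁, hp₁m, hev⟩
  obtain ⟨w₁, hw₁⟩ := hsurj ⟨z₁, hz₁⟩
  have hw₁' : Algebra.TensorProduct.map (AlgHom.id B₁ B₁) (integralClosure A K).val w₁ = z₁ :=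
    congrArg Subtype.val hw₁
  have hsq : ∀ w : B₁ ⊗[A] integralClosure A K,
      Algebra.TensorProduct.map (AlgHom.id B B) (integralClosure A K).val
        (Algebra.TensorProduct.map g (AlgHom.id A (integralClosure A K)) w) =
      j (Algebra.TensorProduct.map (AlgHom.id B₁ B₁) (integralClosure A K).val w) := by
    intro w
    induction w using TensorProduct.induction_on with
    | zero => simp only [map_zero]
    | tmul b a => rfl
    | add x y hx hy => simp only [map_add, hx, hy]
  refine ⟨Algebra.TensorProduct.map g (AlgHom.id A (integralClosure A K)) w₁, Subtype.ext ?_⟩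
  show Algebra.TensorProduct.map (AlgHom.id B B) (integralClosure A K).val
    (Algebra.TensorProduct.map g (AlgHom.id A (integralClosure A K)) w₁) = z
  rw [hsq, hw₁', hjz]

end Stages

section IndEtale

open Groth.Agent.H47.HensNoeth

variable {A B : Type u} [CommRing A] [CommRing B] [Algebra A B] [IsLocalRing A] [IsLocalRing B]
  [IsLocalHom (algebraMap A B)]

/-- Stages for an ind-étale local algebra: localizations of étale algebras, over which `B` is
faithfully flat. -/
theorem exists_stage_of_isIndEtaleLocal (h : IsIndEtaleLocal A B) (K : Type u) [CommRing K]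
    [Algebra A K] (Y : Finset B) :
    ∃ (B₁ : Type u) (_ : CommRing B₁) (_ : Algebra A B₁) (g : B₁ →ₐ[A] B),
      Function.Injective g ∧ (∀ y ∈ Y, ∃ y₁, g y₁ = y) ∧
      Function.Surjective (TensorProduct.toIntegralClosure A B₁ K) := by
  classical
  haveI := h.flat
  obtain ⟨E, _, _, _, φ, hφ⟩ := h.rep Y
  let q : Ideal E := (maximalIdeal B).comap φ.toRingHom
  haveI hq : q.IsPrime := Ideal.comap_isPrime φ.toRingHom (maximalIdeal B)
  have hqmem : ∀ a : E, a ∈ q ↔ ¬ IsUnit (φ a) := fun a => by
    show φ a ∈ maximalIdeal B ↔ _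
    rw [mem_maximalIdeal, mem_nonunits_iff]
  have hunit : ∀ y : q.primeCompl, IsUnit (φ.toRingHom y) := fun y => by
    by_contra h
    exact y.2 ((hqmem (y : E)).mpr h)
  let B₁ := Localization.AtPrime q
  let g₀ : B₁ →+* B := IsLocalization.lift (M := q.primeCompl) (S := B₁) (g := φ.toRingHom) hunit
  have hg₀ : ∀ a : E, g₀ (algebraMap E B₁ a) = φ a := fun a => IsLocalization.lift_eq hunit a
  have hcomm : ∀ r : A, g₀ (algebraMap A B₁ r) = algebraMap A B r := fun r => by
    rw [IsScalarTower.algebraMap_apply A E B₁, hg₀, φ.commutes]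
  let g : B₁ →ₐ[A] B := { g₀ with commutes' := hcomm }
  letI : Algebra B₁ B := g₀.toAlgebra
  haveI : IsScalarTower A B₁ B := IsScalarTower.of_algebraMap_eq fun r => (hcomm r).symm
  haveI : Algebra.FormallyUnramified E B₁ :=
    Algebra.FormallyUnramified.of_isLocalization q.primeCompl
  haveI : Algebra.FormallyUnramified A B₁ := Algebra.FormallyUnramified.comp A E B₁
  haveI : Algebra.EssFiniteType E B₁ := Algebra.EssFiniteType.of_isLocalization B₁ q.primeCompl
  haveI : Algebra.EssFiniteType A B₁ := Algebra.EssFiniteType.comp A E B₁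
  haveI : Module.Flat B₁ B := Algebra.FormallyUnramified.flat_of_restrictScalars A B₁ B
  haveI hloc : IsLocalHom (algebraMap B₁ B) := ⟨fun x hx => by
    obtain ⟨⟨a, s⟩, hxs⟩ := IsLocalization.surj q.primeCompl x
    have hx' : IsUnit (g₀ x) := hx
    have h1 : g₀ x * φ s = φ a := by
      rw [← hg₀, ← hg₀, ← map_mul]
      exact congrArg g₀ hxs
    have h2 : IsUnit (φ a) := by
      rw [← h1]
      exact hx'.mul (hunit s)
    have h3 : a ∉ q := fun h => (hqmem a).mp h h2
    have h4 : IsUnit (algebraMap E B₁ a) := IsLocalization.map_units B₁ (⟨a, h3⟩ : q.primeCompl)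
    rw [← hxs] at h4
    exact isUnit_of_mul_isUnit_left h4⟩
  haveI : Module.FaithfullyFlat B₁ B := Module.FaithfullyFlat.of_flat_of_isLocalHom
  refine ⟨B₁, inferInstance, inferInstance, g, ?_, ?_, ?_⟩
  · exact FaithfulSMul.algebraMap_injective B₁ B
  · intro y hy
    obtain ⟨a, ha⟩ := hφ y hy
    refine ⟨algebraMap E B₁ a, ?_⟩
    show g₀ _ = y
    rw [hg₀, ha]
  · exact (TensorProduct.toIntegralClosure_bijective_of_tower (S := E)
      TensorProduct.toIntegralClosure_bijective_of_smooth
      (TensorProduct.toIntegralClosure_bijective_of_isLocalization q.primeCompl)).2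

/-- For an ind-étale local `A`-algebra `B`, integral closure commutes with the base change. -/
theorem surjective_toIntegralClosure_of_isIndEtaleLocal (h : IsIndEtaleLocal A B) (K : Type u)
    [CommRing K] [Algebra A K] [Module.Flat A K] :
    Function.Surjective (TensorProduct.toIntegralClosure A B K) :=
  surjective_toIntegralClosure_of_stages K (exists_stage_of_isIndEtaleLocal h K)

end IndEtale

end Groth.Agent.H15.DeltaFlat
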