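import Mathlib
import Groth.Agent.H15.DeltaFlat
import Groth.Agent.H15.SerreNormal
import Groth.Agent.H15.BranchCpl
import Groth.Agent.H47.NormalColimit
import Groth.Agent.H99.DimOneNorm

/-!
# The δ-invariant and completion (helper15)

For a flat local homomorphism `A → B` of Noetherian local rings with `𝔪_A B = 𝔪_B` and trivial
residue field extension, and a finite `A`-algebra `A'` whose local rings are normal of dimension
`≤ 1`: the local rings of `B ⊗[A] A'` at its maximal ideals are discrete valuation rings, hence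
`B ⊗[A] A'` is integrally closed in `B ⊗[A] Frac`.  Application: `δ(Â) = δ(A)`.
-/

set_option autoImplicit false
set_option linter.style.haveILetI false
set_option linter.unusedVariables false
set_option linter.unusedSectionVars false

universe u

open IsLocalRing TensorProduct Polynomial

namespace Groth.Agent.H15.DeltaCpl

open Groth.Agent.H15.DeltaFlat

section Principal

variable {D : Type*} [CommRing D] [IsLocalRing D] [IsNoetherianRing D]

/-- A Noetherian local ring whose maximal ideal is generated by a nonzerodivisor is a domain. -/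
theorem isDomain_of_principal_of_isSMulRegular {π : D} (hπ : maximalIdeal D = Ideal.span {π})
    (hreg : IsSMulRegular D π) : IsDomain D := by
  have hnzd : NoZeroDivisors D := by
    constructor
    intro x y hxy
    by_contra hcon
    push Not at hcon
    obtain ⟨hx, hy⟩ := hcon
    obtain ⟨j, u, hu, hxe⟩ := Groth.Agent.H15.SerreNormal.exists_unit_mul_pow hπ hx
    obtain ⟨k, v, hv, hye⟩ := Groth.Agent.H15.SerreNormal.exists_unit_mul_pow hπ hy
    have h1 : (u * v) * π ^ (j + k) = 0 := by
      rw [← hxy, hxe, hye, pow_add]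
      ring
    have h2 : π ^ (j + k) = 0 := ((hu.mul hv).mul_right_eq_zero).mp h1
    have h3 : IsSMulRegular D (π ^ (j + k)) := hreg.pow _
    have h4 : (1 : D) = 0 := h3 (by
      show π ^ (j + k) * 1 = π ^ (j + k) * 0
      rw [h2, zero_mul, zero_mul])
    exact one_ne_zero h4
  exact NoZeroDivisors.to_isDomain D

end Principal

section Closed

/-- A ring whose local rings at maximal ideals are integrally closed domains is integrally closed
in its total ring of fractions (formulated with `scaleRoots`). -/
theorem mem_span_of_scaleRoots_eval {C : Type*} [CommRing C]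
    (hC : ∀ (Q : Ideal C) [Q.IsMaximal], IsDomain (Localization.AtPrime Q) ∧
      IsIntegrallyClosed (Localization.AtPrime Q))
    {s b : C} (hs : IsSMulRegular C s) {p : C[X]} (hp : p.Monic)
    (h : (p.scaleRoots s).eval b = 0) : b ∈ Ideal.span {s} := by
  apply Ideal.mem_of_localization_maximal
  intro Q hQ
  haveI := hQ
  obtain ⟨hdom, hic⟩ := hC Q
  have hsreg : IsSMulRegular (Localization.AtPrime Q) (algebraMap C (Localization.AtPrime Q) s) :=
    hs.of_flat
  have hs0 : algebraMap C (Localization.AtPrime Q) s ≠ 0 := by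
    intro h0
    have : (1 : Localization.AtPrime Q) = 0 := hsreg (by
      show algebraMap C (Localization.AtPrime Q) s * 1 = algebraMap C (Localization.AtPrime Q) s * 0
      rw [h0, zero_mul, zero_mul])
    exact one_ne_zero this
  have h1 := Groth.Agent.H47.EtaleNormal.map_eval_scaleRoots
    (algebraMap C (Localization.AtPrime Q)) b s p hp
  rw [h, map_zero] at h1
  obtain ⟨c, hc⟩ := Groth.Agent.H15.SerreNormal.dvd_of_scaleRoots_eval hs0 (hp.map _) h1.symm
  rw [Ideal.map_span, Set.image_singleton, Ideal.mem_span_singleton']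
  exact ⟨c, by rw [hc, mul_comm]⟩

end Closed

section Tensor

variable {A B : Type u} [CommRing A] [CommRing B] [Algebra A B] [IsLocalRing A] [IsLocalRing B]
  [IsLocalHom (algebraMap A B)] (A' : Type u) [CommRing A'] [Algebra A A'] [Module.Finite A A']

/-- the inclusion of `A'` into `B ⊗[A] A'`. -/
noncomputable abbrev ι : A' →+* B ⊗[A] A' :=
  (Algebra.TensorProduct.includeRight : A' →ₐ[A] B ⊗[A] A').toRingHom

omit [IsLocalRing A] [IsLocalHom (algebraMap A B)] in
theorem comap_algebraMap_eq (Q : Ideal (B ⊗[A] A')) [Q.IsMaximal] :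
    Q.comap (algebraMap B (B ⊗[A] A')) = maximalIdeal B := by
  haveI : Algebra.IsIntegral B (B ⊗[A] A') := Algebra.IsIntegral.of_finite B _
  exact IsLocalRing.eq_maximalIdeal (Ideal.isMaximal_comap_of_isIntegral_of_isMaximal Q)

/-- With trivial residue field extension, the maximal ideals of `B ⊗[A] A'` are extended from
`A'`. -/
theorem maximal_eq_map (hm : (maximalIdeal A).map (algebraMap A B) = maximalIdeal B)
    (hres : ∀ y : B, ∃ r : A, y - algebraMap A B r ∈ maximalIdeal B)
    (Q : Ideal (B ⊗[A] A')) [Q.IsMaximal] :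
    Q = (Q.comap (ι (B := B) A')).map (ι (B := B) A') := by
  set N : Ideal A' := Q.comap (ι (B := B) A') with hN
  set J : Ideal (B ⊗[A] A') := N.map (ι (B := B) A') with hJ
  have hJQ : J ≤ Q := Ideal.map_comap_le
  have hQB := comap_algebraMap_eq A' Q
  have hmB : ∀ x ∈ maximalIdeal A, algebraMap A B x ∈ maximalIdeal B := fun x hx => by
    rw [← hm]; exact Ideal.mem_map_of_mem _ hx
  have hmN : ∀ x ∈ maximalIdeal A, ∀ a' : A', x • a' ∈ N := by
    intro x hx a'
    rw [hN, Ideal.mem_comap]
    show (1 : B) ⊗ₜ[A] (x • a') ∈ Q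
    have h1 : (1 : B) ⊗ₜ[A] (x • a') =
        algebraMap B (B ⊗[A] A') (algebraMap A B x) * ((1 : B) ⊗ₜ[A] a') := by
      rw [Algebra.TensorProduct.algebraMap_apply, Algebra.algebraMap_self, RingHom.id_apply,
        Algebra.TensorProduct.tmul_mul_tmul, mul_one, one_mul, Algebra.algebraMap_eq_smul_one,
        TensorProduct.smul_tmul]
    rw [h1]
    apply Ideal.mul_mem_right
    have h2 := hmB x hx
    rw [← hQB] at h2
    exact h2
  have hkey : ∀ (a' : A') (e : B), e ∈ maximalIdeal B → e ⊗ₜ[A] a' ∈ J := by
    intro a' e he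
    rw [← hm, Ideal.map] at he
    refine Submodule.span_induction (p := fun e _ => e ⊗ₜ[A] a' ∈ J) ?_ ?_ ?_ ?_ he
    · rintro _ ⟨x, hx, rfl⟩
      have h1 : (algebraMap A B x) ⊗ₜ[A] a' = (ι (B := B) A') (x • a') := by
        show _ = (1 : B) ⊗ₜ[A] (x • a')
        rw [Algebra.algebraMap_eq_smul_one, TensorProduct.smul_tmul]
      rw [h1]
      exact Ideal.mem_map_of_mem _ (hmN x hx a')
    · rw [TensorProduct.zero_tmul]
      exact J.zero_mem
    · intro x y _ _ hx hy
      rw [TensorProduct.add_tmul]
      exact J.add_mem hx hy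
    · intro c x _ hx
      have h1 : (c • x) ⊗ₜ[A] a' = (c ⊗ₜ[A] (1 : A')) * (x ⊗ₜ[A] a') := by
        rw [Algebra.TensorProduct.tmul_mul_tmul, one_mul, smul_eq_mul]
      rw [h1]
      exact J.mul_mem_left _ hx
  have hrep : ∀ t : B ⊗[A] A', ∃ a'' : A', t - (1 : B) ⊗ₜ[A] a'' ∈ J := by
    intro t
    induction t using TensorProduct.induction_on with
    | zero => exact ⟨0, by rw [TensorProduct.tmul_zero, sub_zero]; exact J.zero_mem⟩
    | tmul b a' =>
      obtain ⟨r, hr⟩ := hres b
      refine ⟨r • a', ?_⟩
      have h1 : b ⊗ₜ[A] a' - (1 : B) ⊗ₜ[A] (r • a') = (b - algebraMap A B r) ⊗ₜ[A] a' := by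
        rw [TensorProduct.sub_tmul, Algebra.algebraMap_eq_smul_one, TensorProduct.smul_tmul]
      rw [h1]
      exact hkey a' _ hr
    | add x y hx hy =>
      obtain ⟨a₁, h₁⟩ := hx
      obtain ⟨a₂, h₂⟩ := hy
      refine ⟨a₁ + a₂, ?_⟩
      have h1 : x + y - (1 : B) ⊗ₜ[A] (a₁ + a₂) =
          (x - (1 : B) ⊗ₜ[A] a₁) + (y - (1 : B) ⊗ₜ[A] a₂) := by
        rw [TensorProduct.tmul_add]
        ring
      rw [h1]
      exact J.add_mem h₁ h₂
  refine le_antisymm ?_ hJQ
  intro t ht
  obtain ⟨a'', ha''⟩ := hrep t
  have h1 : (1 : B) ⊗ₜ[A] a'' ∈ Q := by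
    have := Q.sub_mem ht (hJQ ha'')
    rwa [sub_sub_cancel] at this
  have h2 : a'' ∈ N := by
    rw [hN, Ideal.mem_comap]
    exact h1
  have h3 : (1 : B) ⊗ₜ[A] a'' ∈ J := Ideal.mem_map_of_mem (ι (B := B) A') h2
  have := J.add_mem ha'' h3
  rwa [sub_add_cancel] at this

variable [Module.Flat A B] [IsNoetherianRing A] [IsNoetherianRing B]

/-- If `A'` has normal local rings, `f ∈ 𝔪_A` is `A'`-regular and `V(f) = {𝔪_A}`, then the local
ring of `B ⊗[A] A'` at a maximal ideal extended from `A'` is a discrete valuation ring. -/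
theorem normal_at_maximal (hm : (maximalIdeal A).map (algebraMap A B) = maximalIdeal B)
    (hA' : ∀ (P : Ideal A') [P.IsPrime], IsDomain (Localization.AtPrime P) ∧
      IsIntegrallyClosed (Localization.AtPrime P))
    (f : A) (hfm : f ∈ maximalIdeal A) (hfreg : IsSMulRegular A' f)
    (hprimes : ∀ P : Ideal A, P.IsPrime → f ∈ P → P = maximalIdeal A)
    (Q : Ideal (B ⊗[A] A')) [hQmax : Q.IsMaximal]
    (hQ : Q = (Q.comap (ι (B := B) A')).map (ι (B := B) A')) :
    IsDomain (Localization.AtPrime Q) ∧ IsIntegrallyClosed (Localization.AtPrime Q) := by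
  haveI : IsNoetherianRing A' := IsNoetherianRing.of_finite A A'
  haveI : IsNoetherianRing (B ⊗[A] A') := IsNoetherianRing.of_finite B _
  set q : Ideal A' := Q.comap (ι (B := B) A') with hq
  haveI hqp : q.IsPrime := Ideal.comap_isPrime _ _
  have hQB := comap_algebraMap_eq A' Q
  have hfB : algebraMap A B f ∈ maximalIdeal B := by
    rw [← hm]; exact Ideal.mem_map_of_mem _ hfm
  have hfQ : algebraMap A (B ⊗[A] A') f ∈ Q := by
    rw [IsScalarTower.algebraMap_apply A B (B ⊗[A] A')]
    have h2 := hfB
    rw [← hQB] at h2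
    exact h2
  have hf'q : algebraMap A A' f ∈ q := by
    rw [hq, Ideal.mem_comap]
    have h1 : (ι (B := B) A') (algebraMap A A' f) = algebraMap A (B ⊗[A] A') f :=
      (Algebra.TensorProduct.includeRight : A' →ₐ[A] B ⊗[A] A').commutes f
    rw [h1]
    exact hfQ
  haveI : Algebra.IsIntegral A A' := Algebra.IsIntegral.of_finite A A'
  have hqmin : q ∈ (Ideal.span {algebraMap A A' f}).minimalPrimes := by
    refine ⟨⟨hqp, ?_⟩, ?_⟩
    · rw [Ideal.span_le, Set.singleton_subset_iff]
      exact hf'q
    · rintro P ⟨hP, hPle⟩ hPq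
      haveI := hP
      have h1 : P.comap (algebraMap A A') = maximalIdeal A :=
        hprimes _ (Ideal.comap_isPrime _ _) (hPle (Ideal.mem_span_singleton_self _))
      haveI hPmax : P.IsMaximal := Ideal.isMaximal_of_isIntegral_of_isMaximal_comap P (by
        rw [h1]; infer_instance)
      exact (hPmax.eq_of_le hqp.ne_top hPq).ge
  have hqht : q.height ≤ 1 :=
    Ideal.height_le_one_of_isPrincipal_of_mem_minimalPrimes _ _ hqmin
  obtain ⟨hR1, -⟩ := Groth.Agent.H15.SerreNormal.hasRk_hasSk_of_normal hA'
  haveI hreg : IsRegularLocalRing (Localization.AtPrime q) := hR1 q (by exact_mod_cast hqht)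
  have hdimq : ringKrullDim (Localization.AtPrime q) ≤ 1 := by
    rw [IsLocalization.AtPrime.ringKrullDim_eq_height q (Localization.AtPrime q)]
    exact_mod_cast hqht
  obtain ⟨π', hπ'⟩ := Groth.Agent.H15.SerreNormal.exists_maximalIdeal_eq_span_singleton
    (Localization.AtPrime q) hdimq
  obtain ⟨⟨π₀, s₀⟩, hπs⟩ := IsLocalization.surj q.primeCompl π'
  have hπ₀ : maximalIdeal (Localization.AtPrime q) =
      Ideal.span {algebraMap A' (Localization.AtPrime q) π₀} := by
    rw [hπ']
    have hu : IsUnit (algebraMap A' (Localization.AtPrime q) s₀) :=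
      IsLocalization.map_units _ s₀
    have hπs' : π' * algebraMap A' (Localization.AtPrime q) s₀ =
        algebraMap A' (Localization.AtPrime q) π₀ := hπs
    rw [← hπs']
    exact (Ideal.span_singleton_mul_right_unit hu π').symm
  have hπ₀q : π₀ ∈ q := by
    rw [← IsLocalization.AtPrime.to_map_mem_maximal_iff (Localization.AtPrime q) q π₀, hπ₀]
    exact Ideal.mem_span_singleton_self _
  have hkey : ∀ y ∈ q, ∃ t : A', t ∉ q ∧ ∃ c : A', t * y = π₀ * c := by
    intro y hy
    have h1 : algebraMap A' (Localization.AtPrime q) y ∈ maximalIdeal (Localization.AtPrime q) :=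
      (IsLocalization.AtPrime.to_map_mem_maximal_iff (Localization.AtPrime q) q y).mpr hy
    rw [hπ₀, Ideal.mem_span_singleton'] at h1
    obtain ⟨w, hw⟩ := h1
    obtain ⟨⟨c, t⟩, hct⟩ := IsLocalization.surj q.primeCompl w
    have hct' : w * algebraMap A' (Localization.AtPrime q) t =
        algebraMap A' (Localization.AtPrime q) c := hct
    have h2 : algebraMap A' (Localization.AtPrime q) ((t : A') * y) =
        algebraMap A' (Localization.AtPrime q) (π₀ * c) := by
      rw [map_mul, map_mul, ← hw, ← hct']
      ring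
    obtain ⟨u, hu⟩ := (IsLocalization.eq_iff_exists q.primeCompl _).mp h2
    refine ⟨(u : A') * (t : A'), ?_, (u : A') * c, ?_⟩
    · exact (u * t).2
    · calc (u : A') * (t : A') * y = (u : A') * ((t : A') * y) := by ring
        _ = (u : A') * (π₀ * c) := hu
        _ = π₀ * ((u : A') * c) := by ring
  -- the local ring `D` at `Q`
  let ψ : B ⊗[A] A' →+* Localization.AtPrime Q := algebraMap _ _
  set πD : Localization.AtPrime Q := ψ ((ι (B := B) A') π₀) with hπD
  have hmaxD : maximalIdeal (Localization.AtPrime Q) = Ideal.span {πD} := by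
    apply le_antisymm
    · have h1 : q ≤ ((Ideal.span {πD}).comap ψ).comap (ι (B := B) A') := by
        intro y hy
        obtain ⟨t, ht, c, htc⟩ := hkey y hy
        have hunit : IsUnit (ψ ((ι (B := B) A') t)) :=
          IsLocalization.map_units (Localization.AtPrime Q)
            (⟨(ι (B := B) A') t, ht⟩ : Q.primeCompl)
        rw [Ideal.mem_comap, Ideal.mem_comap, Ideal.mem_span_singleton']
        obtain ⟨v, hv⟩ := hunit.exists_left_inv
        refine ⟨v * ψ ((ι (B := B) A') c), ?_⟩
        calc v * ψ ((ι (B := B) A') c) * πD = v * ψ ((ι (B := B) A') (π₀ * c)) := by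
              rw [hπD, map_mul, map_mul]; ring
          _ = v * ψ ((ι (B := B) A') (t * y)) := by rw [htc]
          _ = (v * ψ ((ι (B := B) A') t)) * ψ ((ι (B := B) A') y) := by
              rw [map_mul, map_mul]; ring
          _ = ψ ((ι (B := B) A') y) := by rw [hv, one_mul]
      have h2 : Q ≤ (Ideal.span {πD}).comap ψ :=
        hQ.le.trans (Ideal.map_le_iff_le_comap.mpr h1)
      rw [← Localization.AtPrime.map_eq_maximalIdeal]
      exact Ideal.map_le_iff_le_comap.mpr h2
    · rw [Ideal.span_le, Set.singleton_subset_iff]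
      exact (IsLocalization.AtPrime.to_map_mem_maximal_iff (Localization.AtPrime Q) Q _).mpr hπ₀q
  have hfC : IsSMulRegular (B ⊗[A] A') (algebraMap A (B ⊗[A] A') f) := by
    have hinj : Function.Injective ((f • LinearMap.id : A' →ₗ[A] A')) := fun x y h => hfreg h
    have h2 := Module.Flat.lTensor_preserves_injective_linearMap (M := B)
      (f • LinearMap.id : A' →ₗ[A] A') hinj
    have h3 : ∀ z : B ⊗[A] A', (LinearMap.lTensor B (f • LinearMap.id : A' →ₗ[A] A')) z =
        algebraMap A (B ⊗[A] A') f * z := by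
      intro z
      rw [LinearMap.lTensor_smul, LinearMap.lTensor_id, LinearMap.smul_apply,
        LinearMap.id_apply, Algebra.smul_def]
    intro x y hxy
    apply h2
    rw [h3, h3]
    exact hxy
  have hfD : IsSMulRegular (Localization.AtPrime Q) (ψ (algebraMap A (B ⊗[A] A') f)) :=
    hfC.of_flat
  have hfDm : ψ (algebraMap A (B ⊗[A] A') f) ∈ maximalIdeal (Localization.AtPrime Q) :=
    (IsLocalization.AtPrime.to_map_mem_maximal_iff (Localization.AtPrime Q) Q _).mpr hfQ
  rw [hmaxD, Ideal.mem_span_singleton'] at hfDm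
  obtain ⟨c, hc⟩ := hfDm
  have hπreg : IsSMulRegular (Localization.AtPrime Q) πD := by
    intro x y hxy
    have hxy' : πD * x = πD * y := hxy
    apply hfD
    show ψ (algebraMap A (B ⊗[A] A') f) * x = ψ (algebraMap A (B ⊗[A] A') f) * y
    rw [← hc, mul_assoc, mul_assoc, hxy']
  haveI : IsNoetherianRing (Localization.AtPrime Q) :=
    IsLocalization.isNoetherianRing Q.primeCompl _ inferInstance
  have hdom : IsDomain (Localization.AtPrime Q) :=
    isDomain_of_principal_of_isSMulRegular hmaxD hπreg
  haveI := hdom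
  exact ⟨hdom, Groth.Agent.H15.SerreNormal.isIntegrallyClosed_of_principal hmaxD⟩

end Tensor

section Surj

variable {A B : Type u} [CommRing A] [CommRing B] [Algebra A B] [Module.Flat A B]

/-- every element of `B ⊗[A] Frac A` has a denominator in `A`. -/
theorem exists_smul_eq_tmul_one (t : B ⊗[A] FractionRing A) :
    ∃ s ∈ nonZeroDivisors A, ∃ b : B, s • t = b ⊗ₜ[A] (1 : FractionRing A) := by
  induction t using TensorProduct.induction_on with
  | zero => exact ⟨1, one_mem _, 0, by rw [smul_zero, TensorProduct.zero_tmul]⟩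
  | tmul b k =>
    obtain ⟨⟨a, d⟩, h⟩ := IsLocalization.surj (nonZeroDivisors A) k
    have h' : k * algebraMap A (FractionRing A) (d : A) = algebraMap A (FractionRing A) a := h
    refine ⟨d, d.2, a • b, ?_⟩
    have h1 : (d : A) • k = algebraMap A (FractionRing A) a := by
      rw [Algebra.smul_def, mul_comm]
      exact h'
    calc (d : A) • (b ⊗ₜ[A] k) = b ⊗ₜ[A] ((d : A) • k) := (TensorProduct.tmul_smul _ _ _).symm
      _ = b ⊗ₜ[A] (a • (1 : FractionRing A)) := by rw [h1, Algebra.algebraMap_eq_smul_one]
      _ = (a • b) ⊗ₜ[A] 1 := (TensorProduct.smul_tmul _ _ _).symm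
  | add x y hx hy =>
    obtain ⟨s₁, hs₁, b₁, h₁⟩ := hx
    obtain ⟨s₂, hs₂, b₂, h₂⟩ := hy
    refine ⟨s₁ * s₂, mul_mem hs₁ hs₂, s₂ • b₁ + s₁ • b₂, ?_⟩
    have e1 : (s₁ * s₂) • x = s₂ • (s₁ • x) := by rw [mul_comm, mul_smul]
    have e2 : (s₁ * s₂) • y = s₁ • (s₂ • y) := by rw [mul_smul]
    rw [smul_add, e1, e2, h₁, h₂, TensorProduct.smul_tmul', TensorProduct.smul_tmul',
      TensorProduct.add_tmul]

/-- If the local rings of `B ⊗[A] A'` (`A'` the integral closure of `A` in its total ring of
fractions) at maximal ideals are integrally closed domains, then integral closure commutes with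
the base change `A → B`. -/
theorem surjective_toIntegralClosure_of_normal
    (hC : ∀ (Q : Ideal (B ⊗[A] integralClosure A (FractionRing A))) [Q.IsMaximal],
      IsDomain (Localization.AtPrime Q) ∧ IsIntegrallyClosed (Localization.AtPrime Q)) :
    Function.Surjective (TensorProduct.toIntegralClosure A B (FractionRing A)) := by
  rintro ⟨z, hz⟩
  obtain ⟨p, hpm, hp⟩ := hz
  obtain ⟨s, hs, b, hsb⟩ := exists_smul_eq_tmul_one z
  let j : B ⊗[A] integralClosure A (FractionRing A) →ₐ[B] B ⊗[A] FractionRing A :=
    Algebra.TensorProduct.map (AlgHom.id B B) (integralClosure A (FractionRing A)).val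
  have hjinj : Function.Injective j :=
    Module.Flat.lTensor_preserves_injective_linearMap (M := B)
      (integralClosure A (FractionRing A)).val.toLinearMap Subtype.val_injective
  set σ : B ⊗[A] integralClosure A (FractionRing A) := algebraMap A _ s with hσ
  set β : B ⊗[A] integralClosure A (FractionRing A) := b ⊗ₜ[A] 1 with hβ
  have hjσ : j σ = algebraMap A (B ⊗[A] FractionRing A) s := by
    rw [hσ, IsScalarTower.algebraMap_apply A B (B ⊗[A] integralClosure A (FractionRing A)),
      j.commutes, ← IsScalarTower.algebraMap_apply]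
  have hjβ : j β = b ⊗ₜ[A] (1 : FractionRing A) := rfl
  have hrel : j β = j σ * z := by
    rw [hjβ, hjσ, ← Algebra.smul_def]
    exact hsb.symm
  have hunit : IsUnit (j σ) := by
    rw [hjσ]
    have h1 : IsUnit (algebraMap A (FractionRing A) s) :=
      IsLocalization.map_units (FractionRing A) (⟨s, hs⟩ : nonZeroDivisors A)
    have h2 := h1.map (Algebra.TensorProduct.includeRight : FractionRing A →ₐ[A] B ⊗[A] FractionRing A)
    rwa [AlgHom.commutes] at h2
  have hσreg : IsSMulRegular (B ⊗[A] integralClosure A (FractionRing A)) σ := by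
    intro x y hxy
    apply hjinj
    have h1 : j σ * j x = j σ * j y := by
      rw [← map_mul, ← map_mul]
      exact congrArg j hxy
    exact hunit.mul_left_cancel h1
  set pC : (B ⊗[A] integralClosure A (FractionRing A))[X] :=
    p.map (algebraMap B (B ⊗[A] integralClosure A (FractionRing A))) with hpC
  have hpCm : pC.Monic := hpm.map _
  have hev : (pC.scaleRoots σ).eval β = 0 := by
    rcases subsingleton_or_nontrivial (B ⊗[A] FractionRing A) with hsub | hnt
    · exact hjinj (Subsingleton.elim _ _)
    apply hjinj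
    rw [map_zero]
    have h1 := Groth.Agent.H47.EtaleNormal.map_eval_scaleRoots
      (j : B ⊗[A] integralClosure A (FractionRing A) →+* B ⊗[A] FractionRing A) β σ pC hpCm
    have h2 : pC.map (j : B ⊗[A] integralClosure A (FractionRing A) →+* B ⊗[A] FractionRing A) =
        p.map (algebraMap B (B ⊗[A] FractionRing A)) := by
      rw [hpC, Polynomial.map_map]
      congr 1
    have h3 : (j : B ⊗[A] integralClosure A (FractionRing A) →+* B ⊗[A] FractionRing A) β =
        (j : B ⊗[A] integralClosure A (FractionRing A) →+* B ⊗[A] FractionRing A) σ * z := hrel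
    rw [h2, h3, Polynomial.scaleRoots_eval_mul, Polynomial.eval_map, hp, mul_zero] at h1
    exact h1
  have hmem := mem_span_of_scaleRoots_eval hC hσreg hpCm hev
  obtain ⟨c, hc⟩ := Ideal.mem_span_singleton'.mp hmem
  refine ⟨c, Subtype.ext ?_⟩
  show j c = z
  apply hunit.mul_left_cancel
  rw [← hrel, ← hc, map_mul, mul_comm]

end Surj

section Completion

variable (A : Type u) [CommRing A] [IsLocalRing A] [IsNoetherianRing A] [IsReduced A]

/-- `δ(Â) = δ(A)` for a reduced Noetherian local ring of dimension one with finite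
normalization. -/
theorem deltaInv_cpl (hdim : ringKrullDim A = 1)
    (hfin : Module.Finite A (integralClosure A (FractionRing A))) :
    Curv2.deltaInv (AdicCompletion (maximalIdeal A) A) = Curv2.deltaInv A := by
  haveI := hfin
  haveI : Module.Flat A (AdicCompletion (maximalIdeal A) A) :=
    AdicCompletion.flat_of_isNoetherian (maximalIdeal A)
  haveI : IsNoetherianRing (AdicCompletion (maximalIdeal A) A) :=
    Groth.Agent.H34.ComplQuot.isNoetherianRing_cpl A
  have hm : (maximalIdeal A).map (algebraMap A (AdicCompletion (maximalIdeal A) A)) =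
      maximalIdeal (AdicCompletion (maximalIdeal A) A) :=
    (AdicCompletion.maximalIdeal_eq_map (R := A)).symm
  have hres := Groth.Agent.H15.BranchCpl.hres_cpl A
  obtain ⟨f, hfm, hfmin⟩ := Groth.Agent.H99.DimOne.exists_mem_maximalIdeal_notMem_minimalPrimes hdim
  have hfnzd : f ∈ nonZeroDivisors A :=
    Groth.Agent.H99.DimOne.mem_nonZeroDivisors_of_notMem_minimalPrimes hdim hfmin
      (Or.inr inferInstance)
  have hfreg : IsSMulRegular (integralClosure A (FractionRing A)) f := by
    intro x y hxy
    have h1 : algebraMap A (FractionRing A) f * (x : FractionRing A) =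
        algebraMap A (FractionRing A) f * (y : FractionRing A) := by
      have := congrArg Subtype.val hxy
      simpa [Algebra.smul_def] using this
    have hu : IsUnit (algebraMap A (FractionRing A) f) :=
      IsLocalization.map_units (FractionRing A) (⟨f, hfnzd⟩ : nonZeroDivisors A)
    exact Subtype.ext (hu.mul_left_cancel h1)
  have hprimes : ∀ P : Ideal A, P.IsPrime → f ∈ P → P = maximalIdeal A := by
    intro P hP hfP
    haveI := hP
    rcases Groth.Agent.H99.DimOne.eq_maximalIdeal_or_mem_minimalPrimes hdim P with h | h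
    · exact h
    · exact absurd hfP (hfmin _ h)
  have hA' : ∀ (P : Ideal (integralClosure A (FractionRing A))) [P.IsPrime],
      IsDomain (Localization.AtPrime P) ∧ IsIntegrallyClosed (Localization.AtPrime P) :=
    fun P _ => Groth.Agent.H99.DimOneNorm.localization_normal A hdim ⟨P, inferInstance⟩
  apply deltaInv_eq_of_surjective hdim hm
  apply surjective_toIntegralClosure_of_normal
  intro Q hQ
  exact normal_at_maximal _ hm hA' f hfm hfreg hprimes Q (maximal_eq_map _ hm hres Q)

end Completion

end Groth.Agent.H15.DeltaCpl
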