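import Mathlib

/-!
# Essentially of finite type: localizations inside a ring, and two descent lemmas
(Artin–Tate type) used for S16439
-/

set_option autoImplicit false
set_option linter.style.haveILetI false
set_option linter.unusedSectionVars false
universe u
open IsLocalRing

namespace Groth.Agent.H15.EssFT

section LocSub

variable (A : Type u) {D : Type u} [CommRing A] [CommRing D] [Algebra A D]

/-- The localization of `A[σ]` inside `D` at the elements which are units of `D`. -/
def locSub (σ : Set D) : Subalgebra A D where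
  carrier := {d | ∃ t ∈ Algebra.adjoin A σ, IsUnit t ∧ d * t ∈ Algebra.adjoin A σ}
  mul_mem' := by
    rintro a b ⟨t, ht, hu, hat⟩ ⟨s, hs, hv, hbs⟩
    refine ⟨t * s, mul_mem ht hs, hu.mul hv, ?_⟩
    have : a * b * (t * s) = (a * t) * (b * s) := by ring
    rw [this]; exact mul_mem hat hbs
  add_mem' := by
    rintro a b ⟨t, ht, hu, hat⟩ ⟨s, hs, hv, hbs⟩
    refine ⟨t * s, mul_mem ht hs, hu.mul hv, ?_⟩
    have : (a + b) * (t * s) = (a * t) * s + (b * s) * t := by ring
    rw [this]; exact add_mem (mul_mem hat hs) (mul_mem hbs ht)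
  algebraMap_mem' := fun r =>
    ⟨1, one_mem _, isUnit_one, by rw [mul_one]; exact Subalgebra.algebraMap_mem _ r⟩

theorem mem_locSub {σ : Set D} {d : D} :
    d ∈ locSub A σ ↔ ∃ t ∈ Algebra.adjoin A σ, IsUnit t ∧ d * t ∈ Algebra.adjoin A σ := Iff.rfl

theorem adjoin_le_locSub (σ : Set D) : Algebra.adjoin A σ ≤ locSub A σ :=
  fun d hd => ⟨1, one_mem _, isUnit_one, by rwa [mul_one]⟩

theorem locSub_mono {σ τ : Set D} (h : σ ⊆ τ) : locSub A σ ≤ locSub A τ := by
  rintro d ⟨t, ht, hu, hdt⟩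
  exact ⟨t, Algebra.adjoin_mono h ht, hu, Algebra.adjoin_mono h hdt⟩

theorem inv_mem_locSub {σ : Set D} {a : D} (ha : a ∈ Algebra.adjoin A σ) (u : D)
    (hau : a * u = 1) : u ∈ locSub A σ :=
  ⟨a, ha, IsUnit.of_mul_eq_one u hau, by rw [mul_comm, hau]; exact one_mem _⟩

theorem isUnit_of_isUnit_coe {σ : Set D} (u : locSub A σ) (h : IsUnit (u : D)) : IsUnit u := by
  obtain ⟨t, ht, htu, hut⟩ := u.2
  obtain ⟨v, hv⟩ := h.exists_right_inv
  have hv' : v ∈ locSub A σ := ⟨(u : D) * t, hut, h.mul htu, by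
    have : v * ((u : D) * t) = ((u : D) * v) * t := by ring
    rw [this, hv, one_mul]; exact ht⟩
  exact IsUnit.of_mul_eq_one (⟨v, hv'⟩ : locSub A σ) (Subtype.ext hv)

/-- `locSub A σ` as an algebra over `A[σ]`. -/
@[reducible] noncomputable def algAdjoin (σ : Set D) : Algebra (Algebra.adjoin A σ) (locSub A σ) :=
  (Subalgebra.inclusion (adjoin_le_locSub A σ)).toRingHom.toAlgebra

theorem isLocalization (σ : Set D) :
    letI := algAdjoin A σ
    IsLocalization ((IsUnit.submonoid D).comap (algebraMap (Algebra.adjoin A σ) D))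
      (locSub A σ) := by
  letI := algAdjoin A σ
  constructor; constructor
  · rintro ⟨⟨a, ha⟩, hy⟩
    apply isUnit_of_isUnit_coe
    exact hy
  · rintro ⟨d, t, ht, hu, hdt⟩
    exact ⟨⟨⟨d * t, hdt⟩, ⟨⟨t, ht⟩, hu⟩⟩, Subtype.ext rfl⟩
  · intro x y e
    refine ⟨1, ?_⟩
    have h1 : (x : D) = (y : D) := congrArg (fun z : locSub A σ => (z : D)) e
    rw [Subtype.ext h1]

theorem isNoetherianRing_locSub [IsNoetherianRing A] (σ : Set D) (hσ : σ.Finite) :
    IsNoetherianRing (locSub A σ) := by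
  letI := algAdjoin A σ
  haveI := isLocalization A σ
  haveI : Algebra.FiniteType A (Algebra.adjoin A σ) :=
    ⟨(Subalgebra.fg_top _).mpr ⟨hσ.toFinset, by rw [Set.Finite.coe_toFinset]⟩⟩
  haveI : IsNoetherianRing (Algebra.adjoin A σ) := Algebra.FiniteType.isNoetherianRing A _
  exact IsLocalization.isNoetherianRing
    ((IsUnit.submonoid D).comap (algebraMap (Algebra.adjoin A σ) D)) _ inferInstance

theorem essFiniteType_locSub (σ : Set D) (hσ : σ.Finite) :
    Algebra.EssFiniteType A (locSub A σ) := by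
  letI := algAdjoin A σ
  haveI := isLocalization A σ
  haveI : Algebra.FiniteType A (Algebra.adjoin A σ) :=
    ⟨(Subalgebra.fg_top _).mpr ⟨hσ.toFinset, by rw [Set.Finite.coe_toFinset]⟩⟩
  haveI : IsScalarTower A (Algebra.adjoin A σ) (locSub A σ) :=
    IsScalarTower.of_algebraMap_eq (fun a => rfl)
  haveI : Algebra.EssFiniteType (Algebra.adjoin A σ) (locSub A σ) :=
    Algebra.EssFiniteType.of_isLocalization _
      ((IsUnit.submonoid D).comap (algebraMap (Algebra.adjoin A σ) D))
  exact Algebra.EssFiniteType.comp A (Algebra.adjoin A σ) (locSub A σ)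

theorem essFiniteType_of_finite_locSub (σ : Set D) (hσ : σ.Finite)
    [Module.Finite (locSub A σ) D] : Algebra.EssFiniteType A D := by
  haveI := essFiniteType_locSub A σ hσ
  haveI : Algebra.FiniteType (locSub A σ) D := inferInstance
  exact Algebra.EssFiniteType.comp A (locSub A σ) D

end LocSub

section Glue

variable (A : Type u) {D : Type u} [CommRing A] [IsNoetherianRing A] [CommRing D] [Algebra A D]
  [IsLocalRing D]

/-- If finitely many quotients of a local ring `D` with zero joint kernel are essentially of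
finite type over a noetherian ring `A`, so is `D`. -/
theorem essFiniteType_of_quotients {ι : Type} [Finite ι] (𝔮 : ι → Ideal D)
    (hbot : ⨅ i, 𝔮 i = ⊥) (hne : ∀ i, 𝔮 i ≠ ⊤)
    (h : ∀ i, Algebra.EssFiniteType A (D ⧸ 𝔮 i)) : Algebra.EssFiniteType A D := by
  classical
  haveI := Fintype.ofFinite ι
  have h' : ∀ i, ∃ σ : Finset (D ⧸ 𝔮 i), ∀ s : D ⧸ 𝔮 i,
      ∃ t ∈ Algebra.adjoin A (σ : Set (D ⧸ 𝔮 i)), IsUnit t ∧
        s * t ∈ Algebra.adjoin A (σ : Set (D ⧸ 𝔮 i)) :=
    fun i => (Algebra.essFiniteType_iff A (D ⧸ 𝔮 i)).mp (h i)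
  choose σ hσ using h'
  have hlift' : ∀ i (z : D ⧸ 𝔮 i), ∃ y : D, Ideal.Quotient.mk (𝔮 i) y = z :=
    fun i z => Ideal.Quotient.mk_surjective z
  choose lift hlift using hlift'
  obtain ⟨τ, hτ⟩ : ∃ τ : Set D, τ = ⋃ i, (fun z => lift i z) '' (σ i : Set (D ⧸ 𝔮 i)) := ⟨_, rfl⟩
  have hτfin : τ.Finite := by
    rw [hτ]; exact Set.finite_iUnion (fun i => (σ i).finite_toSet.image _)
  have key : ∀ i (d : D), ∃ d₀ ∈ locSub A τ, d - d₀ ∈ 𝔮 i := by
    intro i d
    haveI : Nontrivial (D ⧸ 𝔮 i) := Ideal.Quotient.nontrivial_iff.mpr (hne i)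
    haveI : IsLocalHom (Ideal.Quotient.mk (𝔮 i)) :=
      IsLocalHom.of_surjective _ Ideal.Quotient.mk_surjective
    obtain ⟨tb, htb, hu, hdt⟩ := hσ i (Ideal.Quotient.mk (𝔮 i) d)
    have hlift_adj : ∀ z ∈ Algebra.adjoin A (σ i : Set (D ⧸ 𝔮 i)),
        ∃ y ∈ Algebra.adjoin A τ, Ideal.Quotient.mk (𝔮 i) y = z := by
      intro z hz
      induction hz using Algebra.adjoin_induction with
      | mem z hz =>
        refine ⟨lift i z, Algebra.subset_adjoin ?_, hlift i z⟩
        rw [hτ]
        exact Set.mem_iUnion.mpr ⟨i, z, hz, rfl⟩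
      | algebraMap a => exact ⟨algebraMap A D a, Subalgebra.algebraMap_mem _ a, rfl⟩
      | add x y _ _ hx hy =>
        obtain ⟨x', hx', rfl⟩ := hx
        obtain ⟨y', hy', rfl⟩ := hy
        exact ⟨x' + y', add_mem hx' hy', map_add _ _ _⟩
      | mul x y _ _ hx hy =>
        obtain ⟨x', hx', rfl⟩ := hx
        obtain ⟨y', hy', rfl⟩ := hy
        exact ⟨x' * y', mul_mem hx' hy', map_mul _ _ _⟩
    obtain ⟨t, ht, rfl⟩ := hlift_adj tb htb
    obtain ⟨a, ha, hae⟩ := hlift_adj _ hdt
    have htu : IsUnit t := isUnit_of_map_unit (Ideal.Quotient.mk (𝔮 i)) t hu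
    obtain ⟨v, hv⟩ := htu.exists_right_inv
    refine ⟨a * v, ⟨t, ht, htu, ?_⟩, ?_⟩
    · rw [mul_assoc, mul_comm v t, hv, mul_one]; exact ha
    · rw [← Ideal.Quotient.eq]
      have h1 : Ideal.Quotient.mk (𝔮 i) (a * v) * Ideal.Quotient.mk (𝔮 i) t =
          Ideal.Quotient.mk (𝔮 i) d * Ideal.Quotient.mk (𝔮 i) t := by
        rw [← map_mul, mul_assoc, mul_comm v t, hv, mul_one, hae]
      exact (hu.mul_left_inj.mp h1).symm
  haveI hN := isNoetherianRing_locSub A τ hτfin
  haveI : ∀ i, Module.Finite (locSub A τ) (D ⧸ 𝔮 i) := fun i =>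
    Module.Finite.of_surjective
      ((Ideal.Quotient.mkₐ (locSub A τ) (𝔮 i)).toLinearMap.comp (Algebra.linearMap (locSub A τ) D))
      (fun z => by
        obtain ⟨d, rfl⟩ := Ideal.Quotient.mk_surjective z
        obtain ⟨d₀, hd₀, hdd⟩ := key i d
        exact ⟨⟨d₀, hd₀⟩, (Ideal.Quotient.eq.mpr hdd).symm⟩)
  let f : D →ₗ[locSub A τ] (∀ i, D ⧸ 𝔮 i) :=
    LinearMap.pi (fun i => (Ideal.Quotient.mkₐ (locSub A τ) (𝔮 i)).toLinearMap)
  have hf : Function.Injective f := by
    rw [injective_iff_map_eq_zero]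
    intro d hd
    have h1 : d ∈ ⨅ i, 𝔮 i := by
      rw [Ideal.mem_iInf]
      intro i
      have := congrFun hd i
      exact Ideal.Quotient.eq_zero_iff_mem.mp this
    rw [hbot] at h1
    exact h1
  haveI : Module.Finite (locSub A τ) D := Module.Finite.of_injective f hf
  exact essFiniteType_of_finite_locSub A τ hτfin

end Glue

section FiniteExt

variable (A : Type u) [CommRing A] [IsNoetherianRing A]

set_option maxHeartbeats 1600000 in
/-- Artin–Tate for essentially finite type algebras: a local ring `Db` over which an essentially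
finite type `A`-algebra `C ⊇ Db` is module-finite is itself essentially of finite type, provided
its residue field is generated by finitely many elements. -/
theorem essFiniteType_of_finite_extension (Db C : Type u) [CommRing Db] [IsLocalRing Db]
    [Algebra A Db] [CommRing C] [Algebra Db C] [Algebra A C] [IsScalarTower A Db C]
    [Module.Finite Db C] (hinj : Function.Injective (algebraMap Db C))
    (hC : Algebra.EssFiniteType A C) (Z : Set Db) (hZfin : Z.Finite)
    (hZ : ∀ d : Db, ∃ p ∈ locSub A Z, d - p ∈ maximalIdeal Db) :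
    Algebra.EssFiniteType A Db := by
  classical
  obtain ⟨σ₂, hσ₂⟩ := (Algebra.essFiniteType_iff A C).mp hC
  -- a minimal generating family
  have hP : ∃ n, ∃ w : Fin n → C, Submodule.span Db (Set.range w) = ⊤ :=
    Module.Finite.exists_fin
  obtain ⟨p, ⟨w, hspan⟩, hpmin⟩ : ∃ p, (∃ w : Fin p → C, Submodule.span Db (Set.range w) = ⊤) ∧
      ∀ q < p, ¬ ∃ w : Fin q → C, Submodule.span Db (Set.range w) = ⊤ :=
    ⟨Nat.find hP, Nat.find_spec hP, fun q hq => Nat.find_min hP hq⟩
  have hmin : ∀ β : Fin p → Db, ∑ l, β l • w l = 0 → ∀ l, β l ∈ maximalIdeal Db := by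
    intro β hβ l₀
    by_contra hnot
    have hu : IsUnit (β l₀) := by
      by_contra h
      exact hnot ((IsLocalRing.mem_maximalIdeal _).mpr h)
    cases p with
    | zero => exact l₀.elim0
    | succ p' =>
      refine hpmin p' (Nat.lt_succ_self p') ⟨fun i => w (l₀.succAbove i), ?_⟩
      rw [eq_top_iff, ← hspan, Submodule.span_le]
      rintro _ ⟨l, rfl⟩
      by_cases hl : l = l₀
      · rw [hl]
        rw [Fin.sum_univ_succAbove _ l₀] at hβ
        obtain ⟨v, hv⟩ := hu.exists_left_inv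
        have h1 : w l₀ = -(v • ∑ i, β (l₀.succAbove i) • w (l₀.succAbove i)) := by
          have h2 : β l₀ • w l₀ = -∑ i, β (l₀.succAbove i) • w (l₀.succAbove i) :=
            eq_neg_of_add_eq_zero_left hβ
          calc w l₀ = (v * β l₀) • w l₀ := by rw [hv, one_smul]
            _ = v • (β l₀ • w l₀) := mul_smul _ _ _
            _ = -(v • ∑ i, β (l₀.succAbove i) • w (l₀.succAbove i)) := by rw [h2, smul_neg]
        rw [h1]
        refine Submodule.neg_mem _ (Submodule.smul_mem _ _ (Submodule.sum_mem _ fun i _ => ?_))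
        exact Submodule.smul_mem _ _ (Submodule.subset_span ⟨i, rfl⟩)
      · obtain ⟨i, rfl⟩ := Fin.exists_succAbove_eq hl
        exact Submodule.subset_span ⟨i, rfl⟩
  have hrep : ∀ c : C, ∃ β : Fin p → Db, ∑ l, β l • w l = c := fun c =>
    (Submodule.mem_span_range_iff_exists_fun Db).mp (hspan ▸ Submodule.mem_top)
  choose β hβ using hrep
  -- the finite set of coefficients
  obtain ⟨Cs, hCs⟩ : ∃ Cs : Set C, Cs = ({1} ∪
      (Set.range fun ll : Fin p × Fin p => w ll.1 * w ll.2)) ∪ (σ₂ : Set C) := ⟨_, rfl⟩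
  have hCsfin : Cs.Finite := by
    rw [hCs]
    exact ((Set.finite_singleton _).union (Set.finite_range _)).union σ₂.finite_toSet
  obtain ⟨σ, hσ⟩ : ∃ σ : Set Db, σ = Z ∪ ⋃ c ∈ Cs, Set.range (β c) := ⟨_, rfl⟩
  have hσfin : σ.Finite := by
    rw [hσ]
    exact hZfin.union (hCsfin.biUnion fun c _ => Set.finite_range _)
  have hβσ : ∀ c ∈ Cs, ∀ l, β c l ∈ locSub A σ := by
    intro c hc l
    apply adjoin_le_locSub
    apply Algebra.subset_adjoin
    rw [hσ]
    exact Or.inr (Set.mem_biUnion hc ⟨l, rfl⟩)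
  have hZσ : locSub A Z ≤ locSub A σ := locSub_mono A (by rw [hσ]; exact Set.subset_union_left)
  obtain ⟨B₀, hB₀⟩ : ∃ B₀ : Submodule (locSub A σ) C,
      B₀ = Submodule.span (locSub A σ) (Set.range w) := ⟨_, rfl⟩
  have hwB : ∀ l, w l ∈ B₀ := fun l => by rw [hB₀]; exact Submodule.subset_span ⟨l, rfl⟩
  have hsumB : ∀ δ : Fin p → Db, (∀ l, δ l ∈ locSub A σ) → ∑ l, δ l • w l ∈ B₀ := by
    intro δ hδ
    refine Submodule.sum_mem _ fun l _ => ?_
    exact B₀.smul_mem (⟨δ l, hδ l⟩ : locSub A σ) (hwB l)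
  have hCsB : ∀ c ∈ Cs, c ∈ B₀ := by
    intro c hc
    rw [← hβ c]
    exact hsumB _ (hβσ c hc)
  have h1B : (1 : C) ∈ B₀ := hCsB 1 (by rw [hCs]; exact Or.inl (Or.inl rfl))
  have hmulB : ∀ x ∈ B₀, ∀ y ∈ B₀, x * y ∈ B₀ := by
    intro x hx y hy
    have h1 : B₀ * B₀ ≤ B₀ := by
      rw [hB₀, Submodule.span_mul_span, Submodule.span_le]
      rintro _ ⟨_, ⟨l, rfl⟩, _, ⟨l', rfl⟩, rfl⟩
      rw [← hB₀]
      exact hCsB _ (by rw [hCs]; exact Or.inl (Or.inr ⟨(l, l'), rfl⟩))
    exact h1 (Submodule.mul_mem_mul hx hy)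
  have hadjB : ∀ z ∈ Algebra.adjoin A (σ₂ : Set C), z ∈ B₀ := by
    intro z hz
    induction hz using Algebra.adjoin_induction with
    | mem z hz => exact hCsB z (by rw [hCs]; exact Or.inr hz)
    | algebraMap a =>
      have h2 : algebraMap A C a =
          (⟨algebraMap A Db a, Subalgebra.algebraMap_mem _ a⟩ : locSub A σ) • (1 : C) := by
        rw [IsScalarTower.algebraMap_apply A Db C, Algebra.algebraMap_eq_smul_one]
        rfl
      rw [h2]
      exact B₀.smul_mem _ h1B
    | add x y _ _ hx hy => exact B₀.add_mem hx hy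
    | mul x y _ _ hx hy => exact hmulB x hx y hy
  -- the maximal ideal of `D₀`
  obtain ⟨m₀, hm₀⟩ : ∃ m₀ : Ideal (locSub A σ),
      m₀ = (maximalIdeal Db).comap (algebraMap (locSub A σ) Db) := ⟨_, rfl⟩
  have hm₀mem : ∀ x : locSub A σ, x ∈ m₀ ↔ (x : Db) ∈ maximalIdeal Db := fun x => by
    rw [hm₀]; rfl
  have hjac : m₀ ≤ Ideal.jacobson ⊥ := by
    intro x hx
    rw [Ideal.mem_jacobson_bot]
    intro y
    apply isUnit_of_isUnit_coe
    have h2 : (x : Db) * (y : Db) ∈ maximalIdeal Db :=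
      Ideal.mul_mem_right _ _ ((hm₀mem x).mp hx)
    by_contra hnu
    have h3 : (x : Db) * (y : Db) + 1 ∈ maximalIdeal Db := (IsLocalRing.mem_maximalIdeal _).mpr hnu
    have h4 : (1 : Db) ∈ maximalIdeal Db := by
      have := (maximalIdeal Db).sub_mem h3 h2
      simpa using this
    exact (maximalIdeal.isMaximal Db).ne_top ((Ideal.eq_top_iff_one _).mpr h4)
  -- (K)
  have hK : ∀ b ∈ B₀, b ∈ (maximalIdeal Db) • (⊤ : Submodule Db C) → b ∈ m₀ • B₀ := by
    intro b hb hbm
    rw [hB₀] at hb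
    obtain ⟨δ, hδ⟩ := (Submodule.mem_span_range_iff_exists_fun (locSub A σ)).mp hb
    rw [← hspan] at hbm
    obtain ⟨a, ha, hab⟩ := (Submodule.mem_ideal_smul_span_iff_exists_sum (maximalIdeal Db) w b).mp hbm
    rw [Finsupp.sum_fintype a (fun i c => c • w i) (fun i => zero_smul _ _)] at hab
    have h0 : ∑ l, (((δ l : locSub A σ) : Db) - a l) • w l = 0 := by
      have h1 : ∑ l, ((δ l : locSub A σ) : Db) • w l = b := hδ
      simp only [sub_smul, Finset.sum_sub_distrib]
      rw [h1, hab, sub_self]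
    have hδm : ∀ l, δ l ∈ m₀ := by
      intro l
      rw [hm₀mem]
      have := (maximalIdeal Db).add_mem (hmin _ h0 l) (ha l)
      simpa using this
    rw [← hδ]
    refine Submodule.sum_mem _ fun l _ => ?_
    exact Submodule.smul_mem_smul (hδm l) (hwB l)
  -- inverses
  have hinv : ∀ t ∈ B₀, ∀ u : C, t * u = 1 → u ∈ B₀ := by
    intro t ht u htu
    obtain ⟨N, hN⟩ : ∃ N : Submodule (locSub A σ) C,
        N = B₀.map (LinearMap.mulLeft (locSub A σ) t) := ⟨_, rfl⟩
    have hBfg : B₀.FG := by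
      rw [hB₀]; exact Submodule.fg_span (Set.finite_range w)
    have hNN : B₀ ≤ N ⊔ m₀ • B₀ := by
      conv_lhs => rw [hB₀]
      rw [Submodule.span_le]
      rintro _ ⟨l, rfl⟩
      -- decompose the coefficients of `u * w l`
      have hdec : ∀ l', ∃ q ∈ locSub A Z, β (u * w l) l' - q ∈ maximalIdeal Db :=
        fun l' => hZ _
      choose q hq hqm using hdec
      have hfirst : ∑ l', q l' • w l' ∈ B₀ := hsumB q (fun l' => hZσ (hq l'))
      have hsecond : t * ∑ l', (β (u * w l) l' - q l') • w l' ∈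
          (maximalIdeal Db) • (⊤ : Submodule Db C) := by
        rw [Finset.mul_sum]
        refine Submodule.sum_mem _ fun l' _ => ?_
        rw [mul_smul_comm]
        exact Submodule.smul_mem_smul (hqm l') Submodule.mem_top
      have hsplit : w l = t * ∑ l', q l' • w l' +
          t * ∑ l', (β (u * w l) l' - q l') • w l' := by
        rw [← mul_add, ← Finset.sum_add_distrib]
        have h3 : ∑ l', (q l' • w l' + (β (u * w l) l' - q l') • w l') = u * w l := by
          refine Eq.trans (Finset.sum_congr rfl fun l' _ => ?_) (hβ (u * w l))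
          rw [← add_smul, add_sub_cancel]
        rw [h3, ← mul_assoc, htu, one_mul]
      have hνB : t * ∑ l', (β (u * w l) l' - q l') • w l' ∈ B₀ := by
        have : t * ∑ l', (β (u * w l) l' - q l') • w l' =
            w l - t * ∑ l', q l' • w l' := by
          rw [eq_sub_iff_add_eq, add_comm]; exact hsplit.symm
        rw [this]
        exact B₀.sub_mem (hwB l) (hmulB t ht _ hfirst)
      rw [hsplit]
      refine Submodule.add_mem_sup ?_ (hK _ hνB hsecond)
      rw [hN]
      exact Submodule.mem_map.mpr ⟨_, hfirst, rfl⟩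
    have hle := Submodule.le_of_le_smul_of_le_jacobson_bot hBfg hjac hNN
    have h1N := hle h1B
    rw [hN] at h1N
    obtain ⟨b, hb, hb1⟩ := Submodule.mem_map.mp h1N
    have hb1' : t * b = 1 := hb1
    have hub : u = b := by
      calc u = u * (t * b) := by rw [hb1', mul_one]
        _ = (t * u) * b := by ring
        _ = b := by rw [htu, one_mul]
    rw [hub]; exact hb
  -- everything is in `B₀`
  have hall : ∀ c : C, c ∈ B₀ := by
    intro c
    obtain ⟨t, ht, hu, hct⟩ := hσ₂ c
    obtain ⟨u, hu'⟩ := hu.exists_right_inv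
    have h1 : c = (c * t) * u := by rw [mul_assoc, hu', mul_one]
    rw [h1]
    exact hmulB _ (hadjB _ hct) _ (hinv t (hadjB t ht) u hu')
  haveI hN := isNoetherianRing_locSub A σ hσfin
  haveI : Module.Finite (locSub A σ) C := by
    refine Module.finite_def.mpr ?_
    have : (⊤ : Submodule (locSub A σ) C) = B₀ := by
      rw [eq_comm, eq_top_iff]; exact fun c _ => hall c
    rw [this, hB₀]
    exact Submodule.fg_span (Set.finite_range w)
  haveI : Module.Finite (locSub A σ) Db :=
    Module.Finite.of_injective ((Algebra.linearMap Db C).restrictScalars (locSub A σ)) hinj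
  exact essFiniteType_of_finite_locSub A σ hσfin

end FiniteExt

end Groth.Agent.H15.EssFT
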