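import Groth.Agent.H15.EssFT1

/-!
# Essentially of finite type: descent along a faithfully flat monogenic extension (for S16439)
-/

set_option autoImplicit false
set_option linter.style.haveILetI false
set_option linter.unusedSectionVars false
universe u
open IsLocalRing Polynomial TensorProduct

namespace Groth.Agent.H15.EssFT

section Core

set_option maxHeartbeats 1600000 in
/-- The ring-theoretic core: if `c = r₁ / r₂` with `r₁, r₂ ∈ R ⊆ C`, and `c · W(ξ) = P(ξ)` in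
a `C`-algebra `B₂` in which no maximal ideal of `C` blows up, with `W(ξ)` a unit, and `ξ` has a
"minimal polynomial" over `R`, then `c ∈ R`, provided units of `C` in `R` are units of `R` and
`C` is semilocal. -/
theorem mem_of_unit_eval {A C B₂ : Type u} [CommRing A] [CommRing C] [IsDomain C] [Algebra A C]
    [CommRing B₂] [Algebra C B₂]
    (hfin : {𝔫 : Ideal C | 𝔫.IsMaximal}.Finite)
    (hB₂ : ∀ 𝔫 : Ideal C, 𝔫.IsMaximal → 𝔫.map (algebraMap C B₂) ≠ ⊤)
    (R : Subalgebra A C) (hRu : ∀ u : R, IsUnit (u : C) → IsUnit u)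
    (ξ : B₂) (G : R[X]) (hGm : G.Monic)
    (hG0 : eval₂ ((algebraMap C B₂).comp (algebraMap R C)) ξ G = 0)
    (hmin : ∀ Q : R[X], Q.degree < G.degree →
      eval₂ ((algebraMap C B₂).comp (algebraMap R C)) ξ Q = 0 → Q = 0)
    (c : C) (r₁ r₂ : R) (hr₂ : r₂ ≠ 0) (hc : c * (r₂ : C) = (r₁ : C))
    (W P : R[X]) (hW : IsUnit (eval₂ ((algebraMap C B₂).comp (algebraMap R C)) ξ W))
    (hP : algebraMap C B₂ c * eval₂ ((algebraMap C B₂).comp (algebraMap R C)) ξ W =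
      eval₂ ((algebraMap C B₂).comp (algebraMap R C)) ξ P) : c ∈ R := by
  classical
  obtain ⟨φ, hφ⟩ : ∃ φ : R →+* B₂, φ = (algebraMap C B₂).comp (algebraMap R C) := ⟨_, rfl⟩
  rw [← hφ] at hG0 hmin hW hP
  have hφapp : ∀ r : R, φ r = algebraMap C B₂ (r : C) := fun r => by rw [hφ]; rfl
  have hmod : ∀ T : R[X], eval₂ φ ξ (T %ₘ G) = eval₂ φ ξ T := by
    intro T
    conv_rhs => rw [← modByMonic_add_div T G]
    rw [eval₂_add, eval₂_mul, hG0, zero_mul, add_zero]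
  obtain ⟨Q, hQdef⟩ : ∃ Q : R[X], Q = r₁ • (W %ₘ G) - r₂ • (P %ₘ G) := ⟨_, rfl⟩
  have hQdeg : Q.degree < G.degree := by
    rw [hQdef]
    refine (degree_sub_le _ _).trans_lt (max_lt ?_ ?_)
    · exact (degree_smul_le _ _).trans_lt (degree_modByMonic_lt _ hGm)
    · exact (degree_smul_le _ _).trans_lt (degree_modByMonic_lt _ hGm)
  have hQ0 : eval₂ φ ξ Q = 0 := by
    rw [hQdef, eval₂_sub, eval₂_smul, eval₂_smul, hmod, hmod, ← hP]
    have h1 : φ r₁ = algebraMap C B₂ c * φ r₂ := by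
      rw [hφapp, hφapp, ← map_mul, hc]
    rw [h1]; ring
  have hQ : Q = 0 := hmin Q hQdeg hQ0
  have hcoef : ∀ i, r₁ * (W %ₘ G).coeff i = r₂ * (P %ₘ G).coeff i := by
    intro i
    have h1 := congrArg (fun T : R[X] => T.coeff i) hQ
    simp only [hQdef, coeff_sub, coeff_smul, smul_eq_mul, coeff_zero] at h1
    exact sub_eq_zero.mp h1
  let J : Ideal R :=
    { carrier := {ρ | ∃ ρ', r₁ * ρ = r₂ * ρ'}
      add_mem' := by
        rintro a b ⟨a', ha⟩ ⟨b', hb⟩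
        exact ⟨a' + b', by rw [mul_add, mul_add, ha, hb]⟩
      zero_mem' := ⟨0, by rw [mul_zero, mul_zero]⟩
      smul_mem' := by
        rintro s a ⟨a', ha⟩
        exact ⟨s * a', by rw [smul_eq_mul, mul_left_comm, ha, mul_left_comm]⟩ }
  have hJmem : ∀ ρ : R, ρ ∈ J ↔ ∃ ρ', r₁ * ρ = r₂ * ρ' := fun ρ => Iff.rfl
  by_cases hJ : J = ⊤
  · have h1 : (1 : R) ∈ J := by rw [hJ]; trivial
    obtain ⟨ρ', hρ'⟩ := (hJmem 1).mp h1
    rw [mul_one] at hρ'
    have hr₂' : (r₂ : C) ≠ 0 := fun h => hr₂ (Subtype.ext h)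
    have h2 : c * (r₂ : C) = (ρ' : C) * (r₂ : C) := by
      rw [hc, hρ', mul_comm]; rfl
    have h3 : c = (ρ' : C) := mul_right_cancel₀ hr₂' h2
    rw [h3]; exact ρ'.2
  · exfalso
    obtain ⟨𝔪, h𝔪, hJ𝔪⟩ := Ideal.exists_le_maximal J hJ
    have hsub : (𝔪 : Set R) ⊆ ⋃ 𝔫 ∈ (hfin.toFinset : Set (Ideal C)),
        ((𝔫.comap (algebraMap R C) : Ideal R) : Set R) := by
      intro ρ hρ
      have h1 : ¬ IsUnit ρ := fun hu => h𝔪.ne_top (Ideal.eq_top_of_isUnit_mem _ hρ hu)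
      have h2 : ¬ IsUnit (ρ : C) := fun hu => h1 (hRu ρ hu)
      obtain ⟨𝔫, h𝔫, hρ𝔫⟩ := exists_max_ideal_of_mem_nonunits h2
      refine Set.mem_biUnion (x := 𝔫) ?_ ?_
      · simpa using h𝔫
      · exact hρ𝔫
    obtain ⟨𝔫, h𝔫mem, h𝔪𝔫⟩ := (Ideal.subset_union_prime (f := fun 𝔫 : Ideal C =>
        𝔫.comap (algebraMap R C)) (⊥ : Ideal C) ⊥ (fun 𝔫 h𝔫 _ _ => by
          have h1 : 𝔫.IsMaximal := by simpa using h𝔫
          haveI := h1.isPrime
          exact Ideal.comap_isPrime _ _)).mp hsub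
    have h𝔫max : 𝔫.IsMaximal := by simpa using h𝔫mem
    have hmemN : eval₂ φ ξ (W %ₘ G) ∈ 𝔫.map (algebraMap C B₂) := by
      rw [eval₂_eq_sum_range]
      refine Ideal.sum_mem _ fun i _ => Ideal.mul_mem_right _ _ ?_
      rw [hφapp]
      refine Ideal.mem_map_of_mem _ ?_
      exact h𝔪𝔫 (hJ𝔪 ((hJmem _).mpr ⟨_, hcoef i⟩))
    rw [hmod] at hmemN
    exact hB₂ 𝔫 h𝔫max (Ideal.eq_top_of_isUnit_mem _ hmemN hW)

end Core

section P2

set_option maxHeartbeats 3200000 in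
/-- Key step: the finite extension `C` of `Db` generated by the coefficients of the minimal
polynomial of `x` is a localization of a finitely generated `A`-algebra. -/
theorem mem_locSub_of_faithfullyFlat
    (A Db Eb L C : Type u) [CommRing A] [CommRing Db] [IsDomain Db] [IsLocalRing Db]
    [Algebra A Db] [CommRing Eb] [Algebra Db Eb] [Algebra A Eb] [IsScalarTower A Db Eb]
    [Module.FaithfullyFlat Db Eb] [Field L] [Algebra Db L] [IsFractionRing Db L]
    [CommRing C] [Algebra Db C] [Algebra A C] [IsScalarTower A Db C] [Module.Finite Db C]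
    (v : C →ₐ[Db] L) (hv : Function.Injective v) (x : Eb)
    (hgen : ∀ e : Eb, ∃ a ∈ Algebra.adjoin A {x}, ∃ w ∈ Algebra.adjoin A {x},
      IsUnit w ∧ e * w = a)
    (G₀ : C[X]) (hG₀m : G₀.Monic)
    (hG₀ : G₀.map (v : C →+* L) = minpoly L ((1 : L) ⊗ₜ[Db] x))
    (σ₂ : Set C) (hσ₂ : ∀ n, G₀.coeff n ∈ Algebra.adjoin A σ₂)
    (hCgen : Algebra.adjoin Db σ₂ = ⊤)
    (hfrac : ∀ c : C, ∃ r₁ ∈ Algebra.adjoin A σ₂, ∃ r₂ ∈ Algebra.adjoin A σ₂,
      r₂ ≠ 0 ∧ c * r₂ = r₁)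
    (c : C) : c ∈ locSub A σ₂ := by
  classical
  haveI : IsDomain C := hv.isDomain v.toRingHom
  haveI : Algebra.IsIntegral Db C := inferInstance
  obtain ⟨R, hR⟩ : ∃ R : Subalgebra A C, R = locSub A σ₂ := ⟨_, rfl⟩
  rw [← hR]
  have hadjR : ∀ z ∈ Algebra.adjoin A σ₂, z ∈ R := fun z hz => by
    rw [hR]; exact adjoin_le_locSub A σ₂ hz
  -- the maps
  obtain ⟨jE, hjE⟩ : ∃ jE : Eb →+* C ⊗[Db] Eb,
      jE = (Algebra.TensorProduct.includeRight : Eb →ₐ[Db] C ⊗[Db] Eb).toRingHom := ⟨_, rfl⟩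
  have hjEapp : ∀ e : Eb, jE e = (1 : C) ⊗ₜ[Db] e := fun e => by rw [hjE]; rfl
  obtain ⟨ξ, hξ⟩ : ∃ ξ : C ⊗[Db] Eb, ξ = (1 : C) ⊗ₜ[Db] x := ⟨_, rfl⟩
  obtain ⟨φ, hφ⟩ : ∃ φ : R →+* C ⊗[Db] Eb,
      φ = (algebraMap C (C ⊗[Db] Eb)).comp (algebraMap R C) := ⟨_, rfl⟩
  have hφapp : ∀ r : R, φ r = (r : C) ⊗ₜ[Db] (1 : Eb) := fun r => by
    rw [hφ]; rfl
  have hCDb : ∀ d : Db, algebraMap C (C ⊗[Db] Eb) (algebraMap Db C d) =
      jE (algebraMap Db Eb d) := by
    intro d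
    rw [hjEapp, Algebra.TensorProduct.algebraMap_apply, Algebra.algebraMap_self, RingHom.id_apply,
      Algebra.algebraMap_eq_smul_one, Algebra.algebraMap_eq_smul_one, TensorProduct.smul_tmul]
  have hφA : ∀ a : A, φ (algebraMap A R a) = jE (algebraMap A Eb a) := by
    intro a
    have h1 : φ (algebraMap A R a) = algebraMap C (C ⊗[Db] Eb) (algebraMap A C a) := by
      rw [hφ]; rfl
    rw [h1, IsScalarTower.algebraMap_apply A Db C, IsScalarTower.algebraMap_apply A Db Eb, hCDb]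
  have hevalA : ∀ p : A[X], eval₂ φ ξ (p.map (algebraMap A R)) = jE (aeval x p) := by
    intro p
    rw [eval₂_map, aeval_def, hom_eval₂, hξ, ← hjEapp]
    congr 1
    exact RingHom.ext hφA
  -- representation of elements of `C`
  have hrep : ∀ c : C, ∃ W P : R[X], IsUnit (eval₂ φ ξ W) ∧
      algebraMap C (C ⊗[Db] Eb) c * eval₂ φ ξ W = eval₂ φ ξ P := by
    intro c
    have hc : c ∈ Algebra.adjoin Db σ₂ := by rw [hCgen]; trivial
    induction hc using Algebra.adjoin_induction with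
    | mem c hc =>
      refine ⟨1, Polynomial.C ⟨c, hadjR c (Algebra.subset_adjoin hc)⟩, ?_, ?_⟩
      · rw [eval₂_one]; exact isUnit_one
      · rw [eval₂_one, mul_one, eval₂_C, hφ]; rfl
    | algebraMap d =>
      obtain ⟨a, ha, w, hw, hwu, hdw⟩ := hgen (algebraMap Db Eb d)
      rw [Algebra.adjoin_singleton_eq_range_aeval, AlgHom.mem_range] at ha hw
      obtain ⟨pa, rfl⟩ := ha
      obtain ⟨pw, rfl⟩ := hw
      refine ⟨pw.map (algebraMap A R), pa.map (algebraMap A R), ?_, ?_⟩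
      · rw [hevalA]; exact hwu.map jE
      · rw [hevalA, hevalA, ← hdw, map_mul, hCDb]
    | add c₁ c₂ _ _ h₁ h₂ =>
      obtain ⟨W₁, P₁, hu₁, he₁⟩ := h₁
      obtain ⟨W₂, P₂, hu₂, he₂⟩ := h₂
      refine ⟨W₁ * W₂, P₁ * W₂ + P₂ * W₁, ?_, ?_⟩
      · rw [eval₂_mul]; exact hu₁.mul hu₂
      · rw [eval₂_mul, eval₂_add, eval₂_mul, eval₂_mul, ← he₁, ← he₂, map_add]; ring
    | mul c₁ c₂ _ _ h₁ h₂ =>
      obtain ⟨W₁, P₁, hu₁, he₁⟩ := h₁
      obtain ⟨W₂, P₂, hu₂, he₂⟩ := h₂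
      refine ⟨W₁ * W₂, P₁ * P₂, ?_, ?_⟩
      · rw [eval₂_mul]; exact hu₁.mul hu₂
      · rw [eval₂_mul, eval₂_mul, ← he₁, ← he₂, map_mul]; ring
  -- the comparison map to `L ⊗ Eb`
  obtain ⟨ι, hι⟩ : ∃ ι : C ⊗[Db] Eb →+* L ⊗[Db] Eb,
      ι = (Algebra.TensorProduct.map v (AlgHom.id Db Eb)).toRingHom := ⟨_, rfl⟩
  have hιtmul : ∀ (c : C) (e : Eb), ι (c ⊗ₜ[Db] e) = v c ⊗ₜ[Db] e := fun c e => by
    rw [hι]; rfl
  have hιlin : ∀ z, ι z = LinearMap.rTensor Eb v.toLinearMap z := by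
    intro z
    induction z using TensorProduct.induction_on with
    | zero => rw [map_zero, map_zero]
    | tmul c e => rw [hιtmul]; rfl
    | add a b ha hb => rw [map_add, map_add, ha, hb]
  have hιinj : Function.Injective ι := by
    intro a b hab
    rw [hιlin, hιlin] at hab
    exact Module.Flat.rTensor_preserves_injective_linearMap (M := Eb) v.toLinearMap hv hab
  obtain ⟨xt, hxt⟩ : ∃ xt : L ⊗[Db] Eb, xt = (1 : L) ⊗ₜ[Db] x := ⟨_, rfl⟩
  rw [← hxt] at hG₀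
  have hιξ : ι ξ = xt := by rw [hξ, hιtmul, map_one, hxt]
  obtain ⟨ψ, hψ⟩ : ∃ ψ : R →+* L, ψ = (v : C →+* L).comp (algebraMap R C) := ⟨_, rfl⟩
  have hψinj : Function.Injective ψ := by
    rw [hψ]
    exact hv.comp Subtype.val_injective
  have hιφ : ι.comp φ = (algebraMap L (L ⊗[Db] Eb)).comp ψ := by
    ext r
    simp only [RingHom.comp_apply]
    rw [hφapp, hιtmul, hψ, Algebra.TensorProduct.algebraMap_apply, Algebra.algebraMap_self,
      RingHom.id_apply]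
    rfl
  have hevalι : ∀ T : R[X], ι (eval₂ φ ξ T) = aeval xt (T.map ψ) := by
    intro T
    rw [hom_eval₂, hιξ, hιφ, aeval_def, eval₂_map]
  -- the lifted minimal polynomial
  have hlift : G₀ ∈ lifts (algebraMap R C) := by
    rw [lifts_iff_coeff_lifts]
    intro n
    exact ⟨⟨G₀.coeff n, hadjR _ (hσ₂ n)⟩, rfl⟩
  obtain ⟨G, hGmap, hGdeg, hGm⟩ := lifts_and_degree_eq_and_monic hlift hG₀m
  have hGψ : G.map ψ = minpoly L xt := by
    rw [hψ, ← Polynomial.map_map, hGmap, hG₀]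
  have hG0 : eval₂ φ ξ G = 0 := by
    apply hιinj
    rw [hevalι, hGψ, minpoly.aeval, map_zero]
  have hmin : ∀ Q : R[X], Q.degree < G.degree → eval₂ φ ξ Q = 0 → Q = 0 := by
    intro Q hQdeg hQ0
    by_contra hQne
    have h1 : Q.map ψ ≠ 0 := fun h => hQne ((Polynomial.map_eq_zero_iff hψinj).mp h)
    have h2 : aeval xt (Q.map ψ) = 0 := by rw [← hevalι, hQ0, map_zero]
    have h3 := minpoly.degree_le_of_ne_zero L xt h1 h2
    have h4 : (minpoly L xt).degree = G.degree := by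
      rw [← hGψ, degree_map_eq_of_injective hψinj]
    have h5 : (Q.map ψ).degree ≤ Q.degree := degree_map_le
    rw [h4] at h3
    exact absurd (h3.trans h5) (not_le.mpr hQdeg)
  -- semilocality and faithful flatness
  have hfin : {𝔫 : Ideal C | 𝔫.IsMaximal}.Finite := by
    refine Set.Finite.subset (Algebra.QuasiFinite.finite_primesOver (S := C) (maximalIdeal Db)) ?_
    intro 𝔫 h𝔫
    have h𝔫' : 𝔫.IsMaximal := h𝔫
    refine ⟨h𝔫'.isPrime, ⟨?_⟩⟩
    exact (IsLocalRing.eq_maximalIdeal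
      (Ideal.isMaximal_comap_of_isIntegral_of_isMaximal (R := Db) 𝔫)).symm
  have hB₂ : ∀ 𝔫 : Ideal C, 𝔫.IsMaximal → 𝔫.map (algebraMap C (C ⊗[Db] Eb)) ≠ ⊤ := by
    intro 𝔫 h𝔫 htop
    have h1 := Ideal.comap_map_eq_self_of_faithfullyFlat (B := C ⊗[Db] Eb) 𝔫
    rw [htop, Ideal.comap_top] at h1
    exact h𝔫.ne_top h1.symm
  have hRu : ∀ u : R, IsUnit (u : C) → IsUnit u := by
    subst hR
    exact fun u hu => isUnit_of_isUnit_coe A u hu
  obtain ⟨r₁, hr₁, r₂, hr₂, hr₂ne, hcr⟩ := hfrac c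
  obtain ⟨W, P, hWu, hWP⟩ := hrep c
  rw [hφ] at hG0 hmin hWu hWP
  exact mem_of_unit_eval hfin hB₂ R hRu ξ G hGm hG0 hmin c ⟨r₁, hadjR _ hr₁⟩ ⟨r₂, hadjR _ hr₂⟩
    (fun h => hr₂ne (congrArg Subtype.val h)) hcr W P hWu hWP

end P2

section P

set_option maxHeartbeats 3200000 in
/-- A local domain `Db` over a noetherian ring `A`, with finitely generated fraction field and
residue field, admitting a faithfully flat extension `Eb` which is a localization of a monogenic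
integral `A`-algebra, is essentially of finite type over `A`. -/
theorem essFiniteType_of_domain
    (A Db Eb L : Type u) [CommRing A] [IsNoetherianRing A] [CommRing Db] [IsDomain Db]
    [IsLocalRing Db] [Algebra A Db] [CommRing Eb] [Algebra Db Eb] [Algebra A Eb]
    [IsScalarTower A Db Eb] [Module.FaithfullyFlat Db Eb] [Field L] [Algebra Db L]
    [IsFractionRing Db L] (x : Eb) (hx : IsIntegral A x)
    (hgen : ∀ e : Eb, ∃ a ∈ Algebra.adjoin A {x}, ∃ w ∈ Algebra.adjoin A {x},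
      IsUnit w ∧ e * w = a)
    (Y : Set Db) (hYfin : Y.Finite)
    (hY : ∀ z : L, ∃ p ∈ Algebra.adjoin A Y, ∃ q ∈ Algebra.adjoin A Y,
      q ≠ 0 ∧ z * algebraMap Db L q = algebraMap Db L p)
    (hZ : ∀ d : Db, ∃ p ∈ locSub A Y, d - p ∈ maximalIdeal Db) :
    Algebra.EssFiniteType A Db := by
  classical
  letI : Algebra A L := ((algebraMap Db L).comp (algebraMap A Db)).toAlgebra
  haveI : IsScalarTower A Db L := IsScalarTower.of_algebraMap_eq (fun _ => rfl)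
  obtain ⟨xt, hxt⟩ : ∃ xt : L ⊗[Db] Eb, xt = (1 : L) ⊗ₜ[Db] x := ⟨_, rfl⟩
  obtain ⟨jΩ, hjΩ⟩ : ∃ jΩ : Eb →+* L ⊗[Db] Eb,
      jΩ = (Algebra.TensorProduct.includeRight : Eb →ₐ[Db] L ⊗[Db] Eb).toRingHom := ⟨_, rfl⟩
  have hjΩapp : ∀ e : Eb, jΩ e = (1 : L) ⊗ₜ[Db] e := fun e => by rw [hjΩ]; rfl
  have hcompat : (algebraMap L (L ⊗[Db] Eb)).comp (algebraMap A L) =
      jΩ.comp (algebraMap A Eb) := by
    ext a
    simp only [RingHom.comp_apply]
    rw [hjΩapp, Algebra.TensorProduct.algebraMap_apply, Algebra.algebraMap_self, RingHom.id_apply,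
      IsScalarTower.algebraMap_apply A Db L, IsScalarTower.algebraMap_apply A Db Eb,
      Algebra.algebraMap_eq_smul_one, Algebra.algebraMap_eq_smul_one (A := Eb),
      TensorProduct.smul_tmul]
  obtain ⟨F, hFm, hF0⟩ := hx
  have hFxt : aeval xt (F.map (algebraMap A L)) = 0 := by
    rw [aeval_def, eval₂_map, hcompat, hxt, ← hjΩapp, ← hom_eval₂, hF0, map_zero]
  have hxtint : IsIntegral L xt := ⟨F.map (algebraMap A L), hFm.map _, hFxt⟩
  obtain ⟨G, hG⟩ : ∃ G : L[X], G = minpoly L xt := ⟨_, rfl⟩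
  have hGm : G.Monic := by rw [hG]; exact minpoly.monic hxtint
  have hdvd : G ∣ F.map (algebraMap A L) := by rw [hG]; exact minpoly.dvd L xt hFxt
  have hGint : ∀ n, IsIntegral Db (G.coeff n) := by
    intro n
    have h1 := integralClosure.mem_lifts_of_monic_of_dvd_map L hFm hGm hdvd
    rw [lifts_iff_coeff_lifts] at h1
    obtain ⟨y, hy⟩ := h1 n
    have h2 : IsIntegral A (G.coeff n) := by rw [← hy]; exact y.2
    exact h2.tower_top
  obtain ⟨T, hT⟩ : ∃ T : Set L, T = (fun n => G.coeff n) '' (Finset.range (G.natDegree + 1) : Set ℕ) :=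
    ⟨_, rfl⟩
  have hTfin : T.Finite := by rw [hT]; exact (Finset.finite_toSet _).image _
  have hTint : ∀ z ∈ T, IsIntegral Db z := by
    rw [hT]; rintro _ ⟨n, _, rfl⟩; exact hGint n
  obtain ⟨D₂, hD₂⟩ : ∃ D₂ : Subalgebra Db L, D₂ = Algebra.adjoin Db T := ⟨_, rfl⟩
  haveI : Module.Finite Db D₂ := by
    rw [hD₂]; exact Algebra.finite_adjoin_of_finite_of_isIntegral hTfin hTint
  have hcoefD₂ : ∀ n, G.coeff n ∈ D₂ := by
    intro n
    by_cases hn : n ≤ G.natDegree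
    · rw [hD₂]
      apply Algebra.subset_adjoin
      rw [hT]
      exact ⟨n, by simpa [Nat.lt_succ_iff] using hn, rfl⟩
    · rw [coeff_eq_zero_of_natDegree_lt (not_le.mp hn)]
      exact zero_mem _
  haveI : IsScalarTower A Db D₂ := IsScalarTower.of_algebraMap_eq (fun a => Subtype.ext (by
    show algebraMap A L a = algebraMap Db L (algebraMap A Db a)
    rfl))
  have hvinj : Function.Injective (D₂.val : D₂ →ₐ[Db] L) := Subtype.val_injective
  have hlift : G ∈ lifts ((D₂.val : D₂ →ₐ[Db] L) : D₂ →+* L) := by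
    rw [lifts_iff_coeff_lifts]
    intro n
    exact ⟨⟨G.coeff n, hcoefD₂ n⟩, rfl⟩
  obtain ⟨G₀, hG₀map, -, hG₀m⟩ := lifts_and_degree_eq_and_monic hlift hGm
  obtain ⟨σ₂, hσ₂def⟩ : ∃ σ₂ : Set D₂, σ₂ = ((fun c : D₂ => (c : L)) ⁻¹' T) ∪
      (algebraMap Db D₂ '' Y) := ⟨_, rfl⟩
  have hσ₂fin : σ₂.Finite := by
    rw [hσ₂def]
    exact (hTfin.preimage Subtype.val_injective.injOn).union (hYfin.image _)
  have hσ₂ : ∀ n, G₀.coeff n ∈ Algebra.adjoin A σ₂ := by
    intro n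
    have h1 : ((G₀.coeff n : D₂) : L) = G.coeff n := by
      rw [← hG₀map, coeff_map]; rfl
    by_cases hn : n ≤ G.natDegree
    · apply Algebra.subset_adjoin
      rw [hσ₂def]
      left
      show ((G₀.coeff n : D₂) : L) ∈ T
      rw [h1, hT]
      exact ⟨n, by simpa [Nat.lt_succ_iff] using hn, rfl⟩
    · have h2 : G₀.coeff n = 0 := by
        apply Subtype.ext
        rw [h1, coeff_eq_zero_of_natDegree_lt (not_le.mp hn)]; rfl
      rw [h2]; exact zero_mem _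
  have hCgen : Algebra.adjoin Db σ₂ = ⊤ := by
    rw [eq_top_iff]
    intro c _
    have hc : (c : L) ∈ Algebra.adjoin Db T := by rw [← hD₂]; exact c.2
    have key : ∀ (z : L) (hz : z ∈ Algebra.adjoin Db T),
        (⟨z, hD₂ ▸ hz⟩ : D₂) ∈ Algebra.adjoin Db σ₂ := by
      intro z hz
      induction hz using Algebra.adjoin_induction with
      | mem z hz =>
        apply Algebra.subset_adjoin
        rw [hσ₂def]; left; exact hz
      | algebraMap d => exact Subalgebra.algebraMap_mem _ d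
      | add z₁ z₂ _ _ h₁ h₂ => exact add_mem h₁ h₂
      | mul z₁ z₂ _ _ h₁ h₂ => exact mul_mem h₁ h₂
    exact key c hc
  have hfrac : ∀ c : D₂, ∃ r₁ ∈ Algebra.adjoin A σ₂, ∃ r₂ ∈ Algebra.adjoin A σ₂,
      r₂ ≠ 0 ∧ c * r₂ = r₁ := by
    intro c
    obtain ⟨p, hp, q, hq, hq0, hcq⟩ := hY (c : L)
    have hmem : ∀ d ∈ Algebra.adjoin A Y, algebraMap Db D₂ d ∈ Algebra.adjoin A σ₂ := by
      intro d hd
      have h1 : algebraMap Db D₂ d ∈ (Algebra.adjoin A Y).map (IsScalarTower.toAlgHom A Db D₂) :=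
        ⟨d, hd, rfl⟩
      rw [AlgHom.map_adjoin] at h1
      refine Algebra.adjoin_mono ?_ h1
      rw [hσ₂def]
      exact Set.subset_union_right
    refine ⟨algebraMap Db D₂ p, hmem p hp, algebraMap Db D₂ q, hmem q hq, ?_, ?_⟩
    · intro h
      apply hq0
      have h2 : algebraMap Db L q = 0 := congrArg (fun z : D₂ => (z : L)) h
      exact (IsFractionRing.injective Db L) (by rw [h2, map_zero])
    · exact Subtype.ext hcq
  have hall : ∀ c : D₂, c ∈ locSub A σ₂ := fun c =>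
    mem_locSub_of_faithfullyFlat A Db Eb L D₂ (D₂.val) hvinj x hgen G₀ hG₀m
      (by rw [hG₀map, hG, hxt]) σ₂ hσ₂ hCgen hfrac c
  have hC : Algebra.EssFiniteType A D₂ := by
    rw [Algebra.essFiniteType_iff A D₂]
    refine ⟨hσ₂fin.toFinset, fun c => ?_⟩
    rw [Set.Finite.coe_toFinset]
    exact (mem_locSub A).mp (hall c)
  have hinj : Function.Injective (algebraMap Db D₂) := by
    intro a b hab
    apply IsFractionRing.injective Db L
    exact congrArg (fun z : D₂ => (z : L)) hab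
  exact essFiniteType_of_finite_extension A Db D₂ hinj hC Y hYfin hZ

end P

end Groth.Agent.H15.EssFT
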