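import Mathlib
import Groth.Agent.H47.HensNoeth2
import Groth.Agent.S16448

/-!
# Local subalgebras of the strict henselization contained in an essentially étale subalgebra
(S16441)
-/

set_option autoImplicit false
set_option linter.style.haveILetI false
set_option linter.unusedSectionVars false
universe u
open TensorProduct IsLocalRing

namespace Groth.Agent.H15.EssSub

theorem algebraMap_mem_nonZeroDivisors_of_flat (A B : Type u) [CommRing A] [CommRing B]
    [Algebra A B] [Module.Flat A B] {a : A} (ha : a ∈ nonZeroDivisors A) :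
    algebraMap A B a ∈ nonZeroDivisors B := by
  have hreg : IsSMulRegular A a := by
    intro x y hxy
    have h0 : a * (x - y) = 0 := by
      rw [mul_sub, sub_eq_zero]; exact hxy
    exact sub_eq_zero.mp ((mem_nonZeroDivisors_iff_left.mp ha) _ h0)
  have h2 := IsSMulRegular.of_flat (S := B) hreg
  refine mem_nonZeroDivisors_iff_left.mpr (fun x hx => h2 ?_)
  show algebraMap A B a • x = algebraMap A B a • 0
  rw [smul_zero, smul_eq_mul]; exact hx

/-- An integral element over an artinian ring which is a non-zero-divisor on the subalgebra it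
generates is a unit. -/
theorem isUnit_of_isIntegral_of_nzd {K R : Type*} [CommRing K] [IsArtinianRing K] [CommRing R]
    [Algebra K R] (x : R) (hx : IsIntegral K x)
    (hnz : ∀ b ∈ Algebra.adjoin K {x}, b * x = 0 → b = 0) : IsUnit x := by
  haveI : Module.Finite K (Algebra.adjoin K {x}) :=
    Algebra.finite_adjoin_simple_of_isIntegral hx
  haveI : IsArtinianRing (Algebra.adjoin K {x}) :=
    IsArtinianRing.of_finite K (↥(Algebra.adjoin K {x}))
  have hnzd : (⟨x, Algebra.subset_adjoin (Set.mem_singleton x)⟩ : Algebra.adjoin K {x}) ∈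
      nonZeroDivisors (Algebra.adjoin K {x}) := by
    rw [mem_nonZeroDivisors_iff_right]
    intro b hb
    exact Subtype.ext (hnz b.1 b.2 (congrArg Subtype.val hb))
  obtain ⟨v, hv⟩ := (IsArtinianRing.isUnit_of_mem_nonZeroDivisors hnzd).exists_right_inv
  have hv' : x * (v : R) = 1 := congrArg Subtype.val hv
  exact IsUnit.of_mul_eq_one _ hv'

section Strict

variable (A S : Type u) [CommRing A] [IsLocalRing A] [IsReduced A]
  (hmin : (minimalPrimes A).Finite)
  [CommRing S] [IsLocalRing S] [Algebra A S] [IsLocalHom (algebraMap A S)]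
  [Hensel.IsStrictHenselization A S]

include hmin in
theorem isIntegral_one_tmul (x : S) :
    IsIntegral (FractionRing A) ((1 : FractionRing A) ⊗ₜ[A] x) := by
  have hI := Groth.Agent.H47.HensNoeth.isIndEtaleLocal_of_isStrictHenselization A S
  obtain ⟨C, _, _, hC, φ, hφ⟩ := hI.rep {x}
  obtain ⟨c, hc⟩ := hφ x (Finset.mem_singleton_self x)
  haveI : IsArtinianRing (FractionRing A) := Groth.Agent.S16448.isArtinianRing_fractionRing hmin
  haveI : Algebra.QuasiFinite (FractionRing A) (FractionRing A ⊗[A] C) := inferInstance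
  haveI : Module.Finite (FractionRing A) (FractionRing A ⊗[A] C) := Module.Finite.of_quasiFinite
  have h1 : IsIntegral (FractionRing A) ((1 : FractionRing A) ⊗ₜ[A] c) :=
    Algebra.IsIntegral.isIntegral _
  have h2 := h1.map (Algebra.TensorProduct.map (AlgHom.id (FractionRing A) (FractionRing A)) φ)
  rw [Algebra.TensorProduct.map_tmul, AlgHom.id_apply, hc] at h2
  exact h2

set_option maxHeartbeats 800000 in
include hmin in
/-- A non-zero-divisor of an `A`-subalgebra of `S` is a non-zero-divisor of `S`. -/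
theorem coe_mem_nonZeroDivisors (D : Subalgebra A S) (s : D) (hs : s ∈ nonZeroDivisors D) :
    (s : S) ∈ nonZeroDivisors S := by
  classical
  have hI := Groth.Agent.H47.HensNoeth.isIndEtaleLocal_of_isStrictHenselization A S
  haveI : Module.Flat A S := hI.flat
  haveI : IsArtinianRing (FractionRing A) := Groth.Agent.S16448.isArtinianRing_fractionRing hmin
  have hinjK : Function.Injective (algebraMap A (FractionRing A)) :=
    IsLocalization.injective (FractionRing A) le_rfl
  have hincl : Function.Injective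
      (Algebra.TensorProduct.includeRight : S →ₐ[A] FractionRing A ⊗[A] S) :=
    Algebra.TensorProduct.includeRight_injective hinjK
  obtain ⟨s', hs'⟩ : ∃ s' : FractionRing A ⊗[A] S, s' = (1 : FractionRing A) ⊗ₜ[A] (s : S) :=
    ⟨_, rfl⟩
  have hint : IsIntegral (FractionRing A) s' := by
    rw [hs']; exact isIntegral_one_tmul A S hmin _
  have hrep : ∀ z ∈ Algebra.adjoin (FractionRing A) {s'}, ∃ a ∈ nonZeroDivisors A, ∃ d : D,
      a • z = (1 : FractionRing A) ⊗ₜ[A] (d : S) := by
    intro z hz
    induction hz using Algebra.adjoin_induction with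
    | mem y hy =>
      rw [Set.mem_singleton_iff] at hy
      exact ⟨1, one_mem _, s, by rw [one_smul, hy, hs']⟩
    | algebraMap k =>
      obtain ⟨⟨r, a⟩, hra⟩ := IsLocalization.surj (nonZeroDivisors A) k
      refine ⟨a, a.2, algebraMap A D r, ?_⟩
      rw [Algebra.TensorProduct.algebraMap_apply, Algebra.algebraMap_self_apply,
        TensorProduct.smul_tmul', Algebra.smul_def, mul_comm, hra,
        Algebra.algebraMap_eq_smul_one, TensorProduct.smul_tmul,
        ← Algebra.algebraMap_eq_smul_one]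
      rfl
    | add x y _ _ hx hy =>
      obtain ⟨a₁, ha₁, d₁, h₁⟩ := hx
      obtain ⟨a₂, ha₂, d₂, h₂⟩ := hy
      refine ⟨a₁ * a₂, mul_mem ha₁ ha₂, a₂ • d₁ + a₁ • d₂, ?_⟩
      rw [smul_add, mul_smul, mul_smul, smul_comm a₁ a₂ x, h₁, h₂, ← TensorProduct.tmul_smul,
        ← TensorProduct.tmul_smul, ← TensorProduct.tmul_add]
      rfl
    | mul x y _ _ hx hy =>
      obtain ⟨a₁, ha₁, d₁, h₁⟩ := hx
      obtain ⟨a₂, ha₂, d₂, h₂⟩ := hy
      refine ⟨a₁ * a₂, mul_mem ha₁ ha₂, d₁ * d₂, ?_⟩
      rw [← smul_mul_smul_comm, h₁, h₂, Algebra.TensorProduct.tmul_mul_tmul, one_mul]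
      rfl
  have hnz : ∀ b ∈ Algebra.adjoin (FractionRing A) {s'}, b * s' = 0 → b = 0 := by
    intro b hbmem h0
    obtain ⟨a, ha, d, had⟩ := hrep b hbmem
    have h1 : (1 : FractionRing A) ⊗ₜ[A] ((d : S) * (s : S)) = 0 := by
      have : a • (b * s') = 0 := by rw [h0, smul_zero]
      rw [← smul_mul_assoc, had, hs', Algebra.TensorProduct.tmul_mul_tmul, one_mul] at this
      exact this
    have h2 : (d : S) * (s : S) = 0 := by
      apply hincl
      rw [map_zero]
      exact h1
    have h3 : d * s = 0 := Subtype.ext h2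
    have h4 : d = 0 := (mem_nonZeroDivisors_iff_right.mp hs) d h3
    rw [h4] at had
    have h5 : a • b = 0 := by
      rw [had]
      show (1 : FractionRing A) ⊗ₜ[A] (0 : S) = 0
      exact TensorProduct.tmul_zero _ _
    have hu : IsUnit (algebraMap A (FractionRing A) a) :=
      IsLocalization.map_units (FractionRing A) (⟨a, ha⟩ : nonZeroDivisors A)
    rw [← algebraMap_smul (FractionRing A) a b] at h5
    exact (IsUnit.smul_eq_zero hu).mp h5
  have hu : IsUnit s' := isUnit_of_isIntegral_of_nzd s' hint hnz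
  rw [mem_nonZeroDivisors_iff_right]
  intro y hy
  apply hincl
  rw [map_zero]
  have h1 : (Algebra.TensorProduct.includeRight : S →ₐ[A] FractionRing A ⊗[A] S) y * s' = 0 := by
    rw [hs']
    show ((1 : FractionRing A) ⊗ₜ[A] y) * ((1 : FractionRing A) ⊗ₜ[A] (s : S)) = 0
    rw [Algebra.TensorProduct.tmul_mul_tmul, one_mul, hy, TensorProduct.tmul_zero]
  exact (hu.mul_left_eq_zero).mp h1

/-- An essentially étale local subalgebra containing a given finite set, over which `S` is
faithfully flat. -/
theorem exists_essEtale_sub (Y : Finset S) :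
    ∃ E : Subalgebra A S, (Y : Set S) ⊆ (E : Set S) ∧
      (∃ _ : IsLocalRing E, EGA4loc.IsEssentiallyEtale A E) ∧
      ∀ (u x : S), u ∈ E → u ∈ nonZeroDivisors S → u * x ∈ E → x ∈ E := by
  classical
  have hI := Groth.Agent.H47.HensNoeth.isIndEtaleLocal_of_isStrictHenselization A S
  haveI : Module.Flat A S := hI.flat
  obtain ⟨C, _, _, hC, φ, hφ⟩ := hI.rep Y
  let Q : Ideal C := (IsLocalRing.maximalIdeal S).comap φ.toRingHom
  haveI hQ : Q.IsPrime := Ideal.comap_isPrime _ _
  have hQmem : ∀ c : C, c ∈ Q → ¬ IsUnit (φ c) := fun c h =>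
    (IsLocalRing.mem_maximalIdeal _).mp h
  have hunit : ∀ y : Q.primeCompl, IsUnit (φ y) := fun y => by
    by_contra h
    exact y.2 ((IsLocalRing.mem_maximalIdeal _).mpr h)
  let ĝ : Localization.AtPrime Q →ₐ[A] S :=
    IsLocalization.liftAlgHom (M := Q.primeCompl) (f := φ) hunit
  have hĝ : ∀ c : C, ĝ (algebraMap C _ c) = φ c := fun c => by
    show IsLocalization.liftAlgHom (M := Q.primeCompl) (f := φ) hunit _ = _
    rw [IsLocalization.liftAlgHom_apply, IsLocalization.lift_eq]
    rfl
  letI algLS : Algebra (Localization.AtPrime Q) S := ĝ.toRingHom.toAlgebra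
  haveI : IsScalarTower A (Localization.AtPrime Q) S :=
    IsScalarTower.of_algebraMap_eq (fun a => (ĝ.commutes a).symm)
  haveI : Module.Flat (Localization.AtPrime Q) S :=
    Algebra.FormallyUnramified.flat_of_restrictScalars A _ S
  haveI : IsLocalHom (algebraMap (Localization.AtPrime Q) S) := ⟨fun x hx => by
    obtain ⟨⟨a, s⟩, hxs⟩ := IsLocalization.surj Q.primeCompl x
    have hx' : IsUnit (ĝ x) := hx
    have h1 : ĝ x * φ s = φ a := by
      rw [← hĝ, ← hĝ, ← map_mul]
      exact congrArg ĝ hxs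
    have h2 : IsUnit (φ a) := by
      rw [← h1]
      exact hx'.mul (hunit s)
    have h3 : a ∉ Q := fun h => hQmem a h h2
    have h4 : IsUnit (algebraMap C (Localization.AtPrime Q) a) :=
      IsLocalization.map_units _ (⟨a, h3⟩ : Q.primeCompl)
    rw [← hxs] at h4
    exact isUnit_of_mul_isUnit_left h4⟩
  haveI : Module.FaithfullyFlat (Localization.AtPrime Q) S :=
    Module.FaithfullyFlat.of_flat_of_isLocalHom
  have hinj : Function.Injective ĝ :=
    FaithfulSMul.algebraMap_injective (Localization.AtPrime Q) S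
  let eE : Localization.AtPrime Q ≃ₐ[A] ĝ.range := AlgEquiv.ofInjective ĝ hinj
  haveI hEloc : IsLocalRing ĝ.range := eE.toRingEquiv.isLocalRing
  refine ⟨ĝ.range, ?_, ⟨hEloc, C, inferInstance, inferInstance, Q, hQ, hC, ?_, ⟨eE.symm⟩⟩, ?_⟩
  · intro y hy
    obtain ⟨c, hc⟩ := hφ y (Finset.mem_coe.mp hy)
    exact ⟨algebraMap C _ c, (hĝ c).trans hc⟩
  · ext a
    show φ (algebraMap A C a) ∈ IsLocalRing.maximalIdeal S ↔ a ∈ IsLocalRing.maximalIdeal A
    rw [φ.commutes, IsLocalRing.mem_maximalIdeal, IsLocalRing.mem_maximalIdeal, mem_nonunits_iff,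
      mem_nonunits_iff, isUnit_map_iff]
  · rintro u x ⟨u₀, rfl⟩ hu ⟨y₀, hy₀⟩
    have h1 : y₀ ∈ ((Ideal.span {u₀} : Ideal (Localization.AtPrime Q)).map
        (algebraMap (Localization.AtPrime Q) S)).comap (algebraMap (Localization.AtPrime Q) S) := by
      rw [Ideal.mem_comap]
      have h2 : algebraMap (Localization.AtPrime Q) S y₀ = ĝ u₀ * x := hy₀
      rw [h2]
      exact Ideal.mul_mem_right _ _
        (Ideal.mem_map_of_mem _ (Ideal.mem_span_singleton_self u₀))
    rw [Ideal.comap_map_eq_self_of_faithfullyFlat] at h1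
    obtain ⟨e₀, he₀⟩ := Ideal.mem_span_singleton'.mp h1
    refine ⟨e₀, ?_⟩
    have h3 : ĝ e₀ * ĝ u₀ = ĝ u₀ * x := by
      rw [← map_mul, he₀]
      exact hy₀
    have h4 : (ĝ e₀ - x) * ĝ u₀ = 0 := by
      rw [sub_mul, h3, mul_comm x, sub_self]
    exact sub_eq_zero.mp ((mem_nonZeroDivisors_iff_right.mp hu) _ h4)

end Strict

/-- Finiteness of the total ring of fractions over that of `A`, from finiteness of the base
change. -/
theorem exists_finset_span (A : Type u) [CommRing A] [IsReduced A]
    (hmin : (minimalPrimes A).Finite) (B : Type u) [CommRing B] [Algebra A B]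
    (hle : (nonZeroDivisors A).map (algebraMap A B) ≤ nonZeroDivisors B)
    [Module.Finite (FractionRing A) (FractionRing A ⊗[A] B)] :
    ∃ t : Finset (FractionRing B), ∀ x : FractionRing B, ∃ a ∈ nonZeroDivisors A,
      algebraMap A (FractionRing B) a * x ∈ Submodule.span A (t : Set (FractionRing B)) := by
  classical
  let K := FractionRing A
  haveI : IsArtinianRing K := Groth.Agent.S16448.isArtinianRing_fractionRing hmin
  haveI : IsArtinianRing (K ⊗[A] B) := IsArtinianRing.of_finite K _
  letI : Algebra B (K ⊗[A] B) := Algebra.TensorProduct.rightAlgebra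
  haveI hlocT : IsLocalization (Algebra.algebraMapSubmonoid B (nonZeroDivisors A)) (K ⊗[A] B) :=
    IsLocalization.tensorRight (S := B) K (nonZeroDivisors A)
  have hdvd : ∀ y ∈ nonZeroDivisors B,
      ∃ s ∈ (nonZeroDivisors A).map (algebraMap A B), y ∣ s := by
    intro y hy
    have h1 : algebraMap B (K ⊗[A] B) y ∈ nonZeroDivisors (K ⊗[A] B) :=
      IsLocalization.map_nonZeroDivisors_le (Algebra.algebraMapSubmonoid B (nonZeroDivisors A))
        (K ⊗[A] B) (Submonoid.mem_map.mpr ⟨y, hy, rfl⟩)
    have hu := IsArtinianRing.isUnit_of_mem_nonZeroDivisors h1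
    obtain ⟨z, hz⟩ := hu.exists_right_inv
    obtain ⟨b, m, rfl⟩ := IsLocalization.exists_mk'_eq
      (Algebra.algebraMapSubmonoid B (nonZeroDivisors A)) z
    have h2 : algebraMap B (K ⊗[A] B) (y * b) = algebraMap B (K ⊗[A] B) (m : B) := by
      rw [map_mul]
      calc algebraMap B (K ⊗[A] B) y * algebraMap B (K ⊗[A] B) b
          = algebraMap B (K ⊗[A] B) y * (IsLocalization.mk' (K ⊗[A] B) b m *
              algebraMap B (K ⊗[A] B) (m : B)) := by rw [IsLocalization.mk'_spec]
        _ = (algebraMap B (K ⊗[A] B) y * IsLocalization.mk' (K ⊗[A] B) b m) *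
              algebraMap B (K ⊗[A] B) (m : B) := by ring
        _ = algebraMap B (K ⊗[A] B) (m : B) := by rw [hz, one_mul]
    obtain ⟨c, hc⟩ := (IsLocalization.eq_iff_exists
      (Algebra.algebraMapSubmonoid B (nonZeroDivisors A)) (K ⊗[A] B)).mp h2
    refine ⟨((c * m : Algebra.algebraMapSubmonoid B (nonZeroDivisors A)) : B), (c * m).2, ?_⟩
    refine Dvd.intro ((c : B) * b) ?_
    rw [Submonoid.coe_mul, ← hc]
    ring
  have hloc : IsLocalization ((nonZeroDivisors A).map (algebraMap A B)) (FractionRing B) :=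
    (IsLocalization.iff_of_le_of_exists_dvd (S := FractionRing B) _ (nonZeroDivisors B)
      hle hdvd).mpr inferInstance
  haveI hloc' : IsLocalization (Algebra.algebraMapSubmonoid B (nonZeroDivisors A))
    (FractionRing B) := hloc
  let ψ : K ⊗[A] B ≃ₐ[B] FractionRing B :=
    IsLocalization.algEquiv (Algebra.algebraMapSubmonoid B (nonZeroDivisors A)) _ _
  let ψA : K ⊗[A] B ≃ₐ[A] FractionRing B := ψ.restrictScalars A
  obtain ⟨t', ht'⟩ := (Module.Finite.fg_top (R := K) (M := K ⊗[A] B))
  have key : ∀ x' : K ⊗[A] B, ∃ a ∈ nonZeroDivisors A,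
      a • x' ∈ Submodule.span A (t' : Set (K ⊗[A] B)) := by
    intro x'
    have hx' : x' ∈ Submodule.span K (t' : Set (K ⊗[A] B)) := by rw [ht']; trivial
    rw [Submodule.mem_span_finset'] at hx'
    obtain ⟨f, rfl⟩ := hx'
    obtain ⟨b, hb⟩ := IsLocalization.exist_integer_multiples (nonZeroDivisors A) Finset.univ f
    refine ⟨b, b.2, ?_⟩
    rw [Finset.smul_sum]
    refine Submodule.sum_mem _ (fun i _ => ?_)
    obtain ⟨a, ha⟩ := hb i (Finset.mem_univ i)
    rw [← smul_assoc, ← ha, algebraMap_smul]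
    exact Submodule.smul_mem _ _ (Submodule.subset_span i.2)
  refine ⟨t'.image ψA, fun x => ?_⟩
  obtain ⟨a, ha, hax⟩ := key (ψA.symm x)
  refine ⟨a, ha, ?_⟩
  have h3 : algebraMap A (FractionRing B) a * x = ψA (a • ψA.symm x) := by
    rw [map_smul, AlgEquiv.apply_symm_apply, Algebra.smul_def]
  rw [h3, Finset.coe_image]
  exact Submodule.apply_mem_span_image_of_mem_span ψA.toLinearMap hax

end Groth.Agent.H15.EssSub
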