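import Mathlib
import Groth.Agent.H15.EssSub

/-!
# S16441: the total ring of fractions of a dominated local subalgebra `D ⊆ A^sh` is finitely
generated over that of `A` iff `D` lies in an essentially étale local subalgebra
-/

set_option autoImplicit false
set_option linter.style.haveILetI false
set_option linter.unusedSectionVars false
universe u
open TensorProduct IsLocalRing

namespace Groth.Agent.H15.EssSub

set_option maxHeartbeats 1600000 in
theorem fg_iff_le_essEtale
    (A S : Type u) [CommRing A] [IsLocalRing A] [IsReduced A] (hmin : (minimalPrimes A).Finite)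
    [CommRing S] [IsLocalRing S] [Algebra A S] [IsLocalHom (algebraMap A S)]
    [Hensel.IsStrictHenselization A S] (D : Subalgebra A S) [IsLocalRing D]
    [IsLocalHom (algebraMap D S)] :
    (∃ t : Finset (FractionRing D), ∀ x : FractionRing D, ∃ a ∈ nonZeroDivisors A,
        algebraMap A (FractionRing D) a * x ∈ Algebra.adjoin A (t : Set (FractionRing D))) ↔
      ∃ E : Subalgebra A S, D ≤ E ∧ ∃ _ : IsLocalRing E, EGA4loc.IsEssentiallyEtale A E := by
  classical
  have hI := Groth.Agent.H47.HensNoeth.isIndEtaleLocal_of_isStrictHenselization A S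
  haveI : Module.Flat A S := hI.flat
  constructor
  · rintro ⟨t, ht⟩
    have hsurj := fun z : FractionRing D => IsLocalization.surj (nonZeroDivisors D) z
    choose f hf using hsurj
    obtain ⟨E, hYE, hE, hEprop⟩ := exists_essEtale_sub A S
      (t.image (fun τ => (((f τ).1 : D) : S)) ∪
        t.image (fun τ => ((((f τ).2 : nonZeroDivisors D) : D) : S)))
    refine ⟨E, ?_, hE⟩
    have hadj : ∀ z ∈ Algebra.adjoin A (t : Set (FractionRing D)), ∃ (s d : D),
        s ∈ nonZeroDivisors D ∧ (s : S) ∈ E ∧ (d : S) ∈ E ∧
          z * algebraMap D (FractionRing D) s = algebraMap D (FractionRing D) d := by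
      intro z hz
      induction hz using Algebra.adjoin_induction with
      | mem τ hτ =>
        refine ⟨(f τ).2, (f τ).1, (f τ).2.2, ?_, ?_, hf τ⟩
        · exact hYE (Finset.mem_coe.mpr (Finset.mem_union_right _
            (Finset.mem_image_of_mem _ (Finset.mem_coe.mp hτ))))
        · exact hYE (Finset.mem_coe.mpr (Finset.mem_union_left _
            (Finset.mem_image_of_mem _ (Finset.mem_coe.mp hτ))))
      | algebraMap r =>
        refine ⟨1, algebraMap A D r, one_mem _, E.one_mem, E.algebraMap_mem r, ?_⟩
        rw [map_one, mul_one, ← IsScalarTower.algebraMap_apply]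
      | add x y _ _ hx hy =>
        obtain ⟨s₁, d₁, hs₁, hs₁E, hd₁E, h₁⟩ := hx
        obtain ⟨s₂, d₂, hs₂, hs₂E, hd₂E, h₂⟩ := hy
        refine ⟨s₁ * s₂, d₁ * s₂ + d₂ * s₁, mul_mem hs₁ hs₂, E.mul_mem hs₁E hs₂E,
          E.add_mem (E.mul_mem hd₁E hs₂E) (E.mul_mem hd₂E hs₁E), ?_⟩
        rw [map_mul, map_add, map_mul, map_mul, ← h₁, ← h₂]
        ring
      | mul x y _ _ hx hy =>
        obtain ⟨s₁, d₁, hs₁, hs₁E, hd₁E, h₁⟩ := hx
        obtain ⟨s₂, d₂, hs₂, hs₂E, hd₂E, h₂⟩ := hy
        refine ⟨s₁ * s₂, d₁ * d₂, mul_mem hs₁ hs₂, E.mul_mem hs₁E hs₂E,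
          E.mul_mem hd₁E hd₂E, ?_⟩
        rw [map_mul, map_mul, ← h₁, ← h₂]
        ring
    intro x hx
    obtain ⟨a, ha, hmem⟩ := ht (algebraMap D (FractionRing D) ⟨x, hx⟩)
    obtain ⟨s, d, hs, hsE, hdE, hsd⟩ := hadj _ hmem
    have h1 : algebraMap A D a * ⟨x, hx⟩ * s = d := by
      apply IsLocalization.injective (FractionRing D) (le_refl (nonZeroDivisors D))
      rw [map_mul, map_mul, ← IsScalarTower.algebraMap_apply A D (FractionRing D)]
      exact hsd
    have h2 : (algebraMap A S a * (s : S)) * x = (d : S) := by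
      have h3 := congrArg Subtype.val h1
      rw [← h3]
      show algebraMap A S a * (s : S) * x = algebraMap A S a * x * (s : S)
      ring
    apply hEprop (algebraMap A S a * (s : S)) x (E.mul_mem (E.algebraMap_mem a) hsE)
    · exact mul_mem (algebraMap_mem_nonZeroDivisors_of_flat A S ha)
        (coe_mem_nonZeroDivisors A S hmin D s hs)
    · rw [h2]; exact hdE
  · rintro ⟨E, hDE, hEloc, hE⟩
    haveI := hEloc
    obtain ⟨C, _, _, Q, hQ, hC, hQm, ⟨e⟩⟩ := hE
    haveI : Algebra.QuasiFinite A (Localization.AtPrime Q) := inferInstance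
    haveI : Algebra.QuasiFinite A E := (Algebra.QuasiFinite.iff_of_algEquiv e).mpr inferInstance
    haveI : IsArtinianRing (FractionRing A) :=
      Groth.Agent.S16448.isArtinianRing_fractionRing hmin
    haveI : Algebra.QuasiFinite (FractionRing A) (FractionRing A ⊗[A] E) := inferInstance
    haveI : Module.Finite (FractionRing A) (FractionRing A ⊗[A] E) := Module.Finite.of_quasiFinite
    haveI : IsNoetherian (FractionRing A) (FractionRing A ⊗[A] E) :=
      isNoetherian_of_isNoetherianRing_of_finite (FractionRing A) _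
    haveI : Module.Flat A (FractionRing A) := IsLocalization.flat (FractionRing A) (nonZeroDivisors A)
    obtain ⟨ι, hι⟩ : ∃ ι : FractionRing A ⊗[A] D →ₐ[FractionRing A] FractionRing A ⊗[A] E,
        ι = Algebra.TensorProduct.map (AlgHom.id (FractionRing A) (FractionRing A))
          (Subalgebra.inclusion hDE) := ⟨_, rfl⟩
    have hιinj : Function.Injective ι := by
      have h1 := Module.Flat.lTensor_preserves_injective_linearMap (M := FractionRing A)
        (Subalgebra.inclusion hDE).toLinearMap (Subalgebra.inclusion_injective hDE)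
      have h2 : ⇑ι = ⇑(LinearMap.lTensor (FractionRing A) (Subalgebra.inclusion hDE).toLinearMap) := by
        funext z
        induction z using TensorProduct.induction_on with
        | zero => rw [map_zero, map_zero]
        | tmul k d => rw [hι]; rfl
        | add x y hx hy => rw [map_add, map_add, hx, hy]
      rw [h2]
      exact h1
    haveI : Module.Finite (FractionRing A) (FractionRing A ⊗[A] D) :=
      Module.Finite.of_injective ι.toLinearMap hιinj
    have hle : (nonZeroDivisors A).map (algebraMap A D) ≤ nonZeroDivisors D := by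
      rintro _ ⟨a, ha, rfl⟩
      rw [mem_nonZeroDivisors_iff_right]
      intro y hy
      have h1 := algebraMap_mem_nonZeroDivisors_of_flat A S ha
      have h2 : (y : S) * algebraMap A S a = 0 := congrArg Subtype.val hy
      exact Subtype.ext ((mem_nonZeroDivisors_iff_right.mp h1) _ h2)
    obtain ⟨t, ht⟩ := exists_finset_span A hmin D hle
    refine ⟨t, fun x => ?_⟩
    obtain ⟨a, ha, hax⟩ := ht x
    exact ⟨a, ha, Algebra.span_le_adjoin A _ hax⟩

end Groth.Agent.H15.EssSub
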