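import Mathlib

/-!
# Normalization of a reduced Noetherian ring and of its quotients by minimal primes

For a reduced ring `D` and a minimal prime `p`, the map `Frac D → Frac (D/p)` and the induced map
on integral closures `D' → N_p`, which is surjective when `D` is Noetherian.
-/

set_option autoImplicit false
set_option linter.style.haveILetI false
set_option linter.unusedSectionVars false
universe u
open Polynomial

namespace Groth.Agent.H15.NormRed

variable (D : Type u) [CommRing D]

/-- The canonical map `Frac D → Frac (D/p)` for a minimal prime `p`. -/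
noncomputable def fracMap (p : Ideal D) (hp : p ∈ minimalPrimes D) :
    FractionRing D →+* FractionRing (D ⧸ p) :=
  IsLocalization.map (M := nonZeroDivisors D) (T := nonZeroDivisors (D ⧸ p))
    (FractionRing (D ⧸ p)) (Ideal.Quotient.mk p) (fun x hx => by
      haveI : p.IsPrime := hp.1.1
      rw [Submonoid.mem_comap, mem_nonZeroDivisors_iff_ne_zero]
      intro h0
      have hxp : x ∈ p := Ideal.Quotient.eq_zero_iff_mem.mp h0
      exact Set.disjoint_left.mp (Ideal.disjoint_nonZeroDivisors_of_mem_minimalPrimes hp) hxp hx)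

theorem fracMap_algebraMap (p : Ideal D) (hp : p ∈ minimalPrimes D) (d : D) :
    fracMap D p hp (algebraMap D (FractionRing D) d) =
      algebraMap (D ⧸ p) (FractionRing (D ⧸ p)) (Ideal.Quotient.mk p d) :=
  IsLocalization.map_eq _ d

theorem fracMap_comp (p : Ideal D) (hp : p ∈ minimalPrimes D) :
    (algebraMap (D ⧸ p) (FractionRing (D ⧸ p))).comp (Ideal.Quotient.mk p) =
      (fracMap D p hp).comp (algebraMap D (FractionRing D)) :=
  RingHom.ext fun d => (fracMap_algebraMap D p hp d).symm

/-- An element of `Frac D` (`D` reduced) killed by all the maps to `Frac (D/p)` is zero. -/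
theorem eq_zero_of_fracMap_eq_zero [IsReduced D] (x : FractionRing D)
    (h : ∀ (p : Ideal D) (hp : p ∈ minimalPrimes D), fracMap D p hp x = 0) : x = 0 := by
  obtain ⟨⟨a, b⟩, hab⟩ := IsLocalization.surj (nonZeroDivisors D) x
  have ha : a = 0 := by
    have h1 : a ∈ nilradical D := by
      rw [nilradical_eq_sInf, Ideal.mem_sInf]
      intro P hP
      have hP' : P.IsPrime := hP
      obtain ⟨p, hp, hpP⟩ := Ideal.exists_minimalPrimes_le (I := (⊥ : Ideal D)) (J := P) bot_le
      apply hpP
      haveI : p.IsPrime := hp.1.1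
      have h2 := congrArg (fracMap D p hp) hab
      rw [map_mul, h p hp, zero_mul, fracMap_algebraMap] at h2
      have h3 : Ideal.Quotient.mk p a = 0 :=
        IsFractionRing.injective (D ⧸ p) (FractionRing (D ⧸ p)) (by rw [← h2, map_zero])
      exact Ideal.Quotient.eq_zero_iff_mem.mp h3
    rw [nilradical_eq_zero] at h1
    exact h1
  rw [ha, map_zero] at hab
  have hu : IsUnit (algebraMap D (FractionRing D) (b : D)) :=
    IsLocalization.map_units (FractionRing D) b
  exact (hu.mul_left_eq_zero).mp hab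

/-- The induced map on integral closures. -/
noncomputable def normMap (p : Ideal D) (hp : p ∈ minimalPrimes D) :
    integralClosure D (FractionRing D) →+* integralClosure (D ⧸ p) (FractionRing (D ⧸ p)) :=
  ((fracMap D p hp).comp (algebraMap (integralClosure D (FractionRing D)) (FractionRing D))).codRestrict
    (integralClosure (D ⧸ p) (FractionRing (D ⧸ p))) (fun x => by
      have hx : IsIntegral D (x : FractionRing D) := x.2
      exact hx.map_of_comp_eq (Ideal.Quotient.mk p) (fracMap D p hp) (fracMap_comp D p hp))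

theorem normMap_coe (p : Ideal D) (hp : p ∈ minimalPrimes D)
    (x : integralClosure D (FractionRing D)) :
    ((normMap D p hp x : integralClosure (D ⧸ p) (FractionRing (D ⧸ p))) :
      FractionRing (D ⧸ p)) = fracMap D p hp (x : FractionRing D) := rfl

theorem normMap_algebraMap (p : Ideal D) (hp : p ∈ minimalPrimes D) (d : D) :
    normMap D p hp (algebraMap D (integralClosure D (FractionRing D)) d) =
      algebraMap (D ⧸ p) (integralClosure (D ⧸ p) (FractionRing (D ⧸ p)))
        (Ideal.Quotient.mk p d) := by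
  apply Subtype.ext
  rw [normMap_coe]
  exact fracMap_algebraMap D p hp d

/-- Some `normMap` has kernel inside a given prime. -/
theorem exists_ker_normMap_le [IsReduced D] [IsNoetherianRing D]
    (M : Ideal (integralClosure D (FractionRing D))) [M.IsPrime] :
    ∃ (p : Ideal D) (hp : p ∈ minimalPrimes D), RingHom.ker (normMap D p hp) ≤ M := by
  classical
  have hfin : (minimalPrimes D).Finite := minimalPrimes.finite_of_isNoetherianRing D
  let J : Ideal D → Ideal (integralClosure D (FractionRing D)) := fun p =>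
    if hp : p ∈ minimalPrimes D then RingHom.ker (normMap D p hp) else ⊤
  have hJ : hfin.toFinset.inf J ≤ M := by
    intro x hx
    have hx0 : x = 0 := by
      apply Subtype.ext
      apply eq_zero_of_fracMap_eq_zero D
      intro p hp
      have h1 : x ∈ J p := (Finset.inf_le (hfin.mem_toFinset.mpr hp) : hfin.toFinset.inf J ≤ J p) hx
      simp only [J, dif_pos hp, RingHom.mem_ker] at h1
      have h2 := congrArg Subtype.val h1
      rw [normMap_coe] at h2
      exact h2
    rw [hx0]
    exact M.zero_mem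
  obtain ⟨p, hpmem, hpM⟩ := (Ideal.IsPrime.inf_le' (inferInstance : M.IsPrime)).mp hJ
  have hp : p ∈ minimalPrimes D := hfin.mem_toFinset.mp hpmem
  refine ⟨p, hp, ?_⟩
  simpa only [J, dif_pos hp] using hpM

/-- In a reduced ring, an element outside all minimal primes is a non-zero-divisor. -/
theorem mem_nonZeroDivisors_of_forall_notMem [IsReduced D] (x : D)
    (h : ∀ p ∈ minimalPrimes D, x ∉ p) : x ∈ nonZeroDivisors D := by
  rw [mem_nonZeroDivisors_iff_right]
  intro y hy
  have h1 : y ∈ nilradical D := by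
    rw [nilradical_eq_sInf, Ideal.mem_sInf]
    intro P hP
    have hP' : P.IsPrime := hP
    obtain ⟨p, hp, hpP⟩ := Ideal.exists_minimalPrimes_le (I := (⊥ : Ideal D)) (J := P) bot_le
    apply hpP
    haveI : p.IsPrime := hp.1.1
    have h2 : y * x ∈ p := by rw [hy]; exact p.zero_mem
    rcases Ideal.IsPrime.mem_or_mem inferInstance h2 with h3 | h3
    · exact h3
    · exact absurd h3 (h p hp)
  rw [nilradical_eq_zero] at h1
  exact h1

/-- `normMap` is surjective for a reduced Noetherian ring. -/
theorem normMap_surjective [IsReduced D] [IsNoetherianRing D] (p : Ideal D)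
    (hp : p ∈ minimalPrimes D) : Function.Surjective (normMap D p hp) := by
  classical
  haveI hpp : p.IsPrime := hp.1.1
  have hfin : (minimalPrimes D).Finite := minimalPrimes.finite_of_isNoetherianRing D
  obtain ⟨s, hs⟩ : ∃ s : Finset (Ideal D), s = hfin.toFinset.erase p := ⟨_, rfl⟩
  have hsmem : ∀ p' : Ideal D, p' ∈ s ↔ p' ≠ p ∧ p' ∈ minimalPrimes D := by
    intro p'
    rw [hs, Finset.mem_erase, hfin.mem_toFinset]
  -- the element `c`
  obtain ⟨c, hcs, hcp⟩ : ∃ c : D, c ∈ s.inf id ∧ c ∉ p := by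
    have hnot : ¬ (s.inf id ≤ p) := by
      intro hle
      obtain ⟨p', hp's, hp'p⟩ := (Ideal.IsPrime.inf_le' hpp).mp hle
      obtain ⟨hne, hp'min⟩ := (hsmem p').mp hp's
      exact hne (le_antisymm hp'p (hp.2 ⟨hp'min.1.1, bot_le⟩ hp'p))
    exact SetLike.not_le_iff_exists.mp hnot
  have hcs' : ∀ p' ∈ s, c ∈ p' := fun p' hp' =>
    (Finset.inf_le hp' : s.inf id ≤ id p') hcs
  -- the element `c₀`
  obtain ⟨c₀, hc₀p, hc₀s⟩ : ∃ c₀ : D, c₀ ∈ p ∧ ∀ p' ∈ s, c₀ ∉ p' := by
    by_contra hcon
    push Not at hcon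
    have hsub : ((p : Ideal D) : Set D) ⊆ ⋃ i ∈ (↑s : Set (Ideal D)), ((id i : Ideal D) : Set D) := by
      intro x hx
      obtain ⟨p', hp's, hxp'⟩ := hcon x hx
      exact Set.mem_biUnion (Finset.mem_coe.mpr hp's) hxp'
    obtain ⟨p', hp's, hpp'⟩ := (Ideal.subset_union_prime (R := D) (f := id) p p
      (fun i hi _ _ => ((hsmem i).mp hi).2.1.1)).mp hsub
    obtain ⟨hne, hp'min⟩ := (hsmem p').mp hp's
    exact hne (le_antisymm (hp'min.2 ⟨hpp, bot_le⟩ hpp') hpp')
  intro z
  obtain ⟨⟨ab, bb⟩, hz⟩ := IsLocalization.surj (nonZeroDivisors (D ⧸ p)) (z : FractionRing (D ⧸ p))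
  obtain ⟨a, rfl⟩ := Ideal.Quotient.mk_surjective ab
  obtain ⟨b, hb⟩ := Ideal.Quotient.mk_surjective (bb : D ⧸ p)
  have hbp : b ∉ p := by
    intro h
    have h0 : (bb : D ⧸ p) = 0 := by rw [← hb]; exact Ideal.Quotient.eq_zero_iff_mem.mpr h
    exact nonZeroDivisors.ne_zero bb.2 h0
  have hden : b * c + c₀ ∈ nonZeroDivisors D := by
    apply mem_nonZeroDivisors_of_forall_notMem
    intro p' hp'
    by_cases hpe : p' = p
    · subst hpe
      intro h
      have h1 : b * c ∈ p' := by
        have := p'.sub_mem h hc₀p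
        simpa using this
      rcases Ideal.IsPrime.mem_or_mem hpp h1 with h2 | h2
      · exact hbp h2
      · exact hcp h2
    · have hp's : p' ∈ s := (hsmem p').mpr ⟨hpe, hp'⟩
      intro h
      have h1 : c₀ ∈ p' := by
        have := p'.sub_mem h (p'.mul_mem_left b (hcs' p' hp's))
        simpa using this
      exact hc₀s p' hp's h1
  obtain ⟨y, hy⟩ : ∃ y : FractionRing D, y = IsLocalization.mk' (FractionRing D) (a * c)
      (⟨b * c + c₀, hden⟩ : nonZeroDivisors D) := ⟨_, rfl⟩
  have hyspec : y * algebraMap D (FractionRing D) (b * c + c₀) =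
      algebraMap D (FractionRing D) (a * c) := by
    rw [hy]; exact IsLocalization.mk'_spec _ _ _
  -- images of `y`
  have hmkden : Ideal.Quotient.mk p (b * c + c₀) = (bb : D ⧸ p) * Ideal.Quotient.mk p c := by
    rw [map_add, map_mul, hb, Ideal.Quotient.eq_zero_iff_mem.mpr hc₀p, add_zero]
  have hmkc : Ideal.Quotient.mk p c ≠ 0 := fun h => hcp (Ideal.Quotient.eq_zero_iff_mem.mp h)
  have hyp : fracMap D p hp y = (z : FractionRing (D ⧸ p)) := by
    have h1 := congrArg (fracMap D p hp) hyspec
    rw [map_mul, fracMap_algebraMap, fracMap_algebraMap, hmkden, map_mul, map_mul, map_mul] at h1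
    have h2 : algebraMap (D ⧸ p) (FractionRing (D ⧸ p)) (bb : D ⧸ p) ≠ 0 := fun h =>
      nonZeroDivisors.ne_zero bb.2
        (IsFractionRing.injective (D ⧸ p) (FractionRing (D ⧸ p)) (by rw [h, map_zero]))
    have h3 : algebraMap (D ⧸ p) (FractionRing (D ⧸ p)) (Ideal.Quotient.mk p c) ≠ 0 := fun h =>
      hmkc (IsFractionRing.injective (D ⧸ p) (FractionRing (D ⧸ p)) (by rw [h, map_zero]))
    have h4 : (z : FractionRing (D ⧸ p)) * (algebraMap (D ⧸ p) (FractionRing (D ⧸ p)) (bb : D ⧸ p) *
        algebraMap (D ⧸ p) (FractionRing (D ⧸ p)) (Ideal.Quotient.mk p c)) =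
        algebraMap (D ⧸ p) (FractionRing (D ⧸ p)) (Ideal.Quotient.mk p a) *
          algebraMap (D ⧸ p) (FractionRing (D ⧸ p)) (Ideal.Quotient.mk p c) := by
      rw [← mul_assoc, hz]
    exact mul_right_cancel₀ (mul_ne_zero h2 h3) (h1.trans h4.symm)
  have hyp' : ∀ (p' : Ideal D) (hp' : p' ∈ minimalPrimes D), p' ≠ p → fracMap D p' hp' y = 0 := by
    intro p' hp' hne
    haveI : p'.IsPrime := hp'.1.1
    have hp's : p' ∈ s := (hsmem p').mpr ⟨hne, hp'⟩
    have h1 := congrArg (fracMap D p' hp') hyspec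
    rw [map_mul, fracMap_algebraMap, fracMap_algebraMap] at h1
    have h2 : Ideal.Quotient.mk p' (a * c) = 0 :=
      Ideal.Quotient.eq_zero_iff_mem.mpr (p'.mul_mem_left a (hcs' p' hp's))
    have h3 : Ideal.Quotient.mk p' (b * c + c₀) ≠ 0 := by
      intro h
      have h4 : b * c + c₀ ∈ p' := Ideal.Quotient.eq_zero_iff_mem.mp h
      have h5 : c₀ ∈ p' := by
        have := p'.sub_mem h4 (p'.mul_mem_left b (hcs' p' hp's))
        simpa using this
      exact hc₀s p' hp's h5
    have h6 : algebraMap (D ⧸ p') (FractionRing (D ⧸ p')) (Ideal.Quotient.mk p' (b * c + c₀)) ≠ 0 :=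
      fun h => h3 (IsFractionRing.injective (D ⧸ p') (FractionRing (D ⧸ p')) (by rw [h, map_zero]))
    rw [h2, map_zero] at h1
    exact (mul_eq_zero.mp h1).resolve_right h6
  -- integrality of `y`
  have hzint : IsIntegral (D ⧸ p) (z : FractionRing (D ⧸ p)) := z.2
  obtain ⟨fb, hfbm, hfb0⟩ := hzint
  obtain ⟨f, hfmap, -, hfm⟩ := Polynomial.lifts_and_natDegree_eq_and_monic
    ((Polynomial.mem_lifts _).mpr
      (Polynomial.map_surjective (Ideal.Quotient.mk p) Ideal.Quotient.mk_surjective fb)) hfbm
  have hyint : IsIntegral D y := by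
    refine ⟨X * f, Polynomial.monic_X.mul hfm, ?_⟩
    apply eq_zero_of_fracMap_eq_zero D
    intro p' hp'
    rw [Polynomial.hom_eval₂, Polynomial.eval₂_mul, Polynomial.eval₂_X]
    by_cases hpe : p' = p
    · subst hpe
      rw [hyp, ← fracMap_comp, ← Polynomial.eval₂_map, hfmap, hfb0, mul_zero]
    · rw [hyp' p' hp' hpe, zero_mul]
  refine ⟨⟨y, hyint⟩, Subtype.ext ?_⟩
  rw [normMap_coe]
  exact hyp

end Groth.Agent.H15.NormRed
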