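import Groth.Agent.H15.EssFT2
import Groth.Agent.H15.EssSub2
import Groth.Agent.H15.StrictSub8
import Groth.Agent.H57.LocalCrit
import Groth.Agent.S17977
import Groth.Agent.S16438
import Groth.Agent.H29.RedModP

/-!
# S16439: a noetherian local subalgebra of the strict henselization with finitely generated total
ring of fractions and `m_A D = m_D` is essentially étale
-/

set_option autoImplicit false
set_option linter.style.haveILetI false
set_option linter.unusedSectionVars false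
universe u
open IsLocalRing Polynomial TensorProduct

namespace Groth.Agent.H15.EssFT

section Monogenic

/-- A standard étale algebra is a localization of the subalgebra generated by `x`. -/
theorem mem_locSub_of_standardEtalePresentation {A S' : Type u} [CommRing A] [CommRing S']
    [Algebra A S'] (𝓟 : StandardEtalePresentation A S') (s : S') :
    s ∈ locSub A ({𝓟.x} : Set S') := by
  obtain ⟨T, hT⟩ : ∃ T : Subalgebra A S', T = locSub A ({𝓟.x} : Set S') := ⟨_, rfl⟩
  have hxT : 𝓟.x ∈ T := by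
    rw [hT]; exact adjoin_le_locSub A _ (Algebra.subset_adjoin rfl)
  have hmapT : 𝓟.HasMap (⟨𝓟.x, hxT⟩ : T) := by
    refine ⟨?_, ?_⟩
    · apply Subtype.ext
      rw [Polynomial.aeval_subalgebra_coe]; exact 𝓟.hasMap.1
    · have h1 : IsUnit (((aeval (⟨𝓟.x, hxT⟩ : T) 𝓟.g : T) : S')) := by
        rw [Polynomial.aeval_subalgebra_coe]; exact 𝓟.hasMap.2
      subst hT
      exact isUnit_of_isUnit_coe A _ h1
  have hcomp : T.val.comp ((𝓟.lift (⟨𝓟.x, hxT⟩ : T) hmapT).comp 𝓟.equivRing.toAlgHom) =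
      AlgHom.id A S' := by
    apply 𝓟.hom_ext
    simp
  have h2 := congrArg (fun φ : S' →ₐ[A] S' => φ s) hcomp
  simp only [AlgHom.comp_apply, AlgHom.id_apply] at h2
  rw [← hT, ← h2]
  exact Subtype.property _

/-- An essentially étale local algebra is a localization of a monogenic integral subalgebra. -/
theorem exists_monogenic_of_essEtale (A E : Type u) [CommRing A] [IsLocalRing A] [CommRing E]
    [Algebra A E] (hE : EGA4loc.IsEssentiallyEtale A E) :
    ∃ x : E, IsIntegral A x ∧ ∀ ε : E, ε ∈ locSub A ({x} : Set E) := by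
  classical
  obtain ⟨C, _, _, Q, hQ, hC, hQm, ⟨e⟩⟩ := hE
  haveI := hQ
  haveI := hC
  have het : Algebra.IsEtaleAt A Q := by
    have h1 : Algebra.etaleLocus A C = Set.univ :=
      Algebra.etaleLocus_eq_univ_iff.mpr inferInstance
    exact Set.eq_univ_iff_forall.mp h1 ⟨Q, hQ⟩
  obtain ⟨f₀, hf₀, hstd⟩ := Algebra.IsEtaleAt.exists_isStandardEtale (R := A) Q
  obtain ⟨𝓟⟩ := hstd.nonempty_standardEtalePresentation
  have hunit : IsUnit ((IsScalarTower.toAlgHom A C (Localization.AtPrime Q)) f₀) :=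
    IsLocalization.map_units (M := Q.primeCompl) (Localization.AtPrime Q) ⟨f₀, hf₀⟩
  obtain ⟨ℓ, hℓ⟩ : ∃ ℓ : Localization.Away f₀ →ₐ[A] Localization.AtPrime Q,
      ∀ c : C, ℓ (algebraMap C (Localization.Away f₀) c) =
        algebraMap C (Localization.AtPrime Q) c := by
    refine ⟨IsLocalization.Away.liftAlgHom
      (f := IsScalarTower.toAlgHom A C (Localization.AtPrime Q)) f₀ hunit, fun c => ?_⟩
    rw [IsLocalization.Away.liftAlgHom_apply, IsLocalization.Away.lift_eq]
    rfl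
  obtain ⟨ℓ', hℓ'⟩ : ∃ ℓ' : Localization.Away f₀ →ₐ[A] E, ∀ s, e (ℓ' s) = ℓ s :=
    ⟨(e.symm : Localization.AtPrime Q →ₐ[A] E).comp ℓ, fun s => by simp⟩
  have hS' := mem_locSub_of_standardEtalePresentation 𝓟
  have hadj : ∀ z ∈ Algebra.adjoin A ({𝓟.x} : Set (Localization.Away f₀)),
      ℓ' z ∈ Algebra.adjoin A ({ℓ' 𝓟.x} : Set E) := by
    intro z hz
    have h1 : ℓ' z ∈ (Algebra.adjoin A ({𝓟.x} : Set (Localization.Away f₀))).map ℓ' :=
      ⟨z, hz, rfl⟩
    rwa [AlgHom.map_adjoin, Set.image_singleton] at h1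
  refine ⟨ℓ' 𝓟.x, ?_, ?_⟩
  · have h1 : IsIntegral A 𝓟.x := ⟨𝓟.f, 𝓟.monic_f, by rw [← aeval_def]; exact 𝓟.hasMap.1⟩
    exact h1.map ℓ'
  · intro ε
    obtain ⟨⟨c, q⟩, hcq⟩ := IsLocalization.surj Q.primeCompl (e ε)
    simp only at hcq
    obtain ⟨w₁, hw₁, hw₁u, ha₁⟩ := hS' (algebraMap C (Localization.Away f₀) c)
    obtain ⟨w₂, hw₂, hw₂u, ha₂⟩ := hS' (algebraMap C (Localization.Away f₀) (q : C))
    have hqu : IsUnit (ℓ' (algebraMap C (Localization.Away f₀) (q : C))) := by
      have h1 : IsUnit (e (ℓ' (algebraMap C (Localization.Away f₀) (q : C)))) := by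
        rw [hℓ', hℓ]
        exact IsLocalization.map_units (M := Q.primeCompl) (Localization.AtPrime Q) q
      exact (isUnit_map_iff e _).mp h1
    refine ⟨ℓ' (algebraMap C (Localization.Away f₀) (q : C) * w₂ * w₁), ?_, ?_, ?_⟩
    · exact hadj _ (mul_mem ha₂ hw₁)
    · rw [map_mul, map_mul]
      exact (hqu.mul (hw₂u.map ℓ')).mul (hw₁u.map ℓ')
    · have h2 : ε * ℓ' (algebraMap C (Localization.Away f₀) (q : C) * w₂ * w₁) =
          ℓ' (algebraMap C (Localization.Away f₀) c * w₁ * w₂) := by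
        apply e.injective
        rw [map_mul, hℓ', hℓ', map_mul, map_mul, map_mul, map_mul, hℓ, hℓ, ← hcq]
        ring
      rw [h2]
      exact hadj _ (mul_mem ha₁ hw₂)

end Monogenic

section Flat

set_option maxHeartbeats 1600000 in
/-- Local criterion: if `E` is flat over `A` and `m_A D = m_D`, then `E` is flat over `D`. -/
theorem flat_of_map_maximalIdeal (A D E : Type u) [CommRing A] [IsLocalRing A] [CommRing D]
    [IsLocalRing D] [IsNoetherianRing D] [CommRing E] [IsLocalRing E] [IsNoetherianRing E]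
    [Algebra A D] [Algebra D E] [Algebra A E] [IsScalarTower A D E]
    [IsLocalHom (algebraMap D E)] [Module.Flat A E]
    (hm : Ideal.map (algebraMap A D) (maximalIdeal A) = maximalIdeal D) : Module.Flat D E := by
  classical
  have hI : (maximalIdeal D).map (algebraMap D E) ≤ Ideal.jacobson ⊥ := by
    rw [IsLocalRing.jacobson_eq_maximalIdeal ⊥ bot_ne_top]
    exact ((IsLocalRing.local_hom_TFAE (algebraMap D E)).out 0 2 rfl rfl).mp inferInstance
  have h2 : Module.Flat (D ⧸ maximalIdeal D) ((D ⧸ maximalIdeal D) ⊗[D] E) := by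
    letI := Ideal.Quotient.field (maximalIdeal D)
    infer_instance
  refine Groth.Agent.H57.flat_of_localCriterion (R := D) (S := E) (M := E) (maximalIdeal D) hI ?_ h2
  have hmem : ∀ a : maximalIdeal A, algebraMap A D (a : A) ∈ maximalIdeal D := fun a => by
    rw [← hm]; exact Ideal.mem_map_of_mem _ a.2
  let φ₀ : maximalIdeal A →+ maximalIdeal D :=
    { toFun := fun a => ⟨algebraMap A D (a : A), hmem a⟩
      map_zero' := Subtype.ext (by simp)
      map_add' := fun a b => Subtype.ext (by simp) }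
  have hφ₀ : ∀ a : maximalIdeal A, ((φ₀ a : maximalIdeal D) : D) = algebraMap A D (a : A) :=
    fun a => rfl
  let f : maximalIdeal A →+ E →+ (maximalIdeal D) ⊗[D] E :=
    AddMonoidHom.mk' (fun a => (TensorProduct.mk D (maximalIdeal D) E (φ₀ a)).toAddMonoidHom)
      (fun a b => by
        ext e
        show (φ₀ (a + b)) ⊗ₜ[D] e = (φ₀ a) ⊗ₜ[D] e + (φ₀ b) ⊗ₜ[D] e
        rw [map_add, add_tmul])
  have hf : ∀ (a : maximalIdeal A) (e : E), f a e = (φ₀ a) ⊗ₜ[D] e := fun a e => rfl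
  have hbal : ∀ (r : A) (a : maximalIdeal A) (e : E), f (r • a) e = f a (r • e) := by
    intro r a e
    rw [hf, hf]
    have h1 : φ₀ (r • a) = algebraMap A D r • φ₀ a := by
      apply Subtype.ext
      rw [hφ₀]
      show algebraMap A D (r * (a : A)) = algebraMap A D r * algebraMap A D (a : A)
      exact map_mul _ _ _
    rw [h1, TensorProduct.smul_tmul, algebraMap_smul]
  obtain ⟨g, hg⟩ : ∃ g : (maximalIdeal A) ⊗[A] E →+ (maximalIdeal D) ⊗[D] E,
      ∀ (a : maximalIdeal A) (e : E), g (a ⊗ₜ[A] e) = (φ₀ a) ⊗ₜ[D] e :=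
    ⟨TensorProduct.liftAddHom f hbal, fun a e => by
      rw [TensorProduct.liftAddHom_tmul]; rfl⟩
  -- surjectivity of `g`
  have hspan : ∀ μ ∈ Ideal.map (algebraMap A D) (maximalIdeal A),
      ∀ (h : μ ∈ maximalIdeal D) (e : E), ∃ z', g z' = (⟨μ, h⟩ : maximalIdeal D) ⊗ₜ[D] e := by
    intro μ hμ
    induction hμ using Submodule.span_induction with
    | mem μ hμ =>
      intro h e
      obtain ⟨a, ha, rfl⟩ := hμ
      exact ⟨(⟨a, ha⟩ : maximalIdeal A) ⊗ₜ[A] e, hg _ _⟩
    | zero =>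
      intro h e
      refine ⟨0, ?_⟩
      rw [map_zero]
      have : (⟨0, h⟩ : maximalIdeal D) = 0 := rfl
      rw [this, zero_tmul]
    | add μ₁ μ₂ h₁ h₂ ih₁ ih₂ =>
      intro h e
      have hm₁ : μ₁ ∈ maximalIdeal D := by rw [← hm]; exact h₁
      have hm₂ : μ₂ ∈ maximalIdeal D := by rw [← hm]; exact h₂
      obtain ⟨z₁, hz₁⟩ := ih₁ hm₁ e
      obtain ⟨z₂, hz₂⟩ := ih₂ hm₂ e
      refine ⟨z₁ + z₂, ?_⟩
      rw [map_add, hz₁, hz₂, ← add_tmul]
      rfl
    | smul d μ hμ ih =>
      intro h e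
      have hm₁ : μ ∈ maximalIdeal D := by rw [← hm]; exact hμ
      obtain ⟨z₁, hz₁⟩ := ih hm₁ (d • e)
      refine ⟨z₁, ?_⟩
      rw [hz₁, ← TensorProduct.smul_tmul]
      rfl
  have hsurj : ∀ z : (maximalIdeal D) ⊗[D] E, ∃ z', g z' = z := by
    intro z
    induction z using TensorProduct.induction_on with
    | zero => exact ⟨0, map_zero _⟩
    | tmul μ e =>
      obtain ⟨μ', hμ'⟩ := μ
      exact hspan μ' (by rw [hm]; exact hμ') hμ' e
    | add z₁ z₂ h₁ h₂ =>
      obtain ⟨w₁, hw₁⟩ := h₁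
      obtain ⟨w₂, hw₂⟩ := h₂
      exact ⟨w₁ + w₂, by rw [map_add, hw₁, hw₂]⟩
  have hcompat : ∀ z' : (maximalIdeal A) ⊗[A] E,
      (TensorProduct.lid D E) (LinearMap.rTensor E (Submodule.subtype (maximalIdeal D)) (g z')) =
      (TensorProduct.lid A E) (LinearMap.rTensor E (Submodule.subtype (maximalIdeal A)) z') := by
    intro z'
    induction z' using TensorProduct.induction_on with
    | zero => simp only [map_zero]
    | tmul a e =>
      rw [hg, LinearMap.rTensor_tmul, LinearMap.rTensor_tmul, TensorProduct.lid_tmul,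
        TensorProduct.lid_tmul, Submodule.subtype_apply, Submodule.subtype_apply, hφ₀,
        algebraMap_smul]
    | add z₁ z₂ h₁ h₂ => simp only [map_add, h₁, h₂]
  have hinjA : Function.Injective (LinearMap.rTensor E (Submodule.subtype (maximalIdeal A))) :=
    Module.Flat.rTensor_preserves_injective_linearMap _ Subtype.val_injective
  rw [injective_iff_map_eq_zero]
  intro z hz
  obtain ⟨z', rfl⟩ := hsurj z
  have h3 := hcompat z'
  rw [hz, map_zero] at h3
  have h4 : LinearMap.rTensor E (Submodule.subtype (maximalIdeal A)) z' = 0 :=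
    (LinearEquiv.map_eq_zero_iff _).mp h3.symm
  have h5 : z' = 0 := hinjA (by rw [h4, map_zero])
  rw [h5, map_zero]

end Flat

section Frac

open Groth.Agent.H15.NormRed in
/-- The canonical map from the total ring of fractions of a reduced ring with finitely many
minimal primes to the fraction field of a minimal prime quotient is surjective. -/
theorem fracMap_surjective (D : Type u) [CommRing D] [IsReduced D]
    (hmin : (minimalPrimes D).Finite) (p : Ideal D) (hp : p ∈ minimalPrimes D) :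
    Function.Surjective (fracMap D p hp) := by
  haveI : IsArtinianRing (FractionRing D) := Groth.Agent.S16448.isArtinianRing_fractionRing hmin
  haveI : p.IsPrime := hp.1.1
  obtain ⟨π, hπ⟩ : ∃ π : FractionRing D →+* FractionRing (D ⧸ p), π = fracMap D p hp := ⟨_, rfl⟩
  rw [← hπ]
  have hπalg : ∀ d : D, π (algebraMap D (FractionRing D) d) =
      algebraMap (D ⧸ p) (FractionRing (D ⧸ p)) (Ideal.Quotient.mk p d) := fun d => by
    rw [hπ]; exact fracMap_algebraMap D p hp d
  haveI : (RingHom.ker π).IsPrime := RingHom.ker_isPrime π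
  have hmax : (RingHom.ker π).IsMaximal := IsArtinianRing.isMaximal_of_isPrime _
  intro z
  obtain ⟨⟨ab, bb⟩, hz⟩ := IsLocalization.surj (nonZeroDivisors (D ⧸ p)) z
  simp only at hz
  obtain ⟨a, rfl⟩ := Ideal.Quotient.mk_surjective ab
  obtain ⟨b, hb⟩ := Ideal.Quotient.mk_surjective (bb : D ⧸ p)
  have hbne : π (algebraMap D (FractionRing D) b) ≠ 0 := by
    rw [hπalg, hb]
    intro h
    exact nonZeroDivisors.ne_zero bb.2
      (IsFractionRing.injective (D ⧸ p) (FractionRing (D ⧸ p)) (by rw [h, map_zero]))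
  have hbker : algebraMap D (FractionRing D) b ∉ RingHom.ker π := hbne
  obtain ⟨y, i, hi, hyi⟩ := hmax.exists_inv hbker
  have h1 : π y * π (algebraMap D (FractionRing D) b) = 1 := by
    have h2 := congrArg π hyi
    rw [map_add, map_mul, (RingHom.mem_ker).mp hi, add_zero, map_one] at h2
    exact h2
  have h3 : z * π (algebraMap D (FractionRing D) b) = π (algebraMap D (FractionRing D) a) := by
    rw [hπalg, hπalg, hb]; exact hz
  refine ⟨algebraMap D (FractionRing D) a * y, ?_⟩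
  calc π (algebraMap D (FractionRing D) a * y)
      = π (algebraMap D (FractionRing D) a) * π y := map_mul _ _ _
    _ = z * (π y * π (algebraMap D (FractionRing D) b)) := by rw [← h3]; ring
    _ = z := by rw [h1, mul_one]

/-- Finitely many elements generate the residue field extension. -/
theorem exists_finset_residue (A D : Type u) [CommRing A] [IsLocalRing A] [CommRing D]
    [IsLocalRing D] [Algebra A D] [IsLocalHom (algebraMap A D)]
    [Module.Finite (ResidueField A) (ResidueField D)] :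
    ∃ Y : Finset D, ∀ d : D, ∃ p ∈ Algebra.adjoin A (Y : Set D), d - p ∈ maximalIdeal D := by
  classical
  obtain ⟨s, hs⟩ := Module.finite_def.mp
    (inferInstance : Module.Finite (ResidueField A) (ResidueField D))
  have hlift' : ∀ b : ResidueField D, ∃ y : D, residue D y = b := IsLocalRing.residue_surjective
  choose lift hlift using hlift'
  have hliftA' : ∀ c : ResidueField A, ∃ a : A, residue A a = c := IsLocalRing.residue_surjective
  choose liftA hliftA using hliftA'
  refine ⟨s.image lift, fun d => ?_⟩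
  have hd : residue D d ∈ Submodule.span (ResidueField A) (s : Set (ResidueField D)) := by
    rw [hs]; trivial
  obtain ⟨c, -, hc⟩ := Submodule.mem_span_finset.mp hd
  refine ⟨∑ b ∈ s, algebraMap A D (liftA (c b)) * lift b, ?_, ?_⟩
  · refine Subalgebra.sum_mem _ fun b hb =>
      mul_mem (Subalgebra.algebraMap_mem _ _) (Algebra.subset_adjoin ?_)
    exact Finset.mem_coe.mpr (Finset.mem_image_of_mem _ hb)
  · rw [← IsLocalRing.residue_eq_zero_iff, map_sub, map_sum, sub_eq_zero, ← hc]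
    refine Finset.sum_congr rfl fun b _ => ?_
    rw [map_mul, ← IsLocalRing.ResidueField.algebraMap_residue, hliftA, hlift, Algebra.smul_def]

end Frac

section Main

open Groth.Agent.H15.NormRed

set_option maxHeartbeats 6400000 in
/-- The quotient of `D` by a minimal prime is essentially of finite type. -/
theorem essFiniteType_quotient_minimalPrime
    (A D E : Type u) [CommRing A] [IsNoetherianRing A] [CommRing D] [IsLocalRing D] [IsReduced D]
    [CommRing E] [Algebra A D] [Algebra D E] [Algebra A E] [IsScalarTower A D E]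
    [Module.FaithfullyFlat D E] (x : E) (hxint : IsIntegral A x)
    (hxgen : ∀ ε : E, ε ∈ locSub A ({x} : Set E))
    (hminD : (minimalPrimes D).Finite) (YZ : Finset D)
    (hYZ : ∀ d : D, ∃ p ∈ Algebra.adjoin A (YZ : Set D), d - p ∈ maximalIdeal D)
    (hle : ∀ a ∈ nonZeroDivisors A, algebraMap A D a ∈ nonZeroDivisors D)
    (t : Finset (FractionRing D))
    (ht : ∀ x : FractionRing D, ∃ a ∈ nonZeroDivisors A,
      algebraMap A (FractionRing D) a * x ∈ Algebra.adjoin A (t : Set (FractionRing D)))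
    (𝔮 : Ideal D) (h𝔮 : 𝔮 ∈ minimalPrimes D) : Algebra.EssFiniteType A (D ⧸ 𝔮) := by
  classical
  have hsurj := fun z : FractionRing D => IsLocalization.surj (nonZeroDivisors D) z
  choose f hf using hsurj
  haveI : 𝔮.IsPrime := h𝔮.1.1
  haveI : IsLocalRing (D ⧸ 𝔮) := IsLocalRing.of_surjective' _ Ideal.Quotient.mk_surjective
  haveI : IsLocalHom (Ideal.Quotient.mk 𝔮) :=
    IsLocalHom.of_surjective _ Ideal.Quotient.mk_surjective
  have hnzd𝔮 : ∀ s ∈ nonZeroDivisors D, Ideal.Quotient.mk 𝔮 s ≠ 0 := by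
    intro s hs h0
    exact Set.disjoint_left.mp (Ideal.disjoint_nonZeroDivisors_of_mem_minimalPrimes h𝔮)
      (Ideal.Quotient.eq_zero_iff_mem.mp h0) hs
  obtain ⟨π, hπ⟩ : ∃ π : FractionRing D →+* FractionRing (D ⧸ 𝔮), π = fracMap D 𝔮 h𝔮 :=
    ⟨_, rfl⟩
  have hπsurj : Function.Surjective π := by
    rw [hπ]; exact fracMap_surjective D hminD 𝔮 h𝔮
  have hπalg : ∀ d : D, π (algebraMap D (FractionRing D) d) =
      algebraMap (D ⧸ 𝔮) (FractionRing (D ⧸ 𝔮)) (Ideal.Quotient.mk 𝔮 d) := fun d => by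
    rw [hπ]; exact fracMap_algebraMap D 𝔮 h𝔮 d
  have hπA : ∀ a : A, π (algebraMap A (FractionRing D) a) =
      algebraMap (D ⧸ 𝔮) (FractionRing (D ⧸ 𝔮)) (algebraMap A (D ⧸ 𝔮) a) := fun a => by
    rw [IsScalarTower.algebraMap_apply A D (FractionRing D), hπalg]; rfl
  -- the element `x̄` and the generation of `Eb`
  obtain ⟨jb, hjb⟩ : ∃ jb : E →ₐ[A] (D ⧸ 𝔮) ⊗[D] E, ∀ e : E, jb e = (1 : D ⧸ 𝔮) ⊗ₜ[D] e :=
    ⟨(Algebra.TensorProduct.includeRight : E →ₐ[D] (D ⧸ 𝔮) ⊗[D] E).restrictScalars A,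
      fun e => rfl⟩
  have hxb : IsIntegral A (jb x) := hxint.map jb
  have hadjb : ∀ z ∈ Algebra.adjoin A ({x} : Set E),
      jb z ∈ Algebra.adjoin A ({jb x} : Set ((D ⧸ 𝔮) ⊗[D] E)) := by
    intro z hz
    have h1 : jb z ∈ (Algebra.adjoin A ({x} : Set E)).map jb := ⟨z, hz, rfl⟩
    rwa [AlgHom.map_adjoin, Set.image_singleton] at h1
  have hsurjb : ∀ e' : (D ⧸ 𝔮) ⊗[D] E, ∃ ε : E, jb ε = e' := by
    intro e'
    induction e' using TensorProduct.induction_on with
    | zero => exact ⟨0, map_zero _⟩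
    | tmul db e =>
      obtain ⟨d, rfl⟩ := Ideal.Quotient.mk_surjective db
      refine ⟨d • e, ?_⟩
      rw [hjb, ← TensorProduct.smul_tmul]
      congr 1
      rw [Algebra.smul_def, mul_one]
      rfl
    | add z₁ z₂ h₁ h₂ =>
      obtain ⟨ε₁, hε₁⟩ := h₁
      obtain ⟨ε₂, hε₂⟩ := h₂
      exact ⟨ε₁ + ε₂, by rw [map_add, hε₁, hε₂]⟩
  have hgenb : ∀ e' : (D ⧸ 𝔮) ⊗[D] E,
      ∃ a ∈ Algebra.adjoin A ({jb x} : Set ((D ⧸ 𝔮) ⊗[D] E)),
      ∃ w ∈ Algebra.adjoin A ({jb x} : Set ((D ⧸ 𝔮) ⊗[D] E)), IsUnit w ∧ e' * w = a := by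
    intro e'
    obtain ⟨ε, rfl⟩ := hsurjb e'
    obtain ⟨t', ht', hut', hεt'⟩ := hxgen ε
    exact ⟨jb (ε * t'), hadjb _ hεt', jb t', hadjb _ ht', hut'.map jb, (map_mul jb ε t').symm⟩
  -- the finite set `Y`
  obtain ⟨Y, hYdef⟩ : ∃ Y : Set (D ⧸ 𝔮), Y = (Ideal.Quotient.mk 𝔮 '' (YZ : Set D)) ∪
      ((fun τ => Ideal.Quotient.mk 𝔮 (f τ).1) '' (t : Set (FractionRing D))) ∪
      ((fun τ => Ideal.Quotient.mk 𝔮 ((f τ).2 : D)) '' (t : Set (FractionRing D))) := ⟨_, rfl⟩
  have hYfin : Y.Finite := by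
    rw [hYdef]
    exact ((YZ.finite_toSet.image _).union (t.finite_toSet.image _)).union
      (t.finite_toSet.image _)
  have hZ : ∀ d : D ⧸ 𝔮, ∃ p ∈ locSub A Y, d - p ∈ maximalIdeal (D ⧸ 𝔮) := by
    intro db
    obtain ⟨d, rfl⟩ := Ideal.Quotient.mk_surjective db
    obtain ⟨p, hp, hdp⟩ := hYZ d
    refine ⟨Ideal.Quotient.mk 𝔮 p, adjoin_le_locSub A Y ?_, ?_⟩
    · have h1 : Ideal.Quotient.mkₐ A 𝔮 p ∈
          (Algebra.adjoin A (YZ : Set D)).map (Ideal.Quotient.mkₐ A 𝔮) := ⟨p, hp, rfl⟩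
      rw [AlgHom.map_adjoin] at h1
      refine Algebra.adjoin_mono ?_ h1
      rw [hYdef]
      exact Set.subset_union_left.trans Set.subset_union_left
    · rw [← map_sub, IsLocalRing.mem_maximalIdeal, mem_nonunits_iff]
      intro hu
      exact (IsLocalRing.mem_maximalIdeal _).mp hdp (isUnit_of_map_unit (Ideal.Quotient.mk 𝔮) _ hu)
  have hadj' : ∀ κ ∈ Algebra.adjoin A (t : Set (FractionRing D)),
      ∃ P ∈ Algebra.adjoin A Y, ∃ Q ∈ Algebra.adjoin A Y, Q ≠ 0 ∧
        π κ * algebraMap (D ⧸ 𝔮) (FractionRing (D ⧸ 𝔮)) Q =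
          algebraMap (D ⧸ 𝔮) (FractionRing (D ⧸ 𝔮)) P := by
    intro κ hκ
    induction hκ using Algebra.adjoin_induction with
    | mem τ hτ =>
      refine ⟨Ideal.Quotient.mk 𝔮 (f τ).1, Algebra.subset_adjoin ?_,
        Ideal.Quotient.mk 𝔮 ((f τ).2 : D), Algebra.subset_adjoin ?_,
        hnzd𝔮 _ (f τ).2.2, ?_⟩
      · rw [hYdef]; exact Or.inl (Or.inr ⟨τ, hτ, rfl⟩)
      · rw [hYdef]; exact Or.inr ⟨τ, hτ, rfl⟩
      · rw [← hπalg, ← hπalg, ← map_mul, hf τ]
    | algebraMap r =>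
      refine ⟨algebraMap A (D ⧸ 𝔮) r, Subalgebra.algebraMap_mem _ r, 1, one_mem _,
        one_ne_zero, ?_⟩
      rw [map_one, mul_one, hπA]
    | add κ₁ κ₂ _ _ h₁ h₂ =>
      obtain ⟨P₁, hP₁, Q₁, hQ₁, hQ₁0, he₁⟩ := h₁
      obtain ⟨P₂, hP₂, Q₂, hQ₂, hQ₂0, he₂⟩ := h₂
      refine ⟨P₁ * Q₂ + P₂ * Q₁, add_mem (mul_mem hP₁ hQ₂) (mul_mem hP₂ hQ₁), Q₁ * Q₂,
        mul_mem hQ₁ hQ₂, mul_ne_zero hQ₁0 hQ₂0, ?_⟩
      rw [map_add π, map_mul (algebraMap (D ⧸ 𝔮) (FractionRing (D ⧸ 𝔮))),
        map_add (algebraMap (D ⧸ 𝔮) (FractionRing (D ⧸ 𝔮))),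
        map_mul (algebraMap (D ⧸ 𝔮) (FractionRing (D ⧸ 𝔮))),
        map_mul (algebraMap (D ⧸ 𝔮) (FractionRing (D ⧸ 𝔮))), ← he₁, ← he₂]
      ring
    | mul κ₁ κ₂ _ _ h₁ h₂ =>
      obtain ⟨P₁, hP₁, Q₁, hQ₁, hQ₁0, he₁⟩ := h₁
      obtain ⟨P₂, hP₂, Q₂, hQ₂, hQ₂0, he₂⟩ := h₂
      refine ⟨P₁ * P₂, mul_mem hP₁ hP₂, Q₁ * Q₂, mul_mem hQ₁ hQ₂, mul_ne_zero hQ₁0 hQ₂0, ?_⟩
      rw [map_mul π, map_mul (algebraMap (D ⧸ 𝔮) (FractionRing (D ⧸ 𝔮))),
        map_mul (algebraMap (D ⧸ 𝔮) (FractionRing (D ⧸ 𝔮))), ← he₁, ← he₂]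
      ring
  have hY : ∀ z : FractionRing (D ⧸ 𝔮), ∃ p ∈ Algebra.adjoin A Y, ∃ q ∈ Algebra.adjoin A Y,
      q ≠ 0 ∧ z * algebraMap (D ⧸ 𝔮) (FractionRing (D ⧸ 𝔮)) q =
        algebraMap (D ⧸ 𝔮) (FractionRing (D ⧸ 𝔮)) p := by
    intro z
    obtain ⟨κ, rfl⟩ := hπsurj z
    obtain ⟨a, ha, hmem⟩ := ht κ
    obtain ⟨P, hP, Q, hQ, hQ0, hPQ⟩ := hadj' _ hmem
    have ha0 : algebraMap A (D ⧸ 𝔮) a ≠ 0 := hnzd𝔮 _ (hle a ha)
    refine ⟨P, hP, algebraMap A (D ⧸ 𝔮) a * Q, mul_mem (Subalgebra.algebraMap_mem _ a) hQ,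
      mul_ne_zero ha0 hQ0, ?_⟩
    rw [← hPQ, map_mul π, hπA, map_mul (algebraMap (D ⧸ 𝔮) (FractionRing (D ⧸ 𝔮)))]
    ring
  exact essFiniteType_of_domain A (D ⧸ 𝔮) ((D ⧸ 𝔮) ⊗[D] E) (FractionRing (D ⧸ 𝔮)) (jb x) hxb
    hgenb Y hYfin hY hZ

set_option maxHeartbeats 6400000 in
/-- The main step for S16439: `D` is essentially of finite type over `A`. -/
theorem essFiniteType_of_fg
    (A S : Type u) [CommRing A] [IsLocalRing A] [IsReduced A] [IsNoetherianRing A]
    [CommRing S] [IsLocalRing S] [Algebra A S] [IsLocalHom (algebraMap A S)]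
    [Hensel.IsStrictHenselization A S] (D : Subalgebra A S) [IsLocalRing D]
    [IsLocalHom (algebraMap D S)] [IsNoetherianRing D]
    (hfg : ∃ t : Finset (FractionRing D), ∀ x : FractionRing D, ∃ a ∈ nonZeroDivisors A,
      algebraMap A (FractionRing D) a * x ∈ Algebra.adjoin A (t : Set (FractionRing D)))
    (hm : Ideal.map (algebraMap A D) (maximalIdeal A) = maximalIdeal D) :
    Algebra.EssFiniteType A D := by
  classical
  have hmin : (minimalPrimes A).Finite := minimalPrimes.finite_of_isNoetherianRing A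
  obtain ⟨E, hDE, hEloc, hE⟩ := (Groth.Agent.H15.EssSub.fg_iff_le_essEtale A S hmin D).mp hfg
  haveI := hEloc
  letI : Algebra D E := (Subalgebra.inclusion hDE).toRingHom.toAlgebra
  haveI : IsScalarTower A D E := IsScalarTower.of_algebraMap_eq (fun a => rfl)
  haveI : IsScalarTower D E S := IsScalarTower.of_algebraMap_eq (fun a => rfl)
  haveI hES : IsLocalHom (algebraMap E S) := by
    have h1 := Groth.Agent.S17977.result A E hE S E.val
    exact ⟨fun a ha => h1.map_nonunit a ha⟩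
  haveI hDEloc : IsLocalHom (algebraMap D E) := by
    haveI : IsLocalHom ((algebraMap E S).comp (algebraMap D E)) := by
      rw [← IsScalarTower.algebraMap_eq D E S]; infer_instance
    exact isLocalHom_of_comp (algebraMap D E) (algebraMap E S)
  haveI hAD : IsLocalHom (algebraMap A D) := by
    haveI : IsLocalHom ((algebraMap D S).comp (algebraMap A D)) := by
      rw [← IsScalarTower.algebraMap_eq A D S]; infer_instance
    exact isLocalHom_of_comp (algebraMap A D) (algebraMap D S)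
  haveI hAE : IsLocalHom (algebraMap A E) := by
    haveI : IsLocalHom ((algebraMap E S).comp (algebraMap A E)) := by
      rw [← IsScalarTower.algebraMap_eq A E S]; infer_instance
    exact isLocalHom_of_comp (algebraMap A E) (algebraMap E S)
  -- properties of `E`
  obtain ⟨hRedE, hNoethE, hFlatE, hUnrE⟩ : IsReduced E ∧ IsNoetherianRing E ∧ Module.Flat A E ∧
      Algebra.FormallyUnramified A E := by
    obtain ⟨C₀, _, _, Q, hQ, hEt, hQm, ⟨e⟩⟩ := hE
    haveI := hEt
    haveI := hQ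
    haveI : IsReduced C₀ := Groth.Agent.H29.RedModP.isReduced_of_smooth A C₀
    haveI : IsNoetherianRing C₀ := Algebra.FiniteType.isNoetherianRing A C₀
    haveI : IsReduced (Localization.AtPrime Q) := inferInstance
    haveI : IsNoetherianRing (Localization.AtPrime Q) :=
      IsLocalization.isNoetherianRing Q.primeCompl _ inferInstance
    haveI : Module.Flat A (Localization.AtPrime Q) := Module.Flat.trans A C₀ _
    haveI : Algebra.FormallyUnramified A (Localization.AtPrime Q) :=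
      Algebra.FormallyUnramified.comp A C₀ _
    exact ⟨isReduced_of_injective (e : E →+* Localization.AtPrime Q) e.injective,
      isNoetherianRing_of_ringEquiv _ e.symm.toRingEquiv,
      Module.Flat.of_linearEquiv e.toLinearEquiv,
      Algebra.FormallyUnramified.of_equiv e.symm⟩
  haveI := hRedE
  haveI := hNoethE
  haveI := hFlatE
  haveI := hUnrE
  obtain ⟨x, hxint, hxgen⟩ := exists_monogenic_of_essEtale A E hE
  haveI hEssE : Algebra.EssFiniteType A E := by
    rw [Algebra.essFiniteType_iff A E]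
    refine ⟨{x}, fun ε => ?_⟩
    rw [Finset.coe_singleton]
    exact (mem_locSub A).mp (hxgen ε)
  haveI : Module.Flat D E := flat_of_map_maximalIdeal A D E hm
  haveI : Module.FaithfullyFlat D E := Module.FaithfullyFlat.of_flat_of_isLocalHom
  have hinjDE : Function.Injective (algebraMap D E) := Subalgebra.inclusion_injective hDE
  haveI : IsReduced D := isReduced_of_injective (algebraMap D E) hinjDE
  have hminD : (minimalPrimes D).Finite := minimalPrimes.finite_of_isNoetherianRing D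
  haveI : Module.Finite (ResidueField A) (ResidueField E) := inferInstance
  haveI : Module.Finite (ResidueField A) (ResidueField D) :=
    FiniteDimensional.left (ResidueField A) (ResidueField D) (ResidueField E)
  obtain ⟨YZ, hYZ⟩ := exists_finset_residue A D
  have hle : ∀ a ∈ nonZeroDivisors A, algebraMap A D a ∈ nonZeroDivisors D := by
    intro a ha
    rw [mem_nonZeroDivisors_iff_right]
    intro y hy
    have h1 := Groth.Agent.H15.EssSub.algebraMap_mem_nonZeroDivisors_of_flat A E ha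
    have h2 : algebraMap D E y * algebraMap A E a = 0 := by
      rw [IsScalarTower.algebraMap_apply A D E, ← map_mul, hy, map_zero]
    exact hinjDE (by rw [(mem_nonZeroDivisors_iff_right.mp h1) _ h2, map_zero])
  obtain ⟨t, ht⟩ := hfg
  -- each minimal prime quotient
  have hkey : ∀ 𝔮 ∈ minimalPrimes D, Algebra.EssFiniteType A (D ⧸ 𝔮) := fun 𝔮 h𝔮 =>
    essFiniteType_quotient_minimalPrime A D E x hxint hxgen hminD YZ hYZ hle t ht 𝔮 h𝔮
  -- glue the minimal primes
  haveI : Finite (minimalPrimes D) := hminD.to_subtype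
  obtain ⟨n, ⟨eqv⟩⟩ := Finite.exists_equiv_fin (minimalPrimes D)
  refine essFiniteType_of_quotients A
    (fun i : Fin n => ((eqv.symm i : minimalPrimes D) : Ideal D)) ?_ ?_ ?_
  · rw [eq_bot_iff]
    intro d hd
    rw [Ideal.mem_iInf] at hd
    have h1 : d ∈ sInf (⊥ : Ideal D).minimalPrimes := by
      rw [Ideal.mem_sInf]
      intro p hp
      have h2 := hd (eqv ⟨p, hp⟩)
      rw [Equiv.symm_apply_apply] at h2
      exact h2
    rw [Ideal.sInf_minimalPrimes] at h1
    have h3 : (⊥ : Ideal D).radical = ⊥ := by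
      have h4 := nilradical_eq_zero D
      rwa [nilradical, Ideal.zero_eq_bot] at h4
    rw [h3] at h1
    exact h1
  · intro i
    exact (eqv.symm i).2.1.1.ne_top
  · intro i
    exact hkey _ (eqv.symm i).2

/-- S16439. -/
theorem isEssentiallyEtale_of_fg
    (A S : Type u) [CommRing A] [IsLocalRing A] [IsReduced A] [IsNoetherianRing A]
    [CommRing S] [IsLocalRing S] [Algebra A S] [IsLocalHom (algebraMap A S)]
    [Hensel.IsStrictHenselization A S] (D : Subalgebra A S) [IsLocalRing D]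
    [IsLocalHom (algebraMap D S)] [IsNoetherianRing D]
    (hfg : ∃ t : Finset (FractionRing D), ∀ x : FractionRing D, ∃ a ∈ nonZeroDivisors A,
      algebraMap A (FractionRing D) a * x ∈ Algebra.adjoin A (t : Set (FractionRing D)))
    (hm : Ideal.map (algebraMap A D) (maximalIdeal A) = maximalIdeal D) :
    EGA4loc.IsEssentiallyEtale A D := by
  haveI : Algebra.EssFiniteType A D := essFiniteType_of_fg A S D hfg hm
  exact Groth.Agent.S16438.result A S D hm

end Main

end Groth.Agent.H15.EssFT
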