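import Groth.Agent.H15.EssFT3

/-!
# Essentially of finite type: the "field factor" lemma (for S16449)
-/

set_option autoImplicit false
set_option linter.style.haveILetI false
set_option linter.unusedSectionVars false
universe u
open IsLocalRing Polynomial

namespace Groth.Agent.H15.EssFT

section Helpers

/-- The inverse of a unit `t`, when integral over `R`, is a polynomial in `t`. -/
theorem inv_mem_adjoin_of_isIntegral {R S : Type*} [CommRing R] [CommRing S] [Algebra R S]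
    (t v : S) (htv : t * v = 1) (hv : IsIntegral R v) :
    v ∈ Algebra.adjoin R ({t} : Set S) := by
  obtain ⟨p, hpm, hp⟩ := hv
  letI : Invertible v := ⟨t, htv, by rw [mul_comm]; exact htv⟩
  have hinv : ⅟v = t := rfl
  have h1 := Polynomial.eval₂_reverse_mul_pow (algebraMap R S) v p
  rw [hp, hinv] at h1
  have h2 : eval₂ (algebraMap R S) t (reverse p) = 0 := by
    have h3 : eval₂ (algebraMap R S) t (reverse p) * (v ^ p.natDegree * t ^ p.natDegree) = 0 := by
      rw [← mul_assoc, h1, zero_mul]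
    rwa [← mul_pow, mul_comm v t, htv, one_pow, mul_one] at h3
  have h4 : reverse p = divX (reverse p) * X + C 1 := by
    conv_lhs => rw [← divX_mul_X_add (reverse p)]
    rw [coeff_zero_reverse, hpm.leadingCoeff]
  rw [h4, eval₂_add, eval₂_mul, eval₂_X, eval₂_C, map_one] at h2
  have h5 : t * (-(eval₂ (algebraMap R S) t (divX (reverse p)))) = 1 := by
    have : eval₂ (algebraMap R S) t (divX (reverse p)) * t = -1 := eq_neg_of_add_eq_zero_left h2
    rw [mul_neg, mul_comm, this, neg_neg]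
  have h6 : v = -(eval₂ (algebraMap R S) t (divX (reverse p))) := by
    calc v = v * (t * (-(eval₂ (algebraMap R S) t (divX (reverse p))))) := by rw [h5, mul_one]
      _ = (t * v) * (-(eval₂ (algebraMap R S) t (divX (reverse p)))) := by ring
      _ = -(eval₂ (algebraMap R S) t (divX (reverse p))) := by rw [htv, one_mul]
  rw [h6]
  refine Subalgebra.neg_mem _ ?_
  rw [← aeval_def]
  exact aeval_mem_adjoin_singleton R t

/-- Elements of `adjoin A S₀` with `S₀ ⊆ C` lift to `adjoin A (val ⁻¹' S₀)` in `C`. -/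
theorem mem_adjoin_preimage {A Om : Type*} [CommRing A] [CommRing Om] [Algebra A Om]
    (C : Subalgebra A Om) (S₀ : Set Om) (hS₀ : S₀ ⊆ C) (z : Om) (hz : z ∈ Algebra.adjoin A S₀) :
    ∃ h : z ∈ C, (⟨z, h⟩ : C) ∈ Algebra.adjoin A ((fun c : C => (c : Om)) ⁻¹' S₀) := by
  induction hz using Algebra.adjoin_induction with
  | mem z hz => exact ⟨hS₀ hz, Algebra.subset_adjoin hz⟩
  | algebraMap a => exact ⟨C.algebraMap_mem a, Subalgebra.algebraMap_mem _ a⟩
  | add z₁ z₂ _ _ h₁ h₂ =>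
    obtain ⟨h₁, h₁'⟩ := h₁
    obtain ⟨h₂, h₂'⟩ := h₂
    exact ⟨C.add_mem h₁ h₂, add_mem h₁' h₂'⟩
  | mul z₁ z₂ _ _ h₁ h₂ =>
    obtain ⟨h₁, h₁'⟩ := h₁
    obtain ⟨h₂, h₂'⟩ := h₂
    exact ⟨C.mul_mem h₁ h₂, mul_mem h₁' h₂'⟩

end Helpers

section Field

set_option maxHeartbeats 3200000 in
/-- The field factor lemma: a semilocal ring `C` inside a field `L`, integrally closed in `L`
over `A`, with an overring `B` in which no maximal ideal of `C` blows up and which is
a localization of `A[σ₀][x]`, is a localization of a finitely generated `A`-algebra. -/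
theorem exists_finite_forall_mem_locSub
    (A Om L : Type u) [CommRing A] [CommRing Om] [Nontrivial Om] [Algebra A Om] [Field L] [Algebra A L]
    (ιL : L →ₐ[A] Om) (C B : Subalgebra A Om) (hCL : ∀ c ∈ C, ∃ l : L, ιL l = c) (hCB : C ≤ B)
    (hCfin : {𝔫 : Ideal C | 𝔫.IsMaximal}.Finite)
    (hCB' : ∀ 𝔫 : Ideal C, 𝔫.IsMaximal → 𝔫.map (Subalgebra.inclusion hCB) ≠ ⊤)
    (hclosed : ∀ z : L, IsIntegral A z → ιL z ∈ C)
    (x : Om) (hxB : x ∈ B) (hxint : IsIntegral A x)
    (σ₀ : Set Om) (hσ₀fin : σ₀.Finite) (hσ₀C : σ₀ ⊆ C)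
    (hrep : ∀ c ∈ C, ∃ W P : Polynomial Om, (∀ n, W.coeff n ∈ Algebra.adjoin A σ₀) ∧
        (∀ n, P.coeff n ∈ Algebra.adjoin A σ₀) ∧ (∃ v ∈ B, W.eval x * v = 1) ∧
        c * W.eval x = P.eval x)
    (Y : Set Om) (hYfin : Y.Finite) (hYC : Y ⊆ C)
    (hY : ∀ z : L, ∃ p ∈ Algebra.adjoin A Y, ∃ q ∈ Algebra.adjoin A Y, q ≠ 0 ∧ ιL z * q = p) :
    ∃ σ : Set C, σ.Finite ∧ ∀ c : C, c ∈ locSub A σ := by
  classical
  have hιinj : Function.Injective ιL := (ιL : L →+* Om).injective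
  letI algLOm : Algebra L Om := (ιL : L →+* Om).toAlgebra
  haveI : IsScalarTower A L Om := IsScalarTower.of_algebraMap_eq (fun a => (ιL.commutes a).symm)
  have halgL : ∀ l : L, algebraMap L Om l = ιL l := fun l => rfl
  -- `C` is a domain
  haveI : Nontrivial C := ⟨0, 1, fun h => zero_ne_one (α := Om) (congrArg Subtype.val h)⟩
  haveI : NoZeroDivisors C := ⟨by
    intro a b hab
    obtain ⟨la, hla⟩ := hCL a a.2
    obtain ⟨lb, hlb⟩ := hCL b b.2
    have h1 : ιL (la * lb) = 0 := by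
      rw [map_mul, hla, hlb]
      exact congrArg Subtype.val hab
    have h2 : la * lb = 0 := hιinj (by rw [h1, map_zero])
    rcases mul_eq_zero.mp h2 with h | h
    · left; apply Subtype.ext; rw [← hla, h, map_zero]; rfl
    · right; apply Subtype.ext; rw [← hlb, h, map_zero]; rfl⟩
  haveI : IsDomain C := NoZeroDivisors.to_isDomain C
  -- the minimal polynomial
  have hxL : IsIntegral L x := hxint.tower_top
  obtain ⟨F, hFm, hF0⟩ := hxint
  obtain ⟨G, hG⟩ : ∃ G : L[X], G = minpoly L x := ⟨_, rfl⟩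
  have hGm : G.Monic := by rw [hG]; exact minpoly.monic hxL
  have hdvd : G ∣ F.map (algebraMap A L) := by
    rw [hG]
    apply minpoly.dvd L x
    rw [Polynomial.aeval_map_algebraMap, aeval_def]
    exact hF0
  have hGcoef : ∀ n, ιL (G.coeff n) ∈ C := by
    intro n
    have h1 := integralClosure.mem_lifts_of_monic_of_dvd_map L hFm hGm hdvd
    rw [lifts_iff_coeff_lifts] at h1
    obtain ⟨y, hy⟩ := h1 n
    have h2 : IsIntegral A (G.coeff n) := by rw [← hy]; exact y.2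
    exact hclosed _ h2
  obtain ⟨T, hT⟩ : ∃ T : Set Om, T = (fun n => ιL (G.coeff n)) ''
      (Finset.range (G.natDegree + 1) : Set ℕ) := ⟨_, rfl⟩
  have hTfin : T.Finite := by rw [hT]; exact (Finset.finite_toSet _).image _
  have hTC : T ⊆ C := by rw [hT]; rintro _ ⟨n, _, rfl⟩; exact hGcoef n
  obtain ⟨σOm, hσOm⟩ : ∃ σOm : Set Om, σOm = σ₀ ∪ Y ∪ T := ⟨_, rfl⟩
  have hσOmfin : σOm.Finite := by rw [hσOm]; exact (hσ₀fin.union hYfin).union hTfin
  have hσOmC : σOm ⊆ C := by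
    rw [hσOm]; exact Set.union_subset (Set.union_subset hσ₀C hYC) hTC
  obtain ⟨σ, hσ⟩ : ∃ σ : Set C, σ = (fun c : C => (c : Om)) ⁻¹' σOm := ⟨_, rfl⟩
  have hσfin : σ.Finite := by
    rw [hσ]; exact hσOmfin.preimage Subtype.val_injective.injOn
  refine ⟨σ, hσfin, ?_⟩
  obtain ⟨R, hR⟩ : ∃ R : Subalgebra A C, R = locSub A σ := ⟨_, rfl⟩
  rw [← hR]
  -- elements of `adjoin A σOm` are in `R`
  have hadjR : ∀ z ∈ Algebra.adjoin A σOm, ∃ h : z ∈ C, (⟨z, h⟩ : C) ∈ R := by
    intro z hz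
    obtain ⟨h, h'⟩ := mem_adjoin_preimage C σOm hσOmC z hz
    refine ⟨h, ?_⟩
    rw [hR]
    apply adjoin_le_locSub
    rw [hσ]; exact h'
  have hsub₀ : Algebra.adjoin A σ₀ ≤ Algebra.adjoin A σOm := Algebra.adjoin_mono (by
    rw [hσOm]; exact Set.subset_union_left.trans Set.subset_union_left)
  have hsubY : Algebra.adjoin A Y ≤ Algebra.adjoin A σOm := Algebra.adjoin_mono (by
    rw [hσOm]; exact Set.subset_union_right.trans Set.subset_union_left)
  have hsubT : T ⊆ (Algebra.adjoin A σOm : Set Om) := fun z hz => Algebra.subset_adjoin (by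
    rw [hσOm]; exact Or.inr hz)
  -- the coercion `R → Om`
  obtain ⟨κ, hκ⟩ : ∃ κ : R →+* Om, ∀ r : R, κ r = ((r : C) : Om) :=
    ⟨(C.val : C →+* Om).comp (R.val : R →+* C), fun r => rfl⟩
  have hκinj : Function.Injective κ := by
    intro a b hab
    rw [hκ, hκ] at hab
    exact Subtype.ext (Subtype.ext hab)
  have hκlift : ∀ T' : Om[X], (∀ n, T'.coeff n ∈ Algebra.adjoin A σOm) → ∃ T'' : R[X], T''.map κ = T' := by
    intro T' hT'
    have h1 : T' ∈ lifts κ := by
      rw [lifts_iff_coeff_lifts]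
      intro n
      obtain ⟨h, h'⟩ := hadjR _ (hT' n)
      exact ⟨⟨⟨_, h⟩, h'⟩, hκ _⟩
    exact (mem_lifts _).mp h1
  -- the setting of `mem_of_unit_eval`
  letI algCB : Algebra C B := (Subalgebra.inclusion hCB).toRingHom.toAlgebra
  obtain ⟨φ, hφ⟩ : ∃ φ : R →+* B, φ = (algebraMap C B).comp (algebraMap R C) := ⟨_, rfl⟩
  have hφκ : (B.val : B →+* Om).comp φ = κ := by
    ext r
    rw [hφ, hκ]; rfl
  obtain ⟨ξ, hξ⟩ : ∃ ξ : B, (ξ : Om) = x := ⟨⟨x, hxB⟩, rfl⟩
  have hevalφ : ∀ T'' : R[X], ((eval₂ φ ξ T'' : B) : Om) = (T''.map κ).eval x := by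
    intro T''
    have h1 := hom_eval₂ T'' φ (B.val : B →+* Om) ξ
    rw [hφκ] at h1
    rw [eval_map]
    have h2 : (B.val : B →+* Om) ξ = x := hξ
    rw [h2] at h1
    exact h1
  -- the lift of the minimal polynomial
  have hGOm : ∀ n, ((G.map (ιL : L →+* Om)).coeff n) ∈ Algebra.adjoin A σOm := by
    intro n
    rw [coeff_map]
    by_cases hn : n ≤ G.natDegree
    · apply hsubT
      rw [hT]
      exact ⟨n, by simpa [Nat.lt_succ_iff] using hn, rfl⟩
    · rw [coeff_eq_zero_of_natDegree_lt (not_le.mp hn), map_zero]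
      exact zero_mem _
  have hGlift : G.map (ιL : L →+* Om) ∈ lifts κ := by
    rw [lifts_iff_coeff_lifts]
    intro n
    obtain ⟨h, h'⟩ := hadjR _ (hGOm n)
    exact ⟨⟨⟨_, h⟩, h'⟩, hκ _⟩
  obtain ⟨GR, hGRmap, hGRdeg, hGRm⟩ := lifts_and_degree_eq_and_monic hGlift (hGm.map _)
  have hdegG : (G.map (ιL : L →+* Om)).degree = G.degree := degree_map_eq_of_injective hιinj G
  have hGx : (G.map (ιL : L →+* Om)).eval x = 0 := by
    rw [eval_map]
    have h1 : aeval x G = 0 := by rw [hG]; exact minpoly.aeval L x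
    rw [aeval_def] at h1
    exact h1
  have hG0 : eval₂ φ ξ GR = 0 := by
    apply Subtype.ext
    rw [hevalφ, hGRmap, hGx]; rfl
  have hmin : ∀ Q : R[X], Q.degree < GR.degree → eval₂ φ ξ Q = 0 → Q = 0 := by
    intro Q hQdeg hQ0
    by_contra hQne
    have h1 : (Q.map κ).eval x = 0 := by rw [← hevalφ, hQ0]; rfl
    have h2 : Q.map κ ∈ lifts (ιL : L →+* Om) := by
      rw [lifts_iff_coeff_lifts]
      intro n
      rw [coeff_map, hκ]
      obtain ⟨l, hl⟩ := hCL _ ((Q.coeff n : R) : C).2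
      exact ⟨l, hl⟩
    obtain ⟨QL, hQL⟩ := (mem_lifts _).mp h2
    have h3 : aeval x QL = 0 := by
      rw [aeval_def]
      show eval₂ (ιL : L →+* Om) x QL = 0
      rw [← eval_map, hQL, h1]
    have h4 : QL ≠ 0 := by
      intro h
      apply hQne
      have h5 : Q.map κ = 0 := by rw [← hQL, h, Polynomial.map_zero]
      exact (Polynomial.map_eq_zero_iff hκinj).mp h5
    have h5 := minpoly.degree_le_of_ne_zero L x h4 h3
    have h6 : QL.degree = Q.degree := by
      have h7 : (QL.map (ιL : L →+* Om)).degree = QL.degree :=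
        degree_map_eq_of_injective hιinj QL
      rw [hQL, degree_map_eq_of_injective hκinj] at h7
      exact h7.symm
    rw [← hG, h6] at h5
    have h7 : GR.degree = G.degree := hGRdeg.trans hdegG
    rw [h7] at hQdeg
    exact absurd h5 (not_le.mpr hQdeg)
  have hB₂ : ∀ 𝔫 : Ideal C, 𝔫.IsMaximal → 𝔫.map (algebraMap C B) ≠ ⊤ := fun 𝔫 h𝔫 => hCB' 𝔫 h𝔫
  have hRu : ∀ u : R, IsUnit (u : C) → IsUnit u := by
    subst hR
    exact fun u hu => isUnit_of_isUnit_coe A u hu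
  intro c
  obtain ⟨l, hl⟩ := hCL c c.2
  obtain ⟨p, hp, q, hq, hq0, hpq⟩ := hY l
  obtain ⟨hpC, hpR⟩ := hadjR p (hsubY hp)
  obtain ⟨hqC, hqR⟩ := hadjR q (hsubY hq)
  obtain ⟨W, P, hW, hP, ⟨v, hvB, hWv⟩, hcWP⟩ := hrep c c.2
  obtain ⟨WR, hWR⟩ := hκlift W (fun n => hsub₀ (hW n))
  obtain ⟨PR, hPR⟩ := hκlift P (fun n => hsub₀ (hP n))
  rw [hφ] at hG0 hmin
  have hWu : IsUnit (eval₂ ((algebraMap C B).comp (algebraMap R C)) ξ WR) := by
    rw [← hφ]
    refine IsUnit.of_mul_eq_one (⟨v, hvB⟩ : B) (Subtype.ext ?_)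
    show ((eval₂ φ ξ WR : B) : Om) * v = 1
    rw [hevalφ, hWR, hWv]
  have hPP : algebraMap C B c * eval₂ ((algebraMap C B).comp (algebraMap R C)) ξ WR =
      eval₂ ((algebraMap C B).comp (algebraMap R C)) ξ PR := by
    rw [← hφ]
    apply Subtype.ext
    show (c : Om) * ((eval₂ φ ξ WR : B) : Om) = ((eval₂ φ ξ PR : B) : Om)
    rw [hevalφ, hevalφ, hWR, hPR, hcWP]
  refine mem_of_unit_eval hCfin hB₂ R hRu ξ GR hGRm hG0 hmin c
    (⟨⟨p, hpC⟩, hpR⟩ : R) (⟨⟨q, hqC⟩, hqR⟩ : R) ?_ ?_ WR PR hWu hPP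
  · intro h
    apply hq0
    exact congrArg (fun r : R => ((r : C) : Om)) h
  · apply Subtype.ext
    show (c : Om) * q = p
    rw [← hl, hpq]

set_option maxHeartbeats 3200000 in
/-- The field factor lemma with Artin–Tate: a local ring `Db ⊆ C` with `C` integral over `Db`
as in `exists_finite_forall_mem_locSub` and with finitely generated residue field is essentially
of finite type. -/
theorem essFiniteType_of_field_factor
    (A Om L : Type u) [CommRing A] [IsNoetherianRing A] [CommRing Om] [Algebra A Om] [Field L]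
    [Algebra A L] (ιL : L →ₐ[A] Om) (Db C B : Subalgebra A Om) (hDC : Db ≤ C)
    (hCL : ∀ c ∈ C, ∃ l : L, ιL l = c) (hCB : C ≤ B) [IsLocalRing Db]
    (hCint : ∀ c ∈ C, IsIntegral Db c)
    (hCfin : {𝔫 : Ideal C | 𝔫.IsMaximal}.Finite)
    (hCB' : ∀ 𝔫 : Ideal C, 𝔫.IsMaximal → 𝔫.map (Subalgebra.inclusion hCB) ≠ ⊤)
    (hclosed : ∀ z : L, IsIntegral A z → ιL z ∈ C)
    (x : Om) (hxB : x ∈ B) (hxint : IsIntegral A x)
    (σ₀ : Set Om) (hσ₀fin : σ₀.Finite) (hσ₀C : σ₀ ⊆ C)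
    (hrep : ∀ c ∈ C, ∃ W P : Polynomial Om, (∀ n, W.coeff n ∈ Algebra.adjoin A σ₀) ∧
        (∀ n, P.coeff n ∈ Algebra.adjoin A σ₀) ∧ (∃ v ∈ B, W.eval x * v = 1) ∧
        c * W.eval x = P.eval x)
    (Y : Set Om) (hYfin : Y.Finite) (hYC : Y ⊆ C)
    (hY : ∀ z : L, ∃ p ∈ Algebra.adjoin A Y, ∃ q ∈ Algebra.adjoin A Y, q ≠ 0 ∧ ιL z * q = p)
    (Z : Set Om) (hZfin : Z.Finite) (hZD : Z ⊆ Db)
    (hZ : ∀ d ∈ Db, ∃ p ∈ Algebra.adjoin A Z, ¬ ∃ v ∈ Db, (d - p) * v = 1) :
    Algebra.EssFiniteType A Db := by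
  classical
  haveI : Nontrivial Om := ⟨0, 1, fun h => zero_ne_one (α := Db) (Subtype.ext h)⟩
  obtain ⟨σ, hσfin, hall⟩ := exists_finite_forall_mem_locSub A Om L ιL C B hCL hCB hCfin hCB'
    hclosed x hxB hxint σ₀ hσ₀fin hσ₀C hrep Y hYfin hYC hY
  have hC : Algebra.EssFiniteType A C := by
    rw [Algebra.essFiniteType_iff A C]
    refine ⟨hσfin.toFinset, fun c => ?_⟩
    rw [Set.Finite.coe_toFinset]
    exact (mem_locSub A).mp (hall c)
  letI : Algebra Db C := (Subalgebra.inclusion hDC).toRingHom.toAlgebra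
  haveI : IsScalarTower A Db C := IsScalarTower.of_algebraMap_eq (fun a => rfl)
  haveI : IsScalarTower Db C Om := IsScalarTower.of_algebraMap_eq (fun d => rfl)
  have hCint' : ∀ c : C, IsIntegral Db c := fun c =>
    (isIntegral_algHom_iff (IsScalarTower.toAlgHom Db C Om) Subtype.val_injective).mp
      (hCint c c.2)
  obtain ⟨N, hN⟩ : ∃ N : Subalgebra Db C, N = Algebra.adjoin Db σ := ⟨_, rfl⟩
  haveI : Module.Finite Db N := by
    rw [hN]
    exact Algebra.finite_adjoin_of_finite_of_isIntegral hσfin (fun c _ => hCint' c)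
  have hadjN : ∀ z ∈ Algebra.adjoin A σ, z ∈ N := by
    intro z hz
    have h1 : Algebra.adjoin A σ ≤ N.restrictScalars A := Algebra.adjoin_le (by
      intro s hs
      show s ∈ N
      rw [hN]; exact Algebra.subset_adjoin hs)
    exact h1 hz
  have hNtop : N = ⊤ := by
    rw [eq_top_iff]
    intro c _
    obtain ⟨t, ht, hu, hct⟩ := hall c
    obtain ⟨v, hv⟩ := hu.exists_right_inv
    have hvN : v ∈ N := by
      have h1 := inv_mem_adjoin_of_isIntegral (R := Db) t v hv (hCint' v)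
      have h2 : Algebra.adjoin Db ({t} : Set C) ≤ N := Algebra.adjoin_le (by
        intro s hs
        rw [Set.mem_singleton_iff.mp hs]
        exact hadjN t ht)
      exact h2 h1
    have h3 : c = (c * t) * v := by rw [mul_assoc, hv, mul_one]
    rw [h3]
    exact N.mul_mem (hadjN _ hct) hvN
  haveI : Module.Finite Db C := by
    haveI : Module.Finite Db (⊤ : Subalgebra Db C) := hNtop ▸ inferInstance
    exact Module.Finite.equiv (Subalgebra.topEquiv (R := Db) (A := C)).toLinearEquiv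
  have hinj : Function.Injective (algebraMap Db C) := Subalgebra.inclusion_injective hDC
  obtain ⟨Z', hZ'⟩ : ∃ Z' : Set Db, Z' = (fun d : Db => (d : Om)) ⁻¹' Z := ⟨_, rfl⟩
  have hZ'fin : Z'.Finite := by
    rw [hZ']; exact hZfin.preimage Subtype.val_injective.injOn
  have hZ'' : ∀ d : Db, ∃ p ∈ locSub A Z', d - p ∈ maximalIdeal Db := by
    intro d
    obtain ⟨p, hp, hnu⟩ := hZ d d.2
    obtain ⟨hpD, hpZ'⟩ := mem_adjoin_preimage Db Z hZD p hp
    refine ⟨⟨p, hpD⟩, adjoin_le_locSub A Z' (by rw [hZ']; exact hpZ'), ?_⟩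
    rw [IsLocalRing.mem_maximalIdeal, mem_nonunits_iff]
    intro hu
    obtain ⟨w, hw⟩ := hu.exists_right_inv
    exact hnu ⟨w, w.2, congrArg Subtype.val hw⟩
  exact essFiniteType_of_finite_extension A Db C hinj hC Z' hZ'fin hZ''

end Field

end Groth.Agent.H15.EssFT
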