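import Groth.Agent.H15.EssFT4

/-!
# Essentially of finite type: idempotents of reduced artinian rings and the transfer to a factor
(for S16449)
-/

set_option autoImplicit false
set_option linter.style.haveILetI false
set_option linter.unusedSectionVars false
universe u
open IsLocalRing Polynomial

namespace Groth.Agent.H15.EssFT

section Idem

/-- A reduced artinian ring has a complete family of idempotents cutting out fields. -/
theorem exists_idempotents (R : Type u) [CommRing R] [IsArtinianRing R] [IsReduced R] :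
    ∃ (n : ℕ) (e : Fin n → R), (∀ i, e i * e i = e i) ∧ ∑ i, e i = 1 ∧
      ∀ i, e i ≠ 0 ∧ ∀ z : R, e i * z ≠ 0 → ∃ z', e i * z * z' = e i := by
  classical
  haveI : Fintype (MaximalSpectrum R) := Fintype.ofFinite _
  obtain ⟨φ, hφ⟩ : ∃ φ : R ≃ₐ[R] ∀ I : MaximalSpectrum R, R ⧸ I.asIdeal,
      φ = IsArtinianRing.equivPi R := ⟨_, rfl⟩
  have hmul : ∀ (I : MaximalSpectrum R) (a : R ⧸ I.asIdeal)
      (f : ∀ J : MaximalSpectrum R, R ⧸ J.asIdeal),
      (Pi.single I a : ∀ J : MaximalSpectrum R, R ⧸ J.asIdeal) * f = Pi.single I (a * f I) := by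
    intro I a f
    funext J
    by_cases h : J = I
    · subst h; simp
    · simp [Pi.single_eq_of_ne h]
  obtain ⟨e', he'⟩ : ∃ e' : MaximalSpectrum R → R, ∀ I, φ (e' I) = Pi.single I 1 :=
    ⟨fun I => φ.symm (Pi.single I 1), fun I => φ.apply_symm_apply _⟩
  have hidem : ∀ I, e' I * e' I = e' I := by
    intro I
    apply φ.injective
    rw [map_mul, he', hmul, Pi.single_eq_same, mul_one]
  have hsum : ∑ I, e' I = 1 := by
    apply φ.injective
    rw [map_sum, map_one]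
    have h1 : ∀ I ∈ (Finset.univ : Finset (MaximalSpectrum R)), φ (e' I) =
        Pi.single I ((1 : ∀ J : MaximalSpectrum R, R ⧸ J.asIdeal) I) := fun I _ => he' I
    rw [Finset.sum_congr rfl h1, Finset.univ_sum_single]
  have hne : ∀ I, e' I ≠ 0 := by
    intro I h
    have h1 := he' I
    rw [h, map_zero] at h1
    have h2 := congrFun h1 I
    rw [Pi.single_eq_same, Pi.zero_apply] at h2
    haveI : I.asIdeal.IsMaximal := I.isMaximal
    exact (zero_ne_one (α := R ⧸ I.asIdeal)) h2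
  have hfld : ∀ I (z : R), e' I * z ≠ 0 → ∃ z', e' I * z * z' = e' I := by
    intro I z hz
    haveI : I.asIdeal.IsMaximal := I.isMaximal
    have h1 : φ z I ≠ 0 := by
      intro h0
      apply hz
      apply φ.injective
      rw [map_mul, he', hmul, h0, mul_zero, Pi.single_zero, map_zero]
    obtain ⟨w, hw⟩ := Ideal.Quotient.exists_inv h1
    refine ⟨φ.symm (Pi.single I w), ?_⟩
    apply φ.injective
    rw [map_mul, map_mul, he', φ.apply_symm_apply, hmul, one_mul, hmul, Pi.single_eq_same, hw]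
  obtain ⟨eqv⟩ : Nonempty (MaximalSpectrum R ≃ Fin (Fintype.card (MaximalSpectrum R))) :=
    ⟨Fintype.equivFin _⟩
  refine ⟨Fintype.card (MaximalSpectrum R), fun i => e' (eqv.symm i), fun i => hidem _, ?_,
    fun i => ⟨hne _, hfld _⟩⟩
  rw [← hsum]
  exact Equiv.sum_comp eqv.symm e'

end Idem

section Transfer

/-- Transport of `EssFiniteType` along an algebra isomorphism. -/
theorem essFiniteType_of_algEquiv {A S T : Type*} [CommRing A] [CommRing S] [CommRing T]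
    [Algebra A S] [Algebra A T] (f : S ≃ₐ[A] T) [Algebra.EssFiniteType A S] :
    Algebra.EssFiniteType A T := by
  letI : Algebra S T := (f : S →+* T).toAlgebra
  haveI : IsScalarTower A S T := IsScalarTower.of_algebraMap_eq (fun a => (f.commutes a).symm)
  haveI : Algebra.FiniteType S T :=
    Algebra.FiniteType.of_surjective (Algebra.ofId S T) (fun t => by
      obtain ⟨s, rfl⟩ := f.surjective t
      exact ⟨s, rfl⟩)
  exact Algebra.EssFiniteType.comp A S T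

set_option maxHeartbeats 6400000 in
/-- Transfer to the factor cut out by an idempotent `e`: the quotient of the local ring `D₀` by
the annihilator of `e` is essentially of finite type. -/
theorem essFiniteType_quotient_of_idempotent
    (A K : Type u) [CommRing A] [IsNoetherianRing A] [CommRing K] [Algebra A K]
    (D₀ D' KD E' : Subalgebra A K) (hD₀D' : D₀ ≤ D') (hD'KD : D' ≤ KD) (hD'E' : D' ≤ E')
    [IsLocalRing D₀]
    (e : K) (heD' : e ∈ D') (hee : e * e = e) (he0 : e ≠ 0)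
    (hfield : ∀ z ∈ KD, e * z ≠ 0 → ∃ z' ∈ KD, e * z * z' = e)
    (hint : ∀ c ∈ D', IsIntegral D₀ c)
    (hfin : {𝔫 : Ideal D' | 𝔫.IsMaximal}.Finite)
    (hext : ∀ 𝔫 : Ideal D', 𝔫.IsMaximal → 𝔫.map (Subalgebra.inclusion hD'E') ≠ ⊤)
    (hclosed : ∀ z ∈ KD, IsIntegral A z → z ∈ D')
    (x : K) (hxE' : x ∈ E') (hxint : IsIntegral A x)
    (σ₀ : Set K) (hσ₀fin : σ₀.Finite) (hσ₀ : σ₀ ⊆ D')
    (hrep : ∀ c ∈ D', ∃ W P : Polynomial K, (∀ n, W.coeff n ∈ Algebra.adjoin A σ₀) ∧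
        (∀ n, P.coeff n ∈ Algebra.adjoin A σ₀) ∧ (∃ v ∈ E', W.eval x * v = 1) ∧
        c * W.eval x = P.eval x)
    (Y : Set K) (hYfin : Y.Finite) (hYD' : Y ⊆ D')
    (hY : ∀ z ∈ KD, ∃ p ∈ Algebra.adjoin A Y, ∃ q ∈ Algebra.adjoin A Y,
      (∀ w : K, q * w = 0 → w = 0) ∧ z * q = p)
    (Z : Set K) (hZfin : Z.Finite) (hZD₀ : Z ⊆ D₀)
    (hZ : ∀ d ∈ D₀, ∃ p ∈ Algebra.adjoin A Z, ¬ ∃ v ∈ D₀, (d - p) * v = 1) :
    ∃ 𝔮 : Ideal D₀, (∀ d : D₀, d ∈ 𝔮 ↔ e * (d : K) = 0) ∧ Algebra.EssFiniteType A (D₀ ⧸ 𝔮) := by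
  classical
  obtain ⟨I, hI⟩ : ∃ I : Ideal K, I = Ideal.span {1 - e} := ⟨_, rfl⟩
  obtain ⟨π, hπdef⟩ : ∃ π : K →ₐ[A] K ⧸ I, π = Ideal.Quotient.mkₐ A I := ⟨_, rfl⟩
  have hπsurj : Function.Surjective π := by
    rw [hπdef]; exact Ideal.Quotient.mkₐ_surjective A I
  have hπ0 : ∀ z : K, π z = 0 ↔ e * z = 0 := by
    intro z
    rw [hπdef, Ideal.Quotient.mkₐ_eq_mk, Ideal.Quotient.eq_zero_iff_mem, hI,
      Ideal.mem_span_singleton']
    constructor
    · rintro ⟨w, rfl⟩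
      have : e * (w * (1 - e)) = w * (e - e * e) := by ring
      rw [this, hee, sub_self, mul_zero]
    · intro h
      refine ⟨z, ?_⟩
      have : z * (1 - e) = z - e * z := by ring
      rw [this, h, sub_zero]
  have hπe : π e = 1 := by
    have h1 : π (1 - e) = 0 := by
      rw [hπ0]
      have : e * (1 - e) = e - e * e := by ring
      rw [this, hee, sub_self]
    rw [map_sub, map_one, sub_eq_zero] at h1
    exact h1.symm
  have hπmul : ∀ z : K, π (e * z) = π z := fun z => by rw [map_mul, hπe, one_mul]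
  haveI : Nontrivial (K ⧸ I) := by
    refine ⟨0, 1, fun h => ?_⟩
    have h1 : π 1 = 0 := by rw [map_one]; exact h.symm
    rw [hπ0, mul_one] at h1
    exact he0 h1
  -- the images
  obtain ⟨Db, hDb⟩ : ∃ Db : Subalgebra A (K ⧸ I), Db = D₀.map π := ⟨_, rfl⟩
  obtain ⟨C, hC⟩ : ∃ C : Subalgebra A (K ⧸ I), C = D'.map π := ⟨_, rfl⟩
  obtain ⟨B, hB⟩ : ∃ B : Subalgebra A (K ⧸ I), B = E'.map π := ⟨_, rfl⟩
  have hmemDb : ∀ z, z ∈ Db ↔ ∃ y ∈ D₀, π y = z := fun z => by rw [hDb]; exact Subalgebra.mem_map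
  have hmemC : ∀ z, z ∈ C ↔ ∃ y ∈ D', π y = z := fun z => by rw [hC]; exact Subalgebra.mem_map
  have hmemB : ∀ z, z ∈ B ↔ ∃ y ∈ E', π y = z := fun z => by rw [hB]; exact Subalgebra.mem_map
  have hDC : Db ≤ C := by rw [hDb, hC]; exact Subalgebra.map_mono hD₀D'
  have hCB : C ≤ B := by rw [hC, hB]; exact Subalgebra.map_mono hD'E'
  -- the restricted maps
  obtain ⟨g₀, hg₀⟩ : ∃ g₀ : D₀ →ₐ[A] Db, ∀ d : D₀, ((g₀ d : Db) : K ⧸ I) = π (d : K) :=
    ⟨(π.comp D₀.val).codRestrict Db (fun d => (hmemDb _).mpr ⟨d, d.2, rfl⟩), fun d => rfl⟩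
  have hg₀surj : Function.Surjective g₀ := by
    rintro ⟨z, hz⟩
    obtain ⟨y, hy, rfl⟩ := (hmemDb z).mp hz
    exact ⟨⟨y, hy⟩, Subtype.ext (hg₀ _)⟩
  obtain ⟨gC, hgC⟩ : ∃ gC : D' →ₐ[A] C, ∀ d : D', ((gC d : C) : K ⧸ I) = π (d : K) :=
    ⟨(π.comp D'.val).codRestrict C (fun d => (hmemC _).mpr ⟨d, d.2, rfl⟩), fun d => rfl⟩
  have hgCsurj : Function.Surjective gC := by
    rintro ⟨z, hz⟩
    obtain ⟨y, hy, rfl⟩ := (hmemC z).mp hz
    exact ⟨⟨y, hy⟩, Subtype.ext (hgC _)⟩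
  obtain ⟨gB, hgB⟩ : ∃ gB : E' →ₐ[A] B, ∀ d : E', ((gB d : B) : K ⧸ I) = π (d : K) :=
    ⟨(π.comp E'.val).codRestrict B (fun d => (hmemB _).mpr ⟨d, d.2, rfl⟩), fun d => rfl⟩
  have hgBsurj : Function.Surjective gB := by
    rintro ⟨z, hz⟩
    obtain ⟨y, hy, rfl⟩ := (hmemB z).mp hz
    exact ⟨⟨y, hy⟩, Subtype.ext (hgB _)⟩
  haveI : Nontrivial Db := ⟨0, 1, fun h => zero_ne_one (α := K ⧸ I) (congrArg Subtype.val h)⟩
  haveI : IsLocalRing Db := IsLocalRing.of_surjective' (g₀ : D₀ →+* Db) hg₀surj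
  haveI : IsLocalHom (g₀ : D₀ →+* Db) := IsLocalHom.of_surjective _ hg₀surj
  -- the field `L`
  have heKD : e ∈ KD := hD'KD heD'
  obtain ⟨ρ, hρ⟩ : ∃ ρ : KD →ₐ[A] K ⧸ I, ∀ z : KD, ρ z = π (z : K) := ⟨π.comp KD.val, fun z => rfl⟩
  have hρker : ∀ z : KD, z ∈ RingHom.ker ρ ↔ e * (z : K) = 0 := fun z => by
    rw [RingHom.mem_ker, hρ, hπ0]
  haveI hmax : (RingHom.ker ρ).IsMaximal := by
    rw [Ideal.isMaximal_iff]
    refine ⟨fun h => ?_, fun J z hJ hz hzJ => ?_⟩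
    · rw [hρker] at h
      exact he0 (by simpa using h)
    · have hz' : e * (z : K) ≠ 0 := fun h => hz ((hρker z).mpr h)
      obtain ⟨z', hz'KD, hzz'⟩ := hfield z z.2 hz'
      have h1 : (1 : KD) = z * (⟨e, heKD⟩ * ⟨z', hz'KD⟩) + (1 - ⟨e, heKD⟩) := by
        apply Subtype.ext
        show (1 : K) = (z : K) * (e * z') + (1 - e)
        have : (z : K) * (e * z') = e * (z : K) * z' := by ring
        rw [this, hzz']; ring
      rw [h1]
      refine J.add_mem (J.mul_mem_right _ hzJ) (hJ ?_)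
      rw [hρker]
      show e * (1 - e) = 0
      have : e * (1 - e) = e - e * e := by ring
      rw [this, hee, sub_self]
  letI : Field (KD ⧸ RingHom.ker ρ) := Ideal.Quotient.field (RingHom.ker ρ)
  obtain ⟨ιL, hιL⟩ : ∃ ιL : (KD ⧸ RingHom.ker ρ) →ₐ[A] K ⧸ I,
      ∀ z : KD, ιL (Ideal.Quotient.mk _ z) = π (z : K) :=
    ⟨Ideal.kerLiftAlg ρ, fun z => by rw [Ideal.kerLiftAlg_mk, hρ]⟩
  -- hypotheses of the field factor lemma
  have hCL : ∀ c ∈ C, ∃ l : KD ⧸ RingHom.ker ρ, ιL l = c := by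
    intro c hc
    obtain ⟨y, hy, rfl⟩ := (hmemC c).mp hc
    exact ⟨Ideal.Quotient.mk _ ⟨y, hD'KD hy⟩, hιL _⟩
  have hCint : ∀ c ∈ C, IsIntegral Db c := by
    intro c hc
    obtain ⟨y, hy, rfl⟩ := (hmemC c).mp hc
    refine (hint y hy).map_of_comp_eq (g₀ : D₀ →+* Db) (π : K →+* K ⧸ I) ?_
    ext d
    exact hg₀ d
  have hCfin : {𝔫 : Ideal C | 𝔫.IsMaximal}.Finite := by
    refine Set.Finite.of_finite_image (f := fun 𝔫 : Ideal C => 𝔫.comap (gC : D' →+* C))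
      (hfin.subset ?_) (Ideal.comap_injective_of_surjective _ hgCsurj).injOn
    rintro _ ⟨𝔫, h𝔫, rfl⟩
    haveI : 𝔫.IsMaximal := h𝔫
    exact Ideal.comap_isMaximal_of_surjective (gC : D' →+* C) hgCsurj
  have hCB' : ∀ 𝔫 : Ideal C, 𝔫.IsMaximal → 𝔫.map (Subalgebra.inclusion hCB) ≠ ⊤ := by
    intro 𝔫b h𝔫b htop
    haveI := h𝔫b
    have h𝔫 : (𝔫b.comap (gC : D' →+* C)).IsMaximal :=
      Ideal.comap_isMaximal_of_surjective (gC : D' →+* C) hgCsurj
    apply hext _ h𝔫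
    -- the image in `B`
    have hsq : ((gB : E' →+* B).comp (Subalgebra.inclusion hD'E' : D' →+* E')) =
        ((Subalgebra.inclusion hCB : C →+* B).comp (gC : D' →+* C)) := by
      ext d
      show ((gB (Subalgebra.inclusion hD'E' d) : B) : K ⧸ I) = _
      rw [hgB]
      exact (hgC d).symm
    have h1 : ((𝔫b.comap (gC : D' →+* C)).map (Subalgebra.inclusion hD'E' : D' →+* E')).map
        (gB : E' →+* B) = ⊤ := by
      rw [Ideal.map_map, hsq, ← Ideal.map_map,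
        Ideal.map_comap_of_surjective (gC : D' →+* C) hgCsurj]
      exact htop
    have h2 := Ideal.comap_map_of_surjective (gB : E' →+* B) hgBsurj
      ((𝔫b.comap (gC : D' →+* C)).map (Subalgebra.inclusion hD'E' : D' →+* E'))
    rw [h1, Ideal.comap_top] at h2
    have h3 : (1 : E') ∈ (𝔫b.comap (gC : D' →+* C)).map
        (Subalgebra.inclusion hD'E' : D' →+* E') ⊔ Ideal.comap (gB : E' →+* B) ⊥ := by
      rw [← h2]; trivial
    obtain ⟨m, hm, k, hk, hmk⟩ := Submodule.mem_sup.mp h3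
    have hk0 : e * (k : K) = 0 := by
      have h4 : gB k = 0 := hk
      have h5 : π (k : K) = 0 := by rw [← hgB, h4]; rfl
      exact (hπ0 _).mp h5
    have h1e : (⟨1 - e, D'.sub_mem D'.one_mem heD'⟩ : D') ∈ 𝔫b.comap (gC : D' →+* C) := by
      rw [Ideal.mem_comap]
      have h6 : (gC : D' →+* C) ⟨1 - e, D'.sub_mem D'.one_mem heD'⟩ = 0 := by
        apply Subtype.ext
        show ((gC ⟨1 - e, _⟩ : C) : K ⧸ I) = 0
        rw [hgC]
        show π (1 - e) = 0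
        rw [map_sub, map_one, hπe, sub_self]
      rw [h6]; exact 𝔫b.zero_mem
    have hk' : k = (Subalgebra.inclusion hD'E' : D' →+* E') ⟨1 - e, D'.sub_mem D'.one_mem heD'⟩ * k := by
      apply Subtype.ext
      show (k : K) = (1 - e) * (k : K)
      have : (1 - e) * (k : K) = (k : K) - e * (k : K) := by ring
      rw [this, hk0, sub_zero]
    rw [Ideal.eq_top_iff_one, ← hmk]
    refine Ideal.add_mem _ hm ?_
    rw [hk']
    exact Ideal.mul_mem_right _ _ (Ideal.mem_map_of_mem _ h1e)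
  have hclosedL : ∀ z : KD ⧸ RingHom.ker ρ, IsIntegral A z → ιL z ∈ C := by
    intro z hz
    obtain ⟨g, rfl⟩ := Ideal.Quotient.mk_surjective z
    obtain ⟨h, hhm, hh0⟩ := hz
    rw [hιL]
    -- `e * g` is integral over `A`
    have h3 : (ιL : (KD ⧸ RingHom.ker ρ) →+* K ⧸ I).comp (algebraMap A (KD ⧸ RingHom.ker ρ)) =
        (π : K →+* K ⧸ I).comp (algebraMap A K) := by
      ext a
      simp only [RingHom.comp_apply]
      rw [RingHom.coe_coe, RingHom.coe_coe, ιL.commutes, π.commutes]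
    have h1 : (π : K →+* K ⧸ I) (eval₂ (algebraMap A K) (g : K) h) = 0 := by
      rw [hom_eval₂, ← h3]
      have h2' : (π : K →+* K ⧸ I) (g : K) =
          (ιL : (KD ⧸ RingHom.ker ρ) →+* K ⧸ I) (Ideal.Quotient.mk _ g) := (hιL g).symm
      rw [h2', ← hom_eval₂, hh0, map_zero]
    have h4 : (π : K →+* K ⧸ I) (eval₂ (algebraMap A K) (e * (g : K)) h) = 0 := by
      rw [hom_eval₂]
      have h2' : (π : K →+* K ⧸ I) (e * (g : K)) = (π : K →+* K ⧸ I) (g : K) := hπmul _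
      rw [h2', ← hom_eval₂]
      exact h1
    have h5 : e * eval₂ (algebraMap A K) (e * (g : K)) h = 0 := (hπ0 _).mp h4
    have h6 : IsIntegral A (e * (g : K)) := by
      refine ⟨X * h, monic_X.mul hhm, ?_⟩
      rw [eval₂_mul, eval₂_X]
      have : e * (g : K) * eval₂ (algebraMap A K) (e * (g : K)) h =
          (g : K) * (e * eval₂ (algebraMap A K) (e * (g : K)) h) := by ring
      rw [this, h5, mul_zero]
    have h7 : e * (g : K) ∈ D' := hclosed _ (KD.mul_mem heKD g.2) h6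
    rw [← hπmul]
    exact (hmemC _).mpr ⟨_, h7, rfl⟩
  have hxB : π x ∈ B := (hmemB _).mpr ⟨x, hxE', rfl⟩
  have hxbint : IsIntegral A (π x) := hxint.map π
  have hadjπ : ∀ (S₀ : Set K) (z : K), z ∈ Algebra.adjoin A S₀ → π z ∈ Algebra.adjoin A (π '' S₀) := by
    intro S₀ z hz
    have h1 : π z ∈ (Algebra.adjoin A S₀).map π := ⟨z, hz, rfl⟩
    rwa [AlgHom.map_adjoin] at h1
  have himgC : ∀ S₀ : Set K, S₀ ⊆ D' → π '' S₀ ⊆ (C : Set (K ⧸ I)) := by
    rintro S₀ hS₀ _ ⟨y, hy, rfl⟩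
    exact (hmemC _).mpr ⟨y, hS₀ hy, rfl⟩
  have hrepb : ∀ c ∈ C, ∃ W P : Polynomial (K ⧸ I),
      (∀ n, W.coeff n ∈ Algebra.adjoin A (π '' σ₀)) ∧
      (∀ n, P.coeff n ∈ Algebra.adjoin A (π '' σ₀)) ∧ (∃ v ∈ B, W.eval (π x) * v = 1) ∧
      c * W.eval (π x) = P.eval (π x) := by
    intro c hc
    obtain ⟨y, hy, rfl⟩ := (hmemC c).mp hc
    obtain ⟨W, P, hW, hP, ⟨v, hv, hWv⟩, hWP⟩ := hrep y hy
    have hev : ∀ T : Polynomial K, (T.map (π : K →+* K ⧸ I)).eval (π x) = π (T.eval x) := by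
      intro T
      rw [eval_map]
      exact eval₂_at_apply (π : K →+* K ⧸ I) x
    refine ⟨W.map (π : K →+* K ⧸ I), P.map (π : K →+* K ⧸ I), ?_, ?_, ⟨π v, ?_, ?_⟩, ?_⟩
    · intro n; rw [coeff_map]; exact hadjπ _ _ (hW n)
    · intro n; rw [coeff_map]; exact hadjπ _ _ (hP n)
    · exact (hmemB _).mpr ⟨v, hv, rfl⟩
    · rw [hev, ← map_mul, hWv, map_one]
    · rw [hev, hev, ← map_mul, hWP]
  have hYb : ∀ z : KD ⧸ RingHom.ker ρ, ∃ p ∈ Algebra.adjoin A (π '' Y),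
      ∃ q ∈ Algebra.adjoin A (π '' Y), q ≠ 0 ∧ ιL z * q = p := by
    intro z
    obtain ⟨g, rfl⟩ := Ideal.Quotient.mk_surjective z
    obtain ⟨p, hp, q, hq, hqreg, hpq⟩ := hY g g.2
    refine ⟨π p, hadjπ _ _ hp, π q, hadjπ _ _ hq, ?_, ?_⟩
    · intro h0
      have h1 : e * q = 0 := (hπ0 _).mp h0
      exact he0 (hqreg e (by rw [mul_comm]; exact h1))
    · rw [hιL, ← map_mul, hpq]
  have hZb : ∀ d ∈ Db, ∃ p ∈ Algebra.adjoin A (π '' Z), ¬ ∃ v ∈ Db, (d - p) * v = 1 := by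
    intro d hd
    obtain ⟨y, hy, rfl⟩ := (hmemDb d).mp hd
    obtain ⟨p, hp, hnu⟩ := hZ y hy
    refine ⟨π p, hadjπ _ _ hp, ?_⟩
    rintro ⟨vb, hvb, hv1⟩
    obtain ⟨v, hv, rfl⟩ := (hmemDb vb).mp hvb
    have hpD₀ : p ∈ D₀ := Algebra.adjoin_le (S := D₀) hZD₀ hp
    obtain ⟨u, hu⟩ : ∃ u : D₀, (u : K) = (y - p) * v :=
      ⟨⟨(y - p) * v, D₀.mul_mem (D₀.sub_mem hy hpD₀) hv⟩, rfl⟩
    have hgu : g₀ u = 1 := by
      apply Subtype.ext
      rw [hg₀, hu, map_mul, map_sub]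
      exact hv1
    have huu : IsUnit u := by
      apply isUnit_of_map_unit (g₀ : D₀ →+* Db)
      show IsUnit (g₀ u)
      rw [hgu]; exact isUnit_one
    obtain ⟨w, hw⟩ := huu.exists_right_inv
    apply hnu
    refine ⟨v * (w : K), D₀.mul_mem hv w.2, ?_⟩
    have h1 : (u : K) * (w : K) = 1 := congrArg Subtype.val hw
    rw [← mul_assoc, ← hu, h1]
  have hmain : Algebra.EssFiniteType A Db :=
    essFiniteType_of_field_factor A (K ⧸ I) (KD ⧸ RingHom.ker ρ) ιL Db C B hDC hCL hCB hCint hCfin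
      hCB' hclosedL (π x) hxB hxbint (π '' σ₀) (hσ₀fin.image _) (himgC σ₀ hσ₀) hrepb
      (π '' Y) (hYfin.image _) (himgC Y hYD') hYb (π '' Z) (hZfin.image _)
      (by
        rintro _ ⟨y, hy, rfl⟩
        exact (hmemDb _).mpr ⟨y, hZD₀ hy, rfl⟩) hZb
  refine ⟨RingHom.ker (g₀ : D₀ →+* Db), fun d => ?_, ?_⟩
  · rw [RingHom.mem_ker, ← hπ0, ← hg₀]
    constructor
    · intro h; rw [show (g₀ : D₀ →+* Db) d = g₀ d from rfl] at h; rw [h]; rfl
    · intro h; exact Subtype.ext h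
  · haveI := hmain
    exact essFiniteType_of_algEquiv (Ideal.quotientKerAlgEquivOfSurjective hg₀surj).symm

end Transfer

end Groth.Agent.H15.EssFT
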