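import Mathlib
import Groth.Agent.S16448
import Groth.Agent.S2474
import Groth.Agent.H15.StrictSub8
import Groth.Agent.H29.RedModP
import Groth.Agent.H47.Unibranch

/-!
# S16447: the ring `C = L ∩ E'` for an essentially étale local algebra `E` over a reduced
noetherian local ring
-/

set_option autoImplicit false
set_option linter.style.haveILetI false
set_option linter.unusedSectionVars false
universe u
open TensorProduct IsLocalRing

namespace Groth.Agent.H15.EssSub4

open Groth.Agent.H15.NormRed

/-- An integral element over an artinian ring which is a non-zero-divisor on the subalgebra it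
generates has an inverse in that subalgebra. -/
theorem exists_inv_mem_adjoin {K R : Type*} [CommRing K] [IsArtinianRing K] [CommRing R]
    [Algebra K R] (x : R) (hx : IsIntegral K x)
    (hnz : ∀ b ∈ Algebra.adjoin K {x}, b * x = 0 → b = 0) :
    ∃ v ∈ Algebra.adjoin K {x}, x * v = 1 := by
  haveI : Module.Finite K (Algebra.adjoin K {x}) :=
    Algebra.finite_adjoin_simple_of_isIntegral hx
  haveI : IsArtinianRing (Algebra.adjoin K {x}) :=
    IsArtinianRing.of_finite K (↥(Algebra.adjoin K {x}))
  have hnzd : (⟨x, Algebra.subset_adjoin (Set.mem_singleton x)⟩ : Algebra.adjoin K {x}) ∈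
      nonZeroDivisors (Algebra.adjoin K {x}) := by
    rw [mem_nonZeroDivisors_iff_right]
    intro b hb
    exact Subtype.ext (hnz b.1 b.2 (congrArg Subtype.val hb))
  obtain ⟨v, hv⟩ := (IsArtinianRing.isUnit_of_mem_nonZeroDivisors hnzd).exists_right_inv
  exact ⟨v.1, v.2, congrArg Subtype.val hv⟩

/-- The kernel of a ring map to an algebraic field extension of `k` whose image contains `k` is
maximal. -/
theorem ker_isMaximal_of_algebraic {k F C : Type*} [Field k] [Field F] [Algebra k F]
    [Algebra.IsAlgebraic k F] [CommRing C] (φ : C →+* F)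
    (h : ∀ x : k, ∃ c : C, φ c = algebraMap k F x) : (RingHom.ker φ).IsMaximal := by
  let R : Subalgebra k F := { φ.range with algebraMap_mem' := fun x => h x }
  rw [Ideal.isMaximal_iff]
  refine ⟨fun h1 => ?_, fun J x hNJ hxN hxJ => ?_⟩
  · rw [RingHom.mem_ker, map_one] at h1
    exact one_ne_zero h1
  · have hx0 : φ x ≠ 0 := hxN
    have hmem : φ x ∈ R := ⟨x, rfl⟩
    have hinv : ((⟨φ x, hmem⟩ : R) : F)⁻¹ ∈ R :=
      R.inv_mem_of_algebraic (x := ⟨φ x, hmem⟩) (Algebra.IsAlgebraic.isAlgebraic _)
    obtain ⟨c', hc'⟩ := hinv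
    have h2 : x * c' - 1 ∈ RingHom.ker φ := by
      rw [RingHom.mem_ker, map_sub, map_mul, map_one]
      have : φ c' = (φ x)⁻¹ := hc'
      rw [this, mul_inv_cancel₀ hx0, sub_self]
    have h3 := J.sub_mem (J.mul_mem_right c' hxJ) (hNJ h2)
    simpa using h3

/-- The normalization of a reduced noetherian local ring is semilocal (from Nagata's theorem for
domains, `S2474`). -/
theorem finite_maximal_integralClosure (E : Type u) [CommRing E] [IsLocalRing E] [IsReduced E]
    [IsNoetherianRing E] :
    {M : Ideal (integralClosure E (FractionRing E)) | M.IsMaximal}.Finite := by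
  classical
  have hfin : (minimalPrimes E).Finite := minimalPrimes.finite_of_isNoetherianRing E
  let Fam : Ideal E → Set (Ideal (integralClosure E (FractionRing E))) := fun 𝔭 =>
    if hp : 𝔭 ∈ minimalPrimes E then
      (fun m => m.comap (normMap E 𝔭 hp)) ''
        {m : Ideal (integralClosure (E ⧸ 𝔭) (FractionRing (E ⧸ 𝔭))) | m.IsMaximal}
    else ∅
  have hFam : ∀ 𝔭 ∈ minimalPrimes E, (Fam 𝔭).Finite := by
    intro 𝔭 hp
    simp only [Fam, dif_pos hp]
    haveI : 𝔭.IsPrime := hp.1.1
    haveI : IsLocalRing (E ⧸ 𝔭) := Groth.Agent.H47.Unibranch.isLocalRing_quotient 𝔭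
      (Ideal.IsPrime.ne_top inferInstance)
    exact ((Groth.Agent.S2474.result (A := E ⧸ 𝔭) (K' := FractionRing (E ⧸ 𝔭))).1).image _
  refine (Set.Finite.biUnion hfin hFam).subset ?_
  intro M hM
  have hM' : M.IsMaximal := hM
  haveI := hM'
  obtain ⟨𝔭, hp, hker⟩ := exists_ker_normMap_le E M
  refine Set.mem_biUnion hp ?_
  simp only [Fam, dif_pos hp]
  have hsurj := normMap_surjective E 𝔭 hp
  have hker' : (⊥ : Ideal (integralClosure (E ⧸ 𝔭) (FractionRing (E ⧸ 𝔭)))).comap
      (normMap E 𝔭 hp) ≤ M := by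
    rw [← RingHom.ker_eq_comap_bot]
    exact hker
  have hcm : (M.map (normMap E 𝔭 hp)).comap (normMap E 𝔭 hp) = M := by
    rw [Ideal.comap_map_of_surjective _ hsurj]
    exact sup_eq_left.mpr hker'
  refine ⟨M.map (normMap E 𝔭 hp), ?_, hcm⟩
  rcases Ideal.map_eq_top_or_isMaximal_of_surjective _ hsurj hM' with h | h
  · exfalso
    rw [h, Ideal.comap_top] at hcm
    exact hM'.ne_top hcm.symm
  · exact h

end Groth.Agent.H15.EssSub4
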