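import Mathlib
import Groth.Agent.H15.EssSub4

/-!
# S16447: main theorem
-/

set_option autoImplicit false
set_option linter.style.haveILetI false
set_option linter.unusedSectionVars false
universe u
open TensorProduct IsLocalRing

namespace Groth.Agent.H15.EssSub4

set_option maxHeartbeats 3200000 in
theorem inter_integralClosure
    (A E : Type u) [CommRing A] [IsLocalRing A] [IsReduced A] [IsNoetherianRing A]
    [CommRing E] [IsLocalRing E] [Algebra A E] [IsLocalHom (algebraMap A E)]
    (hE : EGA4loc.IsEssentiallyEtale A E) (L : Subalgebra A (FractionRing E))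
    (hL : ∀ s ∈ nonZeroDivisors A, ∃ y ∈ L, algebraMap A (FractionRing E) s * y = 1)
    (C : Subalgebra A (FractionRing E))
    (hC : C = L ⊓ (integralClosure E (FractionRing E)).restrictScalars A) :
    (∀ x ∈ L, IsIntegral C x → x ∈ C) ∧
      {N : Ideal C | N.IsMaximal}.Finite ∧
      (∀ N : Ideal C, N.IsMaximal ↔ ∃ M : Ideal ((integralClosure E (FractionRing E)).restrictScalars A),
          M.IsMaximal ∧ N = M.comap (Subalgebra.inclusion (hC.trans_le inf_le_right))) ∧
      ∀ l ∈ L, ∃ c ∈ C, ∃ s ∈ nonZeroDivisors A, ∃ y ∈ L,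
        algebraMap A (FractionRing E) s * y = 1 ∧ l = c * y := by
  classical
  have hmin : (minimalPrimes A).Finite := minimalPrimes.finite_of_isNoetherianRing A
  obtain ⟨hloc, -⟩ := Groth.Agent.S16448.result A E hmin hE
  obtain ⟨C₀, _, _, Q, hQ, hEt, hQm, ⟨e⟩⟩ := hE
  haveI := hEt
  haveI : IsReduced C₀ := Groth.Agent.H29.RedModP.isReduced_of_smooth A C₀
  haveI : IsNoetherianRing C₀ := Algebra.FiniteType.isNoetherianRing A C₀
  haveI : IsReduced (Localization.AtPrime Q) := inferInstance
  haveI : IsNoetherianRing (Localization.AtPrime Q) :=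
    IsLocalization.isNoetherianRing Q.primeCompl _ inferInstance
  haveI : IsReduced E := isReduced_of_injective (e : E →+* Localization.AtPrime Q) e.injective
  haveI : IsNoetherianRing E := isNoetherianRing_of_ringEquiv _ e.symm.toRingEquiv
  haveI : Algebra.QuasiFinite A (Localization.AtPrime Q) := inferInstance
  haveI : Algebra.QuasiFinite A E := (Algebra.QuasiFinite.iff_of_algEquiv e).mpr inferInstance
  haveI : IsArtinianRing (FractionRing A) := Groth.Agent.S16448.isArtinianRing_fractionRing hmin
  haveI : Algebra.QuasiFinite (FractionRing A) (FractionRing A ⊗[A] E) := inferInstance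
  haveI : Module.Finite (FractionRing A) (FractionRing A ⊗[A] E) := Module.Finite.of_quasiFinite
  letI : Algebra E (FractionRing A ⊗[A] E) := Algebra.TensorProduct.rightAlgebra
  haveI : IsLocalization (Algebra.algebraMapSubmonoid E (nonZeroDivisors A))
      (FractionRing A ⊗[A] E) := IsLocalization.tensorRight (S := E) (FractionRing A)
        (nonZeroDivisors A)
  haveI hloc' : IsLocalization (Algebra.algebraMapSubmonoid E (nonZeroDivisors A))
    (FractionRing E) := hloc
  let ψ : FractionRing A ⊗[A] E ≃ₐ[E] FractionRing E :=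
    IsLocalization.algEquiv (Algebra.algebraMapSubmonoid E (nonZeroDivisors A)) _ _
  let ψA : FractionRing A ⊗[A] E ≃ₐ[A] FractionRing E := ψ.restrictScalars A
  -- every element of `K_E` has an `A`-integral multiple
  have hI : ∀ x : FractionRing E, ∃ s ∈ nonZeroDivisors A,
      IsIntegral A (algebraMap A (FractionRing E) s * x) := by
    intro x
    have h1 : IsIntegral (FractionRing A) (ψA.symm x) := Algebra.IsIntegral.isIntegral _
    obtain ⟨m, hm⟩ := IsIntegral.exists_multiple_integral_of_isLocalization
      (nonZeroDivisors A) (ψA.symm x) h1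
    refine ⟨m, m.2, ?_⟩
    have h2 := hm.map ψA
    rwa [Submonoid.smul_def, map_smul, AlgEquiv.apply_symm_apply, Algebra.smul_def] at h2
  have hCle : C ≤ (integralClosure E (FractionRing E)).restrictScalars A :=
    hC.trans_le inf_le_right
  have hCL : C ≤ L := hC.trans_le inf_le_left
  let inclR : C →+* ↥(integralClosure E (FractionRing E)) :=
    { toFun := fun c => ⟨c.1, hCle c.2⟩
      map_one' := rfl
      map_mul' := fun _ _ => rfl
      map_zero' := rfl
      map_add' := fun _ _ => rfl }
  have hmemC : ∀ x : FractionRing E, x ∈ L → IsIntegral E x → x ∈ C := by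
    intro x hxL hx
    rw [hC]
    exact Algebra.mem_inf.mpr ⟨hxL, hx⟩
  -- (4)
  have h4 : ∀ l ∈ L, ∃ c ∈ C, ∃ s ∈ nonZeroDivisors A, ∃ y ∈ L,
      algebraMap A (FractionRing E) s * y = 1 ∧ l = c * y := by
    intro l hl
    obtain ⟨s, hs, hint⟩ := hI l
    obtain ⟨y, hy, hsy⟩ := hL s hs
    refine ⟨algebraMap A (FractionRing E) s * l,
      hmemC _ (L.mul_mem (L.algebraMap_mem s) hl) hint.tower_top, s, hs, y, hy, hsy, ?_⟩
    rw [mul_assoc, mul_comm l y, ← mul_assoc, hsy, one_mul]
  -- (1)
  have h1 : ∀ x ∈ L, IsIntegral C x → x ∈ C := by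
    intro x hxL hx
    apply hmemC x hxL
    have h2 : IsIntegral (integralClosure E (FractionRing E)) x :=
      hx.map_of_comp_eq inclR (RingHom.id (FractionRing E)) (RingHom.ext fun c => rfl)
    exact isIntegral_trans x h2
  -- the `K_A`-algebra structure on `K_E`
  have hunits : ∀ s : nonZeroDivisors A, IsUnit (algebraMap A (FractionRing E) s) := fun s => by
    rw [IsScalarTower.algebraMap_apply A E (FractionRing E)]
    exact IsLocalization.map_units (FractionRing E)
      (⟨algebraMap A E s, Submonoid.mem_map.mpr ⟨s, s.2, rfl⟩⟩ :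
        Algebra.algebraMapSubmonoid E (nonZeroDivisors A))
  letI algK : Algebra (FractionRing A) (FractionRing E) :=
    (IsLocalization.lift (M := nonZeroDivisors A) (g := algebraMap A (FractionRing E))
      hunits).toAlgebra
  haveI : IsScalarTower A (FractionRing A) (FractionRing E) :=
    IsScalarTower.of_algebraMap_eq (fun a => (IsLocalization.lift_eq hunits a).symm)
  have hintK : ∀ x : FractionRing E, IsIntegral (FractionRing A) x := by
    intro x
    obtain ⟨s, hs, hint⟩ := hI x
    have h2 : IsIntegral (FractionRing A) (algebraMap A (FractionRing E) s * x) := hint.tower_top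
    have hu : IsUnit (algebraMap A (FractionRing A) s) :=
      IsLocalization.map_units (FractionRing A) (⟨s, hs⟩ : nonZeroDivisors A)
    obtain ⟨v, hv⟩ := hu.exists_left_inv
    have h3 : x = algebraMap (FractionRing A) (FractionRing E) v *
        (algebraMap A (FractionRing E) s * x) := by
      rw [IsScalarTower.algebraMap_apply A (FractionRing A) (FractionRing E), ← mul_assoc,
        ← map_mul, hv, map_one, one_mul]
    rw [h3]
    exact isIntegral_algebraMap.mul h2
  have hKL : ∀ k : FractionRing A, algebraMap (FractionRing A) (FractionRing E) k ∈ L := by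
    intro k
    obtain ⟨⟨a, s⟩, hk⟩ := IsLocalization.surj (nonZeroDivisors A) k
    obtain ⟨y, hy, hsy⟩ := hL s s.2
    have h2 : algebraMap (FractionRing A) (FractionRing E) k =
        algebraMap A (FractionRing E) a * y := by
      have h3 := congrArg (algebraMap (FractionRing A) (FractionRing E)) hk
      rw [map_mul, ← IsScalarTower.algebraMap_apply, ← IsScalarTower.algebraMap_apply] at h3
      rw [← h3, mul_assoc, hsy, mul_one]
    rw [h2]
    exact L.mul_mem (L.algebraMap_mem a) hy
  have hinvL : ∀ c ∈ L, ∀ u : FractionRing E, c * u = 1 → u ∈ L := by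
    intro c hc u hcu
    have hcunit : IsUnit c := IsUnit.of_mul_eq_one _ hcu
    obtain ⟨v, hv, hcv⟩ := exists_inv_mem_adjoin (K := FractionRing A) c (hintK c)
      (fun b _ hb => (hcunit.mul_left_eq_zero).mp hb)
    have huv : u = v := by
      have : u = u * (c * v) := by rw [hcv, mul_one]
      rw [this, ← mul_assoc, mul_comm u c, hcu, one_mul]
    rw [huv]
    clear hcv huv
    induction hv using Algebra.adjoin_induction with
    | mem y hy =>
      rw [Set.mem_singleton_iff] at hy
      rw [hy]; exact hc
    | algebraMap k => exact hKL k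
    | add x y _ _ hx hy => exact L.add_mem hx hy
    | mul x y _ _ hx hy => exact L.mul_mem hx hy
  -- units of `C` are detected in `E'`
  have hunitC : ∀ c : C, IsUnit (Subalgebra.inclusion hCle c) → IsUnit c := by
    intro c hc
    obtain ⟨u, hu⟩ := hc.exists_right_inv
    have hcu : (c : FractionRing E) * (u : FractionRing E) = 1 := congrArg Subtype.val hu
    have huL : (u : FractionRing E) ∈ L := hinvL (c : FractionRing E) (hCL c.2) _ hcu
    have huC : (u : FractionRing E) ∈ C := hmemC _ huL u.2
    exact IsUnit.of_mul_eq_one (⟨(u : FractionRing E), huC⟩ : C) (Subtype.ext hcu)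
  -- finiteness of the maximal ideals of `E'`
  have hfinM : {M : Ideal ((integralClosure E (FractionRing E)).restrictScalars A) |
      M.IsMaximal}.Finite := finite_maximal_integralClosure E
  -- (3), direction ⇐
  have h3b : ∀ M : Ideal ((integralClosure E (FractionRing E)).restrictScalars A), M.IsMaximal →
      (M.comap (Subalgebra.inclusion hCle)).IsMaximal := by
    intro M hM
    obtain ⟨M', hM'⟩ : ∃ M' : Ideal (integralClosure E (FractionRing E)), M' = M := ⟨M, rfl⟩
    haveI hM'max : M'.IsMaximal := by rw [hM']; exact hM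
    letI : Field (integralClosure E (FractionRing E) ⧸ M') := Ideal.Quotient.field M'
    have hME : M'.comap (algebraMap E (integralClosure E (FractionRing E))) = maximalIdeal E :=
      IsLocalRing.eq_maximalIdeal (Ideal.isMaximal_comap_of_isIntegral_of_isMaximal M')
    let ρE : ResidueField E →+* integralClosure E (FractionRing E) ⧸ M' :=
      Ideal.Quotient.lift (maximalIdeal E)
        ((Ideal.Quotient.mk M').comp (algebraMap E (integralClosure E (FractionRing E))))
        (fun a ha => by
          rw [RingHom.comp_apply, Ideal.Quotient.eq_zero_iff_mem, ← Ideal.mem_comap, hME]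
          exact ha)
    letI : Algebra (ResidueField E) (integralClosure E (FractionRing E) ⧸ M') := ρE.toAlgebra
    haveI : Algebra.IsIntegral (ResidueField E) (integralClosure E (FractionRing E) ⧸ M') := by
      constructor
      intro z
      obtain ⟨x, rfl⟩ := Ideal.Quotient.mk_surjective z
      have hx : IsIntegral E x := Algebra.IsIntegral.isIntegral x
      exact hx.map_of_comp_eq (residue E) (Ideal.Quotient.mk M') (RingHom.ext fun a => rfl)
    haveI : Algebra.QuasiFinite A (ResidueField E) :=
      inferInstanceAs (Algebra.QuasiFinite A (E ⧸ maximalIdeal E))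
    haveI : Algebra.QuasiFinite (ResidueField A) (ResidueField E) :=
      Algebra.QuasiFinite.of_restrictScalars A _ _
    haveI : Module.Finite (ResidueField A) (ResidueField E) := Module.Finite.of_quasiFinite
    letI : Algebra (ResidueField A) (integralClosure E (FractionRing E) ⧸ M') :=
      ((algebraMap (ResidueField E) (integralClosure E (FractionRing E) ⧸ M')).comp
        (algebraMap (ResidueField A) (ResidueField E))).toAlgebra
    haveI : IsScalarTower (ResidueField A) (ResidueField E)
        (integralClosure E (FractionRing E) ⧸ M') :=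
      IsScalarTower.of_algebraMap_eq (fun _ => rfl)
    haveI : Algebra.IsIntegral (ResidueField A) (integralClosure E (FractionRing E) ⧸ M') :=
      Algebra.IsIntegral.trans (ResidueField E)
    haveI : Algebra.IsAlgebraic (ResidueField A) (integralClosure E (FractionRing E) ⧸ M') :=
      Algebra.IsIntegral.isAlgebraic
    obtain ⟨φ, hφ⟩ : ∃ φ : C →+* integralClosure E (FractionRing E) ⧸ M',
        φ = (Ideal.Quotient.mk M').comp inclR := ⟨_, rfl⟩
    have hker : RingHom.ker φ = M.comap (Subalgebra.inclusion hCle) := by
      ext c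
      rw [RingHom.mem_ker, hφ, RingHom.comp_apply, Ideal.Quotient.eq_zero_iff_mem, hM']
      rfl
    rw [← hker]
    apply ker_isMaximal_of_algebraic (k := ResidueField A) φ
    intro x
    obtain ⟨a, rfl⟩ := residue_surjective x
    refine ⟨algebraMap A C a, ?_⟩
    rw [hφ]
    show Ideal.Quotient.mk M' _ = Ideal.Quotient.mk M' _
    congr 1
  -- (3), direction ⇒
  have h3a : ∀ N : Ideal C, N.IsMaximal →
      ∃ M : Ideal ((integralClosure E (FractionRing E)).restrictScalars A),
        M.IsMaximal ∧ N = M.comap (Subalgebra.inclusion hCle) := by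
    intro N hN
    have hsub : (N : Set C) ⊆ ⋃ M ∈ (↑hfinM.toFinset :
        Set (Ideal ((integralClosure E (FractionRing E)).restrictScalars A))),
        ((M.comap (Subalgebra.inclusion hCle) : Ideal C) : Set C) := by
      intro x hx
      have hxnu : ¬ IsUnit x := fun hu => hN.ne_top (Ideal.eq_top_of_isUnit_mem N hx hu)
      have hnu : ¬ IsUnit (Subalgebra.inclusion hCle x) := fun hu => hxnu (hunitC x hu)
      obtain ⟨M, hM, hxM⟩ := exists_max_ideal_of_mem_nonunits hnu
      exact Set.mem_biUnion (Finset.mem_coe.mpr (hfinM.mem_toFinset.mpr hM)) hxM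
    obtain ⟨M, hMmem, hNM⟩ := (Ideal.subset_union_prime (R := C)
      (f := fun M : Ideal ((integralClosure E (FractionRing E)).restrictScalars A) =>
        M.comap (Subalgebra.inclusion hCle)) ⊥ ⊥
      (fun M hM _ _ => by
        haveI : M.IsMaximal := hfinM.mem_toFinset.mp hM
        exact Ideal.comap_isPrime _ _)).mp hsub
    have hM : M.IsMaximal := hfinM.mem_toFinset.mp hMmem
    refine ⟨M, hM, ?_⟩
    exact hN.eq_of_le (h3b M hM).ne_top hNM
  refine ⟨h1, ?_, fun N => ⟨h3a N, ?_⟩, h4⟩
  · refine (hfinM.image (fun M => M.comap (Subalgebra.inclusion hCle))).subset ?_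
    intro N hN
    obtain ⟨M, hM, hNM⟩ := h3a N hN
    exact ⟨M, hM, hNM.symm⟩
  · rintro ⟨M, hM, rfl⟩
    exact h3b M hM

end Groth.Agent.H15.EssSub4
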