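import Mathlib

/-!
# Counting embeddings of the separable closure of a residue field extension, and maximal ideals of
a tensor product of local rings (field-theoretic part of S16437)
-/

set_option autoImplicit false
set_option linter.style.haveILetI false
set_option linter.unusedSectionVars false
universe u
open TensorProduct IsLocalRing

namespace Groth.Agent.H15.SepCount

theorem exists_comp_eq {k ks l F : Type*} [Field k] [Field ks] [Field l] [Field F]
    [Algebra k ks] [Algebra k l] [Algebra k F] [FiniteDimensional k ks]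
    (ρ : l →ₐ[k] F) (h : Nat.card (ks →ₐ[k] l) = Module.finrank k ks) (σ : ks →ₐ[k] F) :
    ∃ f : ks →ₐ[k] l, ρ.comp f = σ := by
  have hinj : Function.Injective (fun f : ks →ₐ[k] l => ρ.comp f) := by
    intro f g hfg
    ext x
    exact ρ.toRingHom.injective (AlgHom.congr_fun hfg x)
  have hle : Nat.card (ks →ₐ[k] F) ≤ Nat.card (ks →ₐ[k] l) := by
    rw [h]; exact card_algHom_le_finrank k ks F
  exact (hinj.bijective_of_nat_card_le hle).2 σ

theorem card_eq_finrank_of_range {k ks l Ω : Type*} [Field k] [Field ks] [Field l] [Field Ω]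
    [Algebra k ks] [Algebra k l] [Algebra k Ω] [Algebra l Ω] [IsScalarTower k l Ω]
    [FiniteDimensional k ks] [Algebra.IsSeparable k ks] [IsAlgClosed Ω]
    (h : ∀ (τ : ks →ₐ[k] Ω) (x : ks), τ x ∈ Set.range (algebraMap l Ω)) :
    Nat.card (ks →ₐ[k] l) = Module.finrank k ks := by
  rw [← AlgHom.natCard_of_splits k ks Ω (fun _ => IsAlgClosed.splits _)]
  have hinjl : Function.Injective (algebraMap l Ω) := (algebraMap l Ω).injective
  refine Nat.card_congr (Equiv.ofBijective
    (fun f : ks →ₐ[k] l => (IsScalarTower.toAlgHom k l Ω).comp f) ⟨?_, ?_⟩)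
  · intro f g hfg
    ext x
    exact hinjl (AlgHom.congr_fun hfg x)
  · intro τ
    choose g hg using h τ
    refine ⟨{ toFun := g
              map_one' := hinjl (by rw [hg, map_one, map_one])
              map_mul' := fun x y => hinjl (by rw [hg, map_mul, map_mul, hg, hg])
              map_zero' := hinjl (by rw [hg, map_zero, map_zero])
              map_add' := fun x y => hinjl (by rw [hg, map_add, map_add, hg, hg])
              commutes' := fun c => hinjl (by
                rw [hg, τ.commutes, IsScalarTower.algebraMap_apply k l Ω]) }, ?_⟩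
    ext x
    exact hg x

theorem mem_range_of_isSeparable_of_pow_mem {l Ω : Type*} [Field l] [Field Ω] [Algebra l Ω]
    (q : ℕ) [ExpChar l q] (y : Ω) (hs : IsSeparable l y) (n : ℕ)
    (hy : y ^ q ^ n ∈ Set.range (algebraMap l Ω)) : y ∈ Set.range (algebraMap l Ω) := by
  have h1 := IntermediateField.adjoin_simple_eq_adjoin_pow_expChar_pow_of_isSeparable l Ω hs q n
  have h2 : IntermediateField.adjoin l {y ^ q ^ n} = ⊥ :=
    IntermediateField.adjoin_simple_eq_bot_iff.mpr (IntermediateField.mem_bot.mpr hy)
  rw [h2] at h1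
  exact IntermediateField.mem_bot.mp (IntermediateField.adjoin_simple_eq_bot_iff.mp h1)

theorem exists_extension (ks k' Ω : Type*) [Field ks] [Field k'] [Field Ω] [Algebra ks k']
    [Algebra.IsAlgebraic ks k'] [IsAlgClosed Ω] (τ : ks →+* Ω) :
    ∃ τ' : k' →+* Ω, ∀ y, τ' (algebraMap ks k' y) = τ y := by
  letI := τ.toAlgebra
  exact ⟨(IsAlgClosed.lift : k' →ₐ[ks] Ω).toRingHom,
    fun y => (IsAlgClosed.lift : k' →ₐ[ks] Ω).commutes y⟩

theorem transport {E W W' : Type*} [CommRing E] [CommRing W] [CommRing W'] [Algebra E W]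
    [Algebra E W'] (Ψ : W ≃ₐ[E] W') (q : ℕ)
    (h : ∀ (M : Ideal W) [M.IsMaximal] (w : W),
      ∃ (n : ℕ) (d : E), w ^ q ^ n - algebraMap E W d ∈ M)
    (M : Ideal W') [hM : M.IsMaximal] (w : W') :
    ∃ (n : ℕ) (d : E), w ^ q ^ n - algebraMap E W' d ∈ M := by
  haveI : (M.comap (Ψ : W →+* W')).IsMaximal :=
    Ideal.comap_isMaximal_of_surjective (Ψ : W →+* W') Ψ.surjective
  obtain ⟨n, d, hnd⟩ := h (M.comap (Ψ : W →+* W')) (Ψ.symm w)
  refine ⟨n, d, ?_⟩
  rw [Ideal.mem_comap, map_sub, map_pow] at hnd
  simpa using hnd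

section Tensor

variable (A E A' : Type u) [CommRing A] [IsLocalRing A] [CommRing E] [IsLocalRing E]
  [CommRing A'] [IsLocalRing A'] [Algebra A E] [Algebra A A'] [IsLocalHom (algebraMap A E)]
  [IsLocalHom (algebraMap A A')] [Algebra.IsIntegral A A'] (q : ℕ) [ExpChar (ResidueField E) q]

theorem tmul_comm_algebraMap (a : A) :
    (algebraMap A E a) ⊗ₜ[A] (1 : A') = (1 : E) ⊗ₜ[A] (algebraMap A A' a) := by
  rw [Algebra.algebraMap_eq_smul_one, Algebra.algebraMap_eq_smul_one, TensorProduct.smul_tmul]

set_option maxHeartbeats 1600000 in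
theorem forall_maximal_of_card [FiniteDimensional (ResidueField A) (ResidueField A')]
    (h : Nat.card (separableClosure (ResidueField A) (ResidueField A') →ₐ[ResidueField A]
        ResidueField E) =
      Module.finrank (ResidueField A) (separableClosure (ResidueField A) (ResidueField A')))
    (M : Ideal (E ⊗[A] A')) [M.IsMaximal] (w : E ⊗[A] A') :
    ∃ (n : ℕ) (d : E), w ^ q ^ n - algebraMap E (E ⊗[A] A') d ∈ M := by
  classical
  letI : Field ((E ⊗[A] A') ⧸ M) := Ideal.Quotient.field M
  have halgEW : ∀ e : E, algebraMap E (E ⊗[A] A') e = e ⊗ₜ[A] (1 : A') := fun e => by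
    rw [Algebra.TensorProduct.algebraMap_apply]; rfl
  have hME : M.comap (algebraMap E (E ⊗[A] A')) = maximalIdeal E :=
    IsLocalRing.eq_maximalIdeal (Ideal.isMaximal_comap_of_isIntegral_of_isMaximal M)
  let inR : A' →ₐ[A] E ⊗[A] A' := Algebra.TensorProduct.includeRight
  have hinR : ∀ a : A', inR a = (1 : E) ⊗ₜ[A] a := fun a => rfl
  have hMA' : M.comap inR.toRingHom = maximalIdeal A' := by
    haveI : (M.comap inR.toRingHom).IsPrime := Ideal.comap_isPrime _ _
    have h1 : (M.comap inR.toRingHom).comap (algebraMap A A') = maximalIdeal A := by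
      have h2 : (M.comap inR.toRingHom).comap (algebraMap A A') =
          (M.comap (algebraMap E (E ⊗[A] A'))).comap (algebraMap A E) := by
        ext a
        simp only [Ideal.mem_comap]
        show inR (algebraMap A A' a) ∈ M ↔ _
        rw [hinR, halgEW, tmul_comm_algebraMap]
      rw [h2, hME]
      exact ((local_hom_TFAE (algebraMap A E)).out 0 4).mp
        (inferInstance : IsLocalHom (algebraMap A E))
    have h2 : (M.comap inR.toRingHom).IsMaximal :=
      Ideal.isMaximal_of_isIntegral_of_isMaximal_comap (R := A) _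
        (by rw [h1]; exact maximalIdeal.isMaximal A)
    exact IsLocalRing.eq_maximalIdeal h2
  let ρl : ResidueField E →+* (E ⊗[A] A') ⧸ M :=
    Ideal.Quotient.lift (maximalIdeal E)
      ((Ideal.Quotient.mk M).comp (algebraMap E (E ⊗[A] A'))) (fun a ha => by
        rw [RingHom.comp_apply, Ideal.Quotient.eq_zero_iff_mem, ← Ideal.mem_comap, hME]
        exact ha)
  let ρk' : ResidueField A' →+* (E ⊗[A] A') ⧸ M :=
    Ideal.Quotient.lift (maximalIdeal A')
      ((Ideal.Quotient.mk M).comp inR.toRingHom) (fun a ha => by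
        rw [RingHom.comp_apply, Ideal.Quotient.eq_zero_iff_mem, ← Ideal.mem_comap, hMA']
        exact ha)
  have hρl : ∀ e : E, ρl (residue E e) = Ideal.Quotient.mk M (e ⊗ₜ[A] (1 : A')) := fun e => by
    rw [← halgEW]; rfl
  have hρk' : ∀ a : A', ρk' (residue A' a) = Ideal.Quotient.mk M ((1 : E) ⊗ₜ[A] a) :=
    fun a => rfl
  letI algl : Algebra (ResidueField E) ((E ⊗[A] A') ⧸ M) := ρl.toAlgebra
  letI algk : Algebra (ResidueField A) ((E ⊗[A] A') ⧸ M) :=
    (ρl.comp (algebraMap (ResidueField A) (ResidueField E))).toAlgebra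
  haveI : IsScalarTower (ResidueField A) (ResidueField E) ((E ⊗[A] A') ⧸ M) :=
    IsScalarTower.of_algebraMap_eq (fun _ => rfl)
  have hcompat : ∀ c : ResidueField A,
      ρk' (algebraMap (ResidueField A) (ResidueField A') c) =
        ρl (algebraMap (ResidueField A) (ResidueField E) c) := by
    intro c
    obtain ⟨a, rfl⟩ := residue_surjective c
    rw [ResidueField.algebraMap_residue, ResidueField.algebraMap_residue, hρk', hρl,
      tmul_comm_algebraMap]
  let σ : separableClosure (ResidueField A) (ResidueField A') →ₐ[ResidueField A]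
      (E ⊗[A] A') ⧸ M :=
    { ρk'.comp (algebraMap (separableClosure (ResidueField A) (ResidueField A'))
        (ResidueField A')) with
      commutes' := fun c => by
        show ρk' (algebraMap (separableClosure (ResidueField A) (ResidueField A'))
          (ResidueField A') (algebraMap (ResidueField A)
            (separableClosure (ResidueField A) (ResidueField A')) c)) = ρl _
        rw [← IsScalarTower.algebraMap_apply (ResidueField A)
          (separableClosure (ResidueField A) (ResidueField A')) (ResidueField A')]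
        exact hcompat c }
  have hσ : ∀ y : separableClosure (ResidueField A) (ResidueField A'),
      σ y = ρk' (y : ResidueField A') := fun y => rfl
  obtain ⟨f, hf⟩ := exists_comp_eq
    (IsScalarTower.toAlgHom (ResidueField A) (ResidueField E) ((E ⊗[A] A') ⧸ M)) h σ
  haveI : ExpChar (separableClosure (ResidueField A) (ResidueField A')) q :=
    RingHom.expChar f.toRingHom f.toRingHom.injective q
  haveI : Algebra.IsAlgebraic (ResidueField A) (ResidueField A') :=
    Algebra.IsAlgebraic.of_finite _ _
  haveI : IsPurelyInseparable (separableClosure (ResidueField A) (ResidueField A'))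
      (ResidueField A') := separableClosure.isPurelyInseparable _ _
  have key : ∀ w : E ⊗[A] A', Ideal.Quotient.mk M w ∈
      perfectClosure (ResidueField E) ((E ⊗[A] A') ⧸ M) := by
    intro w
    induction w using TensorProduct.induction_on with
    | zero => rw [map_zero]; exact zero_mem _
    | tmul e a =>
      have h1 : Ideal.Quotient.mk M (e ⊗ₜ[A] a) =
          algebraMap (ResidueField E) ((E ⊗[A] A') ⧸ M) (residue E e) *
            ρk' (residue A' a) := by
        show _ = ρl (residue E e) * ρk' (residue A' a)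
        rw [hρl, hρk', ← map_mul, Algebra.TensorProduct.tmul_mul_tmul, mul_one, one_mul]
      rw [h1]
      refine mul_mem (algebraMap_mem _ _) ?_
      obtain ⟨n, y, hy⟩ := (isPurelyInseparable_iff_pow_mem
        (separableClosure (ResidueField A) (ResidueField A')) q).mp inferInstance (residue A' a)
      rw [mem_perfectClosure_iff_pow_mem q]
      refine ⟨n, f y, ?_⟩
      have h2 := AlgHom.congr_fun hf y
      rw [← map_pow, ← hy]
      exact h2
    | add x y hx hy => rw [map_add]; exact add_mem hx hy
  obtain ⟨n, z, hz⟩ := (mem_perfectClosure_iff_pow_mem q).mp (key w)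
  obtain ⟨d, rfl⟩ := residue_surjective z
  refine ⟨n, d, ?_⟩
  rw [← Ideal.Quotient.eq_zero_iff_mem, map_sub, map_pow, sub_eq_zero, ← hz]
  rfl

set_option maxHeartbeats 1600000 in
theorem exists_pow_eq_of_forall_maximal
    (h : ∀ (M : Ideal (E ⊗[A] A')) [M.IsMaximal] (w : E ⊗[A] A'),
      ∃ (n : ℕ) (d : E), w ^ q ^ n - algebraMap E (E ⊗[A] A') d ∈ M)
    (Ω : Type u) [Field Ω] [Algebra (ResidueField E) Ω] (τ' : ResidueField A' →+* Ω)
    (hτ' : ∀ c : ResidueField A, τ' (algebraMap (ResidueField A) (ResidueField A') c) =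
      algebraMap (ResidueField E) Ω (algebraMap (ResidueField A) (ResidueField E) c)) (a' : A') :
    ∃ (n : ℕ) (d : E),
      τ' (residue A' a') ^ q ^ n = algebraMap (ResidueField E) Ω (residue E d) := by
  classical
  obtain ⟨gE, hgE⟩ : ∃ gE : E →+* Ω, gE = (algebraMap (ResidueField E) Ω).comp (residue E) :=
    ⟨_, rfl⟩
  obtain ⟨gA', hgA'⟩ : ∃ gA' : A' →+* Ω, gA' = τ'.comp (residue A') := ⟨_, rfl⟩
  have hcompat : ∀ a : A, gA' (algebraMap A A' a) = gE (algebraMap A E a) := by
    intro a
    rw [hgE, hgA', RingHom.comp_apply, RingHom.comp_apply, ← ResidueField.algebraMap_residue,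
      ← ResidueField.algebraMap_residue, hτ']
  letI algAΩ : Algebra A Ω := (gE.comp (algebraMap A E)).toAlgebra
  let gEa : E →ₐ[A] Ω := { gE with commutes' := fun a => rfl }
  let gA'a : A' →ₐ[A] Ω := { gA' with commutes' := fun a => hcompat a }
  obtain ⟨G, hG⟩ : ∃ G : E ⊗[A] A' →+* Ω, ∀ (e : E) (a : A'), G (e ⊗ₜ[A] a) = gE e * gA' a :=
    ⟨(Algebra.TensorProduct.productMap gEa gA'a).toRingHom, fun e a =>
      Algebra.TensorProduct.productMap_apply_tmul gEa gA'a e a⟩
  have halgEW : ∀ e : E, algebraMap E (E ⊗[A] A') e = e ⊗ₜ[A] (1 : A') := fun e => by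
    rw [Algebra.TensorProduct.algebraMap_apply]; rfl
  obtain ⟨M, hM⟩ : ∃ M : Ideal (E ⊗[A] A'), M = RingHom.ker G := ⟨_, rfl⟩
  haveI hMp : M.IsPrime := hM ▸ RingHom.ker_isPrime G
  have hME : M.comap (algebraMap E (E ⊗[A] A')) = maximalIdeal E := by
    ext e
    rw [Ideal.mem_comap, hM, RingHom.mem_ker, halgEW, hG, map_one, mul_one, hgE,
      RingHom.comp_apply, map_eq_zero_iff _ (algebraMap (ResidueField E) Ω).injective,
      residue_eq_zero_iff]
  haveI hMmax : M.IsMaximal :=
    Ideal.isMaximal_of_isIntegral_of_isMaximal_comap (R := E) M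
      (by rw [hME]; exact maximalIdeal.isMaximal E)
  obtain ⟨n, d, hnd⟩ := h M ((1 : E) ⊗ₜ[A] a')
  refine ⟨n, d, ?_⟩
  rw [hM, RingHom.mem_ker, map_sub, map_pow, hG, map_one, one_mul, halgEW, hG, map_one,
    mul_one, sub_eq_zero, hgA', hgE] at hnd
  exact hnd

set_option maxHeartbeats 1600000 in
theorem card_of_forall_maximal [FiniteDimensional (ResidueField A) (ResidueField A')]
    (h : ∀ (M : Ideal (E ⊗[A] A')) [M.IsMaximal] (w : E ⊗[A] A'),
      ∃ (n : ℕ) (d : E), w ^ q ^ n - algebraMap E (E ⊗[A] A') d ∈ M) :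
    Nat.card (separableClosure (ResidueField A) (ResidueField A') →ₐ[ResidueField A]
        ResidueField E) =
      Module.finrank (ResidueField A) (separableClosure (ResidueField A) (ResidueField A')) := by
  classical
  apply card_eq_finrank_of_range (Ω := AlgebraicClosure (ResidueField E))
  intro τ x
  haveI : Algebra.IsAlgebraic (ResidueField A) (ResidueField A') :=
    Algebra.IsAlgebraic.of_finite _ _
  haveI : Algebra.IsAlgebraic (separableClosure (ResidueField A) (ResidueField A'))
      (ResidueField A') := Algebra.IsAlgebraic.tower_top (K := ResidueField A) _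
  obtain ⟨τ', hτ'⟩ := exists_extension (separableClosure (ResidueField A) (ResidueField A'))
    (ResidueField A') (AlgebraicClosure (ResidueField E)) τ.toRingHom
  have hτ'k : ∀ c : ResidueField A, τ' (algebraMap (ResidueField A) (ResidueField A') c) =
      algebraMap (ResidueField E) (AlgebraicClosure (ResidueField E))
        (algebraMap (ResidueField A) (ResidueField E) c) := by
    intro c
    rw [IsScalarTower.algebraMap_apply (ResidueField A)
      (separableClosure (ResidueField A) (ResidueField A')) (ResidueField A'), hτ']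
    show τ (algebraMap (ResidueField A) _ c) = _
    rw [τ.commutes, IsScalarTower.algebraMap_apply (ResidueField A) (ResidueField E)
      (AlgebraicClosure (ResidueField E))]
  obtain ⟨a', ha'⟩ := residue_surjective (x : ResidueField A')
  obtain ⟨n, d, hnd⟩ := exists_pow_eq_of_forall_maximal A E A' q h
    (AlgebraicClosure (ResidueField E)) τ' hτ'k a'
  have hx : τ' (residue A' a') = τ x := by
    rw [ha']
    exact hτ' x
  rw [hx] at hnd
  have hsep : IsSeparable (ResidueField E) (τ x) := by
    have h1 : IsSeparable (ResidueField A) x := Algebra.IsSeparable.isSeparable _ x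
    have h2 : IsSeparable (ResidueField A) (τ x) := h1.map τ τ.toRingHom.injective
    exact h2.tower_top _
  exact mem_range_of_isSeparable_of_pow_mem q (τ x) hsep n ⟨residue E d, hnd.symm⟩

end Tensor

end Groth.Agent.H15.SepCount
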