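import Mathlib
import Groth.Agent.H47.NormRedStrict

/-!
# Integral normal algebras mapping into a strict henselization

`flat_of_integral`: `A` local, `S` a strict henselization of `A` which is a domain, `A'` an
integral `A`-algebra all of whose localizations at maximal ideals are integrally closed domains,
with an `A`-algebra map `A' → S`.  Then `S` is flat over `A'`.
-/

set_option autoImplicit false
set_option linter.style.haveILetI false
set_option linter.unusedSectionVars false
universe u
open TensorProduct IsLocalRing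

namespace Groth.Agent.H15.StrictSub

section Core

variable (A : Type u) [CommRing A] [IsLocalRing A]
  (S : Type u) [CommRing S] [IsLocalRing S] [IsDomain S] [Algebra A S]
  [IsLocalHom (algebraMap A S)] [Hensel.IsStrictHenselization A S]
  (A' : Type u) [CommRing A'] [Algebra A A'] [Algebra.IsIntegral A A'] [Algebra A' S]
  [IsScalarTower A A' S]

/-- The multiplication map `S ⊗[A] A' → S`. -/
noncomputable def mu : S ⊗[A] A' →ₐ[S] S :=
  Algebra.TensorProduct.lift (AlgHom.id S S) (IsScalarTower.toAlgHom A A' S)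
    (fun _ _ => Commute.all _ _)

theorem mu_tmul (s : S) (a' : A') : mu A S A' (s ⊗ₜ[A] a') = s * algebraMap A' S a' := by
  simp [mu, Algebra.TensorProduct.lift_tmul]

theorem mu_surjective : Function.Surjective (mu A S A') := fun s =>
  ⟨s ⊗ₜ[A] 1, by rw [mu_tmul, map_one, mul_one]⟩

/-- The multiplication map `A' ⊗[A] S → S`. -/
noncomputable def mu' : A' ⊗[A] S →ₐ[A'] S :=
  Algebra.TensorProduct.lift (Algebra.ofId A' S) (AlgHom.id A S)
    (fun _ _ => Commute.all _ _)

theorem mu'_tmul (a' : A') (s : S) : mu' A S A' (a' ⊗ₜ[A] s) = algebraMap A' S a' * s := by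
  simp [mu', Algebra.TensorProduct.lift_tmul, Algebra.ofId_apply]

theorem mu'_comm (y : S ⊗[A] A') :
    mu' A S A' (Algebra.TensorProduct.comm A S A' y) = mu A S A' y := by
  induction y using TensorProduct.induction_on with
  | zero => simp
  | tmul s a' =>
    rw [Algebra.TensorProduct.comm_tmul, mu'_tmul, mu_tmul, mul_comm]
  | add x y hx hy => rw [map_add, map_add, map_add, hx, hy]

/-- Key fact: the kernel of the multiplication map is the kernel of the localization at the
maximal ideal lying over `m_S`. -/
theorem exists_mul_eq_zero_of_mu_eq_zero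
    (hN : ∀ (N : Ideal A') [N.IsMaximal],
      IsDomain (Localization.AtPrime N) ∧ IsIntegrallyClosed (Localization.AtPrime N))
    (x : S ⊗[A] A') (hx : mu A S A' x = 0) :
    ∃ u : S ⊗[A] A', mu A S A' u ∉ maximalIdeal S ∧ u * x = 0 := by
  classical
  let m : Ideal (S ⊗[A] A') := (maximalIdeal S).comap (mu A S A').toRingHom
  haveI hm : m.IsMaximal :=
    Ideal.comap_isMaximal_of_surjective (mu A S A').toRingHom (mu_surjective A S A')
  haveI hdom : IsDomain (Localization.AtPrime m) :=
    Groth.Agent.H47.NormRedStrict.isDomain_localization_tensor_strictHenselization A S A' m hN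
  let P₀ : Ideal (S ⊗[A] A') := RingHom.ker (algebraMap (S ⊗[A] A') (Localization.AtPrime m))
  let P : Ideal (S ⊗[A] A') := RingHom.ker (mu A S A').toRingHom
  haveI hP₀ : P₀.IsPrime := RingHom.ker_isPrime _
  haveI hP : P.IsPrime := RingHom.ker_isPrime _
  have hmem₀ : ∀ y : S ⊗[A] A', y ∈ P₀ ↔ ∃ u : m.primeCompl, (u : S ⊗[A] A') * y = 0 := by
    intro y
    rw [RingHom.mem_ker]
    exact IsLocalization.map_eq_zero_iff m.primeCompl (Localization.AtPrime m) y
  have hle : P₀ ≤ P := by
    intro y hy
    obtain ⟨u, hu⟩ := (hmem₀ y).mp hy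
    rw [RingHom.mem_ker]
    have h1 : mu A S A' (u : S ⊗[A] A') * mu A S A' y = 0 := by
      rw [← map_mul, hu, map_zero]
    have h2 : mu A S A' (u : S ⊗[A] A') ≠ 0 := by
      intro h0
      apply u.2
      show mu A S A' (u : S ⊗[A] A') ∈ maximalIdeal S
      rw [h0]; exact zero_mem _
    exact (mul_eq_zero.mp h1).resolve_left h2
  have hcP : P.comap (algebraMap S (S ⊗[A] A')) = ⊥ := by
    rw [eq_bot_iff]
    intro s hs
    rw [Ideal.mem_comap, RingHom.mem_ker] at hs
    have h1 : mu A S A' (algebraMap S (S ⊗[A] A') s) = s := by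
      rw [AlgHom.commutes]; rfl
    rw [Ideal.mem_bot, ← h1]; exact hs
  have heq : P₀ = P := by
    by_contra hne
    have hlt : P₀ < P := lt_of_le_of_ne hle hne
    have h1 := Ideal.IsIntegral.comap_lt_comap (R := S) hlt
    rw [hcP] at h1
    exact not_lt_bot h1
  have hxP : x ∈ P₀ := by rw [heq]; exact hx
  obtain ⟨u, hu⟩ := (hmem₀ x).mp hxP
  exact ⟨u, u.2, hu⟩

include A in
/-- Flatness of `S` over `A'`. -/
theorem flat_of_integral
    (hN : ∀ (N : Ideal A') [N.IsMaximal],
      IsDomain (Localization.AtPrime N) ∧ IsIntegrallyClosed (Localization.AtPrime N)) :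
    Module.Flat A' S := by
  classical
  have hI := Groth.Agent.H47.HensNoeth.isIndEtaleLocal_of_isStrictHenselization A S
  haveI : Module.Flat A S := hI.flat
  have hsurj' : Function.Surjective (mu' A S A') := fun s =>
    ⟨1 ⊗ₜ[A] s, by rw [mu'_tmul, map_one, one_mul]⟩
  let m' : Ideal (A' ⊗[A] S) := (maximalIdeal S).comap (mu' A S A').toRingHom
  haveI hm' : m'.IsMaximal :=
    Ideal.comap_isMaximal_of_surjective (mu' A S A').toRingHom hsurj'
  -- the key fact, transported to `A' ⊗ S`
  have key : ∀ x : A' ⊗[A] S, mu' A S A' x = 0 → ∃ u : m'.primeCompl,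
      (u : A' ⊗[A] S) * x = 0 := by
    intro x hx
    let c := Algebra.TensorProduct.comm A S A'
    have hxy : x = c (c.symm x) := (c.apply_symm_apply x).symm
    have h0 : mu A S A' (c.symm x) = 0 := by
      rw [← mu'_comm, ← hxy]; exact hx
    obtain ⟨u, hu1, hu2⟩ := exists_mul_eq_zero_of_mu_eq_zero A S A' hN (c.symm x) h0
    refine ⟨⟨c u, ?_⟩, ?_⟩
    · show c u ∉ m'
      intro hcu
      apply hu1
      have : mu' A S A' (c u) ∈ maximalIdeal S := hcu
      rwa [mu'_comm] at this
    · show c u * x = 0
      rw [hxy, ← map_mul, hu2, map_zero]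
  have hunits : ∀ y : m'.primeCompl, IsUnit ((mu' A S A').toRingHom (y : A' ⊗[A] S)) := by
    intro y
    have : (mu' A S A') (y : A' ⊗[A] S) ∉ maximalIdeal S := y.2
    exact IsLocalRing.notMem_maximalIdeal.mp this
  let φ : Localization.AtPrime m' →+* S :=
    IsLocalization.lift (M := m'.primeCompl) (g := (mu' A S A').toRingHom) hunits
  have hφ : ∀ t : A' ⊗[A] S, φ (algebraMap (A' ⊗[A] S) (Localization.AtPrime m') t) =
      mu' A S A' t := fun t => IsLocalization.lift_eq hunits t
  have hinj : Function.Injective φ := by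
    rw [injective_iff_map_eq_zero]
    intro z hz
    obtain ⟨t, s, rfl⟩ := IsLocalization.exists_mk'_eq m'.primeCompl z
    have h1 : φ (IsLocalization.mk' (Localization.AtPrime m') t s) *
        φ (algebraMap (A' ⊗[A] S) (Localization.AtPrime m') (s : A' ⊗[A] S)) =
        φ (algebraMap (A' ⊗[A] S) (Localization.AtPrime m') t) := by
      rw [← map_mul, IsLocalization.mk'_spec]
    rw [hz, zero_mul, hφ] at h1
    obtain ⟨u, hu⟩ := key t h1.symm
    rw [IsLocalization.mk'_eq_zero_iff]
    exact ⟨u, hu⟩
  have hsurj : Function.Surjective φ := fun s => by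
    obtain ⟨t, ht⟩ := hsurj' s
    exact ⟨algebraMap _ _ t, by rw [hφ, ht]⟩
  let φl : Localization.AtPrime m' →ₗ[A'] S :=
    { toFun := φ
      map_add' := map_add φ
      map_smul' := by
        intro a' z
        simp only [RingHom.id_apply]
        rw [Algebra.smul_def, map_mul,
          IsScalarTower.algebraMap_apply A' (A' ⊗[A] S) (Localization.AtPrime m'), hφ,
          AlgHom.commutes, Algebra.smul_def] }
  let e : Localization.AtPrime m' ≃ₗ[A'] S := LinearEquiv.ofBijective φl ⟨hinj, hsurj⟩
  haveI : Module.Flat A' (A' ⊗[A] S) := inferInstance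
  haveI : Module.Flat A' (Localization.AtPrime m') := inferInstance
  exact Module.Flat.of_linearEquiv e.symm

end Core

end Groth.Agent.H15.StrictSub
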