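import Mathlib
import Groth.Agent.H15.StrictSub
import Groth.Agent.S16438
import Groth.Agent.S2748
import Groth.Agent.H11.QuasiExcellentNagata
import Groth.Agent.H11.NagataFT
import Groth.Agent.H47.EtaleNormal

/-!
# Normal local subalgebras of a strict henselization with finitely generated fraction field

`isEssentiallyEtale_of_normal`: `A` excellent normal local domain, `S` strict henselization,
`D ⊆ S` local normal subalgebra dominated by `S` with `Frac D` finitely generated over `Frac A`
⇒ `D` essentially étale over `A` (EGA IV 18.?).
-/

set_option autoImplicit false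
set_option linter.style.haveILetI false
set_option linter.unusedSectionVars false
set_option maxHeartbeats 1600000
universe u
open TensorProduct IsLocalRing

namespace Groth.Agent.H15.StrictSub

/-- Elements of a strict henselization of a local domain are algebraic over it. -/
theorem isAlgebraic_of_isStrictHenselization (A S : Type u) [CommRing A] [IsLocalRing A]
    [IsDomain A] [CommRing S] [IsLocalRing S] [Algebra A S] [IsLocalHom (algebraMap A S)]
    [Hensel.IsStrictHenselization A S] (x : S) : IsAlgebraic A x := by
  have hI := Groth.Agent.H47.HensNoeth.isIndEtaleLocal_of_isStrictHenselization A S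
  obtain ⟨C, _, _, _, φ, hφ⟩ := hI.rep {x}
  obtain ⟨c, hc⟩ := hφ x (Finset.mem_singleton_self x)
  have h1 : IsAlgebraic A c := Groth.Agent.H47.EtaleNormal.isAlgebraic_of_etale A C c
  rw [← hc]
  exact h1.algHom φ

/-- Core theorem, with an arbitrary model `L` of the fraction field of `D`. -/
theorem isEssentiallyEtale_of_normal
    (A S : Type u) [CommRing A] [IsLocalRing A] [IsDomain A] [IsIntegrallyClosed A]
    (hA : EGA4.IsExcellent A) [CommRing S] [IsLocalRing S] [Algebra A S]
    [IsLocalHom (algebraMap A S)]
    [Hensel.IsStrictHenselization A S] (D : Subalgebra A S) [IsLocalRing D]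
    [IsLocalHom (algebraMap D S)] [IsDomain D] [IsIntegrallyClosed D]
    (L : Type u) [Field L] [Algebra D L] [IsFractionRing D L] [Algebra A L] [IsScalarTower A D L]
    (hfg : ∃ s : Finset D, Subfield.closure (Set.range (algebraMap A L) ∪
        (algebraMap D L) '' (s : Set D)) = ⊤) :
    EGA4loc.IsEssentiallyEtale A D := by
  classical
  haveI : IsNoetherianRing A := hA.1
  have hI := Groth.Agent.H47.HensNoeth.isIndEtaleLocal_of_isStrictHenselization A S
  haveI : Module.Flat A S := hI.flat
  haveI : Module.FaithfullyFlat A S := Module.FaithfullyFlat.of_flat_of_isLocalHom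
  obtain ⟨hSd, -⟩ := (Groth.Agent.S2748.result A S).mpr ⟨inferInstance, inferInstance⟩
  haveI := hSd
  -- injectivity facts
  have hAS : Function.Injective (algebraMap A S) := FaithfulSMul.algebraMap_injective A S
  have hAD : Function.Injective (algebraMap A D) := by
    intro a b hab
    apply hAS
    rw [IsScalarTower.algebraMap_apply A D S, IsScalarTower.algebraMap_apply A D S, hab]
  have hDL : Function.Injective (algebraMap D L) := IsFractionRing.injective D L
  have hAL : Function.Injective (algebraMap A L) := by
    rw [IsScalarTower.algebraMap_eq A D L]; exact hDL.comp hAD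
  haveI : FaithfulSMul A L := (faithfulSMul_iff_algebraMap_injective A L).mpr hAL
  letI : Algebra (FractionRing A) L := FractionRing.liftAlgebra A L
  haveI : IsScalarTower A (FractionRing A) L := FractionRing.isScalarTower_liftAlgebra A L
  -- finite dimensionality
  obtain ⟨s, hs⟩ := hfg
  obtain ⟨s', hs'⟩ : ∃ s' : Set L, s' = (algebraMap D L) '' (s : Set D) := ⟨_, rfl⟩
  have hs'fin : s'.Finite := by rw [hs']; exact (Finset.finite_toSet s).image _
  have hint : ∀ x ∈ s', IsIntegral (FractionRing A) x := by
    intro x hx
    rw [hs'] at hx
    obtain ⟨d, -, rfl⟩ := hx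
    have h1 : IsAlgebraic A ((d : D) : S) := isAlgebraic_of_isStrictHenselization A S d
    have h2 : IsAlgebraic A d := (isAlgebraic_algHom_iff D.val Subtype.val_injective).mp h1
    have h3 : IsAlgebraic A (algebraMap D L d) := h2.algHom (IsScalarTower.toAlgHom A D L)
    have h4 : IsAlgebraic (FractionRing A) (algebraMap D L d) :=
      h3.extendScalars (IsFractionRing.injective A (FractionRing A))
    exact h4.isIntegral
  have htop : ∀ x : L, x ∈ IntermediateField.adjoin (FractionRing A) s' := by
    have hle : Subfield.closure (Set.range (algebraMap A L) ∪ s') ≤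
        (IntermediateField.adjoin (FractionRing A) s').toSubfield := by
      rw [Subfield.closure_le]
      rintro x (⟨a, rfl⟩ | hx)
      · show algebraMap A L a ∈ IntermediateField.adjoin (FractionRing A) s'
        rw [IsScalarTower.algebraMap_apply A (FractionRing A) L]
        exact IntermediateField.algebraMap_mem _ _
      · exact IntermediateField.subset_adjoin _ _ hx
    rw [hs', hs] at hle
    intro x
    rw [hs']
    exact hle (Subfield.mem_top x)
  haveI : Finite s' := hs'fin.to_subtype
  haveI : FiniteDimensional (FractionRing A) (IntermediateField.adjoin (FractionRing A) s') :=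
    IntermediateField.finiteDimensional_adjoin hint
  haveI : FiniteDimensional (FractionRing A) L :=
    Module.Finite.of_surjective (IntermediateField.adjoin (FractionRing A) s').val.toLinearMap
      (fun x => ⟨⟨x, htop x⟩, rfl⟩)
  -- the integral closure
  have hNag : CAlg.IsNagata A :=
    Groth.Agent.H11.QENagata.isNagata_of_isQuasiExcellent A ⟨hA.1, hA.2.2.1, hA.2.2.2⟩
  have hN2 : CAlg.IsN2 A := Groth.Agent.H11.NagataFT.isN2_of_isNagata_domain A hNag
  haveI hfinA' : Module.Finite A (integralClosure A L) := hN2 L inferInstance
  haveI : IsFractionRing (integralClosure A L) L :=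
    integralClosure.isFractionRing_of_finite_extension (FractionRing A) L
  haveI : IsIntegrallyClosed (integralClosure A L) :=
    integralClosure.isIntegrallyClosedOfFiniteExtension (FractionRing A)
  have hN : ∀ (N : Ideal (integralClosure A L)) [N.IsMaximal],
      IsDomain (Localization.AtPrime N) ∧ IsIntegrallyClosed (Localization.AtPrime N) :=
    fun N _ => ⟨inferInstance,
      isIntegrallyClosed_of_isLocalization (Localization.AtPrime N) N.primeCompl
        N.primeCompl_le_nonZeroDivisors⟩
  -- the map `A' → D`
  let f : D →ₐ[A] L := IsScalarTower.toAlgHom A D L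
  have hf : Function.Injective f := hDL
  have hle : integralClosure A L ≤ f.range := by
    intro x hx
    have h1 : IsIntegral A x := hx
    have h2 : IsIntegral D x := h1.tower_top
    obtain ⟨d, hd⟩ := IsIntegrallyClosed.algebraMap_eq_of_integral h2
    exact ⟨d, hd⟩
  let e := AlgEquiv.ofInjective f hf
  let ι : integralClosure A L →ₐ[A] D :=
    (e.symm : f.range →ₐ[A] D).comp (Subalgebra.inclusion hle)
  have hι : ∀ x : integralClosure A L, algebraMap D L (ι x) = (x : L) := by
    intro x
    have h1 := e.apply_symm_apply (Subalgebra.inclusion hle x)
    exact congrArg Subtype.val h1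
  have hιinj : Function.Injective ι := by
    intro x y hxy
    apply Subtype.ext
    rw [← hι x, ← hι y, hxy]
  let g : integralClosure A L →ₐ[A] S := D.val.comp ι
  letI : Algebra (integralClosure A L) S := g.toRingHom.toAlgebra
  haveI : IsScalarTower A (integralClosure A L) S :=
    IsScalarTower.of_algebraMap_eq (fun a => (g.commutes a).symm)
  have hgS : ∀ x : integralClosure A L, algebraMap (integralClosure A L) S x = ((ι x : D) : S) :=
    fun _ => rfl
  haveI hflat : Module.Flat (integralClosure A L) S :=
    flat_of_integral A S (integralClosure A L) hN
  -- the localization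
  let n : Ideal (integralClosure A L) :=
    (maximalIdeal S).comap (algebraMap (integralClosure A L) S)
  haveI hn : n.IsPrime := Ideal.comap_isPrime _ _
  have hunits : ∀ y : n.primeCompl, IsUnit (algebraMap (integralClosure A L) S y) := by
    intro y
    exact IsLocalRing.notMem_maximalIdeal.mp y.2
  letI : Algebra (Localization.AtPrime n) S :=
    (IsLocalization.lift (M := n.primeCompl) (g := algebraMap (integralClosure A L) S)
      hunits).toAlgebra
  haveI : IsScalarTower (integralClosure A L) (Localization.AtPrime n) S :=
    IsScalarTower.of_algebraMap_eq (fun x => (IsLocalization.lift_eq hunits x).symm)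
  haveI : IsScalarTower A (Localization.AtPrime n) S :=
    IsScalarTower.of_algebraMap_eq (fun a => by
      rw [IsScalarTower.algebraMap_apply A (integralClosure A L) (Localization.AtPrime n),
        ← IsScalarTower.algebraMap_apply (integralClosure A L) (Localization.AtPrime n) S,
        ← IsScalarTower.algebraMap_apply A (integralClosure A L) S])
  haveI : Module.Flat (Localization.AtPrime n) S :=
    (Module.flat_iff_of_isLocalization (Localization.AtPrime n) n.primeCompl S).mpr hflat
  haveI : IsLocalHom (algebraMap (Localization.AtPrime n) S) := by
    constructor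
    intro b hb
    obtain ⟨x, y, rfl⟩ := IsLocalization.exists_mk'_eq n.primeCompl b
    have h1 : algebraMap (Localization.AtPrime n) S (IsLocalization.mk' _ x y) *
        algebraMap (integralClosure A L) S y = algebraMap (integralClosure A L) S x := by
      rw [IsScalarTower.algebraMap_apply (integralClosure A L) (Localization.AtPrime n) S,
        IsScalarTower.algebraMap_apply (integralClosure A L) (Localization.AtPrime n) S,
        ← map_mul, IsLocalization.mk'_spec]
    have h2 : IsUnit (algebraMap (integralClosure A L) S x) := h1 ▸ hb.mul (hunits y)
    have h3 : x ∈ n.primeCompl := fun hx => (IsLocalRing.notMem_maximalIdeal.mpr h2) hx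
    exact (IsLocalization.AtPrime.isUnit_mk'_iff (Localization.AtPrime n) n x y).mpr h3
  haveI : Module.FaithfullyFlat (Localization.AtPrime n) S :=
    Module.FaithfullyFlat.of_flat_of_isLocalHom
  have hBS : Function.Injective (algebraMap (Localization.AtPrime n) S) :=
    FaithfulSMul.algebraMap_injective _ S
  -- the map `B → D`
  have hunitsD : ∀ y : n.primeCompl, IsUnit ((ι : integralClosure A L →+* D) y) := by
    intro y
    exact isUnit_of_map_unit (algebraMap D S) _ (hunits y)
  let ψ : Localization.AtPrime n →+* D :=
    IsLocalization.lift (M := n.primeCompl) (g := (ι : integralClosure A L →+* D)) hunitsD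
  have hψι : ∀ x : integralClosure A L,
      ψ (algebraMap (integralClosure A L) (Localization.AtPrime n) x) = ι x :=
    fun x => IsLocalization.lift_eq hunitsD x
  have hψS : (algebraMap D S).comp ψ = algebraMap (Localization.AtPrime n) S := by
    apply IsLocalization.ringHom_ext n.primeCompl
    ext x
    simp only [RingHom.comp_apply]
    rw [hψι, ← IsScalarTower.algebraMap_apply (integralClosure A L) (Localization.AtPrime n) S]
    rfl
  have hψinj : Function.Injective ψ := by
    have h1 : Function.Injective ((algebraMap D S).comp ψ) := by rw [hψS]; exact hBS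
    exact fun x y hxy => h1 (by simp only [RingHom.comp_apply, hxy])
  have hψsurj : Function.Surjective ψ := by
    intro d
    obtain ⟨x, y, hy, hxy⟩ := IsFractionRing.div_surjective (A := integralClosure A L)
      (algebraMap D L d)
    have hy0 : (y : L) ≠ 0 := by
      intro h0
      have : y = 0 := Subtype.ext h0
      exact (nonZeroDivisors.ne_zero hy) this
    have h1 : ι x = d * ι y := by
      apply hDL
      rw [map_mul, hι, hι, ← hxy]
      have : algebraMap (integralClosure A L) L y = (y : L) := rfl
      rw [this]
      have : algebraMap (integralClosure A L) L x = (x : L) := rfl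
      rw [this, div_mul_cancel₀ _ hy0]
    let I : Ideal (Localization.AtPrime n) :=
      Ideal.span {algebraMap (integralClosure A L) (Localization.AtPrime n) y}
    have h2 : algebraMap (integralClosure A L) (Localization.AtPrime n) x ∈
        (I.map (algebraMap (Localization.AtPrime n) S)).comap
          (algebraMap (Localization.AtPrime n) S) := by
      rw [Ideal.mem_comap,
        ← IsScalarTower.algebraMap_apply (integralClosure A L) (Localization.AtPrime n) S, hgS,
        h1]
      have h3 : ((d * ι y : D) : S) = (d : S) * algebraMap (Localization.AtPrime n) S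
          (algebraMap (integralClosure A L) (Localization.AtPrime n) y) := by
        rw [← IsScalarTower.algebraMap_apply (integralClosure A L) (Localization.AtPrime n) S,
          hgS]
        rfl
      rw [h3]
      exact Ideal.mul_mem_left _ _ (Ideal.mem_map_of_mem _ (Ideal.subset_span rfl))
    rw [Ideal.comap_map_eq_self_of_faithfullyFlat] at h2
    obtain ⟨c, hc⟩ := Ideal.mem_span_singleton'.mp h2
    refine ⟨c, ?_⟩
    have h4 : ψ c * ι y = d * ι y := by
      rw [← h1, ← hψι y, ← map_mul, hc, hψι]
    have hιy : ι y ≠ 0 := by
      intro h0
      apply hy0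
      rw [← hι y, h0, map_zero]
    exact mul_right_cancel₀ hιy h4
  have hψA : ∀ a : A, ψ (algebraMap A (Localization.AtPrime n) a) = algebraMap A D a := by
    intro a
    rw [IsScalarTower.algebraMap_apply A (integralClosure A L) (Localization.AtPrime n), hψι,
      AlgHom.commutes]
  let ψa : Localization.AtPrime n →ₐ[A] D := { ψ with commutes' := hψA }
  -- essentially of finite type
  haveI : Algebra.EssFiniteType (integralClosure A L) (Localization.AtPrime n) :=
    Algebra.EssFiniteType.of_isLocalization (Localization.AtPrime n) n.primeCompl
  haveI : Algebra.EssFiniteType A (Localization.AtPrime n) :=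
    Algebra.EssFiniteType.comp A (integralClosure A L) (Localization.AtPrime n)
  haveI : Algebra.EssFiniteType A D := Algebra.EssFiniteType.of_surjective ψa hψsurj
  -- the maximal ideal
  haveI hADloc : IsLocalHom (algebraMap A D) := by
    haveI : IsLocalHom ((algebraMap D S).comp (algebraMap A D)) := by
      rw [← IsScalarTower.algebraMap_eq A D S]; infer_instance
    exact isLocalHom_of_comp (algebraMap A D) (algebraMap D S)
  have hIB : (maximalIdeal A).map (algebraMap A (Localization.AtPrime n)) =
      maximalIdeal (Localization.AtPrime n) := by
    have h1 : ((maximalIdeal A).map (algebraMap A (Localization.AtPrime n))).map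
        (algebraMap (Localization.AtPrime n) S) = maximalIdeal S := by
      rw [Ideal.map_map, ← IsScalarTower.algebraMap_eq A (Localization.AtPrime n) S]
      exact hI.map_max
    have h2 := Ideal.comap_map_eq_self_of_faithfullyFlat (B := S)
      ((maximalIdeal A).map (algebraMap A (Localization.AtPrime n)))
    rw [h1] at h2
    rw [← h2]
    exact ((IsLocalRing.local_hom_TFAE (algebraMap (Localization.AtPrime n) S)).out 0 4).mp
      (inferInstance : IsLocalHom (algebraMap (Localization.AtPrime n) S))
  have hm : Ideal.map (algebraMap A D) (maximalIdeal A) = maximalIdeal D := by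
    apply le_antisymm
    · exact ((IsLocalRing.local_hom_TFAE (algebraMap A D)).out 0 2).mp hADloc
    · intro d hd
      obtain ⟨b, rfl⟩ := hψsurj d
      have hb : b ∈ maximalIdeal (Localization.AtPrime n) := by
        rw [IsLocalRing.mem_maximalIdeal, mem_nonunits_iff]
        intro hbu
        exact (IsLocalRing.mem_maximalIdeal _).mp hd (hbu.map ψ)
      rw [← hIB] at hb
      have h1 : ψ b ∈ ((maximalIdeal A).map (algebraMap A (Localization.AtPrime n))).map ψ :=
        Ideal.mem_map_of_mem ψ hb
      rw [Ideal.map_map] at h1
      have h2 : ψ.comp (algebraMap A (Localization.AtPrime n)) = algebraMap A D :=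
        RingHom.ext hψA
      rw [h2] at h1
      exact h1
  exact Groth.Agent.S16438.result A S D hm

end Groth.Agent.H15.StrictSub
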