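import Mathlib
import Groth.Agent.H15.StrictSub2

/-!
# Normal intermediate rings of a strict henselization: N-2 version and subfield intersections
-/

set_option autoImplicit false
set_option linter.style.haveILetI false
set_option linter.unusedSectionVars false
set_option maxHeartbeats 3200000
universe u
open TensorProduct IsLocalRing

namespace Groth.Agent.H15.StrictSub

/-- Core theorem (N-2 version), with an arbitrary model `L` of the fraction field of `D`. -/
theorem isEssentiallyEtale_of_normal_of_isN2
    (A S : Type u) [CommRing A] [IsLocalRing A] [IsDomain A] [IsIntegrallyClosed A]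
    [IsNoetherianRing A] (hN2 : CAlg.IsN2 A) [CommRing S] [IsLocalRing S] [Algebra A S]
    [IsLocalHom (algebraMap A S)]
    [Hensel.IsStrictHenselization A S] (D : Subalgebra A S) [IsLocalRing D]
    [IsLocalHom (algebraMap D S)] [IsDomain D] [IsIntegrallyClosed D]
    (L : Type u) [Field L] [Algebra D L] [IsFractionRing D L] [Algebra A L] [IsScalarTower A D L]
    (hfg : ∃ s : Finset D, Subfield.closure (Set.range (algebraMap A L) ∪
        (algebraMap D L) '' (s : Set D)) = ⊤) :
    EGA4loc.IsEssentiallyEtale A D ∧
      Ideal.map (algebraMap A D) (maximalIdeal A) = maximalIdeal D ∧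
      (Algebra.IsIntegral A D → Module.Finite A D) := by
  classical
  have hI := Groth.Agent.H47.HensNoeth.isIndEtaleLocal_of_isStrictHenselization A S
  haveI : Module.Flat A S := hI.flat
  haveI : Module.FaithfullyFlat A S := Module.FaithfullyFlat.of_flat_of_isLocalHom
  obtain ⟨hSd, -⟩ := (Groth.Agent.S2748.result A S).mpr ⟨inferInstance, inferInstance⟩
  haveI := hSd
  -- injectivity facts
  have hAS : Function.Injective (algebraMap A S) := FaithfulSMul.algebraMap_injective A S
  have hAD : Function.Injective (algebraMap A D) := by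
    intro a b hab
    apply hAS
    rw [IsScalarTower.algebraMap_apply A D S, IsScalarTower.algebraMap_apply A D S, hab]
  have hDL : Function.Injective (algebraMap D L) := IsFractionRing.injective D L
  have hAL : Function.Injective (algebraMap A L) := by
    rw [IsScalarTower.algebraMap_eq A D L]; exact hDL.comp hAD
  haveI : FaithfulSMul A L := (faithfulSMul_iff_algebraMap_injective A L).mpr hAL
  letI : Algebra (FractionRing A) L := FractionRing.liftAlgebra A L
  haveI : IsScalarTower A (FractionRing A) L := FractionRing.isScalarTower_liftAlgebra A L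
  -- finite dimensionality
  obtain ⟨s, hs⟩ := hfg
  obtain ⟨s', hs'⟩ : ∃ s' : Set L, s' = (algebraMap D L) '' (s : Set D) := ⟨_, rfl⟩
  have hs'fin : s'.Finite := by rw [hs']; exact (Finset.finite_toSet s).image _
  have hint : ∀ x ∈ s', IsIntegral (FractionRing A) x := by
    intro x hx
    rw [hs'] at hx
    obtain ⟨d, -, rfl⟩ := hx
    have h1 : IsAlgebraic A ((d : D) : S) := isAlgebraic_of_isStrictHenselization A S d
    have h2 : IsAlgebraic A d := (isAlgebraic_algHom_iff D.val Subtype.val_injective).mp h1
    have h3 : IsAlgebraic A (algebraMap D L d) := h2.algHom (IsScalarTower.toAlgHom A D L)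
    have h4 : IsAlgebraic (FractionRing A) (algebraMap D L d) :=
      h3.extendScalars (IsFractionRing.injective A (FractionRing A))
    exact h4.isIntegral
  have htop : ∀ x : L, x ∈ IntermediateField.adjoin (FractionRing A) s' := by
    have hle : Subfield.closure (Set.range (algebraMap A L) ∪ s') ≤
        (IntermediateField.adjoin (FractionRing A) s').toSubfield := by
      rw [Subfield.closure_le]
      rintro x (⟨a, rfl⟩ | hx)
      · show algebraMap A L a ∈ IntermediateField.adjoin (FractionRing A) s'
        rw [IsScalarTower.algebraMap_apply A (FractionRing A) L]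
        exact IntermediateField.algebraMap_mem _ _
      · exact IntermediateField.subset_adjoin _ _ hx
    rw [hs', hs] at hle
    intro x
    rw [hs']
    exact hle (Subfield.mem_top x)
  haveI : Finite s' := hs'fin.to_subtype
  haveI : FiniteDimensional (FractionRing A) (IntermediateField.adjoin (FractionRing A) s') :=
    IntermediateField.finiteDimensional_adjoin hint
  haveI : FiniteDimensional (FractionRing A) L :=
    Module.Finite.of_surjective (IntermediateField.adjoin (FractionRing A) s').val.toLinearMap
      (fun x => ⟨⟨x, htop x⟩, rfl⟩)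
  -- the integral closure
  haveI hfinA' : Module.Finite A (integralClosure A L) := hN2 L inferInstance
  haveI : IsFractionRing (integralClosure A L) L :=
    integralClosure.isFractionRing_of_finite_extension (FractionRing A) L
  haveI : IsIntegrallyClosed (integralClosure A L) :=
    integralClosure.isIntegrallyClosedOfFiniteExtension (FractionRing A)
  have hN : ∀ (N : Ideal (integralClosure A L)) [N.IsMaximal],
      IsDomain (Localization.AtPrime N) ∧ IsIntegrallyClosed (Localization.AtPrime N) :=
    fun N _ => ⟨inferInstance,
      isIntegrallyClosed_of_isLocalization (Localization.AtPrime N) N.primeCompl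
        N.primeCompl_le_nonZeroDivisors⟩
  -- the map `A' → D`
  let f : D →ₐ[A] L := IsScalarTower.toAlgHom A D L
  have hf : Function.Injective f := hDL
  have hle : integralClosure A L ≤ f.range := by
    intro x hx
    have h1 : IsIntegral A x := hx
    have h2 : IsIntegral D x := h1.tower_top
    obtain ⟨d, hd⟩ := IsIntegrallyClosed.algebraMap_eq_of_integral h2
    exact ⟨d, hd⟩
  let e := AlgEquiv.ofInjective f hf
  let ι : integralClosure A L →ₐ[A] D :=
    (e.symm : f.range →ₐ[A] D).comp (Subalgebra.inclusion hle)
  have hι : ∀ x : integralClosure A L, algebraMap D L (ι x) = (x : L) := by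
    intro x
    have h1 := e.apply_symm_apply (Subalgebra.inclusion hle x)
    exact congrArg Subtype.val h1
  have hιinj : Function.Injective ι := by
    intro x y hxy
    apply Subtype.ext
    rw [← hι x, ← hι y, hxy]
  let g : integralClosure A L →ₐ[A] S := D.val.comp ι
  letI : Algebra (integralClosure A L) S := g.toRingHom.toAlgebra
  haveI : IsScalarTower A (integralClosure A L) S :=
    IsScalarTower.of_algebraMap_eq (fun a => (g.commutes a).symm)
  have hgS : ∀ x : integralClosure A L, algebraMap (integralClosure A L) S x = ((ι x : D) : S) :=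
    fun _ => rfl
  haveI hflat : Module.Flat (integralClosure A L) S :=
    flat_of_integral A S (integralClosure A L) hN
  -- the localization
  let n : Ideal (integralClosure A L) :=
    (maximalIdeal S).comap (algebraMap (integralClosure A L) S)
  haveI hn : n.IsPrime := Ideal.comap_isPrime _ _
  have hunits : ∀ y : n.primeCompl, IsUnit (algebraMap (integralClosure A L) S y) := by
    intro y
    exact IsLocalRing.notMem_maximalIdeal.mp y.2
  letI : Algebra (Localization.AtPrime n) S :=
    (IsLocalization.lift (M := n.primeCompl) (g := algebraMap (integralClosure A L) S)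
      hunits).toAlgebra
  haveI : IsScalarTower (integralClosure A L) (Localization.AtPrime n) S :=
    IsScalarTower.of_algebraMap_eq (fun x => (IsLocalization.lift_eq hunits x).symm)
  haveI : IsScalarTower A (Localization.AtPrime n) S :=
    IsScalarTower.of_algebraMap_eq (fun a => by
      rw [IsScalarTower.algebraMap_apply A (integralClosure A L) (Localization.AtPrime n),
        ← IsScalarTower.algebraMap_apply (integralClosure A L) (Localization.AtPrime n) S,
        ← IsScalarTower.algebraMap_apply A (integralClosure A L) S])
  haveI : Module.Flat (Localization.AtPrime n) S :=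
    (Module.flat_iff_of_isLocalization (Localization.AtPrime n) n.primeCompl S).mpr hflat
  haveI : IsLocalHom (algebraMap (Localization.AtPrime n) S) := by
    constructor
    intro b hb
    obtain ⟨x, y, rfl⟩ := IsLocalization.exists_mk'_eq n.primeCompl b
    have h1 : algebraMap (Localization.AtPrime n) S (IsLocalization.mk' _ x y) *
        algebraMap (integralClosure A L) S y = algebraMap (integralClosure A L) S x := by
      rw [IsScalarTower.algebraMap_apply (integralClosure A L) (Localization.AtPrime n) S,
        IsScalarTower.algebraMap_apply (integralClosure A L) (Localization.AtPrime n) S,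
        ← map_mul, IsLocalization.mk'_spec]
    have h2 : IsUnit (algebraMap (integralClosure A L) S x) := h1 ▸ hb.mul (hunits y)
    have h3 : x ∈ n.primeCompl := fun hx => (IsLocalRing.notMem_maximalIdeal.mpr h2) hx
    exact (IsLocalization.AtPrime.isUnit_mk'_iff (Localization.AtPrime n) n x y).mpr h3
  haveI : Module.FaithfullyFlat (Localization.AtPrime n) S :=
    Module.FaithfullyFlat.of_flat_of_isLocalHom
  have hBS : Function.Injective (algebraMap (Localization.AtPrime n) S) :=
    FaithfulSMul.algebraMap_injective _ S
  -- the map `B → D`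
  have hunitsD : ∀ y : n.primeCompl, IsUnit ((ι : integralClosure A L →+* D) y) := by
    intro y
    exact isUnit_of_map_unit (algebraMap D S) _ (hunits y)
  let ψ : Localization.AtPrime n →+* D :=
    IsLocalization.lift (M := n.primeCompl) (g := (ι : integralClosure A L →+* D)) hunitsD
  have hψι : ∀ x : integralClosure A L,
      ψ (algebraMap (integralClosure A L) (Localization.AtPrime n) x) = ι x :=
    fun x => IsLocalization.lift_eq hunitsD x
  have hψS : (algebraMap D S).comp ψ = algebraMap (Localization.AtPrime n) S := by
    apply IsLocalization.ringHom_ext n.primeCompl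
    ext x
    simp only [RingHom.comp_apply]
    rw [hψι, ← IsScalarTower.algebraMap_apply (integralClosure A L) (Localization.AtPrime n) S]
    rfl
  have hψinj : Function.Injective ψ := by
    have h1 : Function.Injective ((algebraMap D S).comp ψ) := by rw [hψS]; exact hBS
    exact fun x y hxy => h1 (by simp only [RingHom.comp_apply, hxy])
  have hψsurj : Function.Surjective ψ := by
    intro d
    obtain ⟨x, y, hy, hxy⟩ := IsFractionRing.div_surjective (A := integralClosure A L)
      (algebraMap D L d)
    have hy0 : (y : L) ≠ 0 := by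
      intro h0
      have : y = 0 := Subtype.ext h0
      exact (nonZeroDivisors.ne_zero hy) this
    have h1 : ι x = d * ι y := by
      apply hDL
      rw [map_mul, hι, hι, ← hxy]
      have : algebraMap (integralClosure A L) L y = (y : L) := rfl
      rw [this]
      have : algebraMap (integralClosure A L) L x = (x : L) := rfl
      rw [this, div_mul_cancel₀ _ hy0]
    let I : Ideal (Localization.AtPrime n) :=
      Ideal.span {algebraMap (integralClosure A L) (Localization.AtPrime n) y}
    have h2 : algebraMap (integralClosure A L) (Localization.AtPrime n) x ∈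
        (I.map (algebraMap (Localization.AtPrime n) S)).comap
          (algebraMap (Localization.AtPrime n) S) := by
      rw [Ideal.mem_comap,
        ← IsScalarTower.algebraMap_apply (integralClosure A L) (Localization.AtPrime n) S, hgS,
        h1]
      have h3 : ((d * ι y : D) : S) = (d : S) * algebraMap (Localization.AtPrime n) S
          (algebraMap (integralClosure A L) (Localization.AtPrime n) y) := by
        rw [← IsScalarTower.algebraMap_apply (integralClosure A L) (Localization.AtPrime n) S,
          hgS]
        rfl
      rw [h3]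
      exact Ideal.mul_mem_left _ _ (Ideal.mem_map_of_mem _ (Ideal.subset_span rfl))
    rw [Ideal.comap_map_eq_self_of_faithfullyFlat] at h2
    obtain ⟨c, hc⟩ := Ideal.mem_span_singleton'.mp h2
    refine ⟨c, ?_⟩
    have h4 : ψ c * ι y = d * ι y := by
      rw [← h1, ← hψι y, ← map_mul, hc, hψι]
    have hιy : ι y ≠ 0 := by
      intro h0
      apply hy0
      rw [← hι y, h0, map_zero]
    exact mul_right_cancel₀ hιy h4
  have hψA : ∀ a : A, ψ (algebraMap A (Localization.AtPrime n) a) = algebraMap A D a := by
    intro a
    rw [IsScalarTower.algebraMap_apply A (integralClosure A L) (Localization.AtPrime n), hψι,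
      AlgHom.commutes]
  let ψa : Localization.AtPrime n →ₐ[A] D := { ψ with commutes' := hψA }
  -- essentially of finite type
  haveI : Algebra.EssFiniteType (integralClosure A L) (Localization.AtPrime n) :=
    Algebra.EssFiniteType.of_isLocalization (Localization.AtPrime n) n.primeCompl
  haveI : Algebra.EssFiniteType A (Localization.AtPrime n) :=
    Algebra.EssFiniteType.comp A (integralClosure A L) (Localization.AtPrime n)
  haveI : Algebra.EssFiniteType A D := Algebra.EssFiniteType.of_surjective ψa hψsurj
  -- the maximal ideal
  haveI hADloc : IsLocalHom (algebraMap A D) := by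
    haveI : IsLocalHom ((algebraMap D S).comp (algebraMap A D)) := by
      rw [← IsScalarTower.algebraMap_eq A D S]; infer_instance
    exact isLocalHom_of_comp (algebraMap A D) (algebraMap D S)
  have hIB : (maximalIdeal A).map (algebraMap A (Localization.AtPrime n)) =
      maximalIdeal (Localization.AtPrime n) := by
    have h1 : ((maximalIdeal A).map (algebraMap A (Localization.AtPrime n))).map
        (algebraMap (Localization.AtPrime n) S) = maximalIdeal S := by
      rw [Ideal.map_map, ← IsScalarTower.algebraMap_eq A (Localization.AtPrime n) S]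
      exact hI.map_max
    have h2 := Ideal.comap_map_eq_self_of_faithfullyFlat (B := S)
      ((maximalIdeal A).map (algebraMap A (Localization.AtPrime n)))
    rw [h1] at h2
    rw [← h2]
    exact ((IsLocalRing.local_hom_TFAE (algebraMap (Localization.AtPrime n) S)).out 0 4).mp
      (inferInstance : IsLocalHom (algebraMap (Localization.AtPrime n) S))
  have hm : Ideal.map (algebraMap A D) (maximalIdeal A) = maximalIdeal D := by
    apply le_antisymm
    · exact ((IsLocalRing.local_hom_TFAE (algebraMap A D)).out 0 2).mp hADloc
    · intro d hd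
      obtain ⟨b, rfl⟩ := hψsurj d
      have hb : b ∈ maximalIdeal (Localization.AtPrime n) := by
        rw [IsLocalRing.mem_maximalIdeal, mem_nonunits_iff]
        intro hbu
        exact (IsLocalRing.mem_maximalIdeal _).mp hd (hbu.map ψ)
      rw [← hIB] at hb
      have h1 : ψ b ∈ ((maximalIdeal A).map (algebraMap A (Localization.AtPrime n))).map ψ :=
        Ideal.mem_map_of_mem ψ hb
      rw [Ideal.map_map] at h1
      have h2 : ψ.comp (algebraMap A (Localization.AtPrime n)) = algebraMap A D :=
        RingHom.ext hψA
      rw [h2] at h1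
      exact h1
  refine ⟨Groth.Agent.S16438.result A S D hm, hm, fun hint => ?_⟩
  have hιsurj : Function.Surjective ι := by
    intro d
    have h1 : IsIntegral A d := Algebra.IsIntegral.isIntegral d
    have h2 : IsIntegral A (algebraMap D L d) := h1.algebraMap
    refine ⟨⟨algebraMap D L d, h2⟩, ?_⟩
    apply hDL
    rw [hι]
  exact Module.Finite.of_surjective ι.toLinearMap hιsurj


/-- Normal case of the "subfield ∩ strict henselization" statement. -/
theorem inter_subfield_normal
    (A T : Type u) [CommRing A] [IsLocalRing A] [IsDomain A] [IsIntegrallyClosed A]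
    [IsNoetherianRing A] (hN2 : CAlg.IsN2 A) [CommRing T] [IsLocalRing T] [Algebra A T]
    [IsLocalHom (algebraMap A T)] [Hensel.IsStrictHenselization A T]
    (Ω : Type u) [Field Ω] [Algebra T Ω] [IsFractionRing T Ω] [Algebra A Ω] [IsScalarTower A T Ω]
    (t : Finset Ω) (D : Subalgebra A T)
    (hD : (D : Set T) = (algebraMap T Ω) ⁻¹'
      (Subfield.closure (Set.range (algebraMap A Ω) ∪ (t : Set Ω)) : Set Ω)) :
    ∃ _ : IsLocalRing D, IsLocalHom (algebraMap D T) ∧ EGA4loc.IsEssentiallyEtale A D ∧
      Ideal.map (algebraMap A D) (maximalIdeal A) = maximalIdeal D ∧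
      (Algebra.IsIntegral A D → Module.Finite A D) := by
  classical
  have hI := Groth.Agent.H47.HensNoeth.isIndEtaleLocal_of_isStrictHenselization A T
  haveI : Module.Flat A T := hI.flat
  haveI : Module.FaithfullyFlat A T := Module.FaithfullyFlat.of_flat_of_isLocalHom
  obtain ⟨hTd, hTn⟩ := (Groth.Agent.S2748.result A T).mpr ⟨inferInstance, inferInstance⟩
  haveI := hTd
  haveI := hTn
  have hAT : Function.Injective (algebraMap A T) := FaithfulSMul.algebraMap_injective A T
  have hTΩ : Function.Injective (algebraMap T Ω) := IsFractionRing.injective T Ω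
  have hAΩ : Function.Injective (algebraMap A Ω) := by
    rw [IsScalarTower.algebraMap_eq A T Ω]; exact hTΩ.comp hAT
  haveI : FaithfulSMul A Ω := (faithfulSMul_iff_algebraMap_injective A Ω).mpr hAΩ
  haveI hTalg : Algebra.IsAlgebraic A T :=
    ⟨fun x => isAlgebraic_of_isStrictHenselization A T x⟩
  haveI : Module.IsTorsionFree A Ω := (Module.isTorsionFree_iff_algebraMap_injective).mpr hAΩ
  haveI hΩalg : Algebra.IsAlgebraic A Ω := (IsFractionRing.isAlgebraic_iff' A T Ω).mp hTalg
  obtain ⟨F, hF⟩ : ∃ F : Subfield Ω, F = Subfield.closure (Set.range (algebraMap A Ω) ∪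
    (t : Set Ω)) := ⟨_, rfl⟩
  rw [← hF] at hD
  have hAF : ∀ a : A, algebraMap A Ω a ∈ F := fun a => by
    rw [hF]; exact Subfield.subset_closure (Or.inl ⟨a, rfl⟩)
  have htF : ∀ τ ∈ t, τ ∈ F := fun τ hτ => by
    rw [hF]; exact Subfield.subset_closure (Or.inr hτ)
  have hmem : ∀ x : T, x ∈ D ↔ algebraMap T Ω x ∈ F := by
    intro x
    have := Set.ext_iff.mp hD x
    exact this
  -- unit criterion
  have hunit : ∀ y : D, IsUnit ((y : T)) → IsUnit y := by
    intro y hy
    obtain ⟨y', hy'⟩ := hy.exists_right_inv
    have hy'F : algebraMap T Ω y' ∈ F := by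
      have h2 : algebraMap T Ω (y : T) * algebraMap T Ω y' = 1 := by
        rw [← map_mul, hy', map_one]
      rw [eq_inv_of_mul_eq_one_right h2]
      exact F.inv_mem ((hmem _).mp y.2)
    refine IsUnit.of_mul_eq_one (⟨y', (hmem _).mpr hy'F⟩ : D) ?_
    exact Subtype.ext hy'
  haveI hlocD : IsLocalRing D := by
    apply IsLocalRing.of_isUnit_or_isUnit_one_sub_self
    intro a
    rcases IsLocalRing.isUnit_or_isUnit_one_sub_self ((a : D) : T) with h | h
    · exact Or.inl (hunit a h)
    · exact Or.inr (hunit (1 - a) h)
  haveI hlochom : IsLocalHom (algebraMap D T) := ⟨fun y hy => hunit y hy⟩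
  haveI : IsDomain D := inferInstance
  -- the map to `F`
  let j₀ : D →ₐ[A] Ω := (IsScalarTower.toAlgHom A T Ω).comp D.val
  have hj₀ : ∀ y : D, j₀ y = algebraMap T Ω (y : T) := fun _ => rfl
  have hj₀F : ∀ y : D, j₀ y ∈ F := fun y => (hmem _).mp y.2
  have hj₀inj : Function.Injective j₀ := fun x y hxy => Subtype.ext (hTΩ hxy)
  let j : D →+* F := (j₀ : D →+* Ω).codRestrict F hj₀F
  letI algDF : Algebra D F := j.toAlgebra
  letI algAF : Algebra A F := ((algebraMap A Ω).codRestrict F hAF).toAlgebra
  haveI : IsScalarTower A D F := IsScalarTower.of_algebraMap_eq (fun a => by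
    apply Subtype.ext
    show algebraMap A Ω a = j₀ (algebraMap A D a)
    rw [AlgHom.commutes])
  have hjval : ∀ y : D, ((algebraMap D F y : F) : Ω) = j₀ y := fun _ => rfl
  have hAval : ∀ a : A, ((algebraMap A F a : F) : Ω) = algebraMap A Ω a := fun _ => rfl
  have hjinj : Function.Injective (algebraMap D F) := by
    intro x y hxy
    apply hj₀inj
    rw [← hjval, ← hjval, hxy]
  haveI : FaithfulSMul D F := (faithfulSMul_iff_algebraMap_injective D F).mpr hjinj
  have hlift : ∀ x : T, algebraMap T Ω x ∈ F → ∃ y : D, j₀ y = algebraMap T Ω x :=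
    fun x hx => ⟨⟨x, (hmem _).mpr hx⟩, rfl⟩
  -- multiples of elements of `F` in `D`
  have hmult : ∀ z : Ω, z ∈ F → ∃ (a : A) (y : D), a ≠ 0 ∧ j₀ y = algebraMap A Ω a * z := by
    intro z hz
    obtain ⟨a, ha0, hint⟩ :=
      (Algebra.IsAlgebraic.isAlgebraic (R := A) z).exists_integral_multiple
    have h2 : IsIntegral T (a • z) := hint.tower_top
    obtain ⟨x, hx⟩ := IsIntegrallyClosed.algebraMap_eq_of_integral h2
    have hxF : algebraMap T Ω x ∈ F := by
      rw [hx, Algebra.smul_def]
      exact F.mul_mem (hAF a) hz
    obtain ⟨y, hy⟩ := hlift x hxF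
    exact ⟨a, y, ha0, by rw [hy, hx, Algebra.smul_def]⟩
  haveI hfrac : IsFractionRing D F := by
    apply IsFractionRing.of_field
    intro z
    obtain ⟨a, y, ha0, hy⟩ := hmult z z.2
    refine ⟨y, algebraMap A D a, ?_⟩
    apply Subtype.ext
    have ha' : algebraMap A Ω a ≠ 0 := fun h0 => ha0 (hAΩ (by rw [h0, map_zero]))
    have h3 : ((algebraMap D F (algebraMap A D a) : F) : Ω) = algebraMap A Ω a := by
      rw [hjval, AlgHom.commutes]
    show (z : Ω) = ((algebraMap D F y / algebraMap D F (algebraMap A D a) : F) : Ω)
    rw [Subfield.coe_div, h3, hjval, hy, mul_div_cancel_left₀ _ ha']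
  haveI hintcl : IsIntegrallyClosed D := by
    rw [isIntegrallyClosed_iff F]
    intro z hz
    have h1 : IsIntegral T (F.subtype z) := by
      refine hz.map_of_comp_eq ((D.val : D →ₐ[A] T) : D →+* T) F.subtype ?_
      ext y
      rfl
    obtain ⟨x, hx⟩ := IsIntegrallyClosed.algebraMap_eq_of_integral h1
    have hxF : algebraMap T Ω x ∈ F := by
      rw [hx]; exact z.2
    obtain ⟨y, hy⟩ := hlift x hxF
    refine ⟨y, Subtype.ext ?_⟩
    rw [hjval, hy, hx]
    rfl
  -- finite generation
  have hch : ∀ τ : Ω, ∃ (a : A) (y : D), τ ∈ t → (a ≠ 0 ∧ j₀ y = algebraMap A Ω a * τ) := by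
    intro τ
    by_cases hτ : τ ∈ t
    · obtain ⟨a, y, ha, hy⟩ := hmult τ (htF τ hτ)
      exact ⟨a, y, fun _ => ⟨ha, hy⟩⟩
    · exact ⟨0, 0, fun h => absurd h hτ⟩
  choose av yv hav using hch
  have hfg' : ∃ s'' : Finset D, Subfield.closure (Set.range (algebraMap A F) ∪
      (algebraMap D F) '' (s'' : Set D)) = ⊤ := by
    refine ⟨t.image yv, ?_⟩
    rw [eq_top_iff]
    intro z _
    obtain ⟨G, hG⟩ : ∃ G : Subfield F, G = Subfield.closure (Set.range (algebraMap A F) ∪
      (algebraMap D F) '' ((t.image yv : Finset D) : Set D)) := ⟨_, rfl⟩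
    rw [← hG]
    have hAG : ∀ a : A, algebraMap A F a ∈ G := fun a => by
      rw [hG]; exact Subfield.subset_closure (Or.inl ⟨a, rfl⟩)
    have hle' : Subfield.closure (Set.range (algebraMap A Ω) ∪ (t : Set Ω)) ≤
        G.map F.subtype := by
      rw [Subfield.closure_le]
      rintro x (⟨a, rfl⟩ | hx)
      · exact Subfield.mem_map.mpr ⟨algebraMap A F a, hAG a, rfl⟩
      · have hxt : x ∈ t := Finset.mem_coe.mp hx
        obtain ⟨ha0, hy⟩ := hav x hxt
        have hyG : algebraMap D F (yv x) ∈ G := by
          rw [hG]
          apply Subfield.subset_closure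
          right
          exact ⟨yv x, Finset.mem_coe.mpr (Finset.mem_image_of_mem yv hxt), rfl⟩
        have ha' : algebraMap A Ω (av x) ≠ 0 := fun h0 => ha0 (hAΩ (by rw [h0, map_zero]))
        refine Subfield.mem_map.mpr
          ⟨(algebraMap A F (av x))⁻¹ * algebraMap D F (yv x),
            G.mul_mem (G.inv_mem (hAG _)) hyG, ?_⟩
        show ((((algebraMap A F (av x))⁻¹ * algebraMap D F (yv x) : F)) : Ω) = x
        rw [Subfield.coe_mul, Subfield.coe_inv, hAval, hjval, hy, inv_mul_cancel_left₀ ha']
    have hle : F ≤ G.map F.subtype := fun x hx => hle' (by rw [hF] at hx; exact hx)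
    obtain ⟨g, hgG, hgz⟩ := Subfield.mem_map.mp (hle z.2)
    have : g = z := Subtype.ext hgz
    rw [← this]
    exact hgG
  have hess := isEssentiallyEtale_of_normal_of_isN2 A T hN2 D F hfg'
  exact ⟨hlocD, hlochom, hess.1, hess.2.1, hess.2.2⟩

end Groth.Agent.H15.StrictSub
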