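import Mathlib
import Groth.Agent.H15.StrictSub4
import Groth.Agent.H47.UnibranchStrict
import Groth.Agent.H47.HensTransport
import Groth.Agent.H3.HInt
import Groth.Agent.H3.HFEtLift
import Groth.Agent.H3.HenselEtale4
import Groth.Agent.S0537
import Groth.Agent.S5043
import Groth.Agent.S16444
import Groth.Agent.S16438

/-!
# Subfield ∩ strict henselization over an excellent henselian local domain (S16434)
-/

set_option autoImplicit false
set_option linter.style.haveILetI false
set_option linter.unusedSectionVars false
set_option maxHeartbeats 6400000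
universe u
open TensorProduct IsLocalRing

namespace Groth.Agent.H15.StrictSub

/-- A strict henselization of a henselian local ring is integral over it. -/
theorem isIntegral_of_henselian (A T : Type u) [CommRing A] [HenselianLocalRing A]
    [CommRing T] [IsLocalRing T] [Algebra A T] [IsLocalHom (algebraMap A T)]
    [Hensel.IsStrictHenselization A T] : Algebra.IsIntegral A T := by
  have hI := Groth.Agent.H47.HensNoeth.isIndEtaleLocal_of_isStrictHenselization A T
  refine Groth.Agent.H47.HensTensor.isIntegral_of_indQuasiFinite A A T ?_ T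
    ((Algebra.TensorProduct.lid A T : A ⊗[A] T ≃ₐ[A] T) : A ⊗[A] T →+* T) ?_ ?_
  · intro s
    obtain ⟨C, _, _, _, φ, hφ⟩ := hI.rep s
    refine ⟨φ.range, ?_, ?_, ?_⟩
    · intro x hx
      obtain ⟨c, hc⟩ := hφ x (Finset.mem_coe.mp hx)
      exact ⟨c, hc⟩
    · exact Algebra.FiniteType.of_surjective (f := φ.rangeRestrict) φ.rangeRestrict_surjective
    · exact Algebra.QuasiFinite.of_surjective_algHom φ.rangeRestrict φ.rangeRestrict_surjective
  · intro a
    simp [Algebra.algebraMap_eq_smul_one]
  · intro x
    refine ⟨1 ⊗ₜ x, 1, ?_, ?_⟩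
    · simp
    · simp

theorem descent_aux
    (A S : Type u) [CommRing A] [HenselianLocalRing A] [IsDomain A] [IsNoetherianRing A]
    [CommRing S] [IsLocalRing S] [Algebra A S] [IsLocalHom (algebraMap A S)]
    [Hensel.IsStrictHenselization A S] [IsDomain S]
    (A₁ : Type u) [CommRing A₁] [IsDomain A₁] [IsIntegrallyClosed A₁] [HenselianLocalRing A₁]
    [IsNoetherianRing A₁] (hN2₁ : CAlg.IsN2 A₁) [Algebra A A₁] [Module.Finite A A₁]
    [IsLocalHom (algebraMap A A₁)]
    [IsPurelyInseparable (ResidueField A) (ResidueField A₁)]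
    (hinj : Function.Injective (algebraMap A A₁))
    (c : A) (hc0 : c ≠ 0) (hc : ∀ a₁ : A₁, ∃ a : A, c • a₁ = algebraMap A A₁ a)
    (t : Finset (FractionRing S)) (D : Subalgebra A S)
    (hmemD : ∀ x : S, x ∈ D ↔ algebraMap S (FractionRing S) x ∈
      Subfield.closure (Set.range (algebraMap A (FractionRing S)) ∪ (t : Set (FractionRing S))))
    [IsLocalRing D] [IsLocalHom (algebraMap D S)] :
    EGA4loc.IsEssentiallyEtale A D := by
  classical
  have hI := Groth.Agent.H47.HensNoeth.isIndEtaleLocal_of_isStrictHenselization A S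
  haveI : Module.Flat A S := hI.flat
  haveI : Module.FaithfullyFlat A S := Module.FaithfullyFlat.of_flat_of_isLocalHom
  have hAS : Function.Injective (algebraMap A S) := FaithfulSMul.algebraMap_injective A S
  have hSΩ : Function.Injective (algebraMap S (FractionRing S)) :=
    IsFractionRing.injective S (FractionRing S)
  obtain ⟨F, hF⟩ : ∃ F : Subfield (FractionRing S), F = Subfield.closure
    (Set.range (algebraMap A (FractionRing S)) ∪ (t : Set (FractionRing S))) := ⟨_, rfl⟩
  rw [← hF] at hmemD
  -- Step 2: strict henselization of `A₁`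
  obtain ⟨T, _, _, _, _, hT⟩ := Groth.Agent.S0537.result A₁
  haveI := hT
  obtain ⟨σ, hσ⟩ := Groth.Agent.H47.HensTransport.exists_sigma A A₁ S T
  obtain ⟨hTd, hTn⟩ := (Groth.Agent.S2748.result A₁ T).mpr ⟨inferInstance, inferInstance⟩
  haveI := hTd
  haveI := hTn
  letI : Algebra A T := ((algebraMap A₁ T).comp (algebraMap A A₁)).toAlgebra
  haveI : IsScalarTower A A₁ T := IsScalarTower.of_algebraMap_eq (fun _ => rfl)
  letI : Algebra S T := σ.toAlgebra
  haveI : IsScalarTower A S T :=
    IsScalarTower.of_algebraMap_eq (fun a => (RingHom.congr_fun hσ a).symm)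
  haveI hlocST : IsLocalHom (algebraMap S T) :=
    Groth.Agent.H47.HensTransport.isLocalHom_algebraMap_strict A A₁ S T
  have hI₁ := Groth.Agent.H47.HensNoeth.isIndEtaleLocal_of_isStrictHenselization A₁ T
  haveI : Module.Flat A₁ T := hI₁.flat
  haveI : Module.FaithfullyFlat A₁ T := Module.FaithfullyFlat.of_flat_of_isLocalHom
  have hA₁T : Function.Injective (algebraMap A₁ T) := FaithfulSMul.algebraMap_injective A₁ T
  have hAT : Function.Injective (algebraMap A T) := by
    rw [IsScalarTower.algebraMap_eq A A₁ T]; exact hA₁T.comp hinj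
  have hST : Function.Injective (algebraMap S T) := by
    haveI : (RingHom.ker (algebraMap S T)).IsPrime := RingHom.ker_isPrime _
    haveI : (⊥ : Ideal S).IsPrime := Ideal.isPrime_bot
    have h1 : (⊥ : Ideal S) = RingHom.ker (algebraMap S T) := by
      apply Groth.Agent.S5043.eq_of_le_of_comap_eq hI bot_le
      ext a
      simp only [Ideal.mem_comap, Ideal.mem_bot, RingHom.mem_ker]
      rw [← IsScalarTower.algebraMap_apply A S T]
      constructor
      · intro h
        rw [hAS (by rw [h, map_zero] : algebraMap A S a = algebraMap A S 0), map_zero]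
      · intro h
        rw [hAT (by rw [h, map_zero] : algebraMap A T a = algebraMap A T 0), map_zero]
    exact (RingHom.injective_iff_ker_eq_bot _).mpr h1.symm
  -- Step 3: comparison of the two fraction fields
  have hTΩ : Function.Injective (algebraMap T (FractionRing T)) :=
    IsFractionRing.injective T (FractionRing T)
  have hinjι : Function.Injective ((algebraMap T (FractionRing T)).comp (algebraMap S T)) :=
    hTΩ.comp hST
  obtain ⟨ι, hι⟩ : ∃ ι : FractionRing S →+* FractionRing T,
      ∀ x : S, ι (algebraMap S (FractionRing S) x) =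
        algebraMap T (FractionRing T) (algebraMap S T x) :=
    ⟨IsFractionRing.lift hinjι, fun x => IsFractionRing.lift_algebraMap hinjι x⟩
  have hιA : ∀ a : A, ι (algebraMap A (FractionRing S) a) =
      algebraMap A₁ (FractionRing T) (algebraMap A A₁ a) := by
    intro a
    rw [IsScalarTower.algebraMap_apply A S (FractionRing S), hι,
      ← IsScalarTower.algebraMap_apply A S T, IsScalarTower.algebraMap_apply A A₁ T,
      ← IsScalarTower.algebraMap_apply A₁ T (FractionRing T)]
  have hAF : ∀ a : A, algebraMap A (FractionRing S) a ∈ F := fun a => by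
    rw [hF]; exact Subfield.subset_closure (Or.inl ⟨a, rfl⟩)
  obtain ⟨FT, hFT⟩ : ∃ FT : Subfield (FractionRing T), FT = Subfield.closure
    (Set.range (algebraMap A₁ (FractionRing T)) ∪
      ((t.image ι : Finset (FractionRing T)) : Set (FractionRing T))) := ⟨_, rfl⟩
  have hFFT : ∀ f ∈ F, ι f ∈ FT := by
    have hle : F ≤ FT.comap ι := by
      rw [hF, Subfield.closure_le]
      rintro x (⟨a, rfl⟩ | hx)
      · show ι _ ∈ FT
        rw [hιA, hFT]
        exact Subfield.subset_closure (Or.inl ⟨_, rfl⟩)
      · show ι x ∈ FT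
        rw [hFT]
        exact Subfield.subset_closure
          (Or.inr (Finset.mem_coe.mpr (Finset.mem_image_of_mem ι (Finset.mem_coe.mp hx))))
    exact fun f hf => hle hf
  have hcΩ : algebraMap A (FractionRing S) c ≠ 0 := by
    rw [IsScalarTower.algebraMap_apply A S (FractionRing S)]
    intro h
    apply hc0
    apply hAS
    apply hSΩ
    rw [h, map_zero, map_zero]
  have hFTF : FT ≤ F.map ι := by
    rw [hFT, Subfield.closure_le]
    rintro y (⟨a₁, rfl⟩ | hy)
    · obtain ⟨a, ha⟩ := hc a₁
      refine ⟨algebraMap A (FractionRing S) a / algebraMap A (FractionRing S) c,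
        F.div_mem (hAF a) (hAF c), ?_⟩
      rw [map_div₀, hιA, hιA, ← ha, Algebra.smul_def, map_mul]
      have hne : algebraMap A₁ (FractionRing T) (algebraMap A A₁ c) ≠ 0 := by
        rw [← hιA]
        exact fun h => hcΩ (ι.injective (by rw [h, map_zero]))
      field_simp
    · obtain ⟨τ, hτ, rfl⟩ := Finset.mem_image.mp (Finset.mem_coe.mp hy)
      exact ⟨τ, by rw [hF]; exact Subfield.subset_closure (Or.inr (Finset.mem_coe.mpr hτ)), rfl⟩
  have hback : ∀ x : S, algebraMap T (FractionRing T) (algebraMap S T x) ∈ FT →
      algebraMap S (FractionRing S) x ∈ F := by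
    intro x hx
    obtain ⟨f, hf, hfx⟩ := hFTF hx
    have : f = algebraMap S (FractionRing S) x := ι.injective (by rw [hfx, hι])
    rw [← this]; exact hf
  -- Step 4: the normal case applied to `A₁ → T`
  let DT : Subalgebra A₁ T :=
    { carrier := (algebraMap T (FractionRing T)) ⁻¹' (FT : Set (FractionRing T))
      mul_mem' := by
        intro x y hx hy
        show algebraMap T (FractionRing T) (x * y) ∈ FT
        rw [map_mul]; exact FT.mul_mem hx hy
      add_mem' := by
        intro x y hx hy
        show algebraMap T (FractionRing T) (x + y) ∈ FT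
        rw [map_add]; exact FT.add_mem hx hy
      algebraMap_mem' := by
        intro a
        show algebraMap T (FractionRing T) (algebraMap A₁ T a) ∈ FT
        rw [← IsScalarTower.algebraMap_apply A₁ T (FractionRing T), hFT]
        exact Subfield.subset_closure (Or.inl ⟨a, rfl⟩) }
  have hmemDT : ∀ y : T, y ∈ DT ↔ algebraMap T (FractionRing T) y ∈ FT := fun _ => Iff.rfl
  have hDTeq : (DT : Set T) = (algebraMap T (FractionRing T)) ⁻¹'
      (Subfield.closure (Set.range (algebraMap A₁ (FractionRing T)) ∪
        ((t.image ι : Finset (FractionRing T)) : Set (FractionRing T))) :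
          Set (FractionRing T)) := by
    rw [← hFT]; rfl
  obtain ⟨hDTloc, hDThom, hessDT, hmDT, hfinDT⟩ :=
    inter_subfield_normal A₁ T hN2₁ (FractionRing T) (t.image ι) DT hDTeq
  haveI := hDTloc
  haveI := hDThom
  haveI hintT : Algebra.IsIntegral A₁ T := isIntegral_of_henselian A₁ T
  haveI hintDT : Algebra.IsIntegral A₁ DT :=
    Algebra.IsIntegral.of_injective DT.val Subtype.val_injective
  haveI : Module.Finite A₁ DT := hfinDT hintDT
  haveI : HenselianLocalRing DT :=
    Groth.Agent.H3.henselianLocalRing_of_isIntegral_of_isLocalRing A₁ DT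
  -- Step 5: residue fields
  haveI hlocA₁DT : IsLocalHom (algebraMap A₁ DT) := Groth.Agent.H3.isLocalHom_of_isIntegral A₁ DT
  haveI : IsScalarTower A A₁ DT := inferInstance
  haveI : IsScalarTower A DT T := inferInstance
  haveI hlocADT : IsLocalHom (algebraMap A DT) := by
    rw [IsScalarTower.algebraMap_eq A A₁ DT]
    exact RingHom.isLocalHom_comp _ _
  obtain ⟨hfeDT, heftDT⟩ := Groth.Agent.S2782.instances_of_isEssentiallyEtale hessDT
  haveI := hfeDT
  haveI := heftDT
  haveI : Algebra.IsSeparable (ResidueField A₁) (ResidueField DT) := inferInstance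
  haveI : Module.Finite (ResidueField A) (ResidueField A₁) := inferInstance
  haveI : Module.Finite (ResidueField A₁) (ResidueField DT) := inferInstance
  haveI : Module.Finite (ResidueField A) (ResidueField DT) :=
    Module.Finite.trans (ResidueField A₁) (ResidueField DT)
  haveI : IsScalarTower (ResidueField A) (ResidueField A₁) (ResidueField DT) := inferInstance
  haveI : Algebra.IsAlgebraic (ResidueField A) (ResidueField A₁) :=
    Algebra.IsAlgebraic.of_finite _ _
  have hβ : IntermediateField.adjoin (ResidueField A₁)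
      ((separableClosure (ResidueField A) (ResidueField DT) :
        IntermediateField (ResidueField A) (ResidueField DT)) : Set (ResidueField DT)) = ⊤ :=
    separableClosure.adjoin_eq_of_isAlgebraic_of_isSeparable (F := ResidueField A)
      (E := ResidueField A₁) (ResidueField DT)
  obtain ⟨Ks, hKs⟩ : ∃ Ks : IntermediateField (ResidueField A) (ResidueField DT),
      Ks = separableClosure (ResidueField A) (ResidueField DT) := ⟨_, rfl⟩
  rw [← hKs] at hβ
  haveI : Algebra.IsSeparable (ResidueField A) Ks := by
    rw [hKs]; infer_instance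
  haveI : Module.Finite (ResidueField A) Ks := inferInstance
  haveI : Algebra.FormallyEtale (ResidueField A) Ks :=
    Algebra.FormallyEtale.of_isSeparable (ResidueField A) Ks
  haveI : Algebra.FinitePresentation (ResidueField A) Ks :=
    Algebra.FinitePresentation.of_finiteType.mp inferInstance
  haveI : Algebra.Etale (ResidueField A) Ks := {}
  obtain ⟨E, _, _, hEfin, hEet, ⟨eE⟩⟩ :=
    Groth.Agent.H3.exists_finite_etale_lift_of_isLocalRing A Ks
  haveI := hEfin
  haveI := hEet
  -- `E` is local
  let θ : (E ⧸ (maximalIdeal A).map (algebraMap A E)) ≃+* Ks :=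
    (Algebra.TensorProduct.quotIdealMapEquivQuotTensor E (maximalIdeal A)).toRingEquiv.trans
      eE.toRingEquiv
  have hEfield : IsField (E ⧸ (maximalIdeal A).map (algebraMap A E)) :=
    MulEquiv.isField (Field.toIsField Ks) θ.toMulEquiv
  haveI hmaxE : ((maximalIdeal A).map (algebraMap A E)).IsMaximal :=
    Ideal.Quotient.maximal_of_isField _ hEfield
  haveI : Algebra.IsIntegral A E := Algebra.IsIntegral.of_finite A E
  haveI hEloc : IsLocalRing E := Groth.Agent.S16444.isLocalRing_of_isMaximal_map hmaxE
  haveI : IsLocalHom (algebraMap A E) := Groth.Agent.H3.isLocalHom_of_isIntegral A E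
  have hmE : (maximalIdeal A).map (algebraMap A E) = maximalIdeal E :=
    IsLocalRing.eq_maximalIdeal hmaxE
  -- every element of `k ⊗ E` is a pure tensor `1 ⊗ e`
  have hpure : ∀ w : (ResidueField A) ⊗[A] E, ∃ e : E, w = (1 : ResidueField A) ⊗ₜ[A] e := by
    intro w
    induction w using TensorProduct.induction_on with
    | zero => exact ⟨0, (TensorProduct.tmul_zero _ _).symm⟩
    | tmul x e =>
      obtain ⟨a, rfl⟩ := residue_surjective x
      refine ⟨a • e, ?_⟩
      rw [← TensorProduct.smul_tmul, ← Algebra.algebraMap_eq_smul_one]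
      rfl
    | add x y hx hy =>
      obtain ⟨e1, rfl⟩ := hx
      obtain ⟨e2, rfl⟩ := hy
      exact ⟨e1 + e2, (TensorProduct.tmul_add _ _ _).symm⟩
  -- the residual point
  let χ₀ : E →ₐ[A] ResidueField DT :=
    { toRingHom := (algebraMap Ks (ResidueField DT)).comp
        (eE.toAlgHom.toRingHom.comp
          (Algebra.TensorProduct.includeRight : E →ₐ[A] (ResidueField A) ⊗[A] E).toRingHom)
      commutes' := by
        intro a
        show algebraMap Ks (ResidueField DT) (eE ((1 : ResidueField A) ⊗ₜ[A] (algebraMap A E a))) =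
          algebraMap A (ResidueField DT) a
        have h1 : (1 : ResidueField A) ⊗ₜ[A] (algebraMap A E a) =
            algebraMap (ResidueField A) ((ResidueField A) ⊗[A] E)
              (algebraMap A (ResidueField A) a) := by
          rw [Algebra.TensorProduct.algebraMap_apply, Algebra.algebraMap_eq_smul_one,
            ← TensorProduct.smul_tmul, ← Algebra.algebraMap_eq_smul_one]
          rfl
        rw [h1, eE.commutes, ← IsScalarTower.algebraMap_apply (ResidueField A) Ks (ResidueField DT),
          ← IsScalarTower.algebraMap_apply A (ResidueField A) (ResidueField DT)] }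
  have hχ₀ : ∀ e : E, χ₀ e = ((eE ((1 : ResidueField A) ⊗ₜ[A] e) : Ks) : ResidueField DT) :=
    fun e => rfl
  obtain ⟨f, hf⟩ := Groth.Agent.H3.exists_algHom_of_etale_of_residue A DT E χ₀
  -- Step 5': the lift `g : E → S`
  have hsc : IsSepClosure (ResidueField A) (ResidueField S) :=
    (inferInstance : Hensel.IsStrictHenselization A S).isSepClosure
  haveI : IsSepClosed (ResidueField S) := hsc.sep_closed
  haveI hShens : HenselianLocalRing S :=
    (inferInstance : Hensel.IsStrictHenselization A S).henselian
  let fT : E →ₐ[A] T := (DT.val.restrictScalars A).comp f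
  have hfT : ∀ e : E, fT e = ((f e : DT) : T) := fun e => rfl
  let χT₀ : E →ₐ[A] ResidueField T := (IsScalarTower.toAlgHom A T (ResidueField T)).comp fT
  have hχT₀ : ∀ e : E, χT₀ e = residue T (fT e) := fun e => rfl
  let χT : S ⊗[A] E →ₐ[S] ResidueField T :=
    Algebra.TensorProduct.lift (Algebra.ofId S (ResidueField T)) χT₀ (fun _ _ => Commute.all _ _)
  obtain ⟨χS, hχS⟩ := Groth.Agent.H3.exists_algHom_residueField_of_isSepClosed S (S ⊗[A] E)
    (ResidueField T) χT
  obtain ⟨G, hG⟩ := Groth.Agent.H3.exists_algHom_of_etale_of_residue S S (S ⊗[A] E) χS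
  let g : E →ₐ[A] S := (G.restrictScalars A).comp Algebra.TensorProduct.includeRight
  have hg : ∀ e : E, g e = G ((1 : S) ⊗ₜ[A] e) := fun e => rfl
  have hres_g : ∀ e : E, residue T (algebraMap S T (g e)) = residue T (fT e) := by
    intro e
    rw [← ResidueField.algebraMap_residue, hg, hG, hχS]
    simp only [χT, Algebra.TensorProduct.lift_tmul, map_one, one_mul]
    rfl
  -- Step 6: compatibility
  have hcomp : (IsScalarTower.toAlgHom A S T).comp g = fT :=
    Groth.Agent.H3.algHom_ext_of_etale_of_residue A T E _ _ hres_g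
  have hσg : ∀ e : E, algebraMap S T (g e) = ((f e : DT) : T) := fun e =>
    AlgHom.congr_fun hcomp e
  -- Step 7: `g` lands in `D`
  have hgD : ∀ e : E, g e ∈ D := by
    intro e
    refine (hmemD _).mpr (hback _ ?_)
    rw [hσg]
    exact (hmemDT _).mp (f e).2
  -- Step 8: `DT` is spanned over `A₁` by the image of `f`
  have hrange : Set.range χ₀ = (Ks : Set (ResidueField DT)) := by
    ext z
    constructor
    · rintro ⟨e, rfl⟩
      rw [hχ₀]
      exact (eE ((1 : ResidueField A) ⊗ₜ[A] e)).2
    · intro hz
      obtain ⟨e, he⟩ := hpure (eE.symm ⟨z, hz⟩)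
      refine ⟨e, ?_⟩
      rw [hχ₀, ← he, AlgEquiv.apply_symm_apply]
  have hadj : Algebra.adjoin (ResidueField A₁) (Ks : Set (ResidueField DT)) = ⊤ := by
    have h1 := IntermediateField.adjoin_toSubalgebra (F := ResidueField A₁)
      (Ks : Set (ResidueField DT))
    rw [hβ] at h1
    rw [← h1]
    exact IntermediateField.top_toSubalgebra
  have hspanK : Submodule.span (ResidueField A₁) (Ks : Set (ResidueField DT)) = ⊤ := by
    have h3 := Algebra.adjoin_eq_span (ResidueField A₁) (Ks : Set (ResidueField DT))
    have h4 : ((Submonoid.closure (Ks : Set (ResidueField DT)) : Submonoid (ResidueField DT)) :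
        Set (ResidueField DT)) = (Ks : Set (ResidueField DT)) :=
      congrArg (fun M : Submonoid (ResidueField DT) => (M : Set (ResidueField DT)))
        (Submonoid.closure_eq Ks.toSubalgebra.toSubsemiring.toSubmonoid)
    rw [h4, hadj] at h3
    rw [← h3]
    exact Algebra.top_toSubmodule
  have hlift : ∀ z ∈ Submodule.span (ResidueField A₁) (Set.range χ₀),
      ∃ y' ∈ Submodule.span A₁ (Set.range f), residue DT y' = z := by
    intro z hz
    induction hz using Submodule.span_induction with
    | mem z hz =>
      obtain ⟨e, rfl⟩ := hz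
      exact ⟨f e, Submodule.subset_span ⟨e, rfl⟩, hf e⟩
    | zero => exact ⟨0, Submodule.zero_mem _, map_zero _⟩
    | add z₁ z₂ _ _ h₁ h₂ =>
      obtain ⟨y₁, hy₁, rfl⟩ := h₁
      obtain ⟨y₂, hy₂, rfl⟩ := h₂
      exact ⟨y₁ + y₂, Submodule.add_mem _ hy₁ hy₂, map_add _ _ _⟩
    | smul r z _ h =>
      obtain ⟨y, hy, rfl⟩ := h
      obtain ⟨a₁, rfl⟩ := residue_surjective r
      refine ⟨a₁ • y, Submodule.smul_mem _ _ hy, ?_⟩
      rw [Algebra.smul_def, map_mul, Algebra.smul_def, ResidueField.algebraMap_residue]
  have hN : (⊤ : Submodule A₁ DT) ≤ Submodule.span A₁ (Set.range f) := by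
    apply Submodule.le_of_le_smul_of_le_jacobson_bot (I := maximalIdeal A₁) Module.Finite.fg_top
    · rw [IsLocalRing.jacobson_eq_maximalIdeal ⊥ bot_ne_top]
    · intro y _
      obtain ⟨y', hy'N, hy'⟩ := hlift (residue DT y) (by
        rw [hrange, hspanK]; exact Submodule.mem_top)
      have hdiff : y - y' ∈ maximalIdeal DT := by
        rw [← Ideal.Quotient.eq]
        exact hy'.symm
      have hdiff' : y - y' ∈ (maximalIdeal A₁) • (⊤ : Submodule A₁ DT) := by
        rw [Ideal.smul_top_eq_map, hmDT]
        exact hdiff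
      have hy : y = y' + (y - y') := by ring
      rw [hy]
      exact Submodule.add_mem_sup hy'N hdiff'
  -- Step 9: `D` is contained in the image of `g`
  have hcf : ∀ y ∈ Submodule.span A₁ (Set.range f), ∀ a₁ : A₁, ∃ e : E, c • (a₁ • y) = f e := by
    intro y hy
    induction hy using Submodule.span_induction with
    | mem y hy =>
      obtain ⟨e', rfl⟩ := hy
      intro a₁
      obtain ⟨a, ha⟩ := hc a₁
      refine ⟨a • e', ?_⟩
      rw [← smul_assoc, ha, map_smul, algebraMap_smul]
    | zero =>
      intro a₁
      exact ⟨0, by rw [smul_zero, smul_zero, map_zero]⟩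
    | add y₁ y₂ _ _ h₁ h₂ =>
      intro a₁
      obtain ⟨e₁, he₁⟩ := h₁ a₁
      obtain ⟨e₂, he₂⟩ := h₂ a₁
      exact ⟨e₁ + e₂, by rw [smul_add, smul_add, he₁, he₂, map_add]⟩
    | smul b₁ y _ h =>
      intro a₁
      obtain ⟨e, he⟩ := h (a₁ * b₁)
      exact ⟨e, by rw [← he, mul_smul]⟩
  haveI hintS : Algebra.IsIntegral A S := isIntegral_of_henselian A S
  letI algES : Algebra E S := g.toRingHom.toAlgebra
  haveI : IsScalarTower A E S := IsScalarTower.of_algebraMap_eq (fun a => (g.commutes a).symm)
  have halgES : ∀ e : E, algebraMap E S e = g e := fun e => rfl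
  haveI : Algebra.IsIntegral E S := Algebra.IsIntegral.tower_top (R := A)
  haveI : IsLocalHom (algebraMap E S) := Groth.Agent.H3.isLocalHom_of_isIntegral E S
  haveI : Module.Flat E S := Algebra.FormallyUnramified.flat_of_restrictScalars A E S
  haveI : Module.FaithfullyFlat E S := Module.FaithfullyFlat.of_flat_of_isLocalHom
  have hcS : algebraMap A S c ≠ 0 := by
    intro h
    exact hc0 (hAS (by rw [h, map_zero]))
  have hDg : ∀ x : S, x ∈ D → ∃ e : E, g e = x := by
    intro x hx
    have hxT : algebraMap S T x ∈ DT := by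
      refine (hmemDT _).mpr ?_
      rw [← hι]
      exact hFFT _ ((hmemD x).mp hx)
    obtain ⟨e', he'⟩ := hcf ⟨algebraMap S T x, hxT⟩ (hN Submodule.mem_top) 1
    rw [one_smul] at he'
    have h1 : algebraMap S T (c • x) = algebraMap S T (g e') := by
      rw [hσg, ← he', Algebra.smul_def, map_mul, ← IsScalarTower.algebraMap_apply A S T]
      rw [Algebra.smul_def]
      simp only [MulMemClass.coe_mul]
      rw [IsScalarTower.algebraMap_apply A DT T]
      rfl
    have h2 : c • x = g e' := hST h1
    have h3 : e' ∈ Ideal.span {algebraMap A E c} := by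
      rw [← Ideal.comap_map_eq_self_of_faithfullyFlat (B := S) (Ideal.span {algebraMap A E c}),
        Ideal.mem_comap, Ideal.map_span, Set.image_singleton,
        ← IsScalarTower.algebraMap_apply A E S, halgES e', ← h2, Algebra.smul_def]
      exact Ideal.mem_span_singleton'.mpr ⟨x, mul_comm _ _⟩
    obtain ⟨e, he⟩ := Ideal.mem_span_singleton'.mp h3
    refine ⟨e, ?_⟩
    have h4 : algebraMap A S c * g e = algebraMap A S c * x := by
      rw [← Algebra.smul_def, ← Algebra.smul_def, h2, ← he, map_mul, AlgHom.commutes,
        Algebra.smul_def, mul_comm]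
    exact mul_left_cancel₀ hcS h4
  -- Step 10: conclusion
  let gD : E →ₐ[A] D := g.codRestrict D hgD
  have hgDsurj : Function.Surjective gD := by
    intro y
    obtain ⟨e, he⟩ := hDg y y.2
    exact ⟨e, Subtype.ext he⟩
  haveI : Module.Finite A D := Module.Finite.of_surjective gD.toLinearMap hgDsurj
  haveI : Algebra.EssFiniteType A D := inferInstance
  haveI hAD : IsLocalHom (algebraMap A D) := by
    haveI : IsLocalHom ((algebraMap D S).comp (algebraMap A D)) := by
      rw [← IsScalarTower.algebraMap_eq A D S]; infer_instance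
    exact isLocalHom_of_comp (algebraMap A D) (algebraMap D S)
  have hm : Ideal.map (algebraMap A D) (maximalIdeal A) = maximalIdeal D := by
    apply le_antisymm
    · exact ((IsLocalRing.local_hom_TFAE (algebraMap A D)).out 0 2).mp hAD
    · intro y hy
      obtain ⟨e, rfl⟩ := hgDsurj y
      have he : e ∈ maximalIdeal E := by
        rw [IsLocalRing.mem_maximalIdeal, mem_nonunits_iff]
        intro hu
        exact (IsLocalRing.mem_maximalIdeal _).mp hy (hu.map gD)
      rw [← hmE] at he
      have h1 := Ideal.mem_map_of_mem gD.toRingHom he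
      rw [Ideal.map_map] at h1
      have h2 : gD.toRingHom.comp (algebraMap A E) = algebraMap A D := gD.comp_algebraMap
      rw [h2] at h1
      exact h1
  exact Groth.Agent.S16438.result A S D hm

set_option maxRecDepth 2000 in
theorem inter_subfield_henselian
    (A S : Type u) [CommRing A] [HenselianLocalRing A] [IsDomain A] (hA : EGA4.IsExcellent A)
    [CommRing S] [IsLocalRing S] [Algebra A S] [IsLocalHom (algebraMap A S)]
    [Hensel.IsStrictHenselization A S] [IsDomain S] (t : Finset (FractionRing S)) :
    ∃ D : Subalgebra A S, (D : Set S) = (algebraMap S (FractionRing S)) ⁻¹'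
        (Subfield.closure (Set.range (algebraMap A (FractionRing S)) ∪
          (t : Set (FractionRing S))) : Set (FractionRing S)) ∧
      ∃ _ : IsLocalRing D, IsLocalHom (algebraMap D S) ∧ EGA4loc.IsEssentiallyEtale A D := by
  classical
  haveI : IsNoetherianRing A := hA.1
  have hI := Groth.Agent.H47.HensNoeth.isIndEtaleLocal_of_isStrictHenselization A S
  haveI : Module.Flat A S := hI.flat
  haveI : Module.FaithfullyFlat A S := Module.FaithfullyFlat.of_flat_of_isLocalHom
  have hAS : Function.Injective (algebraMap A S) := FaithfulSMul.algebraMap_injective A S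
  have hSΩ : Function.Injective (algebraMap S (FractionRing S)) :=
    IsFractionRing.injective S (FractionRing S)
  obtain ⟨F, hF⟩ : ∃ F : Subfield (FractionRing S), F = Subfield.closure
    (Set.range (algebraMap A (FractionRing S)) ∪ (t : Set (FractionRing S))) := ⟨_, rfl⟩
  rw [← hF]
  have hAF : ∀ a : A, algebraMap A (FractionRing S) a ∈ F := fun a => by
    rw [hF]; exact Subfield.subset_closure (Or.inl ⟨a, rfl⟩)
  -- Step 0: the subalgebra `D`
  let D : Subalgebra A S :=
    { carrier := (algebraMap S (FractionRing S)) ⁻¹' (F : Set (FractionRing S))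
      mul_mem' := by
        intro x y hx hy
        show algebraMap S (FractionRing S) (x * y) ∈ F
        rw [map_mul]; exact F.mul_mem hx hy
      add_mem' := by
        intro x y hx hy
        show algebraMap S (FractionRing S) (x + y) ∈ F
        rw [map_add]; exact F.add_mem hx hy
      algebraMap_mem' := by
        intro a
        show algebraMap S (FractionRing S) (algebraMap A S a) ∈ F
        rw [← IsScalarTower.algebraMap_apply A S (FractionRing S)]
        exact hAF a }
  have hmemD : ∀ x : S, x ∈ D ↔ algebraMap S (FractionRing S) x ∈ F := fun _ => Iff.rfl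
  refine ⟨D, rfl, ?_⟩
  have hunit : ∀ y : D, IsUnit ((y : S)) → IsUnit y := by
    intro y hy
    obtain ⟨y', hy'⟩ := hy.exists_right_inv
    have hy'F : algebraMap S (FractionRing S) y' ∈ F := by
      have h2 : algebraMap S (FractionRing S) (y : S) * algebraMap S (FractionRing S) y' = 1 := by
        rw [← map_mul, hy', map_one]
      rw [eq_inv_of_mul_eq_one_right h2]
      exact F.inv_mem ((hmemD _).mp y.2)
    refine IsUnit.of_mul_eq_one (⟨y', (hmemD _).mpr hy'F⟩ : D) ?_
    exact Subtype.ext hy'
  haveI hlocD : IsLocalRing D := by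
    apply IsLocalRing.of_isUnit_or_isUnit_one_sub_self
    intro a
    rcases IsLocalRing.isUnit_or_isUnit_one_sub_self ((a : D) : S) with h | h
    · exact Or.inl (hunit a h)
    · exact Or.inr (hunit (1 - a) h)
  haveI hlochomD : IsLocalHom (algebraMap D S) := ⟨fun y hy => hunit y hy⟩
  refine ⟨hlocD, hlochomD, ?_⟩
  -- Step 1: the normalization `A₁`
  have hNag : CAlg.IsNagata A :=
    Groth.Agent.H11.QENagata.isNagata_of_isQuasiExcellent A ⟨hA.1, hA.2.2.1, hA.2.2.2⟩
  have hN2 : CAlg.IsN2 A := Groth.Agent.H11.NagataFT.isN2_of_isNagata_domain A hNag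
  haveI hfinA₁ : Module.Finite A (integralClosure A (FractionRing A)) :=
    hN2 (FractionRing A) inferInstance
  obtain ⟨hA₁loc, hA₁hom, hpi⟩ := Groth.Agent.H47.UnibranchStrict.strict_facts_of_isDomain A S
  haveI := hA₁loc
  haveI := hA₁hom
  haveI := hpi
  haveI : IsIntegrallyClosed (integralClosure A (FractionRing A)) :=
    integralClosure.isIntegrallyClosedOfFiniteExtension (FractionRing A)
  haveI : IsNoetherianRing (integralClosure A (FractionRing A)) :=
    Algebra.FiniteType.isNoetherianRing A _
  have hNag₁ : CAlg.IsNagata (integralClosure A (FractionRing A)) :=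
    Groth.Agent.H11.NagataFT.isNagata_of_finiteType A hNag _
  have hN2₁ : CAlg.IsN2 (integralClosure A (FractionRing A)) :=
    Groth.Agent.H11.NagataFT.isN2_of_isNagata_domain _ hNag₁
  haveI : HenselianLocalRing (integralClosure A (FractionRing A)) :=
    Groth.Agent.H3.henselianLocalRing_of_isIntegral_of_isLocalRing A _
  -- Step 2: the conductor
  have hinj : Function.Injective (algebraMap A (integralClosure A (FractionRing A))) := by
    intro a b hab
    apply IsFractionRing.injective A (FractionRing A)
    have := congrArg (fun z : integralClosure A (FractionRing A) => (z : FractionRing A)) hab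
    exact this
  obtain ⟨s₁, hs₁⟩ := (Module.Finite.fg_top :
    (⊤ : Submodule A (integralClosure A (FractionRing A))).FG)
  obtain ⟨⟨c, hcM⟩, hcs⟩ := IsLocalization.exist_integer_multiples_of_finset (nonZeroDivisors A)
    (s₁.image (fun z : integralClosure A (FractionRing A) => (z : FractionRing A)))
  have hc0 : c ≠ 0 := nonZeroDivisors.ne_zero hcM
  have hc : ∀ a₁ : integralClosure A (FractionRing A), ∃ a : A,
      c • a₁ = algebraMap A (integralClosure A (FractionRing A)) a := by
    intro a₁
    have hmem : a₁ ∈ Submodule.span A (s₁ : Set (integralClosure A (FractionRing A))) := by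
      rw [hs₁]; exact Submodule.mem_top
    induction hmem using Submodule.span_induction with
    | mem y hy =>
      obtain ⟨r, hr⟩ := hcs (y : FractionRing A)
        (Finset.mem_image_of_mem _ (Finset.mem_coe.mp hy))
      refine ⟨r, Subtype.ext ?_⟩
      exact hr.symm
    | zero => exact ⟨0, by rw [smul_zero, map_zero]⟩
    | add y₁ y₂ _ _ h₁ h₂ =>
      obtain ⟨r₁, hr₁⟩ := h₁
      obtain ⟨r₂, hr₂⟩ := h₂
      exact ⟨r₁ + r₂, by rw [smul_add, hr₁, hr₂, map_add]⟩
    | smul r y _ h =>
      obtain ⟨r', hr'⟩ := h
      exact ⟨r * r', by rw [smul_comm, hr', map_mul, Algebra.smul_def]⟩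
  exact descent_aux A S (integralClosure A (FractionRing A)) hN2₁ hinj c hc0 hc t D
    (fun x => by rw [← hF]; exact hmemD x)

end Groth.Agent.H15.StrictSub
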