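import Mathlib
import Groth.Agent.H15.StrictSub5
import Groth.Agent.H47.StrictQuot
import Groth.Agent.H47.Unibranch
import Groth.Agent.H47.EtaleNormal
import Groth.Agent.S13598

/-!
# Subfield ∩ (strict henselization mod a minimal prime) over an excellent henselian reduced
local ring (S16440)
-/

set_option autoImplicit false
set_option linter.style.haveILetI false
set_option linter.unusedSectionVars false
set_option maxHeartbeats 6400000
universe u
open TensorProduct IsLocalRing

namespace Groth.Agent.H15.StrictSub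

/-- A strict henselization of `A` is also a strict henselization of any local étale `A`-algebra
mapping locally to it. -/
theorem isStrictHenselization_of_etale_local (A S E : Type u) [CommRing A] [IsLocalRing A]
    [CommRing S] [IsLocalRing S] [Algebra A S] [IsLocalHom (algebraMap A S)]
    [Hensel.IsStrictHenselization A S]
    [CommRing E] [IsLocalRing E] [Algebra A E] [Algebra.Etale A E] [IsLocalHom (algebraMap A E)]
    [Algebra E S] [IsScalarTower A E S] [IsLocalHom (algebraMap E S)] :
    Hensel.IsStrictHenselization E S := by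
  have hsc : IsSepClosure (ResidueField A) (ResidueField S) :=
    (inferInstance : Hensel.IsStrictHenselization A S).isSepClosure
  haveI : Algebra.IsSeparable (ResidueField A) (ResidueField S) := hsc.separable
  refine ⟨(inferInstance : Hensel.IsStrictHenselization A S).henselian, ⟨hsc.sep_closed, ?_⟩, ?_⟩
  · exact Algebra.isSeparable_tower_top_of_isSeparable (ResidueField A) (ResidueField E)
      (ResidueField S)
  · intro T' _ _ f _ τ hτ
    haveI hf₀ : IsLocalHom (f.comp (algebraMap A E)) := RingHom.isLocalHom_comp _ _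
    have hτ₀ : τ.comp (ResidueField.map (algebraMap A S)) =
        ResidueField.map (f.comp (algebraMap A E)) := by
      refine RingHom.ext fun x => ?_
      obtain ⟨a, rfl⟩ := residue_surjective x
      have h1 := RingHom.congr_fun hτ (residue E (algebraMap A E a))
      rw [RingHom.comp_apply, ResidueField.map_residue, ResidueField.map_residue] at h1
      rw [RingHom.comp_apply, ResidueField.map_residue, ResidueField.map_residue,
        IsScalarTower.algebraMap_apply A E S]
      exact h1
    obtain ⟨g, ⟨hg1, hg2⟩, huniq⟩ := Hensel.IsStrictHenselization.universal (R := A) (S := S) T'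
      (f.comp (algebraMap A E)) τ hτ₀
    letI algAT' : Algebra A T' := (f.comp (algebraMap A E)).toAlgebra
    let G₁ : E →ₐ[A] T' :=
      { g.comp (algebraMap E S) with
        commutes' := fun a => by
          show g (algebraMap E S (algebraMap A E a)) = f (algebraMap A E a)
          rw [← IsScalarTower.algebraMap_apply A E S]
          exact RingHom.congr_fun hg1 a }
    let G₂ : E →ₐ[A] T' := { f with commutes' := fun a => rfl }
    have hG : G₁ = G₂ := by
      apply Groth.Agent.H3.algHom_ext_of_etale_of_residue A T' E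
      intro e
      show residue T' (g (algebraMap E S e)) = residue T' (f e)
      rw [hg2]
      have h1 := RingHom.congr_fun hτ (residue E e)
      rw [RingHom.comp_apply, ResidueField.map_residue, ResidueField.map_residue] at h1
      exact h1
    refine ⟨g, ⟨?_, hg2⟩, ?_⟩
    · refine RingHom.ext fun e => ?_
      exact AlgHom.congr_fun hG e
    · intro g' hg'
      apply huniq
      refine ⟨?_, hg'.2⟩
      refine RingHom.ext fun a => ?_
      rw [RingHom.comp_apply, IsScalarTower.algebraMap_apply A E S, RingHom.comp_apply]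
      exact RingHom.congr_fun hg'.1 (algebraMap A E a)

set_option maxRecDepth 2000 in
/-- A strict henselization `T` of a finite local normal `A`-algebra `A₁`, together with a map from
the strict henselization `S` of `A` whose kernel is a prescribed minimal prime `Q`, provided
`S/Q` and `A₁` embed compatibly in a field. -/
theorem exists_sigma_ker
    (A S : Type u) [CommRing A] [IsLocalRing A]
    [CommRing S] [IsLocalRing S] [Algebra A S] [IsLocalHom (algebraMap A S)]
    [Hensel.IsStrictHenselization A S]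
    (Q : Ideal S) [Q.IsPrime] (hQ : Q ∈ minimalPrimes S)
    (A₁ : Type u) [CommRing A₁] [IsDomain A₁] [IsIntegrallyClosed A₁] [IsLocalRing A₁]
    [Algebra A A₁] [Module.Finite A A₁] [IsLocalHom (algebraMap A A₁)]
    (K : Type u) [Field K] [Algebra A K] [Algebra A₁ K] [IsScalarTower A A₁ K]
    (jS : S →ₐ[A] K) (hjS : ∀ s : S, jS s = 0 ↔ s ∈ Q) :
    ∃ (T : Type u) (_ : CommRing T) (_ : IsLocalRing T) (_ : Algebra A₁ T)
      (_ : IsLocalHom (algebraMap A₁ T)) (_ : Hensel.IsStrictHenselization A₁ T) (σ : S →+* T),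
      σ.comp (algebraMap A S) = (algebraMap A₁ T).comp (algebraMap A A₁) ∧
        RingHom.ker σ = Q := by
  classical
  have hsc : IsSepClosure (ResidueField A) (ResidueField S) :=
    (inferInstance : Hensel.IsStrictHenselization A S).isSepClosure
  haveI : Algebra.IsSeparable (ResidueField A) (ResidueField S) := hsc.separable
  -- the prime `QW` of `W = S ⊗ A₁`
  let ψ : S ⊗[A] A₁ →ₐ[A] K :=
    Algebra.TensorProduct.lift jS (IsScalarTower.toAlgHom A A₁ K) (fun _ _ => Commute.all _ _)
  have hψl : ∀ s : S, ψ (s ⊗ₜ[A] (1 : A₁)) = jS s := by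
    intro s
    simp only [ψ, Algebra.TensorProduct.lift_tmul, map_one, mul_one]
  obtain ⟨QW, hQW⟩ : ∃ QW : Ideal (S ⊗[A] A₁), QW = RingHom.ker ψ.toRingHom := ⟨_, rfl⟩
  haveI hQWp : QW.IsPrime := hQW ▸ RingHom.ker_isPrime _
  have hQWS : ∀ s : S, s ⊗ₜ[A] (1 : A₁) ∈ QW ↔ s ∈ Q := by
    intro s
    rw [hQW, RingHom.mem_ker]
    show ψ (s ⊗ₜ[A] (1 : A₁)) = 0 ↔ _
    rw [hψl, hjS]
  obtain ⟨n, hnmax, hQWn⟩ := Ideal.exists_le_maximal QW hQWp.ne_top
  haveI := hnmax
  have halgSW : ∀ s : S, algebraMap S (S ⊗[A] A₁) s = s ⊗ₜ[A] (1 : A₁) := fun s => by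
    rw [Algebra.TensorProduct.algebraMap_apply]; rfl
  haveI : Module.Finite S (S ⊗[A] A₁) := inferInstance
  haveI : Algebra.IsIntegral S (S ⊗[A] A₁) := Algebra.IsIntegral.of_finite _ _
  have hnS : n.comap (algebraMap S (S ⊗[A] A₁)) = maximalIdeal S :=
    IsLocalRing.eq_maximalIdeal (Ideal.isMaximal_comap_of_isIntegral_of_isMaximal n)
  have hnA : (n.comap (algebraMap S (S ⊗[A] A₁))).comap (algebraMap A S) = maximalIdeal A := by
    rw [hnS]
    exact ((local_hom_TFAE (algebraMap A S)).out 0 4).mp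
      (inferInstance : IsLocalHom (algebraMap A S))
  let inR : A₁ →ₐ[A] S ⊗[A] A₁ := Algebra.TensorProduct.includeRight
  have hinR : ∀ a : A₁, inR a = (1 : S) ⊗ₜ[A] a := fun a => rfl
  have htm : ∀ a : A, (algebraMap A S a) ⊗ₜ[A] (1 : A₁) = (1 : S) ⊗ₜ[A] (algebraMap A A₁ a) := by
    intro a
    rw [Algebra.algebraMap_eq_smul_one, Algebra.algebraMap_eq_smul_one, TensorProduct.smul_tmul]
  have hn₁ : n.comap inR.toRingHom = maximalIdeal A₁ := by
    haveI : (n.comap inR.toRingHom).IsPrime := Ideal.comap_isPrime _ _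
    haveI : Algebra.IsIntegral A A₁ := Algebra.IsIntegral.of_finite A A₁
    have h1 : (n.comap inR.toRingHom).comap (algebraMap A A₁) = maximalIdeal A := by
      rw [← hnA]
      ext a
      simp only [Ideal.mem_comap]
      show inR (algebraMap A A₁ a) ∈ n ↔ _
      rw [hinR, halgSW, htm]
    have h2 : (n.comap inR.toRingHom).IsMaximal :=
      Ideal.isMaximal_of_isIntegral_of_isMaximal_comap (R := A) _
        (by rw [h1]; exact maximalIdeal.isMaximal A)
    exact IsLocalRing.eq_maximalIdeal h2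
  letI : Field ((S ⊗[A] A₁) ⧸ n) := Ideal.Quotient.field n
  let ρS : ResidueField S →+* (S ⊗[A] A₁) ⧸ n :=
    Ideal.Quotient.lift (maximalIdeal S)
      ((Ideal.Quotient.mk n).comp (algebraMap S (S ⊗[A] A₁))) (fun s hs => by
        rw [RingHom.comp_apply, Ideal.Quotient.eq_zero_iff_mem, ← Ideal.mem_comap, hnS]
        exact hs)
  let ρ₁ : ResidueField A₁ →+* (S ⊗[A] A₁) ⧸ n :=
    Ideal.Quotient.lift (maximalIdeal A₁)
      ((Ideal.Quotient.mk n).comp inR.toRingHom) (fun a ha => by
        rw [RingHom.comp_apply, Ideal.Quotient.eq_zero_iff_mem, ← Ideal.mem_comap, hn₁]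
        exact ha)
  have hρS : ∀ s : S, ρS (residue S s) = Ideal.Quotient.mk n (s ⊗ₜ[A] (1 : A₁)) := fun s => by
    rw [← halgSW]; rfl
  have hρ₁ : ∀ a : A₁, ρ₁ (residue A₁ a) = Ideal.Quotient.mk n ((1 : S) ⊗ₜ[A] a) := fun a => rfl
  letI algk₁ : Algebra (ResidueField A₁) ((S ⊗[A] A₁) ⧸ n) := ρ₁.toAlgebra
  letI algkS : Algebra (ResidueField S) ((S ⊗[A] A₁) ⧸ n) := ρS.toAlgebra
  letI algk : Algebra (ResidueField A) ((S ⊗[A] A₁) ⧸ n) :=
    (ρS.comp (algebraMap (ResidueField A) (ResidueField S))).toAlgebra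
  haveI : IsScalarTower (ResidueField A) (ResidueField S) ((S ⊗[A] A₁) ⧸ n) :=
    IsScalarTower.of_algebraMap_eq (fun _ => rfl)
  have hcompat : ∀ a : A, ρS (residue S (algebraMap A S a)) =
      ρ₁ (residue A₁ (algebraMap A A₁ a)) := by
    intro a
    rw [hρS, hρ₁, htm]
  haveI : IsScalarTower (ResidueField A) (ResidueField A₁) ((S ⊗[A] A₁) ⧸ n) :=
    IsScalarTower.of_algebraMap_eq (fun x => by
      obtain ⟨a, rfl⟩ := residue_surjective x
      show ρS (algebraMap (ResidueField A) (ResidueField S) (residue A a)) =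
        ρ₁ (algebraMap (ResidueField A) (ResidueField A₁) (residue A a))
      rw [ResidueField.algebraMap_residue, ResidueField.algebraMap_residue, hcompat])
  -- separability of `W/n` over `k₁`
  have hsep : ∀ z : (S ⊗[A] A₁) ⧸ n, IsSeparable (ResidueField A₁) z := by
    intro z
    obtain ⟨w, rfl⟩ := Ideal.Quotient.mk_surjective z
    induction w using TensorProduct.induction_on with
    | zero =>
      rw [map_zero, ← map_zero (algebraMap (ResidueField A₁) ((S ⊗[A] A₁) ⧸ n))]
      exact isSeparable_algebraMap _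
    | tmul s a =>
      have h1 : Ideal.Quotient.mk n (s ⊗ₜ[A] a) =
          algebraMap (ResidueField S) ((S ⊗[A] A₁) ⧸ n) (residue S s) *
            algebraMap (ResidueField A₁) ((S ⊗[A] A₁) ⧸ n) (residue A₁ a) := by
        show _ = ρS (residue S s) * ρ₁ (residue A₁ a)
        rw [hρS, hρ₁, ← map_mul, Algebra.TensorProduct.tmul_mul_tmul, mul_one, one_mul]
      rw [h1]
      apply Field.isSeparable_mul
      · have h2 : IsSeparable (ResidueField A) (residue S s) :=
          Algebra.IsSeparable.isSeparable _ _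
        have h3 : IsSeparable (ResidueField A)
            (algebraMap (ResidueField S) ((S ⊗[A] A₁) ⧸ n) (residue S s)) :=
          h2.map (IsScalarTower.toAlgHom (ResidueField A) (ResidueField S) ((S ⊗[A] A₁) ⧸ n))
            (RingHom.injective _)
        exact IsSeparable.tower_top _ h3
      · exact isSeparable_algebraMap _
    | add x y hx hy =>
      rw [map_add]
      exact Field.isSeparable_add hx hy
  haveI : Algebra.IsSeparable (ResidueField A₁) ((S ⊗[A] A₁) ⧸ n) := ⟨hsep⟩
  -- the abstract strict henselization of `A₁`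
  obtain ⟨T, _, _, _, _, hT⟩ := Groth.Agent.S0537.result A₁
  haveI := hT
  have hscT : IsSepClosure (ResidueField A₁) (ResidueField T) :=
    (inferInstance : Hensel.IsStrictHenselization A₁ T).isSepClosure
  haveI : IsSepClosed (ResidueField T) := hscT.sep_closed
  haveI hThens : HenselianLocalRing T :=
    (inferInstance : Hensel.IsStrictHenselization A₁ T).henselian
  let θ : ((S ⊗[A] A₁) ⧸ n) →ₐ[ResidueField A₁] ResidueField T := IsSepClosed.lift
  letI algAT : Algebra A T := ((algebraMap A₁ T).comp (algebraMap A A₁)).toAlgebra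
  haveI : IsScalarTower A A₁ T := IsScalarTower.of_algebraMap_eq (fun _ => rfl)
  haveI : IsLocalHom (algebraMap A T) := by
    show IsLocalHom ((algebraMap A₁ T).comp (algebraMap A A₁))
    infer_instance
  have hτ : (θ.toRingHom.comp ρS).comp (ResidueField.map (algebraMap A S)) =
      ResidueField.map (algebraMap A T) := by
    refine RingHom.ext fun x => ?_
    obtain ⟨a, rfl⟩ := residue_surjective x
    rw [RingHom.comp_apply, ResidueField.map_residue, ResidueField.map_residue,
      RingHom.comp_apply, hcompat]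
    show θ (algebraMap (ResidueField A₁) ((S ⊗[A] A₁) ⧸ n) (residue A₁ (algebraMap A A₁ a))) = _
    rw [θ.commutes, ResidueField.algebraMap_residue]
    rfl
  obtain ⟨σ, ⟨hσ1, hσ2⟩, -⟩ := Hensel.IsStrictHenselization.universal (R := A) (S := S) T
    (algebraMap A T) (θ.toRingHom.comp ρS) hτ
  letI algST : Algebra S T := σ.toAlgebra
  haveI : IsScalarTower A S T :=
    IsScalarTower.of_algebraMap_eq (fun a => (RingHom.congr_fun hσ1 a).symm)
  have hφ : ∀ (s : S) (a : A₁), Groth.Agent.H47.HensTensor.phi A A₁ S T (s ⊗ₜ[A] a) =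
      σ s * algebraMap A₁ T a := by
    intro s a
    rw [Algebra.TensorProduct.lift_tmul]
    rfl
  have hres : ∀ w : S ⊗[A] A₁, residue T (Groth.Agent.H47.HensTensor.phi A A₁ S T w) =
      θ (Ideal.Quotient.mk n w) := by
    intro w
    induction w using TensorProduct.induction_on with
    | zero => rw [map_zero, map_zero, map_zero, map_zero]
    | tmul s a =>
      rw [hφ, map_mul, hσ2, ← ResidueField.algebraMap_residue, ← θ.commutes]
      show θ (ρS (residue S s)) * θ (ρ₁ (residue A₁ a)) = _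
      rw [← map_mul, hρS, hρ₁, ← map_mul, Algebra.TensorProduct.tmul_mul_tmul, mul_one, one_mul]
    | add x y hx hy => rw [map_add, map_add, hx, hy, map_add, map_add]
  have hQ₀ : Ideal.comap (Groth.Agent.H47.HensTensor.phi A A₁ S T) (maximalIdeal T) = n := by
    ext w
    rw [Ideal.mem_comap, ← residue_eq_zero_iff, hres, map_eq_zero_iff θ θ.toRingHom.injective,
      Ideal.Quotient.eq_zero_iff_mem]
  haveI hQ₀prime : (Ideal.comap (Groth.Agent.H47.HensTensor.phi A A₁ S T)
      (maximalIdeal T)).IsPrime := Ideal.comap_isPrime _ _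
  obtain ⟨D', _, _, _, hD'loc, _, hψ', hbij⟩ :=
    Groth.Agent.H47.HensTransport.exists_quotient_data_strict_abstract A A₁ S T
      (Ideal.comap (Groth.Agent.H47.HensTensor.phi A A₁ S T) (maximalIdeal T)) rfl
  haveI := hD'loc
  have hle : RingHom.ker σ ≤ Q := by
    intro s hs
    rw [RingHom.mem_ker] at hs
    have h1 : Groth.Agent.H47.HensTensor.phi A A₁ S T (s ⊗ₜ[A] (1 : A₁)) = 0 := by
      rw [hφ, hs, zero_mul]
    have h2 : algebraMap (S ⊗[A] A₁) D' (s ⊗ₜ[A] (1 : A₁)) = 0 :=
      hbij.1 (by rw [hψ', h1, map_zero])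
    obtain ⟨u, hu⟩ := (IsLocalization.map_eq_zero_iff
      (Ideal.comap (Groth.Agent.H47.HensTensor.phi A A₁ S T) (maximalIdeal T)).primeCompl D'
      _).mp h2
    have hunot : (u : S ⊗[A] A₁) ∉ QW := fun h => u.2 (hQ₀.ge (hQWn h))
    have h3 : (u : S ⊗[A] A₁) * (s ⊗ₜ[A] (1 : A₁)) ∈ QW := by
      rw [hu]; exact QW.zero_mem
    rcases hQWp.mem_or_mem h3 with h | h
    · exact absurd h hunot
    · exact (hQWS s).mp h
  obtain ⟨hTd, -⟩ := (Groth.Agent.S2748.result A₁ T).mpr ⟨inferInstance, inferInstance⟩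
  haveI := hTd
  haveI hkp : (RingHom.ker σ).IsPrime := RingHom.ker_isPrime σ
  have hker : RingHom.ker σ = Q := le_antisymm hle (hQ.2 ⟨hkp, bot_le⟩ hle)
  exact ⟨T, inferInstance, inferInstance, inferInstance, inferInstance, hT, σ, hσ1, hker⟩

set_option maxRecDepth 2000 in
theorem descent_aux2
    (A S : Type u) [CommRing A] [HenselianLocalRing A] [IsNoetherianRing A]
    [CommRing S] [IsLocalRing S] [Algebra A S] [IsLocalHom (algebraMap A S)]
    [Hensel.IsStrictHenselization A S]
    (Q : Ideal S) [Q.IsPrime] (hQ : Q ∈ minimalPrimes S)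
    (A₁ : Type u) [CommRing A₁] [IsDomain A₁] [IsIntegrallyClosed A₁] [HenselianLocalRing A₁]
    [IsNoetherianRing A₁] (hN2₁ : CAlg.IsN2 A₁) [Algebra A A₁] [Module.Finite A A₁]
    [IsLocalHom (algebraMap A A₁)]
    (c : A) (hc0 : algebraMap A A₁ c ≠ 0)
    (hc : ∀ a₁ : A₁, ∃ a : A, c • a₁ = algebraMap A A₁ a)
    (T : Type u) [CommRing T] [IsLocalRing T] [Algebra A₁ T] [IsLocalHom (algebraMap A₁ T)]
    [Hensel.IsStrictHenselization A₁ T] [Algebra A T] [IsScalarTower A A₁ T]
    [Algebra S T] [IsScalarTower A S T] (hker : RingHom.ker (algebraMap S T) = Q)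
    (t : Finset (FractionRing (S ⧸ Q))) (D : Subalgebra A (S ⧸ Q))
    (hmemD : ∀ x : S ⧸ Q, x ∈ D ↔ algebraMap (S ⧸ Q) (FractionRing (S ⧸ Q)) x ∈
      Subfield.closure (Set.range (algebraMap A (FractionRing (S ⧸ Q))) ∪
        (t : Set (FractionRing (S ⧸ Q))))) :
    Module.Finite A D ∧ Algebra.FormallyUnramified A D := by
  classical
  have hI := Groth.Agent.H47.HensNoeth.isIndEtaleLocal_of_isStrictHenselization A S
  haveI : Module.Flat A S := hI.flat
  haveI : Module.FaithfullyFlat A S := Module.FaithfullyFlat.of_flat_of_isLocalHom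
  obtain ⟨F, hF⟩ : ∃ F : Subfield (FractionRing (S ⧸ Q)), F = Subfield.closure
    (Set.range (algebraMap A (FractionRing (S ⧸ Q))) ∪ (t : Set (FractionRing (S ⧸ Q)))) :=
    ⟨_, rfl⟩
  rw [← hF] at hmemD
  obtain ⟨hTd, hTn⟩ := (Groth.Agent.S2748.result A₁ T).mpr ⟨inferInstance, inferInstance⟩
  haveI := hTd
  haveI := hTn
  haveI hlocST : IsLocalHom (algebraMap S T) :=
    Groth.Agent.H47.HensTransport.isLocalHom_algebraMap_strict A A₁ S T
  have hI₁ := Groth.Agent.H47.HensNoeth.isIndEtaleLocal_of_isStrictHenselization A₁ T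
  haveI : Module.Flat A₁ T := hI₁.flat
  haveI : Module.FaithfullyFlat A₁ T := Module.FaithfullyFlat.of_flat_of_isLocalHom
  have hA₁T : Function.Injective (algebraMap A₁ T) := FaithfulSMul.algebraMap_injective A₁ T
  -- the induced map on `S ⧸ Q`
  let σbar : S ⧸ Q →+* T := Ideal.Quotient.lift Q (algebraMap S T) (fun s hs => by
    rw [← RingHom.mem_ker, hker]; exact hs)
  have hσbar : ∀ s : S, σbar (Ideal.Quotient.mk Q s) = algebraMap S T s := fun s => rfl
  have hσbarinj : Function.Injective σbar :=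
    RingHom.lift_injective_of_ker_le_ideal Q _ (by rw [hker])
  letI algRT : Algebra (S ⧸ Q) T := σbar.toAlgebra
  have halgRT : ∀ s : S, algebraMap (S ⧸ Q) T (Ideal.Quotient.mk Q s) = algebraMap S T s :=
    fun s => rfl
  haveI : IsScalarTower A (S ⧸ Q) T := IsScalarTower.of_algebraMap_eq (fun a => by
    rw [← Ideal.Quotient.mk_algebraMap, halgRT, ← IsScalarTower.algebraMap_apply A S T])
  have hRT : Function.Injective (algebraMap (S ⧸ Q) T) := hσbarinj
  -- Step 3: comparison of the two fraction fields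
  have hTΩ : Function.Injective (algebraMap T (FractionRing T)) :=
    IsFractionRing.injective T (FractionRing T)
  have hinjι : Function.Injective
      ((algebraMap T (FractionRing T)).comp (algebraMap (S ⧸ Q) T)) := hTΩ.comp hRT
  obtain ⟨ι, hι⟩ : ∃ ι : FractionRing (S ⧸ Q) →+* FractionRing T,
      ∀ x : S ⧸ Q, ι (algebraMap (S ⧸ Q) (FractionRing (S ⧸ Q)) x) =
        algebraMap T (FractionRing T) (algebraMap (S ⧸ Q) T x) :=
    ⟨IsFractionRing.lift hinjι, fun x => IsFractionRing.lift_algebraMap hinjι x⟩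
  have hιA : ∀ a : A, ι (algebraMap A (FractionRing (S ⧸ Q)) a) =
      algebraMap A₁ (FractionRing T) (algebraMap A A₁ a) := by
    intro a
    rw [IsScalarTower.algebraMap_apply A (S ⧸ Q) (FractionRing (S ⧸ Q)), hι,
      ← IsScalarTower.algebraMap_apply A (S ⧸ Q) T, IsScalarTower.algebraMap_apply A A₁ T,
      ← IsScalarTower.algebraMap_apply A₁ T (FractionRing T)]
  have hAF : ∀ a : A, algebraMap A (FractionRing (S ⧸ Q)) a ∈ F := fun a => by
    rw [hF]; exact Subfield.subset_closure (Or.inl ⟨a, rfl⟩)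
  obtain ⟨FT, hFT⟩ : ∃ FT : Subfield (FractionRing T), FT = Subfield.closure
    (Set.range (algebraMap A₁ (FractionRing T)) ∪
      ((t.image ι : Finset (FractionRing T)) : Set (FractionRing T))) := ⟨_, rfl⟩
  have hFFT : ∀ f ∈ F, ι f ∈ FT := by
    have hle : F ≤ FT.comap ι := by
      rw [hF, Subfield.closure_le]
      rintro x (⟨a, rfl⟩ | hx)
      · show ι _ ∈ FT
        rw [hιA, hFT]
        exact Subfield.subset_closure (Or.inl ⟨_, rfl⟩)
      · show ι x ∈ FT
        rw [hFT]
        exact Subfield.subset_closure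
          (Or.inr (Finset.mem_coe.mpr (Finset.mem_image_of_mem ι (Finset.mem_coe.mp hx))))
    exact fun f hf => hle hf
  have hA₁Ω : Function.Injective (algebraMap A₁ (FractionRing T)) := by
    rw [IsScalarTower.algebraMap_eq A₁ T (FractionRing T)]; exact hTΩ.comp hA₁T
  have hne : algebraMap A₁ (FractionRing T) (algebraMap A A₁ c) ≠ 0 :=
    fun h => hc0 (hA₁Ω (by rw [h, map_zero]))
  have hFTF : FT ≤ F.map ι := by
    rw [hFT, Subfield.closure_le]
    rintro y (⟨a₁, rfl⟩ | hy)
    · obtain ⟨a, ha⟩ := hc a₁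
      refine ⟨algebraMap A (FractionRing (S ⧸ Q)) a / algebraMap A (FractionRing (S ⧸ Q)) c,
        F.div_mem (hAF a) (hAF c), ?_⟩
      rw [map_div₀, hιA, hιA, ← ha, Algebra.smul_def, map_mul]
      field_simp
    · obtain ⟨τ, hτ, rfl⟩ := Finset.mem_image.mp (Finset.mem_coe.mp hy)
      exact ⟨τ, by rw [hF]; exact Subfield.subset_closure (Or.inr (Finset.mem_coe.mpr hτ)), rfl⟩
  have hback : ∀ x : S ⧸ Q, algebraMap T (FractionRing T) (algebraMap (S ⧸ Q) T x) ∈ FT →
      algebraMap (S ⧸ Q) (FractionRing (S ⧸ Q)) x ∈ F := by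
    intro x hx
    obtain ⟨f, hf, hfx⟩ := hFTF hx
    have : f = algebraMap (S ⧸ Q) (FractionRing (S ⧸ Q)) x := ι.injective (by rw [hfx, hι])
    rw [← this]; exact hf
  -- Step 4: the normal case applied to `A₁ → T`
  let DT : Subalgebra A₁ T :=
    { carrier := (algebraMap T (FractionRing T)) ⁻¹' (FT : Set (FractionRing T))
      mul_mem' := by
        intro x y hx hy
        show algebraMap T (FractionRing T) (x * y) ∈ FT
        rw [map_mul]; exact FT.mul_mem hx hy
      add_mem' := by
        intro x y hx hy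
        show algebraMap T (FractionRing T) (x + y) ∈ FT
        rw [map_add]; exact FT.add_mem hx hy
      algebraMap_mem' := by
        intro a
        show algebraMap T (FractionRing T) (algebraMap A₁ T a) ∈ FT
        rw [← IsScalarTower.algebraMap_apply A₁ T (FractionRing T), hFT]
        exact Subfield.subset_closure (Or.inl ⟨a, rfl⟩) }
  have hmemDT : ∀ y : T, y ∈ DT ↔ algebraMap T (FractionRing T) y ∈ FT := fun _ => Iff.rfl
  have hDTeq : (DT : Set T) = (algebraMap T (FractionRing T)) ⁻¹'
      (Subfield.closure (Set.range (algebraMap A₁ (FractionRing T)) ∪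
        ((t.image ι : Finset (FractionRing T)) : Set (FractionRing T))) :
          Set (FractionRing T)) := by
    rw [← hFT]; rfl
  obtain ⟨hDTloc, hDThom, hessDT, hmDT, hfinDT⟩ :=
    inter_subfield_normal A₁ T hN2₁ (FractionRing T) (t.image ι) DT hDTeq
  haveI := hDTloc
  haveI := hDThom
  haveI hintT : Algebra.IsIntegral A₁ T := isIntegral_of_henselian A₁ T
  haveI hintDT : Algebra.IsIntegral A₁ DT :=
    Algebra.IsIntegral.of_injective DT.val Subtype.val_injective
  haveI : Module.Finite A₁ DT := hfinDT hintDT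
  haveI : HenselianLocalRing DT :=
    Groth.Agent.H3.henselianLocalRing_of_isIntegral_of_isLocalRing A₁ DT
  -- Step 5: residue fields
  haveI hlocA₁DT : IsLocalHom (algebraMap A₁ DT) := Groth.Agent.H3.isLocalHom_of_isIntegral A₁ DT
  haveI : IsScalarTower A A₁ DT := inferInstance
  haveI : IsScalarTower A DT T := inferInstance
  haveI hlocADT : IsLocalHom (algebraMap A DT) := by
    rw [IsScalarTower.algebraMap_eq A A₁ DT]
    exact RingHom.isLocalHom_comp _ _
  obtain ⟨hfeDT, heftDT⟩ := Groth.Agent.S2782.instances_of_isEssentiallyEtale hessDT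
  haveI := hfeDT
  haveI := heftDT
  haveI : Algebra.IsSeparable (ResidueField A₁) (ResidueField DT) := inferInstance
  haveI : Module.Finite (ResidueField A) (ResidueField A₁) := inferInstance
  haveI : Module.Finite (ResidueField A₁) (ResidueField DT) := inferInstance
  haveI : Module.Finite (ResidueField A) (ResidueField DT) :=
    Module.Finite.trans (ResidueField A₁) (ResidueField DT)
  haveI : IsScalarTower (ResidueField A) (ResidueField A₁) (ResidueField DT) := inferInstance
  haveI : Algebra.IsAlgebraic (ResidueField A) (ResidueField A₁) :=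
    Algebra.IsAlgebraic.of_finite _ _
  have hβ : IntermediateField.adjoin (ResidueField A₁)
      ((separableClosure (ResidueField A) (ResidueField DT) :
        IntermediateField (ResidueField A) (ResidueField DT)) : Set (ResidueField DT)) = ⊤ :=
    separableClosure.adjoin_eq_of_isAlgebraic_of_isSeparable (F := ResidueField A)
      (E := ResidueField A₁) (ResidueField DT)
  obtain ⟨Ks, hKs⟩ : ∃ Ks : IntermediateField (ResidueField A) (ResidueField DT),
      Ks = separableClosure (ResidueField A) (ResidueField DT) := ⟨_, rfl⟩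
  rw [← hKs] at hβ
  haveI : Algebra.IsSeparable (ResidueField A) Ks := by
    rw [hKs]; infer_instance
  haveI : Module.Finite (ResidueField A) Ks := inferInstance
  haveI : Algebra.FormallyEtale (ResidueField A) Ks :=
    Algebra.FormallyEtale.of_isSeparable (ResidueField A) Ks
  haveI : Algebra.FinitePresentation (ResidueField A) Ks :=
    Algebra.FinitePresentation.of_finiteType.mp inferInstance
  haveI : Algebra.Etale (ResidueField A) Ks := {}
  obtain ⟨E, _, _, hEfin, hEet, ⟨eE⟩⟩ :=
    Groth.Agent.H3.exists_finite_etale_lift_of_isLocalRing A Ks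
  haveI := hEfin
  haveI := hEet
  -- `E` is local
  let θ : (E ⧸ (maximalIdeal A).map (algebraMap A E)) ≃+* Ks :=
    (Algebra.TensorProduct.quotIdealMapEquivQuotTensor E (maximalIdeal A)).toRingEquiv.trans
      eE.toRingEquiv
  have hEfield : IsField (E ⧸ (maximalIdeal A).map (algebraMap A E)) :=
    MulEquiv.isField (Field.toIsField Ks) θ.toMulEquiv
  haveI hmaxE : ((maximalIdeal A).map (algebraMap A E)).IsMaximal :=
    Ideal.Quotient.maximal_of_isField _ hEfield
  haveI : Algebra.IsIntegral A E := Algebra.IsIntegral.of_finite A E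
  haveI hEloc : IsLocalRing E := Groth.Agent.S16444.isLocalRing_of_isMaximal_map hmaxE
  haveI : IsLocalHom (algebraMap A E) := Groth.Agent.H3.isLocalHom_of_isIntegral A E
  -- every element of `k ⊗ E` is a pure tensor `1 ⊗ e`
  have hpure : ∀ w : (ResidueField A) ⊗[A] E, ∃ e : E, w = (1 : ResidueField A) ⊗ₜ[A] e := by
    intro w
    induction w using TensorProduct.induction_on with
    | zero => exact ⟨0, (TensorProduct.tmul_zero _ _).symm⟩
    | tmul x e =>
      obtain ⟨a, rfl⟩ := residue_surjective x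
      refine ⟨a • e, ?_⟩
      rw [← TensorProduct.smul_tmul, ← Algebra.algebraMap_eq_smul_one]
      rfl
    | add x y hx hy =>
      obtain ⟨e1, rfl⟩ := hx
      obtain ⟨e2, rfl⟩ := hy
      exact ⟨e1 + e2, (TensorProduct.tmul_add _ _ _).symm⟩
  -- the residual point
  let χ₀ : E →ₐ[A] ResidueField DT :=
    { toRingHom := (algebraMap Ks (ResidueField DT)).comp
        (eE.toAlgHom.toRingHom.comp
          (Algebra.TensorProduct.includeRight : E →ₐ[A] (ResidueField A) ⊗[A] E).toRingHom)
      commutes' := by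
        intro a
        show algebraMap Ks (ResidueField DT) (eE ((1 : ResidueField A) ⊗ₜ[A] (algebraMap A E a))) =
          algebraMap A (ResidueField DT) a
        have h1 : (1 : ResidueField A) ⊗ₜ[A] (algebraMap A E a) =
            algebraMap (ResidueField A) ((ResidueField A) ⊗[A] E)
              (algebraMap A (ResidueField A) a) := by
          rw [Algebra.TensorProduct.algebraMap_apply, Algebra.algebraMap_eq_smul_one,
            ← TensorProduct.smul_tmul, ← Algebra.algebraMap_eq_smul_one]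
          rfl
        rw [h1, eE.commutes, ← IsScalarTower.algebraMap_apply (ResidueField A) Ks (ResidueField DT),
          ← IsScalarTower.algebraMap_apply A (ResidueField A) (ResidueField DT)] }
  have hχ₀ : ∀ e : E, χ₀ e = ((eE ((1 : ResidueField A) ⊗ₜ[A] e) : Ks) : ResidueField DT) :=
    fun e => rfl
  obtain ⟨f, hf⟩ := Groth.Agent.H3.exists_algHom_of_etale_of_residue A DT E χ₀
  -- Step 5': the lift `g : E → S`
  have hsc : IsSepClosure (ResidueField A) (ResidueField S) :=
    (inferInstance : Hensel.IsStrictHenselization A S).isSepClosure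
  haveI : IsSepClosed (ResidueField S) := hsc.sep_closed
  haveI hShens : HenselianLocalRing S :=
    (inferInstance : Hensel.IsStrictHenselization A S).henselian
  let fT : E →ₐ[A] T := (DT.val.restrictScalars A).comp f
  have hfT : ∀ e : E, fT e = ((f e : DT) : T) := fun e => rfl
  let χT₀ : E →ₐ[A] ResidueField T := (IsScalarTower.toAlgHom A T (ResidueField T)).comp fT
  have hχT₀ : ∀ e : E, χT₀ e = residue T (fT e) := fun e => rfl
  let χT : S ⊗[A] E →ₐ[S] ResidueField T :=
    Algebra.TensorProduct.lift (Algebra.ofId S (ResidueField T)) χT₀ (fun _ _ => Commute.all _ _)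
  obtain ⟨χS, hχS⟩ := Groth.Agent.H3.exists_algHom_residueField_of_isSepClosed S (S ⊗[A] E)
    (ResidueField T) χT
  obtain ⟨G, hG⟩ := Groth.Agent.H3.exists_algHom_of_etale_of_residue S S (S ⊗[A] E) χS
  let g : E →ₐ[A] S := (G.restrictScalars A).comp Algebra.TensorProduct.includeRight
  have hg : ∀ e : E, g e = G ((1 : S) ⊗ₜ[A] e) := fun e => rfl
  have hres_g : ∀ e : E, residue T (algebraMap S T (g e)) = residue T (fT e) := by
    intro e
    rw [← ResidueField.algebraMap_residue, hg, hG, hχS]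
    simp only [χT, Algebra.TensorProduct.lift_tmul, map_one, one_mul]
    rfl
  -- Step 6: compatibility
  have hcomp : (IsScalarTower.toAlgHom A S T).comp g = fT :=
    Groth.Agent.H3.algHom_ext_of_etale_of_residue A T E _ _ hres_g
  have hσg : ∀ e : E, algebraMap S T (g e) = ((f e : DT) : T) := fun e =>
    AlgHom.congr_fun hcomp e
  -- Step 7: `gbar` lands in `D`
  let gbar : E →ₐ[A] S ⧸ Q := (Ideal.Quotient.mkₐ A Q).comp g
  have hgbar : ∀ e : E, gbar e = Ideal.Quotient.mk Q (g e) := fun e => rfl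
  have hgD : ∀ e : E, gbar e ∈ D := by
    intro e
    refine (hmemD _).mpr (hback _ ?_)
    rw [hgbar, halgRT, hσg]
    exact (hmemDT _).mp (f e).2
  -- Step 8: `DT` is spanned over `A₁` by the image of `f`
  have hrange : Set.range χ₀ = (Ks : Set (ResidueField DT)) := by
    ext z
    constructor
    · rintro ⟨e, rfl⟩
      rw [hχ₀]
      exact (eE ((1 : ResidueField A) ⊗ₜ[A] e)).2
    · intro hz
      obtain ⟨e, he⟩ := hpure (eE.symm ⟨z, hz⟩)
      refine ⟨e, ?_⟩
      rw [hχ₀, ← he, AlgEquiv.apply_symm_apply]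
  have hadj : Algebra.adjoin (ResidueField A₁) (Ks : Set (ResidueField DT)) = ⊤ := by
    have h1 := IntermediateField.adjoin_toSubalgebra (F := ResidueField A₁)
      (Ks : Set (ResidueField DT))
    rw [hβ] at h1
    rw [← h1]
    exact IntermediateField.top_toSubalgebra
  have hspanK : Submodule.span (ResidueField A₁) (Ks : Set (ResidueField DT)) = ⊤ := by
    have h3 := Algebra.adjoin_eq_span (ResidueField A₁) (Ks : Set (ResidueField DT))
    have h4 : ((Submonoid.closure (Ks : Set (ResidueField DT)) : Submonoid (ResidueField DT)) :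
        Set (ResidueField DT)) = (Ks : Set (ResidueField DT)) :=
      congrArg (fun M : Submonoid (ResidueField DT) => (M : Set (ResidueField DT)))
        (Submonoid.closure_eq Ks.toSubalgebra.toSubsemiring.toSubmonoid)
    rw [h4, hadj] at h3
    rw [← h3]
    exact Algebra.top_toSubmodule
  have hlift : ∀ z ∈ Submodule.span (ResidueField A₁) (Set.range χ₀),
      ∃ y' ∈ Submodule.span A₁ (Set.range f), residue DT y' = z := by
    intro z hz
    induction hz using Submodule.span_induction with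
    | mem z hz =>
      obtain ⟨e, rfl⟩ := hz
      exact ⟨f e, Submodule.subset_span ⟨e, rfl⟩, hf e⟩
    | zero => exact ⟨0, Submodule.zero_mem _, map_zero _⟩
    | add z₁ z₂ _ _ h₁ h₂ =>
      obtain ⟨y₁, hy₁, rfl⟩ := h₁
      obtain ⟨y₂, hy₂, rfl⟩ := h₂
      exact ⟨y₁ + y₂, Submodule.add_mem _ hy₁ hy₂, map_add _ _ _⟩
    | smul r z _ h =>
      obtain ⟨y, hy, rfl⟩ := h
      obtain ⟨a₁, rfl⟩ := residue_surjective r
      refine ⟨a₁ • y, Submodule.smul_mem _ _ hy, ?_⟩
      rw [Algebra.smul_def, map_mul, Algebra.smul_def, ResidueField.algebraMap_residue]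
  have hN : (⊤ : Submodule A₁ DT) ≤ Submodule.span A₁ (Set.range f) := by
    apply Submodule.le_of_le_smul_of_le_jacobson_bot (I := maximalIdeal A₁) Module.Finite.fg_top
    · rw [IsLocalRing.jacobson_eq_maximalIdeal ⊥ bot_ne_top]
    · intro y _
      obtain ⟨y', hy'N, hy'⟩ := hlift (residue DT y) (by
        rw [hrange, hspanK]; exact Submodule.mem_top)
      have hdiff : y - y' ∈ maximalIdeal DT := by
        rw [← Ideal.Quotient.eq]
        exact hy'.symm
      have hdiff' : y - y' ∈ (maximalIdeal A₁) • (⊤ : Submodule A₁ DT) := by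
        rw [Ideal.smul_top_eq_map, hmDT]
        exact hdiff
      have hy : y = y' + (y - y') := by ring
      rw [hy]
      exact Submodule.add_mem_sup hy'N hdiff'
  have hcf : ∀ y ∈ Submodule.span A₁ (Set.range f), ∀ a₁ : A₁, ∃ e : E, c • (a₁ • y) = f e := by
    intro y hy
    induction hy using Submodule.span_induction with
    | mem y hy =>
      obtain ⟨e', rfl⟩ := hy
      intro a₁
      obtain ⟨a, ha⟩ := hc a₁
      refine ⟨a • e', ?_⟩
      rw [← smul_assoc, ha, map_smul, algebraMap_smul]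
    | zero =>
      intro a₁
      exact ⟨0, by rw [smul_zero, smul_zero, map_zero]⟩
    | add y₁ y₂ _ _ h₁ h₂ =>
      intro a₁
      obtain ⟨e₁, he₁⟩ := h₁ a₁
      obtain ⟨e₂, he₂⟩ := h₂ a₁
      exact ⟨e₁ + e₂, by rw [smul_add, smul_add, he₁, he₂, map_add]⟩
    | smul b₁ y _ h =>
      intro a₁
      obtain ⟨e, he⟩ := h (a₁ * b₁)
      exact ⟨e, by rw [← he, mul_smul]⟩
  -- Step 9a: `S` is a strict henselization of `E`, and `Q` is generated by `q = ker f`
  haveI hintS : Algebra.IsIntegral A S := isIntegral_of_henselian A S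
  letI algES : Algebra E S := g.toRingHom.toAlgebra
  haveI : IsScalarTower A E S := IsScalarTower.of_algebraMap_eq (fun a => (g.commutes a).symm)
  have halgES : ∀ e : E, algebraMap E S e = g e := fun e => rfl
  haveI : Algebra.IsIntegral E S := Algebra.IsIntegral.tower_top (R := A)
  haveI : IsLocalHom (algebraMap E S) := Groth.Agent.H3.isLocalHom_of_isIntegral E S
  haveI : Module.Flat E S := Algebra.FormallyUnramified.flat_of_restrictScalars A E S
  haveI : Module.FaithfullyFlat E S := Module.FaithfullyFlat.of_flat_of_isLocalHom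
  haveI hES : Hensel.IsStrictHenselization E S := isStrictHenselization_of_etale_local A S E
  obtain ⟨q, hq⟩ : ∃ q : Ideal E, q = RingHom.ker f.toRingHom := ⟨_, rfl⟩
  haveI hqp : q.IsPrime := hq ▸ RingHom.ker_isPrime _
  have hqmem : ∀ e : E, e ∈ q ↔ f e = 0 := by
    intro e
    rw [hq, RingHom.mem_ker]
    rfl
  have hgq : ∀ e : E, e ∈ q → g e ∈ Q := by
    intro e he
    rw [← hker, RingHom.mem_ker, hσg, (hqmem e).mp he]
    rfl
  have hqQ : q.map (algebraMap E S) ≤ Q := by
    rw [Ideal.map_le_iff_le_comap]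
    intro e he
    rw [Ideal.mem_comap, halgES]
    exact hgq e he
  have hqle : q ≤ maximalIdeal E := IsLocalRing.le_maximalIdeal hqp.ne_top
  have hJ : q.map (algebraMap E S) ≤ maximalIdeal S :=
    Groth.Agent.H47.Unibranch.map_le_maximalIdeal E S hqle
  haveI : IsLocalRing (E ⧸ q) := Groth.Agent.H47.Unibranch.isLocalRing_quotient _ hqp.ne_top
  haveI : IsLocalRing (S ⧸ q.map (algebraMap E S)) :=
    Groth.Agent.H47.Unibranch.isLocalRing_quotient _
      (fun h => (maximalIdeal.isMaximal S).ne_top (top_le_iff.mp (h ▸ hJ)))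
  haveI : IsLocalHom (algebraMap (E ⧸ q) (S ⧸ q.map (algebraMap E S))) :=
    Groth.Agent.H47.Unibranch.isLocalHom_quotient_map E S _
  haveI : Hensel.IsStrictHenselization (E ⧸ q) (S ⧸ q.map (algebraMap E S)) :=
    Groth.Agent.H47.StrictQuot.isStrictHenselization_quotient q
  -- `DT` as an algebra over `E ⧸ q`
  let fbar : E ⧸ q →+* DT := Ideal.Quotient.lift q f.toRingHom (fun e he => (hqmem e).mp he)
  have hfbar : ∀ e : E, fbar (Ideal.Quotient.mk q e) = f e := fun e => rfl
  have hfbarinj : Function.Injective fbar :=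
    RingHom.lift_injective_of_ker_le_ideal q _ (by rw [hq])
  letI algEqDT : Algebra (E ⧸ q) DT := fbar.toAlgebra
  have halgEqDT : ∀ e : E, algebraMap (E ⧸ q) DT (Ideal.Quotient.mk q e) = f e := fun e => rfl
  haveI : IsScalarTower A (E ⧸ q) DT := IsScalarTower.of_algebraMap_eq (fun a => by
    rw [← Ideal.Quotient.mk_algebraMap, halgEqDT, f.commutes])
  haveI : Algebra.IsIntegral A A₁ := Algebra.IsIntegral.of_finite A A₁
  haveI : Algebra.IsIntegral A DT := Algebra.IsIntegral.trans A₁
  haveI : Algebra.IsIntegral (E ⧸ q) DT := Algebra.IsIntegral.tower_top (R := A)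
  haveI : IsLocalHom (algebraMap (E ⧸ q) DT) :=
    Groth.Agent.H3.isLocalHom_of_isIntegral (E ⧸ q) DT
  haveI : IsDomain DT := inferInstance
  haveI hDTnormal : IsIntegrallyClosed DT := by
    obtain ⟨C, _, _, qC, _, hCet, -, ⟨eC⟩⟩ := hessDT
    haveI := hCet
    obtain ⟨-, hn⟩ := Groth.Agent.H47.EtaleNormal.isDomain_isIntegrallyClosed_atPrime A₁ C qC
      (Localization.AtPrime qC)
    haveI := hn
    exact IsIntegrallyClosed.of_equiv eC.symm.toRingEquiv
  haveI : Algebra.IsAlgebraic (ResidueField A) (ResidueField DT) :=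
    Algebra.IsAlgebraic.of_finite _ _
  haveI hpiK : IsPurelyInseparable Ks (ResidueField DT) := by
    rw [hKs]; infer_instance
  haveI hpi : IsPurelyInseparable (ResidueField (E ⧸ q)) (ResidueField DT) := by
    obtain ⟨p, hp⟩ : ∃ p : ℕ, p = ringExpChar (ResidueField DT) := ⟨_, rfl⟩
    haveI : ExpChar (ResidueField DT) p := hp ▸ ringExpChar.expChar _
    haveI : ExpChar Ks p :=
      RingHom.expChar (algebraMap Ks (ResidueField DT)) (RingHom.injective _) p
    haveI : ExpChar (ResidueField (E ⧸ q)) p :=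
      RingHom.expChar (algebraMap (ResidueField (E ⧸ q)) (ResidueField DT))
        (RingHom.injective _) p
    rw [isPurelyInseparable_iff_pow_mem (ResidueField (E ⧸ q)) p]
    intro x
    obtain ⟨n, z, hz⟩ := (isPurelyInseparable_iff_pow_mem Ks p).mp hpiK x
    refine ⟨n, ?_⟩
    rw [← hz]
    have hzK : (algebraMap Ks (ResidueField DT) z) ∈ Set.range χ₀ := by
      rw [hrange]; exact z.2
    obtain ⟨e, he⟩ := hzK
    refine ⟨residue (E ⧸ q) (Ideal.Quotient.mk q e), ?_⟩
    rw [ResidueField.algebraMap_residue, halgEqDT, hf, he]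
  haveI hdomQ : IsDomain (S ⧸ q.map (algebraMap E S)) :=
    Groth.Agent.H47.UnibranchStrict.isDomain_strict_general (E ⧸ q) DT
      (S ⧸ q.map (algebraMap E S)) hfbarinj
  haveI hqSp : (q.map (algebraMap E S)).IsPrime :=
    (Ideal.Quotient.isDomain_iff_prime _).mp hdomQ
  have hQeq : Q = q.map (algebraMap E S) :=
    le_antisymm (hQ.2 ⟨hqSp, bot_le⟩ hqQ) hqQ
  -- Step 9: `D` is contained in the image of `gbar`
  have hcR : algebraMap A (S ⧸ Q) c ≠ 0 := by
    intro h
    apply hc0
    apply hA₁T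
    rw [map_zero, ← IsScalarTower.algebraMap_apply A A₁ T,
      IsScalarTower.algebraMap_apply A (S ⧸ Q) T, h, map_zero]
  have hDg : ∀ x : S ⧸ Q, x ∈ D → ∃ e : E, gbar e = x := by
    intro x hx
    obtain ⟨s, rfl⟩ := Ideal.Quotient.mk_surjective x
    have hxT : algebraMap S T s ∈ DT := by
      refine (hmemDT _).mpr ?_
      rw [← halgRT, ← hι]
      exact hFFT _ ((hmemD _).mp hx)
    obtain ⟨e', he'⟩ := hcf ⟨algebraMap S T s, hxT⟩ (hN Submodule.mem_top) 1
    rw [one_smul] at he'
    have h1 : algebraMap S T (c • s) = algebraMap S T (g e') := by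
      rw [hσg, ← he', Algebra.smul_def, map_mul, ← IsScalarTower.algebraMap_apply A S T]
      rw [Algebra.smul_def]
      simp only [MulMemClass.coe_mul]
      rw [IsScalarTower.algebraMap_apply A DT T]
      rfl
    have h2 : c • s - g e' ∈ Q := by
      rw [← hker, RingHom.mem_ker, map_sub, h1, sub_self]
    have h3 : g e' ∈ (Ideal.span {algebraMap A E c} ⊔ q).map (algebraMap E S) := by
      have h0 : g e' = c • s - (c • s - g e') := by ring
      rw [h0]
      apply Ideal.sub_mem
      · apply Ideal.map_mono (le_sup_left : Ideal.span {algebraMap A E c} ≤ _)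
        rw [Ideal.map_span, Set.image_singleton, ← IsScalarTower.algebraMap_apply A E S,
          Algebra.smul_def]
        exact Ideal.mem_span_singleton'.mpr ⟨s, mul_comm _ _⟩
      · apply Ideal.map_mono (le_sup_right : q ≤ Ideal.span {algebraMap A E c} ⊔ q)
        rw [← hQeq]
        exact h2
    have h4 : e' ∈ Ideal.span {algebraMap A E c} ⊔ q := by
      rw [← Ideal.comap_map_eq_self_of_faithfullyFlat (B := S)
        (Ideal.span {algebraMap A E c} ⊔ q), Ideal.mem_comap, halgES]
      exact h3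
    obtain ⟨y, hy, z, hz, hyz⟩ := Submodule.mem_sup.mp h4
    obtain ⟨e, he⟩ := Ideal.mem_span_singleton'.mp hy
    refine ⟨e, ?_⟩
    have h5 : Ideal.Quotient.mk Q (g z) = 0 :=
      Ideal.Quotient.eq_zero_iff_mem.mpr (hgq z hz)
    have h6 : Ideal.Quotient.mk Q (c • s) = Ideal.Quotient.mk Q (g e') :=
      Ideal.Quotient.eq.mpr h2
    have h7 : algebraMap A (S ⧸ Q) c * gbar e = algebraMap A (S ⧸ Q) c * Ideal.Quotient.mk Q s := by
      have h8 : Ideal.Quotient.mk Q (c • s) =
          algebraMap A (S ⧸ Q) c * Ideal.Quotient.mk Q s := by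
        rw [Algebra.smul_def, map_mul, Ideal.Quotient.mk_algebraMap]
      rw [← h8, h6, ← hyz, ← he, map_add, map_mul, map_add, map_mul, h5, add_zero,
        AlgHom.commutes, Ideal.Quotient.mk_algebraMap, hgbar, mul_comm]
    exact mul_left_cancel₀ hcR h7
  -- Step 10: conclusion
  let gD : E →ₐ[A] D := gbar.codRestrict D hgD
  have hgDsurj : Function.Surjective gD := by
    intro y
    obtain ⟨e, he⟩ := hDg y y.2
    exact ⟨e, Subtype.ext he⟩
  exact ⟨Module.Finite.of_surjective gD.toLinearMap hgDsurj,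
    Algebra.FormallyUnramified.of_surjective gD hgDsurj⟩

theorem inter_subfield_reduced_aux
    (A S : Type u) [CommRing A] [HenselianLocalRing A] [IsNoetherianRing A]
    [CommRing S] [IsLocalRing S] [Algebra A S] [IsLocalHom (algebraMap A S)]
    [Hensel.IsStrictHenselization A S] (Q : Ideal S) [Q.IsPrime] (hQ : Q ∈ minimalPrimes S)
    (t : Finset (FractionRing (S ⧸ Q)))
    (A₁ : Type u) [CommRing A₁] [IsDomain A₁] [IsIntegrallyClosed A₁] [HenselianLocalRing A₁]
    [IsNoetherianRing A₁] (hN2₁ : CAlg.IsN2 A₁) [Algebra A A₁] [Module.Finite A A₁]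
    [IsLocalHom (algebraMap A A₁)]
    (c : A) (hc0 : algebraMap A A₁ c ≠ 0)
    (hc : ∀ a₁ : A₁, ∃ a : A, c • a₁ = algebraMap A A₁ a)
    (jA₁ : A₁ →+* FractionRing (S ⧸ Q))
    (hjA₁ : ∀ a : A, jA₁ (algebraMap A A₁ a) = algebraMap A (FractionRing (S ⧸ Q)) a)
    (D : Subalgebra A (S ⧸ Q))
    (hmemD : ∀ x : S ⧸ Q, x ∈ D ↔ algebraMap (S ⧸ Q) (FractionRing (S ⧸ Q)) x ∈
      Subfield.closure (Set.range (algebraMap A (FractionRing (S ⧸ Q))) ∪
        (t : Set (FractionRing (S ⧸ Q))))) :
    Module.Finite A D ∧ Algebra.FormallyUnramified A D := by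
  have hRK : Function.Injective (algebraMap (S ⧸ Q) (FractionRing (S ⧸ Q))) :=
    IsFractionRing.injective _ _
  letI algA₁K : Algebra A₁ (FractionRing (S ⧸ Q)) := jA₁.toAlgebra
  haveI : IsScalarTower A A₁ (FractionRing (S ⧸ Q)) :=
    IsScalarTower.of_algebraMap_eq (fun a => (hjA₁ a).symm)
  let jS : S →ₐ[A] FractionRing (S ⧸ Q) :=
    (IsScalarTower.toAlgHom A (S ⧸ Q) (FractionRing (S ⧸ Q))).comp (Ideal.Quotient.mkₐ A Q)
  have hjS : ∀ s : S, jS s = 0 ↔ s ∈ Q := by
    intro s
    show algebraMap (S ⧸ Q) (FractionRing (S ⧸ Q)) (Ideal.Quotient.mk Q s) = 0 ↔ _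
    rw [map_eq_zero_iff _ hRK, Ideal.Quotient.eq_zero_iff_mem]
  obtain ⟨T, _, _, _, _, hT, σ, hσ, hker⟩ := exists_sigma_ker A S Q hQ A₁
    (FractionRing (S ⧸ Q)) jS hjS
  haveI := hT
  letI algAT : Algebra A T := ((algebraMap A₁ T).comp (algebraMap A A₁)).toAlgebra
  haveI : IsScalarTower A A₁ T := IsScalarTower.of_algebraMap_eq (fun _ => rfl)
  letI algST : Algebra S T := σ.toAlgebra
  haveI : IsScalarTower A S T :=
    IsScalarTower.of_algebraMap_eq (fun a => (RingHom.congr_fun hσ a).symm)
  exact descent_aux2 A S Q hQ A₁ hN2₁ c hc0 hc T hker t D hmemD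

set_option maxRecDepth 2000 in
theorem inter_subfield_reduced
    (A S : Type u) [CommRing A] [HenselianLocalRing A] [IsReduced A] (hA : EGA4.IsExcellent A)
    [CommRing S] [IsLocalRing S] [Algebra A S] [IsLocalHom (algebraMap A S)]
    [Hensel.IsStrictHenselization A S] (Q : Ideal S) (hQ : Q ∈ minimalPrimes S) [Q.IsPrime]
    (t : Finset (FractionRing (S ⧸ Q))) :
    ∃ D' : Subalgebra A (S ⧸ Q), (D' : Set (S ⧸ Q)) =
        (algebraMap (S ⧸ Q) (FractionRing (S ⧸ Q))) ⁻¹'
        (Subfield.closure (Set.range (algebraMap A (FractionRing (S ⧸ Q))) ∪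
          (t : Set (FractionRing (S ⧸ Q)))) : Set (FractionRing (S ⧸ Q))) ∧
      Module.Finite A D' ∧ Algebra.FormallyUnramified A D' := by
  classical
  haveI : IsNoetherianRing A := hA.1
  obtain ⟨F, hF⟩ : ∃ F : Subfield (FractionRing (S ⧸ Q)), F = Subfield.closure
    (Set.range (algebraMap A (FractionRing (S ⧸ Q))) ∪ (t : Set (FractionRing (S ⧸ Q)))) :=
    ⟨_, rfl⟩
  rw [← hF]
  have hAF : ∀ a : A, algebraMap A (FractionRing (S ⧸ Q)) a ∈ F := fun a => by
    rw [hF]; exact Subfield.subset_closure (Or.inl ⟨a, rfl⟩)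
  let D : Subalgebra A (S ⧸ Q) :=
    { carrier := (algebraMap (S ⧸ Q) (FractionRing (S ⧸ Q))) ⁻¹' (F : Set (FractionRing (S ⧸ Q)))
      mul_mem' := by
        intro x y hx hy
        show algebraMap (S ⧸ Q) (FractionRing (S ⧸ Q)) (x * y) ∈ F
        rw [map_mul]; exact F.mul_mem hx hy
      add_mem' := by
        intro x y hx hy
        show algebraMap (S ⧸ Q) (FractionRing (S ⧸ Q)) (x + y) ∈ F
        rw [map_add]; exact F.add_mem hx hy
      algebraMap_mem' := by
        intro a
        show algebraMap (S ⧸ Q) (FractionRing (S ⧸ Q)) (algebraMap A (S ⧸ Q) a) ∈ F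
        rw [← IsScalarTower.algebraMap_apply A (S ⧸ Q) (FractionRing (S ⧸ Q))]
        exact hAF a }
  have hmemD : ∀ x : S ⧸ Q, x ∈ D ↔ algebraMap (S ⧸ Q) (FractionRing (S ⧸ Q)) x ∈ F :=
    fun _ => Iff.rfl
  refine ⟨D, rfl, ?_⟩
  -- the prime `P` and the domain `B = A ⧸ P`
  obtain ⟨P, hP⟩ : ∃ P : Ideal A, P = Q.comap (algebraMap A S) := ⟨_, rfl⟩
  haveI hPp : P.IsPrime := hP ▸ Ideal.comap_isPrime _ _
  haveI : IsLocalRing (A ⧸ P) := Groth.Agent.H47.Unibranch.isLocalRing_quotient _ hPp.ne_top
  haveI : HenselianLocalRing (A ⧸ P) := Groth.Agent.S13598.henselian_quotient P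
  have hNag : CAlg.IsNagata A :=
    Groth.Agent.H11.QENagata.isNagata_of_isQuasiExcellent A ⟨hA.1, hA.2.2.1, hA.2.2.2⟩
  have hN2B : CAlg.IsN2 (A ⧸ P) := hNag.2 P
  haveI hfinB : Module.Finite (A ⧸ P) (integralClosure (A ⧸ P) (FractionRing (A ⧸ P))) :=
    hN2B (FractionRing (A ⧸ P)) inferInstance
  haveI : IsLocalRing (integralClosure (A ⧸ P) (FractionRing (A ⧸ P))) :=
    Groth.Agent.H3.isLocalRing_of_isIntegral_of_isDomain (A ⧸ P) _
  haveI : IsIntegrallyClosed (integralClosure (A ⧸ P) (FractionRing (A ⧸ P))) :=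
    integralClosure.isIntegrallyClosedOfFiniteExtension (FractionRing (A ⧸ P))
  haveI : IsNoetherianRing (integralClosure (A ⧸ P) (FractionRing (A ⧸ P))) :=
    Algebra.FiniteType.isNoetherianRing (A ⧸ P) _
  have hNagB : CAlg.IsNagata (A ⧸ P) :=
    Groth.Agent.H11.NagataFT.isNagata_of_finiteType A hNag _
  have hNag₁ : CAlg.IsNagata (integralClosure (A ⧸ P) (FractionRing (A ⧸ P))) :=
    Groth.Agent.H11.NagataFT.isNagata_of_finiteType (A ⧸ P) hNagB _
  have hN2₁ : CAlg.IsN2 (integralClosure (A ⧸ P) (FractionRing (A ⧸ P))) :=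
    Groth.Agent.H11.NagataFT.isN2_of_isNagata_domain _ hNag₁
  haveI : HenselianLocalRing (integralClosure (A ⧸ P) (FractionRing (A ⧸ P))) :=
    Groth.Agent.H3.henselianLocalRing_of_isIntegral_of_isLocalRing (A ⧸ P) _
  haveI : IsScalarTower A (A ⧸ P) (integralClosure (A ⧸ P) (FractionRing (A ⧸ P))) :=
    inferInstance
  haveI : Module.Finite A (A ⧸ P) :=
    Module.Finite.of_surjective (Algebra.linearMap A (A ⧸ P)) Ideal.Quotient.mk_surjective
  haveI : Module.Finite A (integralClosure (A ⧸ P) (FractionRing (A ⧸ P))) :=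
    Module.Finite.trans (A ⧸ P) _
  haveI : Algebra.IsIntegral A (integralClosure (A ⧸ P) (FractionRing (A ⧸ P))) :=
    Algebra.IsIntegral.of_finite A _
  haveI : IsLocalHom (algebraMap A (integralClosure (A ⧸ P) (FractionRing (A ⧸ P)))) :=
    Groth.Agent.H3.isLocalHom_of_isIntegral A _
  -- the conductor
  have hinjB : Function.Injective
      (algebraMap (A ⧸ P) (integralClosure (A ⧸ P) (FractionRing (A ⧸ P)))) := by
    intro a b hab
    apply IsFractionRing.injective (A ⧸ P) (FractionRing (A ⧸ P))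
    have := congrArg
      (fun z : integralClosure (A ⧸ P) (FractionRing (A ⧸ P)) => (z : FractionRing (A ⧸ P))) hab
    exact this
  obtain ⟨s₁, hs₁⟩ := (Module.Finite.fg_top :
    (⊤ : Submodule (A ⧸ P) (integralClosure (A ⧸ P) (FractionRing (A ⧸ P)))).FG)
  obtain ⟨⟨cb, hcM⟩, hcs⟩ := IsLocalization.exist_integer_multiples_of_finset
    (nonZeroDivisors (A ⧸ P))
    (s₁.image (fun z : integralClosure (A ⧸ P) (FractionRing (A ⧸ P)) =>
      (z : FractionRing (A ⧸ P))))
  have hcb0 : cb ≠ 0 := nonZeroDivisors.ne_zero hcM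
  have hcB : ∀ a₁ : integralClosure (A ⧸ P) (FractionRing (A ⧸ P)), ∃ b : A ⧸ P,
      cb • a₁ = algebraMap (A ⧸ P) (integralClosure (A ⧸ P) (FractionRing (A ⧸ P))) b := by
    intro a₁
    have hmem : a₁ ∈ Submodule.span (A ⧸ P)
        (s₁ : Set (integralClosure (A ⧸ P) (FractionRing (A ⧸ P)))) := by
      rw [hs₁]; exact Submodule.mem_top
    induction hmem using Submodule.span_induction with
    | mem y hy =>
      obtain ⟨r, hr⟩ := hcs (y : FractionRing (A ⧸ P))
        (Finset.mem_image_of_mem _ (Finset.mem_coe.mp hy))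
      refine ⟨r, Subtype.ext ?_⟩
      exact hr.symm
    | zero => exact ⟨0, by rw [smul_zero, map_zero]⟩
    | add y₁ y₂ _ _ h₁ h₂ =>
      obtain ⟨r₁, hr₁⟩ := h₁
      obtain ⟨r₂, hr₂⟩ := h₂
      exact ⟨r₁ + r₂, by rw [smul_add, hr₁, hr₂, map_add]⟩
    | smul r y _ h =>
      obtain ⟨r', hr'⟩ := h
      exact ⟨r * r', by rw [smul_comm, hr', map_mul, Algebra.smul_def]⟩
  obtain ⟨c, rfl⟩ := Ideal.Quotient.mk_surjective cb
  have hc0 : algebraMap A (integralClosure (A ⧸ P) (FractionRing (A ⧸ P))) c ≠ 0 := by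
    rw [IsScalarTower.algebraMap_apply A (A ⧸ P)
      (integralClosure (A ⧸ P) (FractionRing (A ⧸ P)))]
    intro h
    exact hcb0 (hinjB (h.trans (map_zero _).symm))
  have hc : ∀ a₁ : integralClosure (A ⧸ P) (FractionRing (A ⧸ P)), ∃ a : A,
      c • a₁ = algebraMap A (integralClosure (A ⧸ P) (FractionRing (A ⧸ P))) a := by
    intro a₁
    obtain ⟨b, hb⟩ := hcB a₁
    obtain ⟨a, rfl⟩ := Ideal.Quotient.mk_surjective b
    refine ⟨a, ?_⟩
    rw [IsScalarTower.algebraMap_apply A (A ⧸ P)
      (integralClosure (A ⧸ P) (FractionRing (A ⧸ P))), ← algebraMap_smul (A ⧸ P) c a₁]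
    exact hb
  -- the field `K` receiving both `S ⧸ Q` and `A₁`
  let jB : A ⧸ P →+* S ⧸ Q := Ideal.quotientMap Q (algebraMap A S) hP.le
  have hjB : ∀ a : A, jB (Ideal.Quotient.mk P a) = Ideal.Quotient.mk Q (algebraMap A S a) :=
    fun a => rfl
  have hjBinj : Function.Injective jB := Ideal.quotientMap_injective' hP.ge
  have hRK : Function.Injective (algebraMap (S ⧸ Q) (FractionRing (S ⧸ Q))) :=
    IsFractionRing.injective _ _
  have hjK₀ : Function.Injective ((algebraMap (S ⧸ Q) (FractionRing (S ⧸ Q))).comp jB) :=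
    hRK.comp hjBinj
  let jA₁ : integralClosure (A ⧸ P) (FractionRing (A ⧸ P)) →+* FractionRing (S ⧸ Q) :=
    (IsFractionRing.lift hjK₀).comp
      (algebraMap (integralClosure (A ⧸ P) (FractionRing (A ⧸ P))) (FractionRing (A ⧸ P)))
  have hjA₁ : ∀ a : A, jA₁ (algebraMap A (integralClosure (A ⧸ P) (FractionRing (A ⧸ P))) a) =
      algebraMap A (FractionRing (S ⧸ Q)) a := by
    intro a
    show IsFractionRing.lift hjK₀ (algebraMap (integralClosure (A ⧸ P) (FractionRing (A ⧸ P)))
        (FractionRing (A ⧸ P))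
        (algebraMap A (integralClosure (A ⧸ P) (FractionRing (A ⧸ P))) a)) = _
    have h1 : algebraMap (integralClosure (A ⧸ P) (FractionRing (A ⧸ P)))
        (FractionRing (A ⧸ P))
        (algebraMap A (integralClosure (A ⧸ P) (FractionRing (A ⧸ P))) a) =
        algebraMap (A ⧸ P) (FractionRing (A ⧸ P)) (Ideal.Quotient.mk P a) := by
      rw [← IsScalarTower.algebraMap_apply A (integralClosure (A ⧸ P) (FractionRing (A ⧸ P)))
        (FractionRing (A ⧸ P)), IsScalarTower.algebraMap_apply A (A ⧸ P) (FractionRing (A ⧸ P))]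
      rfl
    rw [h1, IsFractionRing.lift_algebraMap, RingHom.comp_apply, hjB,
      Ideal.Quotient.mk_algebraMap,
      ← IsScalarTower.algebraMap_apply A (S ⧸ Q) (FractionRing (S ⧸ Q))]
  exact inter_subfield_reduced_aux A S Q hQ t (integralClosure (A ⧸ P) (FractionRing (A ⧸ P)))
    hN2₁ c hc0 hc jA₁ hjA₁ D (fun x => by rw [← hF]; exact hmemD x)

end Groth.Agent.H15.StrictSub
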