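import Mathlib
import Groth.Agent.H15.StrictSub5
import Groth.Agent.H15.StrictSub6
import Groth.Agent.H15.StrictSub8
import Groth.Agent.H47.UnibranchStrict
import Groth.Agent.H47.StrictQuot
import Groth.Agent.H47.Unibranch
import Groth.Agent.H47.HensCompletion
import Groth.Agent.H47.HensTransport
import Groth.Agent.S13598
import Groth.Agent.S2747
import Groth.Agent.S5043
import Groth.Agent.S16438
import Groth.Agent.S2782
import Groth.Agent.S0537
import Groth.Agent.H3.HInt

/-!
# Finite subalgebras of the strict henselization: étaleness and generation of minimal primes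
versus separable closedness of the residue fields of the normalization (S16436)
-/

set_option autoImplicit false
set_option linter.style.haveILetI false
set_option linter.unusedSectionVars false
universe u
open IsLocalRing

namespace Groth.Agent.H15.StrictSub9

open Groth.Agent.H15.NormRed

/-- "The residue field of the normalization of `D/p` is purely inseparable over that of `D`",
phrased without instances. -/
def PI (D : Type u) [CommRing D] (p : Ideal D) (q : ℕ) : Prop :=
  ∀ z : integralClosure (D ⧸ p) (FractionRing (D ⧸ p)),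
    ∃ (n : ℕ) (d : D), ¬ IsUnit (z ^ q ^ n -
      algebraMap (D ⧸ p) (integralClosure (D ⧸ p) (FractionRing (D ⧸ p))) (Ideal.Quotient.mk p d))

/-- The separable-closure condition at a maximal ideal, in elementary terms. -/
theorem sepClosure_eq_bot_iff (D D' : Type u) [CommRing D] [IsLocalRing D] [CommRing D']
    [Algebra D D'] [Algebra.IsIntegral D D'] (M : Ideal D') [M.IsMaximal] (q : ℕ)
    [ExpChar (ResidueField D) q] :
    separableClosure (Subfield.closure (Set.range
      ((algebraMap D' M.ResidueField).comp (algebraMap D D')))) M.ResidueField = ⊥ ↔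
      ∀ w : D', ∃ (n : ℕ) (d : D), w ^ q ^ n - algebraMap D D' d ∈ M := by
  classical
  obtain ⟨f, hf⟩ : ∃ f : D →+* M.ResidueField,
      f = (algebraMap D' M.ResidueField).comp (algebraMap D D') := ⟨_, rfl⟩
  rw [← hf]
  have hfd : ∀ d, f d = algebraMap D' M.ResidueField (algebraMap D D' d) := fun d => by
    rw [hf]; rfl
  have hcomap : M.comap (algebraMap D D') = maximalIdeal D := by
    have h1 : (M.comap (algebraMap D D')).IsMaximal :=
      Ideal.isMaximal_comap_of_isIntegral_of_isMaximal M
    exact IsLocalRing.eq_maximalIdeal h1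
  haveI hfloc : IsLocalHom f := by
    constructor
    intro d hd
    by_contra hnu
    have h1 : d ∈ maximalIdeal D := (IsLocalRing.mem_maximalIdeal d).mpr hnu
    rw [← hcomap, Ideal.mem_comap] at h1
    have h2 : f d = 0 := by rw [hfd]; exact Ideal.algebraMap_residueField_eq_zero.mpr h1
    rw [h2] at hd
    exact not_isUnit_zero hd
  obtain ⟨φ₀, hφ₀⟩ : ∃ φ₀ : ResidueField D →+* M.ResidueField,
      ∀ d, φ₀ (residue D d) = f d :=
    ⟨IsLocalRing.ResidueField.lift f, fun d => IsLocalRing.ResidueField.lift_residue_apply f d⟩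
  haveI hqM : ExpChar M.ResidueField q := expChar_of_injective_ringHom φ₀.injective q
  obtain ⟨k₀, hk₀⟩ : ∃ k₀ : Subfield M.ResidueField, k₀ = Subfield.closure (Set.range f) :=
    ⟨_, rfl⟩
  rw [← hk₀]
  haveI hqk : ExpChar k₀ q :=
    RingHom.expChar (algebraMap k₀ M.ResidueField) (algebraMap k₀ M.ResidueField).injective q
  have hmem : ∀ y ∈ k₀, ∃ d, f d = y := by
    intro y hy
    have hle : k₀ ≤ φ₀.fieldRange := by
      rw [hk₀, Subfield.closure_le]
      rintro _ ⟨d, rfl⟩
      exact ⟨residue D d, hφ₀ d⟩
    obtain ⟨r, hr⟩ := hle hy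
    obtain ⟨d, rfl⟩ := residue_surjective r
    exact ⟨d, (hφ₀ d).symm.trans hr⟩
  have hsub : ∀ d, f d ∈ k₀ := fun d => by
    rw [hk₀]; exact Subfield.subset_closure ⟨d, rfl⟩
  have hsurj := Ideal.algebraMap_residueField_surjective M
  constructor
  · intro h w
    haveI : Algebra.IsAlgebraic k₀ M.ResidueField := by
      refine ⟨fun x => ?_⟩
      obtain ⟨w', rfl⟩ := hsurj x
      have hw' : IsIntegral D w' := Algebra.IsIntegral.isIntegral w'
      have h1 : IsIntegral k₀ (algebraMap D' M.ResidueField w') :=
        hw'.map_of_comp_eq (f.codRestrict k₀ hsub) (algebraMap D' M.ResidueField)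
          (RingHom.ext fun d => hfd d)
      exact h1.isAlgebraic
    have hpi : IsPurelyInseparable k₀ M.ResidueField := separableClosure.eq_bot_iff.mp h
    obtain ⟨n, y, hy⟩ := (isPurelyInseparable_iff_pow_mem k₀ q).mp hpi
      (algebraMap D' M.ResidueField w)
    obtain ⟨d, hd⟩ := hmem (y : M.ResidueField) y.2
    refine ⟨n, d, ?_⟩
    rw [← Ideal.algebraMap_residueField_eq_zero, map_sub, map_pow, ← hfd, hd, ← hy]
    exact sub_self _
  · intro h
    haveI : IsPurelyInseparable k₀ M.ResidueField := by
      refine (isPurelyInseparable_iff_pow_mem k₀ q).mpr fun x => ?_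
      obtain ⟨w, rfl⟩ := hsurj x
      obtain ⟨n, d, hnd⟩ := h w
      refine ⟨n, ⟨f d, hsub d⟩, ?_⟩
      rw [← Ideal.algebraMap_residueField_eq_zero, map_sub, map_pow, ← hfd] at hnd
      exact (sub_eq_zero.mp hnd).symm
    exact separableClosure.eq_bot_of_isPurelyInseparable k₀ M.ResidueField

/-- An `A`-endomorphism of the strict henselization is surjective. -/
theorem end_surjective (A S : Type u) [CommRing A] [IsLocalRing A] [CommRing S] [IsLocalRing S]
    [Algebra A S] [IsLocalHom (algebraMap A S)] [Hensel.IsStrictHenselization A S]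
    (φ : S →+* S) (hφ : φ.comp (algebraMap A S) = algebraMap A S) : Function.Surjective φ := by
  have hI := Groth.Agent.H47.HensNoeth.isIndEtaleLocal_of_isStrictHenselization A S
  haveI hS : HenselianLocalRing S := Hensel.IsStrictHenselization.henselian (R := A)
  haveI hφloc : IsLocalHom φ :=
    Groth.Agent.H47.HensTensor.isLocalHom_of_comp_of_map_eq hI.map_max φ
      (by rw [hφ]; infer_instance)
  have hsc : IsSepClosure (ResidueField A) (ResidueField S) :=
    Hensel.IsStrictHenselization.isSepClosure
  haveI : Algebra.IsSeparable (ResidueField A) (ResidueField S) := hsc.separable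
  haveI : Algebra.IsAlgebraic (ResidueField A) (ResidueField S) :=
    Algebra.IsSeparable.isAlgebraic _ _
  have hcomm : ∀ a : A, ResidueField.map φ (residue S (algebraMap A S a)) =
      residue S (algebraMap A S a) := fun a => by
    have h0 := RingHom.congr_fun hφ a
    rw [RingHom.comp_apply] at h0
    rw [ResidueField.map_residue]
    show residue S (φ (algebraMap A S a)) = _
    rw [h0]
  let ρ : ResidueField S →ₐ[ResidueField A] ResidueField S :=
    { ResidueField.map φ with
      commutes' := fun r => by
        obtain ⟨a, rfl⟩ := residue_surjective r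
        exact hcomm a }
  have hρ : Function.Bijective (ResidueField.map φ) := Algebra.IsAlgebraic.algHom_bijective ρ
  obtain ⟨e, he⟩ : ∃ e : ResidueField S ≃+* ResidueField S,
      ∀ x, e x = ResidueField.map φ x := ⟨RingEquiv.ofBijective _ hρ, fun _ => rfl⟩
  have hτ : (e.symm : ResidueField S →+* ResidueField S).comp
      (ResidueField.map (algebraMap A S)) = ResidueField.map (algebraMap A S) := by
    refine RingHom.ext fun r => ?_
    obtain ⟨a, rfl⟩ := residue_surjective r
    rw [RingHom.comp_apply, ResidueField.map_residue]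
    show e.symm (residue S (algebraMap A S a)) = _
    rw [RingEquiv.symm_apply_eq, he, hcomm]
  obtain ⟨ν, ⟨hν1, hν2⟩, -⟩ := Hensel.IsStrictHenselization.universal (R := A) (S := S) S
    (algebraMap A S) (e.symm : ResidueField S →+* ResidueField S) hτ
  have hid : (RingHom.id (ResidueField S)).comp (ResidueField.map (algebraMap A S)) =
      ResidueField.map (algebraMap A S) := RingHom.id_comp _
  obtain ⟨g, -, hguniq⟩ := Hensel.IsStrictHenselization.universal (R := A) (S := S) S
    (algebraMap A S) (RingHom.id (ResidueField S)) hid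
  have h1 : φ.comp ν = g := hguniq _ ⟨by rw [RingHom.comp_assoc, hν1, hφ], fun x => by
    rw [RingHom.comp_apply, RingHom.id_apply, ← ResidueField.map_residue φ, hν2, ← he]
    exact e.apply_symm_apply _⟩
  have h2 : RingHom.id S = g := hguniq _ ⟨RingHom.id_comp _, fun x => rfl⟩
  intro s
  exact ⟨ν s, RingHom.congr_fun (h1.trans h2.symm) s⟩

/-- A ring in which a local ring is integral and which injects into it is local. -/
theorem isLocalRing_of_integral_injective (D S : Type u) [CommRing D] [CommRing S]
    [IsLocalRing S] [Algebra D S] [Algebra.IsIntegral D S]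
    (hinj : Function.Injective (algebraMap D S)) : IsLocalRing D := by
  haveI : Nontrivial D := RingHom.domain_nontrivial (algebraMap D S)
  obtain ⟨M₀, hM₀⟩ := Ideal.exists_maximal D
  refine IsLocalRing.of_unique_max_ideal ⟨M₀, hM₀, fun M hM => ?_⟩
  have hker : ∀ (P : Ideal D), RingHom.ker (algebraMap D S) ≤ P := fun P => by
    rw [(RingHom.injective_iff_ker_eq_bot _).mp hinj]; exact bot_le
  haveI := hM
  haveI := hM₀
  obtain ⟨Q, hQ, hQc⟩ := Ideal.exists_ideal_over_maximal_of_isIntegral (S := S) M (hker M)
  obtain ⟨Q₀, hQ₀, hQ₀c⟩ := Ideal.exists_ideal_over_maximal_of_isIntegral (S := S) M₀ (hker M₀)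
  rw [← hQc, ← hQ₀c, IsLocalRing.eq_maximalIdeal hQ, IsLocalRing.eq_maximalIdeal hQ₀]

/-- The normalization of a quotient domain of a henselian local ring is local. -/
theorem isLocalRing_normalization (D : Type u) [CommRing D] [HenselianLocalRing D]
    (p : Ideal D) [p.IsPrime] :
    IsLocalRing (integralClosure (D ⧸ p) (FractionRing (D ⧸ p))) := by
  haveI : IsLocalRing (D ⧸ p) := Groth.Agent.H47.Unibranch.isLocalRing_quotient _
    (Ideal.IsPrime.ne_top inferInstance)
  haveI : HenselianLocalRing (D ⧸ p) := Groth.Agent.S13598.henselian_quotient p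
  exact Groth.Agent.H47.Unibranch.isLocalRing_of_isIntegral_of_isDomain (D ⧸ p) _

section Strict

variable (D T : Type u) [CommRing D] [HenselianLocalRing D] [CommRing T]
  [IsLocalRing T] [Algebra D T] [IsLocalHom (algebraMap D T)] [Hensel.IsStrictHenselization D T]

theorem isPrime_map_of_pi (p : Ideal D) [p.IsPrime] (q : ℕ) [ExpChar (ResidueField D) q]
    (hpi : PI D p q) : (p.map (algebraMap D T)).IsPrime := by
  have hI : p ≤ maximalIdeal D := IsLocalRing.le_maximalIdeal (Ideal.IsPrime.ne_top inferInstance)
  have hJ : p.map (algebraMap D T) ≤ maximalIdeal T :=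
    Groth.Agent.H47.Unibranch.map_le_maximalIdeal D T hI
  haveI : IsLocalRing (D ⧸ p) := Groth.Agent.H47.Unibranch.isLocalRing_quotient _
    (Ideal.IsPrime.ne_top inferInstance)
  haveI : IsLocalRing (T ⧸ p.map (algebraMap D T)) :=
    Groth.Agent.H47.Unibranch.isLocalRing_quotient _
      (fun h => (maximalIdeal.isMaximal T).ne_top (top_le_iff.mp (h ▸ hJ)))
  haveI : IsLocalHom (algebraMap (D ⧸ p) (T ⧸ p.map (algebraMap D T))) :=
    Groth.Agent.H47.Unibranch.isLocalHom_quotient_map D T _
  haveI : Hensel.IsStrictHenselization (D ⧸ p) (T ⧸ p.map (algebraMap D T)) :=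
    Groth.Agent.H47.StrictQuot.isStrictHenselization_quotient p
  haveI : IsLocalRing (integralClosure (D ⧸ p) (FractionRing (D ⧸ p))) :=
    isLocalRing_normalization D p
  haveI : IsLocalHom (algebraMap (D ⧸ p) (integralClosure (D ⧸ p) (FractionRing (D ⧸ p)))) :=
    Groth.Agent.H47.HensTensor.isLocalHom_algebraMap_of_isIntegral _ _
  haveI : IsIntegrallyClosed (integralClosure (D ⧸ p) (FractionRing (D ⧸ p))) :=
    integralClosure.isIntegrallyClosedOfFiniteExtension (FractionRing (D ⧸ p))
  haveI : IsLocalHom (Ideal.Quotient.mk p) :=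
    IsLocalHom.of_surjective _ Ideal.Quotient.mk_surjective
  haveI hq' : ExpChar (ResidueField (D ⧸ p)) q :=
    expChar_of_injective_ringHom (f := ResidueField.map (Ideal.Quotient.mk p))
      (RingHom.injective _) q
  haveI : IsPurelyInseparable (ResidueField (D ⧸ p))
      (ResidueField (integralClosure (D ⧸ p) (FractionRing (D ⧸ p)))) := by
    refine (isPurelyInseparable_iff_pow_mem (ResidueField (D ⧸ p)) q).mpr fun x => ?_
    obtain ⟨z, rfl⟩ := residue_surjective x
    obtain ⟨n, d, hnd⟩ := hpi z
    refine ⟨n, residue _ (Ideal.Quotient.mk p d), ?_⟩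
    have h1 : residue (integralClosure (D ⧸ p) (FractionRing (D ⧸ p))) (z ^ q ^ n -
        algebraMap (D ⧸ p) (integralClosure (D ⧸ p) (FractionRing (D ⧸ p)))
          (Ideal.Quotient.mk p d)) = 0 :=
      (residue_eq_zero_iff _).mpr ((IsLocalRing.mem_maximalIdeal _).mpr hnd)
    rw [map_sub, map_pow, sub_eq_zero] at h1
    rw [ResidueField.algebraMap_residue]
    exact h1.symm
  haveI : IsDomain (T ⧸ p.map (algebraMap D T)) :=
    Groth.Agent.H47.UnibranchStrict.isDomain_strict_general (D ⧸ p)
      (integralClosure (D ⧸ p) (FractionRing (D ⧸ p))) (T ⧸ p.map (algebraMap D T))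
      (Groth.Agent.H47.UnibranchStrict.injective_algebraMap_integralClosure (D ⧸ p))
  exact (Ideal.Quotient.isDomain_iff_prime _).mp inferInstance

theorem pi_of_isPrime_map (p : Ideal D) [p.IsPrime] (q : ℕ) [ExpChar (ResidueField D) q]
    (hprime : (p.map (algebraMap D T)).IsPrime) : PI D p q := by
  have hI : p ≤ maximalIdeal D := IsLocalRing.le_maximalIdeal (Ideal.IsPrime.ne_top inferInstance)
  have hJ : p.map (algebraMap D T) ≤ maximalIdeal T :=
    Groth.Agent.H47.Unibranch.map_le_maximalIdeal D T hI
  haveI : IsLocalRing (D ⧸ p) := Groth.Agent.H47.Unibranch.isLocalRing_quotient _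
    (Ideal.IsPrime.ne_top inferInstance)
  haveI : IsLocalRing (T ⧸ p.map (algebraMap D T)) :=
    Groth.Agent.H47.Unibranch.isLocalRing_quotient _
      (fun h => (maximalIdeal.isMaximal T).ne_top (top_le_iff.mp (h ▸ hJ)))
  haveI : IsLocalHom (algebraMap (D ⧸ p) (T ⧸ p.map (algebraMap D T))) :=
    Groth.Agent.H47.Unibranch.isLocalHom_quotient_map D T _
  haveI : Hensel.IsStrictHenselization (D ⧸ p) (T ⧸ p.map (algebraMap D T)) :=
    Groth.Agent.H47.StrictQuot.isStrictHenselization_quotient p
  haveI : IsDomain (T ⧸ p.map (algebraMap D T)) :=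
    (Ideal.Quotient.isDomain_iff_prime _).mpr hprime
  haveI : IsLocalHom (Ideal.Quotient.mk p) :=
    IsLocalHom.of_surjective _ Ideal.Quotient.mk_surjective
  haveI hq' : ExpChar (ResidueField (D ⧸ p)) q :=
    expChar_of_injective_ringHom (f := ResidueField.map (Ideal.Quotient.mk p))
      (RingHom.injective _) q
  obtain ⟨hloc, hlh, hPI⟩ := Groth.Agent.H47.UnibranchStrict.strict_facts_of_isDomain (D ⧸ p)
    (T ⧸ p.map (algebraMap D T))
  haveI := hloc
  haveI := hlh
  haveI := hPI
  intro z
  obtain ⟨n, y, hy⟩ := (isPurelyInseparable_iff_pow_mem (ResidueField (D ⧸ p)) q).mp hPI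
    (residue _ z)
  obtain ⟨d', rfl⟩ := residue_surjective y
  obtain ⟨d, rfl⟩ := Ideal.Quotient.mk_surjective d'
  refine ⟨n, d, ?_⟩
  rw [ResidueField.algebraMap_residue] at hy
  have h1 : residue (integralClosure (D ⧸ p) (FractionRing (D ⧸ p))) (z ^ q ^ n -
      algebraMap (D ⧸ p) (integralClosure (D ⧸ p) (FractionRing (D ⧸ p)))
        (Ideal.Quotient.mk p d)) = 0 := by
    rw [map_sub, map_pow, hy, sub_self]
  exact (IsLocalRing.mem_maximalIdeal _).mp ((residue_eq_zero_iff _).mp h1)

/-- Under `PI` at all minimal primes, the minimal primes of the strict henselization are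
extended. -/
theorem eq_map_comap_of_pi (q : ℕ) [ExpChar (ResidueField D) q]
    (hpi : ∀ (p : Ideal D), p ∈ minimalPrimes D → PI D p q)
    (Q : Ideal T) (hQ : Q ∈ minimalPrimes T) :
    Q = Ideal.map (algebraMap D T) (Q.comap (algebraMap D T)) := by
  have hIT := Groth.Agent.H47.HensNoeth.isIndEtaleLocal_of_isStrictHenselization D T
  haveI : Module.Flat D T := hIT.flat
  have hp := Groth.Agent.H47.HensCompletion.comap_mem_minimalPrimes (S := D) (T := T) hQ
  haveI : (Q.comap (algebraMap D T)).IsPrime := hp.1.1
  have hprime := isPrime_map_of_pi D T _ q (hpi _ hp)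
  exact le_antisymm (hQ.2 ⟨hprime, bot_le⟩ Ideal.map_comap_le) Ideal.map_comap_le

end Strict

/-- `PI` at all minimal primes versus the elementary condition at all maximal ideals of the
normalization. -/
theorem pi_iff_forall_maximal (D : Type u) [CommRing D] [HenselianLocalRing D] [IsReduced D]
    [IsNoetherianRing D] (q : ℕ) :
    (∀ (M : Ideal (integralClosure D (FractionRing D))) [M.IsMaximal],
      ∀ w : integralClosure D (FractionRing D), ∃ (n : ℕ) (d : D),
        w ^ q ^ n - algebraMap D (integralClosure D (FractionRing D)) d ∈ M) ↔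
    ∀ (p : Ideal D), p ∈ minimalPrimes D → PI D p q := by
  constructor
  · intro h p hp z
    haveI : p.IsPrime := hp.1.1
    haveI : IsLocalRing (integralClosure (D ⧸ p) (FractionRing (D ⧸ p))) :=
      isLocalRing_normalization D p
    have hsurj := normMap_surjective D p hp
    obtain ⟨w, rfl⟩ := hsurj z
    haveI hM : ((maximalIdeal (integralClosure (D ⧸ p) (FractionRing (D ⧸ p)))).comap
        (normMap D p hp)).IsMaximal :=
      Ideal.comap_isMaximal_of_surjective (normMap D p hp) hsurj
    obtain ⟨n, d, hnd⟩ := h ((maximalIdeal (integralClosure (D ⧸ p) (FractionRing (D ⧸ p)))).comap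
        (normMap D p hp)) w
    refine ⟨n, d, ?_⟩
    rw [Ideal.mem_comap, map_sub, map_pow, normMap_algebraMap] at hnd
    exact (IsLocalRing.mem_maximalIdeal _).mp hnd
  · intro h M hM w
    obtain ⟨p, hp, hker⟩ := exists_ker_normMap_le D M
    haveI : p.IsPrime := hp.1.1
    haveI : IsLocalRing (integralClosure (D ⧸ p) (FractionRing (D ⧸ p))) :=
      isLocalRing_normalization D p
    have hsurj := normMap_surjective D p hp
    have hMle : M ≤ (maximalIdeal (integralClosure (D ⧸ p) (FractionRing (D ⧸ p)))).comap
        (normMap D p hp) := by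
      intro x hx
      rw [Ideal.mem_comap]
      by_contra hnot
      have hu : IsUnit (normMap D p hp x) := IsLocalRing.notMem_maximalIdeal.mp hnot
      obtain ⟨y', hy'⟩ := hu.exists_right_inv
      obtain ⟨y, rfl⟩ := hsurj y'
      have h1 : x * y - 1 ∈ RingHom.ker (normMap D p hp) := by
        rw [RingHom.mem_ker, map_sub, map_mul, hy', map_one, sub_self]
      have h2 := hker h1
      have h3 : (1 : integralClosure D (FractionRing D)) ∈ M := by
        have := M.sub_mem (M.mul_mem_right y hx) h2
        simpa using this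
      exact hM.ne_top ((Ideal.eq_top_iff_one _).mpr h3)
    have heq : M = (maximalIdeal (integralClosure (D ⧸ p) (FractionRing (D ⧸ p)))).comap
        (normMap D p hp) :=
      hM.eq_of_le (Ideal.comap_ne_top _ (maximalIdeal.isMaximal _).ne_top) hMle
    obtain ⟨n, d, hnd⟩ := h p hp (normMap D p hp w)
    refine ⟨n, d, ?_⟩
    rw [heq, Ideal.mem_comap, map_sub, map_pow, normMap_algebraMap]
    exact (IsLocalRing.mem_maximalIdeal _).mpr hnd

end Groth.Agent.H15.StrictSub9
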