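import Mathlib
import Groth.Agent.H15.StrictSub9

/-!
# S16436: étaleness and generation of minimal primes for a finite subalgebra of the strict
henselization, versus separable closedness in the residue fields of the normalization
-/

set_option autoImplicit false
set_option linter.style.haveILetI false
set_option linter.unusedSectionVars false
universe u
open IsLocalRing

namespace Groth.Agent.H15.StrictSub9

set_option synthInstance.maxHeartbeats 400000 in
set_option maxHeartbeats 3200000 in
theorem etale_and_generated_iff
    (A S : Type u) [CommRing A] [HenselianLocalRing A] [IsReduced A] (hA : EGA4.IsExcellent A)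
    [CommRing S] [IsLocalRing S] [Algebra A S] [IsLocalHom (algebraMap A S)]
    [Hensel.IsStrictHenselization A S] (D : Subalgebra A S) [Module.Finite A D] :
    (Algebra.Etale A D ∧
        ∀ Q ∈ minimalPrimes S, Q = Ideal.map (algebraMap D S) (Q.comap (algebraMap D S))) ↔
      ∀ (M : Ideal (integralClosure D (FractionRing D))) [M.IsMaximal],
        separableClosure (Subfield.closure (Set.range ((algebraMap (integralClosure D (FractionRing D)) M.ResidueField).comp (algebraMap D (integralClosure D (FractionRing D)))))) M.ResidueField = ⊥ := by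
  classical
  haveI : IsNoetherianRing A := hA.1
  haveI : IsNoetherianRing D := IsNoetherianRing.of_finite A D
  have hIA := Groth.Agent.H47.HensNoeth.isIndEtaleLocal_of_isStrictHenselization A S
  haveI : IsReduced S := (Groth.Agent.S2747.result A S).mpr inferInstance
  have hinjD : Function.Injective (algebraMap D S) := Subtype.val_injective
  haveI : IsReduced D := isReduced_of_injective (algebraMap D S) hinjD
  haveI : Algebra.IsIntegral A S := Groth.Agent.H15.StrictSub.isIntegral_of_henselian A S
  haveI : Algebra.IsIntegral D S := Algebra.IsIntegral.tower_top (R := A)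
  haveI hDloc : IsLocalRing D := isLocalRing_of_integral_injective D S hinjD
  haveI : IsLocalHom (algebraMap D S) :=
    Groth.Agent.H47.HensTensor.isLocalHom_algebraMap_of_isIntegral D S
  haveI : Algebra.IsIntegral A D := Algebra.IsIntegral.of_finite A D
  haveI : HenselianLocalRing D :=
    Groth.Agent.H3.henselianLocalRing_of_isIntegral_of_isLocalRing A D
  haveI : IsLocalHom (algebraMap A D) :=
    Groth.Agent.H47.HensTensor.isLocalHom_algebraMap_of_isIntegral A D
  obtain ⟨q, hq⟩ : ∃ q, q = ringExpChar (ResidueField D) := ⟨_, rfl⟩
  haveI : ExpChar (ResidueField D) q := by rw [hq]; exact ringExpChar.expChar _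
  have hRHS : (∀ (M : Ideal (integralClosure D (FractionRing D))) [M.IsMaximal],
        separableClosure (Subfield.closure (Set.range ((algebraMap (integralClosure D (FractionRing D)) M.ResidueField).comp (algebraMap D (integralClosure D (FractionRing D)))))) M.ResidueField = ⊥) ↔
      ∀ (p : Ideal D), p ∈ minimalPrimes D → PI D p q := by
    rw [← pi_iff_forall_maximal D q]
    constructor
    · intro h M hM
      exact (sepClosure_eq_bot_iff D _ M q).mp (h M)
    · intro h M hM
      exact (sepClosure_eq_bot_iff D _ M q).mpr (h M)
  rw [hRHS]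
  constructor
  · rintro ⟨hEt, hgen⟩
    haveI := hEt
    haveI : Hensel.IsStrictHenselization D S :=
      Groth.Agent.H15.StrictSub.isStrictHenselization_of_etale_local A S D
    have hID := Groth.Agent.H47.HensNoeth.isIndEtaleLocal_of_isStrictHenselization D S
    haveI : Module.Flat D S := hID.flat
    haveI : Module.FaithfullyFlat D S := hID.faithfullyFlat
    intro p hp
    haveI : p.IsPrime := hp.1.1
    obtain ⟨Q, hQ, hQp⟩ :=
      Groth.Agent.H47.HensCompletion.exists_minimalPrimes_comap_eq (S := D) (T := S) hp
    have hQeq := hgen Q hQ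
    rw [hQp] at hQeq
    have hprime : (p.map (algebraMap D S)).IsPrime := hQeq ▸ hQ.1.1
    exact pi_of_isPrime_map D S p q hprime
  · intro hpi
    obtain ⟨T, _, _, _, _, hT⟩ := Groth.Agent.S0537.result D
    haveI := hT
    have hIT := Groth.Agent.H47.HensNoeth.isIndEtaleLocal_of_isStrictHenselization D T
    haveI : Module.Flat D T := hIT.flat
    haveI : Module.FaithfullyFlat D T := hIT.faithfullyFlat
    haveI hTh : HenselianLocalRing T := Hensel.IsStrictHenselization.henselian (R := D)
    haveI hSh : HenselianLocalRing S := Hensel.IsStrictHenselization.henselian (R := A)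
    haveI : IsReduced T := (Groth.Agent.S2747.result D T).mpr inferInstance
    have hscT : IsSepClosure (ResidueField D) (ResidueField T) :=
      Hensel.IsStrictHenselization.isSepClosure
    have hscS : IsSepClosure (ResidueField A) (ResidueField S) :=
      Hensel.IsStrictHenselization.isSepClosure
    haveI : IsSepClosed (ResidueField S) := hscS.sep_closed
    haveI : Algebra.IsSeparable (ResidueField D) (ResidueField T) := hscT.separable
    let τ₀ : ResidueField T →ₐ[ResidueField D] ResidueField S := IsSepClosed.lift
    have hτ : τ₀.toRingHom.comp (ResidueField.map (algebraMap D T)) =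
        ResidueField.map (algebraMap D S) := by
      refine RingHom.ext fun x => ?_
      obtain ⟨a, rfl⟩ := residue_surjective x
      have h := τ₀.commutes (residue D a)
      rw [ResidueField.algebraMap_residue, ResidueField.algebraMap_residue] at h
      rw [RingHom.comp_apply, ResidueField.map_residue, ResidueField.map_residue]
      exact h
    obtain ⟨μ, ⟨hμ1, hμ2⟩, -⟩ := Hensel.IsStrictHenselization.universal (R := D) (S := T) S
      (algebraMap D S) τ₀.toRingHom hτ
    -- minimal primes of `T` are extended
    have hminT := eq_map_comap_of_pi D T q hpi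
    -- `ker μ` is nilpotent
    have hker : RingHom.ker μ ≤ nilradical T := by
      rw [nilradical_eq_sInf]
      refine le_sInf fun P hP => ?_
      have hP' : P.IsPrime := hP
      obtain ⟨𝔮, h𝔮, h𝔮P⟩ := Ideal.exists_minimalPrimes_le (I := (⊥ : Ideal T)) (J := P) bot_le
      refine le_trans ?_ h𝔮P
      have hp := Groth.Agent.H47.HensCompletion.comap_mem_minimalPrimes (S := D) (T := T) h𝔮
      haveI : (𝔮.comap (algebraMap D T)).IsPrime := hp.1.1
      obtain ⟨Q', -, hQ'prime, hQ'p⟩ := Ideal.exists_ideal_over_prime_of_isIntegral (S := S)
        (𝔮.comap (algebraMap D T)) (⊥ : Ideal S)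
        (by rw [Ideal.comap_bot_of_injective _ hinjD]; exact bot_le)
      haveI := hQ'prime
      haveI : (Q'.comap μ).IsPrime := Ideal.comap_isPrime _ _
      have hP₂ : (Q'.comap μ).comap (algebraMap D T) = 𝔮.comap (algebraMap D T) := by
        rw [Ideal.comap_comap, hμ1, hQ'p]
      have h𝔮eq := hminT 𝔮 h𝔮
      haveI : 𝔮.IsPrime := h𝔮.1.1
      have hle : 𝔮 ≤ Q'.comap μ := h𝔮eq.le.trans (Ideal.map_le_iff_le_comap.mpr hP₂.ge)
      have heq : 𝔮 = Q'.comap μ :=
        Groth.Agent.S5043.eq_of_le_of_comap_eq hIT hle hP₂.symm
      rw [heq]
      intro x hx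
      rw [Ideal.mem_comap, (RingHom.mem_ker).mp hx]
      exact Q'.zero_mem
    have hμinj : Function.Injective μ :=
      (RingHom.injective_iff_ker_eq_bot μ).mpr
        (le_bot_iff.mp (hker.trans (nilradical_eq_zero T).le))
    obtain ⟨σ, hσ⟩ := Groth.Agent.H47.HensTransport.exists_sigma A D S T
    have hφ : (μ.comp σ).comp (algebraMap A S) = algebraMap A S := by
      rw [RingHom.comp_assoc, hσ, ← RingHom.comp_assoc, hμ1]
      exact (IsScalarTower.algebraMap_eq A D S).symm
    have hsurjφ := end_surjective A S (μ.comp σ) hφ
    have hμsurj : Function.Surjective μ := fun s => by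
      obtain ⟨x, hx⟩ := hsurjφ s
      exact ⟨σ x, hx⟩
    let μₐ : T →ₐ[D] S := { μ with commutes' := fun d => RingHom.congr_fun hμ1 d }
    let e : T ≃ₐ[D] S := AlgEquiv.ofBijective μₐ ⟨hμinj, hμsurj⟩
    haveI : Module.Flat D S := Module.Flat.of_linearEquiv e.symm.toLinearEquiv
    haveI : Module.FaithfullyFlat D S := Module.FaithfullyFlat.of_flat_of_isLocalHom
    have hm : Ideal.map (algebraMap A D) (maximalIdeal A) = maximalIdeal D := by
      have h1 : ((maximalIdeal A).map (algebraMap A D)).map (algebraMap D S) = maximalIdeal S := by
        rw [Ideal.map_map, ← IsScalarTower.algebraMap_eq]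
        exact hIA.map_max
      have h2 := Ideal.comap_map_eq_self_of_faithfullyFlat (B := S)
        ((maximalIdeal A).map (algebraMap A D))
      rw [h1] at h2
      rw [← h2]
      exact ((IsLocalRing.local_hom_TFAE (algebraMap D S)).out 0 4).mp
        (inferInstance : IsLocalHom (algebraMap D S))
    have hEss := Groth.Agent.S16438.result A S D hm
    obtain ⟨hFE, -⟩ := Groth.Agent.S2782.instances_of_isEssentiallyEtale hEss
    haveI := hFE
    haveI : Algebra.FinitePresentation A D :=
      Algebra.FinitePresentation.of_finiteType.mp inferInstance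
    haveI hEt : Algebra.Etale A D := {}
    refine ⟨hEt, ?_⟩
    haveI : Hensel.IsStrictHenselization D S :=
      Groth.Agent.H15.StrictSub.isStrictHenselization_of_etale_local A S D
    exact eq_map_comap_of_pi D S q hpi

end Groth.Agent.H15.StrictSub9
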