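import Mathlib
import Groth.Agent.H15.StrictSub10
import Groth.Agent.H15.EssSub5
import Groth.Agent.H15.SepCount
import Groth.Agent.S17977
import Groth.Agent.S2782

/-!
# S16437: generation of the minimal primes of the strict henselization by an essentially étale
local algebra, versus splitting of the separable closure of the residue field extension of the
normalization
-/

set_option autoImplicit false
set_option linter.style.haveILetI false
set_option linter.unusedSectionVars false
universe u
open TensorProduct IsLocalRing

namespace Groth.Agent.H15.EssSub6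

open Groth.Agent.H15.StrictSub9 Groth.Agent.H15.SepCount

/-- A strict henselization of `A` is also a strict henselization of any essentially étale local
`A`-algebra mapping locally to it. -/
theorem isStrictHenselization_of_essEtale_local (A S E : Type u) [CommRing A] [IsLocalRing A]
    [CommRing S] [IsLocalRing S] [Algebra A S] [IsLocalHom (algebraMap A S)]
    [Hensel.IsStrictHenselization A S]
    [CommRing E] [IsLocalRing E] [Algebra A E] [IsLocalHom (algebraMap A E)]
    (hE : EGA4loc.IsEssentiallyEtale A E)
    [Algebra E S] [IsScalarTower A E S] [IsLocalHom (algebraMap E S)] :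
    Hensel.IsStrictHenselization E S := by
  obtain ⟨hFE, hEF⟩ := Groth.Agent.S2782.instances_of_isEssentiallyEtale hE
  haveI := hFE
  haveI := hEF
  have hsc : IsSepClosure (ResidueField A) (ResidueField S) :=
    (inferInstance : Hensel.IsStrictHenselization A S).isSepClosure
  haveI : Algebra.IsSeparable (ResidueField A) (ResidueField S) := hsc.separable
  refine ⟨(inferInstance : Hensel.IsStrictHenselization A S).henselian, ⟨hsc.sep_closed, ?_⟩, ?_⟩
  · exact Algebra.isSeparable_tower_top_of_isSeparable (ResidueField A) (ResidueField E)
      (ResidueField S)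
  · intro T' _ _ f _ τ hτ
    haveI hf₀ : IsLocalHom (f.comp (algebraMap A E)) := RingHom.isLocalHom_comp _ _
    have hτ₀ : τ.comp (ResidueField.map (algebraMap A S)) =
        ResidueField.map (f.comp (algebraMap A E)) := by
      refine RingHom.ext fun x => ?_
      obtain ⟨a, rfl⟩ := residue_surjective x
      have h1 := RingHom.congr_fun hτ (residue E (algebraMap A E a))
      rw [RingHom.comp_apply, ResidueField.map_residue, ResidueField.map_residue] at h1
      rw [RingHom.comp_apply, ResidueField.map_residue, ResidueField.map_residue,
        IsScalarTower.algebraMap_apply A E S]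
      exact h1
    obtain ⟨g, ⟨hg1, hg2⟩, huniq⟩ := Hensel.IsStrictHenselization.universal (R := A) (S := S) T'
      (f.comp (algebraMap A E)) τ hτ₀
    letI algAT' : Algebra A T' := (f.comp (algebraMap A E)).toAlgebra
    let G₁ : E →ₐ[A] T' :=
      { g.comp (algebraMap E S) with
        commutes' := fun a => by
          show g (algebraMap E S (algebraMap A E a)) = f (algebraMap A E a)
          rw [← IsScalarTower.algebraMap_apply A E S]
          exact RingHom.congr_fun hg1 a }
    let G₂ : E →ₐ[A] T' := { f with commutes' := fun a => rfl }
    have hG : G₁ = G₂ := by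
      apply Groth.Agent.S2782.algHom_eq_of_residue_eq
      intro e
      show residue T' (g (algebraMap E S e)) = residue T' (f e)
      rw [hg2]
      have h1 := RingHom.congr_fun hτ (residue E e)
      rw [RingHom.comp_apply, ResidueField.map_residue, ResidueField.map_residue] at h1
      exact h1
    refine ⟨g, ⟨?_, hg2⟩, ?_⟩
    · refine RingHom.ext fun e => ?_
      exact AlgHom.congr_fun hG e
    · intro g' hg'
      apply huniq
      refine ⟨?_, hg'.2⟩
      refine RingHom.ext fun a => ?_
      rw [RingHom.comp_apply, IsScalarTower.algebraMap_apply A E S, RingHom.comp_apply]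
      exact RingHom.congr_fun hg'.1 (algebraMap A E a)

/-- Base change along an essentially étale local algebra commutes with integral closure. -/
theorem toIntegralClosure_bijective_of_essEtale (A E : Type u) [CommRing A] [IsLocalRing A]
    [CommRing E] [Algebra A E] (hE : EGA4loc.IsEssentiallyEtale A E)
    (B : Type u) [CommRing B] [Algebra A B] :
    Function.Bijective (TensorProduct.toIntegralClosure A E B) := by
  obtain ⟨C₀, _, _, Q, hQ, hEt, hQm, ⟨e⟩⟩ := hE
  haveI := hEt
  letI algCE : Algebra C₀ E :=
    ((e.symm : Localization.AtPrime Q →+* E).comp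
      (algebraMap C₀ (Localization.AtPrime Q))).toAlgebra
  have halgCE : ∀ c : C₀, algebraMap C₀ E c = e.symm (algebraMap C₀ (Localization.AtPrime Q) c) :=
    fun c => rfl
  haveI : IsScalarTower A C₀ E := IsScalarTower.of_algebraMap_eq (fun a => by
    rw [halgCE, ← IsScalarTower.algebraMap_apply A C₀ (Localization.AtPrime Q), e.symm.commutes])
  let e' : Localization.AtPrime Q ≃ₐ[C₀] E :=
    { e.symm.toRingEquiv with commutes' := fun c => rfl }
  haveI : IsLocalization Q.primeCompl E :=
    IsLocalization.isLocalization_of_algEquiv Q.primeCompl e'
  exact TensorProduct.toIntegralClosure_bijective_of_tower (S := C₀)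
    TensorProduct.toIntegralClosure_bijective_of_smooth
    (TensorProduct.toIntegralClosure_bijective_of_isLocalization Q.primeCompl)

set_option synthInstance.maxHeartbeats 400000 in
set_option maxHeartbeats 3200000 in
theorem generated_iff_card
    (A S E : Type u) [CommRing A] [HenselianLocalRing A] [IsDomain A] (hA : EGA4.IsExcellent A)
    [IsLocalRing (integralClosure A (FractionRing A))]
    [IsLocalHom (algebraMap A (integralClosure A (FractionRing A)))]
    [CommRing S] [IsLocalRing S] [Algebra A S] [IsLocalHom (algebraMap A S)]
    [Hensel.IsStrictHenselization A S]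
    [CommRing E] [IsLocalRing E] [Algebra A E] [IsLocalHom (algebraMap A E)]
    (hE : EGA4loc.IsEssentiallyEtale A E) [Algebra E S] [IsScalarTower A E S] :
    (∀ Q ∈ minimalPrimes S, Q = Ideal.map (algebraMap E S) (Q.comap (algebraMap E S))) ↔
      Nat.card (separableClosure (ResidueField A)
          (ResidueField (integralClosure A (FractionRing A))) →ₐ[ResidueField A]
          ResidueField E) =
        Module.finrank (ResidueField A)
          (separableClosure (ResidueField A)
            (ResidueField (integralClosure A (FractionRing A)))) := by
  classical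
  haveI : IsNoetherianRing A := hA.1
  have hmin : (minimalPrimes A).Finite := minimalPrimes.finite_of_isNoetherianRing A
  -- finiteness of the normalization
  have hNag : CAlg.IsNagata A :=
    Groth.Agent.H11.QENagata.isNagata_of_isQuasiExcellent A ⟨hA.1, hA.2.2.1, hA.2.2.2⟩
  have hN2 : CAlg.IsN2 A := Groth.Agent.H11.NagataFT.isN2_of_isNagata_domain _ hNag
  haveI hfin : Module.Finite A (integralClosure A (FractionRing A)) :=
    hN2 (FractionRing A) inferInstance
  haveI : Algebra.IsIntegral A (integralClosure A (FractionRing A)) :=
    Algebra.IsIntegral.of_finite A _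
  haveI : FiniteDimensional (ResidueField A)
      (ResidueField (integralClosure A (FractionRing A))) := inferInstance
  -- the map `E → S` is local and `S` is a strict henselization of `E`
  haveI hlocES : IsLocalHom (algebraMap E S) := by
    have h := Groth.Agent.S17977.result A E hE S (IsScalarTower.toAlgHom A E S)
    exact ⟨fun a ha => h.map_nonunit a ha⟩
  haveI : Hensel.IsStrictHenselization E S := isStrictHenselization_of_essEtale_local A S E hE
  have hID := Groth.Agent.H47.HensNoeth.isIndEtaleLocal_of_isStrictHenselization E S
  haveI : Module.Flat E S := hID.flat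
  haveI : Module.FaithfullyFlat E S := hID.faithfullyFlat
  have hinjES : Function.Injective (algebraMap E S) := FaithfulSMul.algebraMap_injective E S
  haveI : Algebra.IsIntegral A S := Groth.Agent.H15.StrictSub.isIntegral_of_henselian A S
  haveI : Algebra.IsIntegral A E :=
    ⟨fun x => IsIntegral.tower_bot hinjES (Algebra.IsIntegral.isIntegral (algebraMap E S x))⟩
  haveI : HenselianLocalRing E :=
    Groth.Agent.H3.henselianLocalRing_of_isIntegral_of_isLocalRing A E
  -- `E` is reduced and noetherian, and its total ring of fractions is `E ⊗ Frac A`
  obtain ⟨hloc, -⟩ := Groth.Agent.S16448.result A E hmin hE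
  have hbij := toIntegralClosure_bijective_of_essEtale A E hE (FractionRing A)
  obtain ⟨hRed, hNoeth⟩ : IsReduced E ∧ IsNoetherianRing E := by
    obtain ⟨C₀, _, _, Q, hQ, hEt, hQm, ⟨e⟩⟩ := hE
    haveI := hEt
    haveI : IsReduced C₀ := Groth.Agent.H29.RedModP.isReduced_of_smooth A C₀
    haveI : IsNoetherianRing C₀ := Algebra.FiniteType.isNoetherianRing A C₀
    haveI : IsReduced (Localization.AtPrime Q) := inferInstance
    haveI : IsNoetherianRing (Localization.AtPrime Q) :=
      IsLocalization.isNoetherianRing Q.primeCompl _ inferInstance
    exact ⟨isReduced_of_injective (e : E →+* Localization.AtPrime Q) e.injective,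
      isNoetherianRing_of_ringEquiv _ e.symm.toRingEquiv⟩
  haveI := hRed
  haveI := hNoeth
  obtain ⟨q, hq⟩ : ∃ q, q = ringExpChar (ResidueField E) := ⟨_, rfl⟩
  haveI : ExpChar (ResidueField E) q := by rw [hq]; exact ringExpChar.expChar _
  -- the left hand side in terms of `PI`
  have hL : (∀ Q ∈ minimalPrimes S, Q = Ideal.map (algebraMap E S) (Q.comap (algebraMap E S))) ↔
      ∀ (p : Ideal E), p ∈ minimalPrimes E → PI E p q := by
    constructor
    · intro hgen p hp
      haveI : p.IsPrime := hp.1.1
      obtain ⟨Q, hQ, hQp⟩ :=
        Groth.Agent.H47.HensCompletion.exists_minimalPrimes_comap_eq (S := E) (T := S) hp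
      have hQeq := hgen Q hQ
      rw [hQp] at hQeq
      have hprime : (p.map (algebraMap E S)).IsPrime := hQeq ▸ hQ.1.1
      exact pi_of_isPrime_map E S p q hprime
    · intro hpi
      exact eq_map_comap_of_pi E S q hpi
  rw [hL, ← pi_iff_forall_maximal E q]
  -- the normalization of `E` is `E ⊗ A'`
  haveI : IsLocalization (Algebra.algebraMapSubmonoid E (nonZeroDivisors A))
      (E ⊗[A] FractionRing A) := IsLocalization.tensor (FractionRing A) (nonZeroDivisors A)
  haveI hloc' : IsLocalization (Algebra.algebraMapSubmonoid E (nonZeroDivisors A))
    (FractionRing E) := hloc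
  let ψ : E ⊗[A] FractionRing A ≃ₐ[E] FractionRing E :=
    IsLocalization.algEquiv (Algebra.algebraMapSubmonoid E (nonZeroDivisors A)) _ _
  let Ψ : E ⊗[A] integralClosure A (FractionRing A) ≃ₐ[E]
      integralClosure E (FractionRing E) :=
    (AlgEquiv.ofBijective (TensorProduct.toIntegralClosure A E (FractionRing A)) hbij).trans
      (AlgEquiv.mapIntegralClosure ψ)
  constructor
  · intro h
    apply card_of_forall_maximal A E (integralClosure A (FractionRing A)) q
    intro M hM w
    exact transport Ψ.symm q (fun M' _ w' => h M' w') M w
  · intro h M hM w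
    exact transport Ψ q (fun M' _ w' =>
      forall_maximal_of_card A E (integralClosure A (FractionRing A)) q h M' w') M w

end Groth.Agent.H15.EssSub6
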