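import Mathlib
import Groth.Agent.H15.EssFT5
import Groth.Agent.H15.EssSub6
import Groth.Agent.S16448
import Groth.Agent.S2646
import Groth.Agent.H11.QuasiExcellentNagata

/-!
# Essentially of finite type: local subalgebras of an essentially étale algebra whose
normalization is semilocal and dominated by the normalization of the étale algebra (S16449)
-/

set_option autoImplicit false
set_option linter.style.haveILetI false
set_option linter.unusedSectionVars false
set_option maxHeartbeats 1600000
universe u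
open TensorProduct IsLocalRing Polynomial

namespace Groth.Agent.H15.EssFT

section Assembly

/-- Gluing along a complete family of idempotents of an ambient ring. -/
theorem essFiniteType_of_idempotents (A K : Type u) [CommRing A] [IsNoetherianRing A] [CommRing K]
    [Algebra A K] (D₀ : Subalgebra A K) [IsLocalRing D₀] (n : ℕ) (e : Fin n → K)
    (hsum : ∑ i, e i = 1) (he0 : ∀ i, e i ≠ 0)
    (h : ∀ i, ∃ 𝔮 : Ideal D₀, (∀ d : D₀, d ∈ 𝔮 ↔ e i * (d : K) = 0) ∧
      Algebra.EssFiniteType A (D₀ ⧸ 𝔮)) :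
    Algebra.EssFiniteType A D₀ := by
  choose 𝔮 h𝔮 hft using h
  refine essFiniteType_of_quotients A 𝔮 ?_ ?_ hft
  · rw [eq_bot_iff]
    intro d hd
    rw [Ideal.mem_iInf] at hd
    have h1 : ∀ i, e i * (d : K) = 0 := fun i => (h𝔮 i d).mp (hd i)
    have h2 : (d : K) = 0 := by
      calc (d : K) = (∑ i, e i) * (d : K) := by rw [hsum, one_mul]
        _ = ∑ i, e i * (d : K) := Finset.sum_mul _ _ _
        _ = 0 := Finset.sum_eq_zero (fun i _ => h1 i)
    rw [Ideal.mem_bot]
    exact Subtype.ext h2
  · intro i htop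
    have h1 : (1 : D₀) ∈ 𝔮 i := by rw [htop]; trivial
    have h2 := (h𝔮 i 1).mp h1
    rw [Subalgebra.coe_one, mul_one] at h2
    exact he0 i h2

/-- A finite set of numerators and denominators for the fractions of `D₀`. -/
theorem exists_finite_denominators (A K : Type u) [CommRing A] [IsNoetherianRing A] [CommRing K]
    [Algebra A K] (D₀ KD : Subalgebra A K) (t : Finset K)
    (ht : ∀ x : K, ∃ a ∈ nonZeroDivisors A,
      algebraMap A K a * x ∈ Submodule.span A (t : Set K))
    (hreg : ∀ a ∈ nonZeroDivisors A, ∀ w : K, algebraMap A K a * w = 0 → w = 0)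
    (hKD : ∀ z, z ∈ KD → ∃ a ∈ nonZeroDivisors A, ∃ d ∈ D₀, algebraMap A K a * z = d) :
    ∃ Y : Set K, Y.Finite ∧ Y ⊆ D₀ ∧ ∀ z ∈ KD, ∃ p ∈ Algebra.adjoin A Y,
      ∃ q ∈ Algebra.adjoin A Y, (∀ w : K, q * w = 0 → w = 0) ∧ z * q = p := by
  classical
  haveI hN : IsNoetherian A (Submodule.span A (t : Set K)) :=
    isNoetherian_span_of_finite A t.finite_toSet
  have hfg : (Submodule.span A (t : Set K) ⊓ Subalgebra.toSubmodule KD).FG :=
    isNoetherian_submodule.mp hN _ inf_le_left
  obtain ⟨G, hG⟩ := hfg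
  have hGKD : ∀ g ∈ G, ∃ a ∈ nonZeroDivisors A, ∃ d ∈ D₀, algebraMap A K a * g = d := by
    intro g hg
    have h1 : g ∈ Submodule.span A (t : Set K) ⊓ Subalgebra.toSubmodule KD := by
      rw [← hG]; exact Submodule.subset_span hg
    exact hKD g h1.2
  choose! aG haG dG hdG hadG using hGKD
  have hYsub : ∀ g ∈ G, dG g ∈ ((G.image dG : Finset K) : Set K) := by
    intro g hg
    rw [Finset.coe_image]
    exact ⟨g, hg, rfl⟩
  refine ⟨((G.image dG : Finset K) : Set K), Finset.finite_toSet _, ?_, ?_⟩
  · intro y hy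
    rw [Finset.coe_image] at hy
    obtain ⟨g, hg, rfl⟩ := hy
    exact hdG g hg
  · intro z hz
    have key : ∀ w ∈ Submodule.span A (G : Set K), ∃ b ∈ nonZeroDivisors A,
        algebraMap A K b * w ∈ Algebra.adjoin A ((G.image dG : Finset K) : Set K) := by
      intro w hw
      induction hw using Submodule.span_induction with
      | mem g hg =>
        refine ⟨aG g, haG g hg, ?_⟩
        rw [hadG g hg]
        exact Algebra.subset_adjoin (hYsub g hg)
      | zero => exact ⟨1, one_mem _, by rw [mul_zero]; exact zero_mem _⟩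
      | add w₁ w₂ _ _ h₁ h₂ =>
        obtain ⟨b₁, hb₁, h₁⟩ := h₁
        obtain ⟨b₂, hb₂, h₂⟩ := h₂
        refine ⟨b₁ * b₂, mul_mem hb₁ hb₂, ?_⟩
        have : algebraMap A K (b₁ * b₂) * (w₁ + w₂) =
            algebraMap A K b₂ * (algebraMap A K b₁ * w₁) +
              algebraMap A K b₁ * (algebraMap A K b₂ * w₂) := by
          rw [map_mul]; ring
        rw [this]
        exact add_mem (mul_mem (Subalgebra.algebraMap_mem _ _) h₁)
          (mul_mem (Subalgebra.algebraMap_mem _ _) h₂)
      | smul c w _ h =>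
        obtain ⟨b, hb, h⟩ := h
        refine ⟨b, hb, ?_⟩
        have : algebraMap A K b * (c • w) = algebraMap A K c * (algebraMap A K b * w) := by
          rw [Algebra.smul_def]; ring
        rw [this]
        exact mul_mem (Subalgebra.algebraMap_mem _ _) h
    obtain ⟨a, ha, haz⟩ := ht z
    have h1 : algebraMap A K a * z ∈ Submodule.span A (G : Set K) := by
      rw [hG]
      exact ⟨haz, (show algebraMap A K a * z ∈ KD from mul_mem (Subalgebra.algebraMap_mem KD a) hz)⟩
    obtain ⟨b, hb, hbz⟩ := key _ h1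
    refine ⟨algebraMap A K b * (algebraMap A K a * z), hbz, algebraMap A K (b * a),
      Subalgebra.algebraMap_mem _ _, ?_, ?_⟩
    · exact hreg (b * a) (mul_mem hb ha)
    · rw [map_mul]; ring

/-- The ring of fractions of `D₀` (denominators from `A`) inside `K` and its idempotents. -/
theorem exists_idempotents_fractions (A K : Type u) [CommRing A] [IsReduced A]
    (hmin : (minimalPrimes A).Finite) [CommRing K] [IsReduced K] [Algebra A K]
    (hunit : ∀ a ∈ nonZeroDivisors A, IsUnit (algebraMap A K a))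
    (t : Finset K) (ht : ∀ x : K, ∃ a ∈ nonZeroDivisors A,
      algebraMap A K a * x ∈ Submodule.span A (t : Set K))
    (D₀ : Subalgebra A K) :
    ∃ KD : Subalgebra A K, D₀ ≤ KD ∧
      (∀ z, z ∈ KD ↔ ∃ a ∈ nonZeroDivisors A, ∃ d ∈ D₀, algebraMap A K a * z = d) ∧
      ∃ (n : ℕ) (e : Fin n → K), (∀ i, e i ∈ KD) ∧ (∀ i, e i * e i = e i) ∧ ∑ i, e i = 1 ∧
        ∀ i, e i ≠ 0 ∧ ∀ z ∈ KD, e i * z ≠ 0 → ∃ z' ∈ KD, e i * z * z' = e i := by
  classical
  haveI : IsArtinianRing (FractionRing A) := Groth.Agent.S16448.isArtinianRing_fractionRing hmin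
  let jK : FractionRing A →+* K := IsLocalization.lift (M := nonZeroDivisors A)
    (g := algebraMap A K) (fun y => hunit y y.2)
  letI : Algebra (FractionRing A) K := jK.toAlgebra
  haveI : IsScalarTower A (FractionRing A) K :=
    IsScalarTower.of_algebraMap_eq
      (fun a => (IsLocalization.lift_eq (M := nonZeroDivisors A) _ a).symm)
  haveI : Module.Finite (FractionRing A) K := by
    refine ⟨⟨t, ?_⟩⟩
    rw [eq_top_iff]
    rintro x -
    obtain ⟨a, ha, hax⟩ := ht x
    have h1 : algebraMap A K a * x ∈ Submodule.span (FractionRing A) (t : Set K) :=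
      Submodule.span_le_restrictScalars A (FractionRing A) (t : Set K) hax
    obtain ⟨u, hu⟩ := (IsLocalization.map_units (FractionRing A)
      (⟨a, ha⟩ : nonZeroDivisors A)).exists_left_inv
    have h2 : x = u • (algebraMap A K a * x) := by
      rw [Algebra.smul_def, ← mul_assoc, IsScalarTower.algebraMap_apply A (FractionRing A) K,
        ← map_mul, hu, map_one, one_mul]
    rw [h2]
    exact Submodule.smul_mem _ _ h1
  let KD' : Subalgebra (FractionRing A) K :=
    { carrier := {z | ∃ a ∈ nonZeroDivisors A, ∃ d ∈ D₀, algebraMap A K a * z = d}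
      mul_mem' := by
        rintro z₁ z₂ ⟨a₁, ha₁, d₁, hd₁, h₁⟩ ⟨a₂, ha₂, d₂, hd₂, h₂⟩
        refine ⟨a₁ * a₂, mul_mem ha₁ ha₂, d₁ * d₂, mul_mem hd₁ hd₂, ?_⟩
        rw [← h₁, ← h₂, map_mul]; ring
      add_mem' := by
        rintro z₁ z₂ ⟨a₁, ha₁, d₁, hd₁, h₁⟩ ⟨a₂, ha₂, d₂, hd₂, h₂⟩
        refine ⟨a₁ * a₂, mul_mem ha₁ ha₂, algebraMap A K a₂ * d₁ + algebraMap A K a₁ * d₂,
          add_mem (mul_mem (Subalgebra.algebraMap_mem _ _) hd₁)
            (mul_mem (Subalgebra.algebraMap_mem _ _) hd₂), ?_⟩
        rw [← h₁, ← h₂, map_mul]; ring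
      algebraMap_mem' := by
        intro k
        obtain ⟨b, s, rfl⟩ := IsLocalization.exists_mk'_eq (nonZeroDivisors A) k
        refine ⟨s, s.2, algebraMap A K b, Subalgebra.algebraMap_mem _ _, ?_⟩
        have h1 := IsLocalization.mk'_spec (FractionRing A) b s
        have h2 := congrArg (algebraMap (FractionRing A) K) h1
        rw [map_mul, ← IsScalarTower.algebraMap_apply, ← IsScalarTower.algebraMap_apply] at h2
        rw [mul_comm]; exact h2 }
  haveI : IsNoetherian (FractionRing A) K := isNoetherian_of_isNoetherianRing_of_finite _ _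
  haveI : Module.Finite (FractionRing A) KD' :=
    Module.Finite.equiv (Subalgebra.toSubmoduleEquiv KD')
  haveI : IsArtinianRing KD' := IsArtinianRing.of_finite (FractionRing A) KD'
  haveI : IsReduced KD' := isReduced_of_injective KD'.val Subtype.val_injective
  obtain ⟨n, e', hee, hsum, hprop⟩ := exists_idempotents KD'
  refine ⟨KD'.restrictScalars A, ?_, fun z => Iff.rfl, n, fun i => (e' i : K), fun i => (e' i).2,
    ?_, ?_, ?_⟩
  · intro d hd
    exact ⟨1, one_mem _, d, hd, by rw [map_one, one_mul]⟩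
  · intro i; exact congrArg Subtype.val (hee i)
  · have h1 := congrArg KD'.val hsum
    rw [map_sum, map_one] at h1
    exact h1
  · intro i
    obtain ⟨h0, hf⟩ := hprop i
    refine ⟨fun h => h0 (Subtype.ext h), fun z hz hne => ?_⟩
    obtain ⟨z', hz'⟩ := hf ⟨z, hz⟩ (fun h => hne (congrArg Subtype.val h))
    exact ⟨z', z'.2, congrArg Subtype.val hz'⟩

theorem coeff_mul_mem_subalgebra {A K : Type*} [CommRing A] [CommRing K] [Algebra A K]
    (S : Subalgebra A K) (W₁ W₂ : K[X]) (h₁ : ∀ n, W₁.coeff n ∈ S) (h₂ : ∀ n, W₂.coeff n ∈ S) :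
    ∀ n, (W₁ * W₂).coeff n ∈ S := by
  intro n
  rw [Polynomial.coeff_mul]
  exact Subalgebra.sum_mem _ (fun ij _ => mul_mem (h₁ _) (h₂ _))

/-- Every element of the integral closure of `E` in its total ring of fractions is a combination
of finitely many integral fractions of `A` with coefficients in `E`; in polynomial form. -/
theorem exists_rep (A E : Type u) [CommRing A] [IsLocalRing A]
    [hfinA' : Module.Finite A (integralClosure A (FractionRing A))]
    [CommRing E] [Algebra A E] (hE : EGA4loc.IsEssentiallyEtale A E)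
    (hloc : IsLocalization ((nonZeroDivisors A).map (algebraMap A E)) (FractionRing E)) :
    ∃ (x₀ : E) (σ₀ : Set (FractionRing E)), IsIntegral A x₀ ∧ σ₀.Finite ∧
      (∀ s ∈ σ₀, IsIntegral A s ∧ ∃ a ∈ nonZeroDivisors A, ∃ b : A,
        algebraMap A (FractionRing E) a * s = algebraMap A (FractionRing E) b) ∧
      ∀ c : FractionRing E, IsIntegral E c → ∃ W P : (FractionRing E)[X],
        (∀ n, W.coeff n ∈ Algebra.adjoin A σ₀) ∧ (∀ n, P.coeff n ∈ Algebra.adjoin A σ₀) ∧
        (∃ v : E, W.eval (algebraMap E (FractionRing E) x₀) * algebraMap E (FractionRing E) v = 1) ∧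
        c * W.eval (algebraMap E (FractionRing E) x₀) =
          P.eval (algebraMap E (FractionRing E) x₀) := by
  classical
  obtain ⟨x₀, hx₀int, hx₀gen⟩ := exists_monogenic_of_essEtale A E hE
  haveI hloc' : IsLocalization (Algebra.algebraMapSubmonoid E (nonZeroDivisors A))
    (FractionRing E) := hloc
  let ψ : E ⊗[A] FractionRing A ≃ₐ[E] FractionRing E :=
    IsLocalization.algEquiv (Algebra.algebraMapSubmonoid E (nonZeroDivisors A)) _ _
  let jK : FractionRing A →ₐ[A] FractionRing E :=
    ((ψ : E ⊗[A] FractionRing A →ₐ[E] FractionRing E).restrictScalars A).comp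
      Algebra.TensorProduct.includeRight
  have hjK : ∀ k : FractionRing A, jK k = ψ (1 ⊗ₜ[A] k) := fun k => rfl
  let Λ : integralClosure A (FractionRing A) →ₗ[A] FractionRing E :=
    jK.toLinearMap ∘ₗ (integralClosure A (FractionRing A)).val.toLinearMap
  have hΛ : ∀ a' : integralClosure A (FractionRing A), Λ a' = jK a'.1 := fun a' => rfl
  obtain ⟨gens, hgens⟩ := hfinA'.fg_top
  have hΛmem : ∀ a' : integralClosure A (FractionRing A),
      jK a'.1 ∈ Algebra.adjoin A (Λ '' (gens : Set (integralClosure A (FractionRing A)))) := by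
    intro a'
    have h1 : a' ∈ Submodule.span A (gens : Set (integralClosure A (FractionRing A))) := by
      rw [hgens]; trivial
    have h2 := Submodule.apply_mem_span_image_of_mem_span Λ h1
    exact Algebra.span_le_adjoin A _ h2
  refine ⟨x₀, Λ '' (gens : Set (integralClosure A (FractionRing A))), hx₀int,
    (Finset.finite_toSet gens).image _, ?_, ?_⟩
  · rintro _ ⟨a', -, rfl⟩
    rw [hΛ]
    refine ⟨(a'.2 : IsIntegral A a'.1).map jK, ?_⟩
    obtain ⟨b, s, hbs⟩ := IsLocalization.exists_mk'_eq (nonZeroDivisors A) a'.1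
    refine ⟨s, s.2, b, ?_⟩
    have h1 := IsLocalization.mk'_spec (FractionRing A) b s
    rw [hbs] at h1
    have h2 := congrArg jK h1
    rw [map_mul, AlgHom.commutes, AlgHom.commutes] at h2
    rw [mul_comm]; exact h2
  · -- the representation
    have hone : ∀ n, (1 : (FractionRing E)[X]).coeff n ∈
        Algebra.adjoin A (Λ '' (gens : Set (integralClosure A (FractionRing A)))) := by
      intro n
      rw [Polynomial.coeff_one]
      split_ifs
      · exact one_mem _
      · exact zero_mem _
    have key : ∀ τ : E ⊗[A] integralClosure A (FractionRing A),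
        ∃ W P : (FractionRing E)[X],
        (∀ n, W.coeff n ∈
          Algebra.adjoin A (Λ '' (gens : Set (integralClosure A (FractionRing A))))) ∧
        (∀ n, P.coeff n ∈
          Algebra.adjoin A (Λ '' (gens : Set (integralClosure A (FractionRing A))))) ∧
        (∃ v : E, W.eval (algebraMap E (FractionRing E) x₀) * algebraMap E (FractionRing E) v = 1) ∧
        ψ (Algebra.TensorProduct.map (AlgHom.id E E)
            (integralClosure A (FractionRing A)).val τ) *
          W.eval (algebraMap E (FractionRing E) x₀) =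
          P.eval (algebraMap E (FractionRing E) x₀) := by
      intro τ
      induction τ using TensorProduct.induction_on with
      | zero =>
        refine ⟨1, 0, hone, fun n => ?_, ⟨1, ?_⟩, ?_⟩
        · rw [Polynomial.coeff_zero]; exact zero_mem _
        · rw [Polynomial.eval_one, map_one, one_mul]
        · rw [map_zero, map_zero, zero_mul, Polynomial.eval_zero]
      | tmul ε a' =>
        obtain ⟨t, ht, htu, hεt⟩ := (mem_locSub A).mp (hx₀gen ε)
        rw [Algebra.adjoin_singleton_eq_range_aeval] at ht hεt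
        obtain ⟨w, rfl⟩ := ht
        obtain ⟨p, hp⟩ := hεt
        have hev : ∀ q : A[X], (q.map (algebraMap A (FractionRing E))).eval
            (algebraMap E (FractionRing E) x₀) =
            algebraMap E (FractionRing E) (Polynomial.aeval x₀ q) := by
          intro q
          rw [Polynomial.eval_map, ← Polynomial.aeval_def,
            Polynomial.aeval_algebraMap_apply]
        obtain ⟨v, hv⟩ := htu.exists_right_inv
        refine ⟨w.map (algebraMap A (FractionRing E)),
          Polynomial.C (jK a'.1) * p.map (algebraMap A (FractionRing E)), fun n => ?_, fun n => ?_,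
          ⟨v, ?_⟩, ?_⟩
        · rw [Polynomial.coeff_map]; exact Subalgebra.algebraMap_mem _ _
        · rw [Polynomial.coeff_C_mul, Polynomial.coeff_map]
          exact mul_mem (hΛmem a') (Subalgebra.algebraMap_mem _ _)
        · rw [hev, ← map_mul]
          have : (Polynomial.aeval x₀) w * v = 1 := hv
          rw [this, map_one]
        · have h1 : ψ (Algebra.TensorProduct.map (AlgHom.id E E)
              (integralClosure A (FractionRing A)).val (ε ⊗ₜ[A] a')) =
              algebraMap E (FractionRing E) ε * jK a'.1 := by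
            rw [Algebra.TensorProduct.map_tmul, hjK]
            have h2 : (AlgHom.id E E) ε ⊗ₜ[A] (integralClosure A (FractionRing A)).val a' =
                ε • ((1 : E) ⊗ₜ[A] (a'.1 : FractionRing A)) := by
              rw [TensorProduct.smul_tmul', smul_eq_mul, mul_one]; rfl
            rw [h2, map_smul, Algebra.smul_def]
          rw [h1, hev, Polynomial.eval_mul, Polynomial.eval_C, hev]
          have h3 : (Polynomial.aeval x₀) p = ε * (Polynomial.aeval x₀) w := hp
          rw [h3, map_mul]; ring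
      | add τ₁ τ₂ h₁ h₂ =>
        obtain ⟨W₁, P₁, hW₁, hP₁, ⟨v₁, hv₁⟩, he₁⟩ := h₁
        obtain ⟨W₂, P₂, hW₂, hP₂, ⟨v₂, hv₂⟩, he₂⟩ := h₂
        refine ⟨W₁ * W₂, P₁ * W₂ + P₂ * W₁, coeff_mul_mem_subalgebra _ _ _ hW₁ hW₂, fun n => ?_,
          ⟨v₁ * v₂, ?_⟩, ?_⟩
        · rw [Polynomial.coeff_add]
          exact add_mem (coeff_mul_mem_subalgebra _ _ _ hP₁ hW₂ n)
            (coeff_mul_mem_subalgebra _ _ _ hP₂ hW₁ n)
        · rw [Polynomial.eval_mul, map_mul]
          calc W₁.eval (algebraMap E (FractionRing E) x₀) *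
                W₂.eval (algebraMap E (FractionRing E) x₀) *
                (algebraMap E (FractionRing E) v₁ * algebraMap E (FractionRing E) v₂)
              = (W₁.eval (algebraMap E (FractionRing E) x₀) * algebraMap E (FractionRing E) v₁) *
                (W₂.eval (algebraMap E (FractionRing E) x₀) * algebraMap E (FractionRing E) v₂) := by
                ring
            _ = 1 := by rw [hv₁, hv₂, one_mul]
        · rw [map_add, map_add, Polynomial.eval_add, Polynomial.eval_mul, Polynomial.eval_mul,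
            Polynomial.eval_mul, ← he₁, ← he₂]
          ring
    intro c hc
    have hc' : IsIntegral E (ψ.symm c) :=
      hc.map (ψ.symm : FractionRing E →ₐ[E] E ⊗[A] FractionRing A)
    obtain ⟨τ, hτ⟩ := (Groth.Agent.H15.EssSub6.toIntegralClosure_bijective_of_essEtale A E hE
      (FractionRing A)).2 ⟨ψ.symm c, hc'⟩
    have hτ' : Algebra.TensorProduct.map (AlgHom.id E E)
        (integralClosure A (FractionRing A)).val τ = ψ.symm c := by
      have := congrArg Subtype.val hτ
      exact this
    obtain ⟨W, P, hW, hP, hv, he⟩ := key τ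
    rw [hτ', AlgEquiv.apply_symm_apply] at he
    exact ⟨W, P, hW, hP, hv, he⟩

/-- S16449. -/
theorem essFiniteType_of_normalization_semilocal
    (A E : Type u) [CommRing A] [IsLocalRing A] [IsReduced A] (hA : EGA4.IsExcellent A)
    [CommRing E] [IsLocalRing E] [Algebra A E] [IsLocalHom (algebraMap A E)]
    (hE : EGA4loc.IsEssentiallyEtale A E)
    (D : Subalgebra A E) [IsLocalRing D] [IsLocalHom (algebraMap D E)]
    (D' : Subalgebra A (FractionRing E))
    (hD' : ∀ x : (FractionRing E), x ∈ D' ↔ (IsIntegral D x ∧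
      ∃ a ∈ nonZeroDivisors A, ∃ d ∈ D,
        algebraMap A (FractionRing E) a * x = algebraMap E (FractionRing E) d))
    (hle : D' ≤ ((integralClosure E (FractionRing E)).restrictScalars A))
    (hfin : {N : Ideal D' | N.IsMaximal}.Finite)
    (hsurj : ∀ N : Ideal D', N.IsMaximal →
      ∃ M : Ideal ((integralClosure E (FractionRing E)).restrictScalars A),
        M.IsMaximal ∧ M.comap (Subalgebra.inclusion hle) = N) :
    Algebra.EssFiniteType A D := by
  classical
  haveI : IsNoetherianRing A := hA.1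
  have hmin : (minimalPrimes A).Finite := minimalPrimes.finite_of_isNoetherianRing A
  -- properties of `E`
  obtain ⟨hRedE, hNoethE, hFlatE, hUnrE⟩ : IsReduced E ∧ IsNoetherianRing E ∧ Module.Flat A E ∧
      Algebra.FormallyUnramified A E := by
    obtain ⟨C₀, _, _, Q, hQ, hEt, hQm, ⟨e⟩⟩ := hE
    haveI := hEt
    haveI := hQ
    haveI : IsReduced C₀ := Groth.Agent.H29.RedModP.isReduced_of_smooth A C₀
    haveI : IsNoetherianRing C₀ := Algebra.FiniteType.isNoetherianRing A C₀
    haveI : IsReduced (Localization.AtPrime Q) := inferInstance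
    haveI : IsNoetherianRing (Localization.AtPrime Q) :=
      IsLocalization.isNoetherianRing Q.primeCompl _ inferInstance
    haveI : Module.Flat A (Localization.AtPrime Q) := Module.Flat.trans A C₀ _
    haveI : Algebra.FormallyUnramified A (Localization.AtPrime Q) :=
      Algebra.FormallyUnramified.comp A C₀ _
    exact ⟨isReduced_of_injective (e : E →+* Localization.AtPrime Q) e.injective,
      isNoetherianRing_of_ringEquiv _ e.symm.toRingEquiv,
      Module.Flat.of_linearEquiv e.toLinearEquiv,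
      Algebra.FormallyUnramified.of_equiv e.symm⟩
  haveI := hRedE
  haveI := hNoethE
  haveI := hFlatE
  haveI := hUnrE
  obtain ⟨hloc, t, ht⟩ := Groth.Agent.S16448.result A E hmin hE
  have hNag : CAlg.IsNagata A :=
    Groth.Agent.H11.QENagata.isNagata_of_isQuasiExcellent A ⟨hA.1, hA.2.2.1, hA.2.2.2⟩
  haveI hfinA' : Module.Finite A (integralClosure A (FractionRing A)) :=
    Groth.Agent.S2646.finite_integralClosure_fractionRing A hNag
  obtain ⟨x₀, σ₀, hx₀int, hσ₀fin, hσ₀prop, hrep⟩ := exists_rep A E hE hloc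
  haveI hEssE : Algebra.EssFiniteType A E := by
    obtain ⟨x, hxint, hxgen⟩ := exists_monogenic_of_essEtale A E hE
    rw [Algebra.essFiniteType_iff A E]
    refine ⟨{x}, fun ε => ?_⟩
    rw [Finset.coe_singleton]
    exact (mem_locSub A).mp (hxgen ε)
  have hinjEK : Function.Injective (algebraMap E (FractionRing E)) :=
    IsFractionRing.injective E _
  have hunit : ∀ a ∈ nonZeroDivisors A, IsUnit (algebraMap A (FractionRing E) a) := by
    intro a ha
    rw [IsScalarTower.algebraMap_apply A E (FractionRing E)]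
    exact IsLocalization.map_units (FractionRing E)
      (⟨_, Groth.Agent.H15.EssSub.algebraMap_mem_nonZeroDivisors_of_flat A E ha⟩ :
        nonZeroDivisors E)
  have hreg : ∀ a ∈ nonZeroDivisors A, ∀ w : FractionRing E,
      algebraMap A (FractionRing E) a * w = 0 → w = 0 :=
    fun a ha w hw => (hunit a ha).mul_right_eq_zero.mp hw
  -- the image `D₀` of `D` in the total ring of fractions
  let φ : E →ₐ[A] FractionRing E := IsScalarTower.toAlgHom A E (FractionRing E)
  have hφ : ∀ ε : E, φ ε = algebraMap E (FractionRing E) ε := fun ε => rfl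
  obtain ⟨D₀, hD₀⟩ : ∃ D₀ : Subalgebra A (FractionRing E), D₀ = D.map φ := ⟨_, rfl⟩
  have hmemD₀ : ∀ z, z ∈ D₀ ↔ ∃ d ∈ D, algebraMap E (FractionRing E) d = z := by
    intro z; rw [hD₀]; exact Subalgebra.mem_map
  let eqv : D ≃ₐ[A] D₀ := (D.equivMapOfInjective φ hinjEK).trans
    (Subalgebra.equivOfEq _ _ hD₀.symm)
  have heqv : ∀ d : D, ((eqv d : D₀) : FractionRing E) = algebraMap E (FractionRing E) d :=
    fun d => rfl
  haveI : IsLocalRing D₀ := eqv.toRingEquiv.isLocalRing
  -- fractions and idempotents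
  obtain ⟨KD, hD₀KD, hKD, n, e, heKD, hee, hesum, heprop⟩ :=
    exists_idempotents_fractions A (FractionRing E) hmin hunit t ht D₀
  have hKD' : ∀ z, z ∈ KD ↔ ∃ a ∈ nonZeroDivisors A, ∃ d ∈ D,
      algebraMap A (FractionRing E) a * z = algebraMap E (FractionRing E) d := by
    intro z
    rw [hKD]
    constructor
    · rintro ⟨a, ha, d₀, hd₀, h⟩
      obtain ⟨d, hd, rfl⟩ := (hmemD₀ d₀).mp hd₀
      exact ⟨a, ha, d, hd, h⟩
    · rintro ⟨a, ha, d, hd, h⟩
      exact ⟨a, ha, _, (hmemD₀ _).mpr ⟨d, hd, rfl⟩, h⟩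
  have hD₀D' : D₀ ≤ D' := by
    intro z hz
    obtain ⟨d, hd, rfl⟩ := (hmemD₀ z).mp hz
    rw [hD']
    refine ⟨?_, 1, one_mem _, d, hd, by rw [map_one, one_mul]⟩
    have h1 : algebraMap E (FractionRing E) d = algebraMap D (FractionRing E) ⟨d, hd⟩ := by
      rw [IsScalarTower.algebraMap_apply D E (FractionRing E)]; rfl
    rw [h1]
    exact isIntegral_algebraMap
  have hD'KD : D' ≤ KD := by
    intro z hz
    rw [hKD']
    exact ((hD' z).mp hz).2
  have hclosed : ∀ z ∈ KD, IsIntegral A z → z ∈ D' := by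
    intro z hz hzint
    rw [hD']
    exact ⟨hzint.tower_top, (hKD' z).mp hz⟩
  have heD' : ∀ i, e i ∈ D' := by
    intro i
    rw [hD']
    refine ⟨?_, (hKD' _).mp (heKD i)⟩
    refine ⟨Polynomial.X ^ 2 - Polynomial.X, Polynomial.monic_X_pow_sub ?_, ?_⟩
    · rw [Polynomial.degree_X]; norm_num
    · rw [Polynomial.eval₂_sub, Polynomial.eval₂_pow, Polynomial.eval₂_X, pow_two, hee i, sub_self]
  have hint : ∀ c ∈ D', IsIntegral D₀ c := by
    intro c hc
    obtain ⟨p, hpm, hp⟩ := ((hD' c).mp hc).1
    refine ⟨p.map (eqv : D →+* D₀), hpm.map _, ?_⟩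
    rw [Polynomial.eval₂_map]
    have h1 : (algebraMap D₀ (FractionRing E)).comp (eqv : D →+* D₀) =
        algebraMap D (FractionRing E) := by
      ext d
      rw [IsScalarTower.algebraMap_apply D E (FractionRing E)]
      rfl
    rw [h1]; exact hp
  have hext : ∀ 𝔫 : Ideal D', 𝔫.IsMaximal → 𝔫.map (Subalgebra.inclusion hle) ≠ ⊤ := by
    intro 𝔫 h𝔫
    obtain ⟨M, hM, hM𝔫⟩ := hsurj 𝔫 h𝔫
    intro htop
    have h1 : 𝔫.map (Subalgebra.inclusion hle) ≤ M := by
      rw [← hM𝔫]; exact Ideal.map_comap_le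
    rw [htop] at h1
    exact hM.ne_top (top_le_iff.mp h1)
  -- the element `x`
  have hxE' : algebraMap E (FractionRing E) x₀ ∈
      (integralClosure E (FractionRing E)).restrictScalars A :=
    Subalgebra.algebraMap_mem (integralClosure E (FractionRing E)) x₀
  have hxint : IsIntegral A (algebraMap E (FractionRing E) x₀) := by
    have := hx₀int.map φ
    exact this
  have hσ₀D' : σ₀ ⊆ D' := by
    intro s hs
    obtain ⟨hsint, a, ha, b, hab⟩ := hσ₀prop s hs
    show s ∈ D'
    rw [hD']
    refine ⟨hsint.tower_top, a, ha, algebraMap A E b, Subalgebra.algebraMap_mem D b, ?_⟩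
    rw [hab, IsScalarTower.algebraMap_apply A E (FractionRing E)]
  have hrep' : ∀ c ∈ D', ∃ W P : (FractionRing E)[X],
      (∀ n, W.coeff n ∈ Algebra.adjoin A σ₀) ∧ (∀ n, P.coeff n ∈ Algebra.adjoin A σ₀) ∧
      (∃ v ∈ (integralClosure E (FractionRing E)).restrictScalars A,
        W.eval (algebraMap E (FractionRing E) x₀) * v = 1) ∧
      c * W.eval (algebraMap E (FractionRing E) x₀) =
        P.eval (algebraMap E (FractionRing E) x₀) := by
    intro c hc
    obtain ⟨W, P, hW, hP, ⟨v, hv⟩, he⟩ := hrep c (hle hc)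
    exact ⟨W, P, hW, hP, ⟨_, Subalgebra.algebraMap_mem (integralClosure E (FractionRing E)) v, hv⟩,
      he⟩
  -- the set `Y`
  obtain ⟨Y, hYfin, hYD₀, hY⟩ := exists_finite_denominators A (FractionRing E) D₀ KD t ht hreg
    (fun z hz => (hKD z).mp hz)
  -- the set `Z`
  haveI hAD : IsLocalHom (algebraMap A D) := by
    haveI : IsLocalHom ((algebraMap D E).comp (algebraMap A D)) := by
      rw [← IsScalarTower.algebraMap_eq A D E]; infer_instance
    exact isLocalHom_of_comp (algebraMap A D) (algebraMap D E)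
  haveI : Module.Finite (ResidueField A) (ResidueField E) := inferInstance
  haveI : Module.Finite (ResidueField A) (ResidueField D) :=
    FiniteDimensional.left (ResidueField A) (ResidueField D) (ResidueField E)
  obtain ⟨Yz, hYz⟩ := exists_finset_residue A D
  let φD : D →ₐ[A] FractionRing E := φ.comp D.val
  have hφD : ∀ d : D, φD d = algebraMap E (FractionRing E) (d : E) := fun d => rfl
  have hZD₀ : φD '' (Yz : Set D) ⊆ D₀ := by
    rintro _ ⟨d, -, rfl⟩
    exact (hmemD₀ _).mpr ⟨d, d.2, rfl⟩
  have hZ : ∀ d ∈ D₀, ∃ p ∈ Algebra.adjoin A (φD '' (Yz : Set D)),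
      ¬ ∃ v ∈ D₀, (d - p) * v = 1 := by
    intro d₀ hd₀
    obtain ⟨d, hd, rfl⟩ := (hmemD₀ d₀).mp hd₀
    obtain ⟨p, hp, hdp⟩ := hYz ⟨d, hd⟩
    refine ⟨φD p, ?_, ?_⟩
    · rw [← AlgHom.map_adjoin]
      exact Subalgebra.mem_map.mpr ⟨p, hp, rfl⟩
    · rintro ⟨v₀, hv₀, hvv⟩
      obtain ⟨v, hv, rfl⟩ := (hmemD₀ v₀).mp hv₀
      apply (IsLocalRing.mem_maximalIdeal _).mp hdp
      refine IsUnit.of_mul_eq_one (⟨v, hv⟩ : D) ?_
      apply Subtype.ext
      apply hinjEK
      rw [hφD] at hvv
      rw [Subalgebra.coe_mul, Subalgebra.coe_sub, Subalgebra.coe_one, map_mul, map_sub, map_one]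
      exact hvv
  -- each idempotent
  have hkey : ∀ i, ∃ 𝔮 : Ideal D₀, (∀ d : D₀, d ∈ 𝔮 ↔ e i * (d : FractionRing E) = 0) ∧
      Algebra.EssFiniteType A (D₀ ⧸ 𝔮) := fun i =>
    essFiniteType_quotient_of_idempotent A (FractionRing E) D₀ D' KD
      ((integralClosure E (FractionRing E)).restrictScalars A) hD₀D' hD'KD hle
      (e i) (heD' i) (hee i) (heprop i).1 (heprop i).2 hint hfin hext hclosed
      (algebraMap E (FractionRing E) x₀) hxE' hxint σ₀ hσ₀fin hσ₀D' hrep'
      Y hYfin (fun y hy => hD₀D' (hYD₀ hy)) hY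
      (φD '' (Yz : Set D)) ((Finset.finite_toSet Yz).image _) hZD₀ hZ
  haveI : Algebra.EssFiniteType A D₀ :=
    essFiniteType_of_idempotents A (FractionRing E) D₀ n e hesum (fun i => (heprop i).1) hkey
  exact essFiniteType_of_algEquiv eqv.symm

end Assembly

end Groth.Agent.H15.EssFT
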