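import Mathlib
import Groth.Agent.H15.EssSub
import Groth.Agent.H15.StrictSub6

/-!
# S16446: an essentially étale local subalgebra of the strict henselization capturing
`L ∩ S/Q` and generating the minimal primes over `qS`
-/

set_option autoImplicit false
set_option linter.style.haveILetI false
set_option linter.unusedSectionVars false
universe u
open TensorProduct IsLocalRing

namespace Groth.Agent.H15.EssSub

set_option maxHeartbeats 1600000 in
theorem exists_essEtale_inter
    (A S : Type u) [CommRing A] [HenselianLocalRing A] [IsReduced A] (hA : EGA4.IsExcellent A)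
    [CommRing S] [IsLocalRing S] [Algebra A S] [IsLocalHom (algebraMap A S)]
    [Hensel.IsStrictHenselization A S] (Q : Ideal S) (hQ : Q ∈ minimalPrimes S) [Q.IsPrime]
    (t : Finset (FractionRing (S ⧸ Q))) :
    ∃ E : Subalgebra A S, ∃ _ : IsLocalRing E, EGA4loc.IsEssentiallyEtale A E ∧
      (∀ Q' ∈ ((Q.comap (algebraMap A S)).map (algebraMap A S)).minimalPrimes,
        Q' = Ideal.map (algebraMap E S) (Q'.comap (algebraMap E S))) ∧
      ∀ x : S, algebraMap (S ⧸ Q) (FractionRing (S ⧸ Q)) (Ideal.Quotient.mk Q x) ∈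
          Subfield.closure (Set.range (algebraMap A (FractionRing (S ⧸ Q))) ∪
            (t : Set (FractionRing (S ⧸ Q)))) →
        ∃ e ∈ E, Ideal.Quotient.mk Q e = Ideal.Quotient.mk Q x := by
  classical
  haveI : IsNoetherianRing A := hA.1
  have hI := Groth.Agent.H47.HensNoeth.isIndEtaleLocal_of_isStrictHenselization A S
  haveI : IsNoetherianRing S := hI.isNoetherianRing
  have hmin : (minimalPrimes A).Finite := minimalPrimes.finite_of_isNoetherianRing A
  obtain ⟨D', hD', hfin, -⟩ :=
    Groth.Agent.H15.StrictSub.inter_subfield_reduced A S hA Q hQ t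
  haveI := hfin
  -- generators of `D'`
  have hfg : (Subalgebra.toSubmodule D').FG :=
    (Module.Finite.iff_fg (N := Subalgebra.toSubmodule D')).mp hfin
  obtain ⟨G, hG⟩ := hfg
  -- the finitely many minimal primes over `qS`
  have hfinQ : (((Q.comap (algebraMap A S)).map (algebraMap A S)).minimalPrimes).Finite :=
    Ideal.finite_minimalPrimes_of_isNoetherianRing S _
  have hgen : ∀ Q' : Ideal S, ∃ s : Finset S, Ideal.span (s : Set S) = Q' := fun Q' =>
    (isNoetherianRing_iff_ideal_fg S).mp inferInstance Q'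
  choose gens hgens using hgen
  obtain ⟨E, hYE, hE, -⟩ := exists_essEtale_sub A S
    (G.image (Function.surjInv (Ideal.Quotient.mk_surjective (I := Q))) ∪
      hfinQ.toFinset.biUnion gens)
  obtain ⟨hEloc, hEss⟩ := hE
  refine ⟨E, hEloc, hEss, ?_, ?_⟩
  · intro Q' hQ'
    refine le_antisymm ?_ Ideal.map_comap_le
    have hle : Ideal.span ((gens Q' : Finset S) : Set S) ≤
        Ideal.map (algebraMap E S) (Q'.comap (algebraMap E S)) := by
      rw [Ideal.span_le]
      intro g hg
      have hgE : g ∈ E := hYE (Finset.mem_coe.mpr (Finset.mem_union_right _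
        (Finset.mem_biUnion.mpr ⟨Q', hfinQ.mem_toFinset.mpr hQ', Finset.mem_coe.mp hg⟩)))
      have hgQ' : g ∈ Q' := by
        rw [← hgens Q']
        exact Ideal.subset_span hg
      have h1 : (⟨g, hgE⟩ : E) ∈ Q'.comap (algebraMap E S) := hgQ'
      exact Ideal.mem_map_of_mem (algebraMap E S) h1
    exact (hgens Q').symm.le.trans hle
  · intro x hx
    have hxD : Ideal.Quotient.mk Q x ∈ D' := by
      have : Ideal.Quotient.mk Q x ∈ (D' : Set (S ⧸ Q)) := by
        rw [hD']
        exact hx
      exact this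
    have hxs : Ideal.Quotient.mk Q x ∈ Submodule.span A (G : Set (S ⧸ Q)) := by
      rw [hG]
      exact hxD
    refine Submodule.span_induction (p := fun y _ => ∃ e ∈ E, Ideal.Quotient.mk Q e = y)
      ?_ ?_ ?_ ?_ hxs
    · intro y hy
      refine ⟨Function.surjInv (Ideal.Quotient.mk_surjective (I := Q)) y, ?_,
        Function.surjInv_eq _ y⟩
      exact hYE (Finset.mem_coe.mpr (Finset.mem_union_left _
        (Finset.mem_image_of_mem _ (Finset.mem_coe.mp hy))))
    · exact ⟨0, E.zero_mem, map_zero _⟩
    · rintro y z _ _ ⟨e₁, he₁, h₁⟩ ⟨e₂, he₂, h₂⟩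
      exact ⟨e₁ + e₂, E.add_mem he₁ he₂, by rw [map_add, h₁, h₂]⟩
    · rintro a y _ ⟨e, he, h⟩
      refine ⟨a • e, E.smul_mem he a, ?_⟩
      rw [← h, Algebra.smul_def, Algebra.smul_def, map_mul]
      rfl

end Groth.Agent.H15.EssSub
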