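import Mathlib
import Groth.Agent.H47.Hens6

/-! helper15: tools on `H R p` (henselization of `R_p` as a colimit of étale `R`-algebras with a
`κ(p)`-point): map from an arbitrary localization, universal property, killing finitely many
elements, factoring maps from finitely presented algebras. -/

set_option autoImplicit false
universe u
open IsLocalRing

namespace Groth.Agent.H15.EtNbhd

open Groth.Agent.H47.Hens

section loc

variable (R : Type u) [CommRing R] (p : Ideal R) [p.IsPrime]
  (O : Type u) [CommRing O] [Algebra R O] [IsLocalization.AtPrime O p]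

/-- The canonical map from a localization at `p` to `H R p`. -/
noncomputable def kap : O →+* H R p :=
  IsLocalization.lift (M := p.primeCompl) (g := algebraMap R (H R p))
    (fun s => isUnit_algebraMap_of_notMem R p s.2)

theorem kap_algebraMap (r : R) : kap R p O (algebraMap R O r) = algebraMap R (H R p) r :=
  IsLocalization.lift_eq _ r

variable [IsLocalRing O]

theorem isLocalHom_kap : IsLocalHom (kap R p O) := by
  constructor
  intro x hx
  obtain ⟨r, s, rfl⟩ := IsLocalization.exists_mk'_eq p.primeCompl x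
  have h1 : kap R p O (IsLocalization.mk' O r s) * algebraMap R (H R p) s =
      algebraMap R (H R p) r := by
    rw [← kap_algebraMap R p O, ← map_mul, IsLocalization.mk'_spec, kap_algebraMap]
  have h2 : IsUnit (algebraMap R (H R p) r) := by
    rw [← h1]
    exact hx.mul (isUnit_algebraMap_of_notMem R p s.2)
  have h3 : r ∉ p := by
    intro hr
    have := (h2.map (ε R p)).ne_zero
    rw [ε_algebraMap] at this
    exact this ((Ideal.algebraMap_residueField_eq_zero).mpr hr)
  exact (IsLocalization.AtPrime.isUnit_mk'_iff O p r s).mpr h3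

theorem isHenselization_kap :
    letI : Algebra O (H R p) := (kap R p O).toAlgebra
    haveI : IsLocalHom (algebraMap O (H R p)) := isLocalHom_kap R p O
    Hensel.IsHenselization O (H R p) := by
  letI : Algebra O (H R p) := (kap R p O).toAlgebra
  haveI : IsLocalHom (algebraMap O (H R p)) := isLocalHom_kap R p O
  refine ⟨inferInstance, ?_⟩
  intro T _ _ f hf
  have hcomap : (maximalIdeal T).comap (f.comp (algebraMap R O)) = p := by
    ext r
    have h1 : (maximalIdeal T).comap f = maximalIdeal O :=
      ((IsLocalRing.local_hom_TFAE f).out 0 4).mp hf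
    rw [← Ideal.comap_comap, h1, Ideal.mem_comap,
      IsLocalization.AtPrime.to_map_mem_maximal_iff O p]
  obtain ⟨g, hg, hguniq⟩ := existsUnique_desc R p (f.comp (algebraMap R O)) hcomap
  refine ⟨g, ?_, ?_⟩
  · apply IsLocalization.ringHom_ext p.primeCompl
    refine RingHom.ext fun r => ?_
    show g (kap R p O (algebraMap R O r)) = f (algebraMap R O r)
    rw [kap_algebraMap]
    exact RingHom.congr_fun hg r
  · intro g' hg'
    apply hguniq
    refine RingHom.ext fun r => ?_
    show g' (algebraMap R (H R p) r) = f (algebraMap R O r)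
    rw [← kap_algebraMap R p O r]
    exact RingHom.congr_fun hg' (algebraMap R O r)

end loc

section colim

variable (R : Type u) [CommRing R] (p : Ideal R) [p.IsPrime]

theorem exists_kill_finset (X : EtPt R p) (S : Finset X.A) (h : ∀ s ∈ S, ι R p X s = 0) :
    ∃ (Z : EtPt R p) (u : X ⟶ Z), ∀ s ∈ S, u.f s = 0 := by
  classical
  induction S using Finset.induction_on with
  | empty => exact ⟨X, CategoryTheory.CategoryStruct.id X, fun s hs => absurd hs (Finset.notMem_empty s)⟩
  | insert s S hs ih =>
    obtain ⟨Z₁, u₁, hu₁⟩ := ih (fun t ht => h t (Finset.mem_insert_of_mem ht))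
    have h0 : ι R p Z₁ (u₁.f s) = ι R p Z₁ 0 := by
      rw [ι_map, map_zero]
      exact h s (Finset.mem_insert_self s S)
    obtain ⟨Z₂, f, g, hfg⟩ := (ι_eq_iff R p (u₁.f s) (0 : Z₁.A)).mp h0
    rw [map_zero] at hfg
    refine ⟨Z₂, CategoryTheory.CategoryStruct.comp u₁ f, fun t ht => ?_⟩
    rw [EtPt.comp_f]
    rcases Finset.mem_insert.mp ht with rfl | ht
    · exact hfg
    · show f.f (u₁.f t) = 0
      rw [hu₁ t ht, map_zero]

theorem exists_factor (A₀ : Type u) [CommRing A₀] (α : A₀ →+* R) (D : Type u) [CommRing D]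
    [Algebra A₀ D] [Algebra.FinitePresentation A₀ D] (ρ : D →+* H R p)
    (hρ : ∀ a, ρ (algebraMap A₀ D a) = algebraMap R (H R p) (α a)) :
    ∃ (Z : EtPt R p) (ψ : D →+* Z.A),
      (∀ a, ψ (algebraMap A₀ D a) = algebraMap R Z.A (α a)) ∧ ∀ d, ι R p Z (ψ d) = ρ d := by
  classical
  obtain ⟨n, f, hf, T, hT⟩ := Algebra.FinitePresentation.out (R := A₀) (A := D)
  obtain ⟨X, hX⟩ := exists_rep_finset R p
    (Finset.univ.image (fun i : Fin n => ρ (f (MvPolynomial.X i))))
  have ha : ∀ i : Fin n, ∃ a : X.A, ι R p X a = ρ (f (MvPolynomial.X i)) := fun i =>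
    hX _ (Finset.mem_image_of_mem _ (Finset.mem_univ i))
  choose a ha using ha
  let g₁ : MvPolynomial (Fin n) A₀ →+* X.A :=
    MvPolynomial.eval₂Hom ((algebraMap R X.A).comp α) a
  have hfC : ∀ c : A₀, f (MvPolynomial.C c) = algebraMap A₀ D c := by
    intro c
    rw [← MvPolynomial.algebraMap_eq, f.commutes]
  have hg₁ : ∀ q, ι R p X (g₁ q) = ρ (f q) := by
    intro q
    induction q using MvPolynomial.induction_on with
    | C c =>
      show ι R p X (MvPolynomial.eval₂ _ _ (MvPolynomial.C c)) = _
      rw [MvPolynomial.eval₂_C, RingHom.comp_apply, ι_algebraMap, ← hρ, hfC]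
    | add q₁ q₂ h₁ h₂ => rw [map_add, map_add, map_add, map_add, h₁, h₂]
    | mul_X q i hq =>
      rw [map_mul, map_mul, map_mul, map_mul, hq]
      congr 1
      show ι R p X (MvPolynomial.eval₂ _ _ (MvPolynomial.X i)) = _
      rw [MvPolynomial.eval₂_X, ha]
  obtain ⟨Z, u, hu⟩ := exists_kill_finset R p X (T.image g₁) (by
    intro s hs
    obtain ⟨t, ht, rfl⟩ := Finset.mem_image.mp hs
    rw [hg₁]
    have h1 : t ∈ RingHom.ker f.toRingHom := hT ▸ Ideal.subset_span ht
    have h2 : f t = 0 := h1
    rw [h2, map_zero])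
  let g₂ : MvPolynomial (Fin n) A₀ →+* Z.A := u.f.toRingHom.comp g₁
  have hker : ∀ q ∈ RingHom.ker f.toRingHom, g₂ q = 0 := by
    have hle : RingHom.ker f.toRingHom ≤ RingHom.ker g₂ := by
      rw [← hT, Ideal.span_le]
      intro t ht
      exact hu _ (Finset.mem_image_of_mem _ ht)
    exact fun q hq => hle hq
  let e := RingHom.quotientKerEquivOfSurjective (f := f.toRingHom) hf
  let ψ : D →+* Z.A := (Ideal.Quotient.lift _ g₂ hker).comp e.symm.toRingHom
  have hψf : ∀ q, ψ (f q) = g₂ q := by
    intro q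
    show Ideal.Quotient.lift _ g₂ hker (e.symm (f q)) = _
    have h1 : e.symm (f q) = Ideal.Quotient.mk _ q := by
      rw [RingEquiv.symm_apply_eq]
      rfl
    rw [h1, Ideal.Quotient.lift_mk]
  refine ⟨Z, ψ, ?_, ?_⟩
  · intro a₀
    rw [← hfC, hψf]
    show u.f (MvPolynomial.eval₂ _ _ (MvPolynomial.C a₀)) = _
    rw [MvPolynomial.eval₂_C, RingHom.comp_apply, u.f.commutes]
  · intro d
    obtain ⟨q, rfl⟩ := hf d
    rw [hψf]
    show ι R p Z (u.f (g₁ q)) = _
    rw [ι_map, hg₁]

end colim

end Groth.Agent.H15.EtNbhd
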