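import Mathlib

/-! helper15: evaluation of two-variable power series at elements of the maximal ideal of a
complete Noetherian local ring (for S19894 / S13208). -/

set_option autoImplicit false
universe u
open IsLocalRing

namespace Groth.Agent.H15.NodeApx

section ev

variable (S : Type u) [CommRing S] [IsLocalRing S] [IsAdicComplete (maximalIdeal S) S]

/-- Evaluation of power series in finitely many variables at elements of the maximal ideal of a
complete local ring. -/
theorem exists_eval {σ : Type} [Finite σ] (a : σ → S) (ha : ∀ i, a i ∈ maximalIdeal S) :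
    ∃ ev : MvPowerSeries σ S →+* S, (∀ i, ev (MvPowerSeries.X i) = a i) ∧
      ∀ r, ev (MvPowerSeries.C r) = r := by
  letI : WithIdeal S := ⟨maximalIdeal S⟩
  obtain ⟨hc, ht2⟩ := (IsAdic.isAdicComplete_iff (R := S) (I := maximalIdeal S) rfl).mp inferInstance
  have hev : MvPowerSeries.HasEval a := by
    refine ⟨fun s => WithIdeal.isTopologicallyNilpotent_of_mem (ha s), ?_⟩
    rw [Filter.cofinite_eq_bot]
    exact Filter.tendsto_bot
  refine ⟨(MvPowerSeries.aeval hev).toRingHom, fun i => ?_, fun r => ?_⟩
  · show MvPowerSeries.aeval hev (MvPowerSeries.X i) = a i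
    rw [MvPowerSeries.coe_aeval, MvPowerSeries.eval₂_X]
  · show MvPowerSeries.aeval hev (MvPowerSeries.C r) = r
    rw [MvPowerSeries.coe_aeval, MvPowerSeries.eval₂_C]
    rfl

end ev

end Groth.Agent.H15.NodeApx
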