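import Mathlib

/-! helper15: a uniqueness-of-factorization lemma in Noetherian local UFDs, stable under
`m`-adic approximation (for S19894 / S13208). -/

set_option autoImplicit false
universe u
open IsLocalRing

namespace Groth.Agent.H15.NodeApx

section ufd

variable (S : Type u) [CommRing S] [IsLocalRing S] [IsNoetherianRing S]

/-- Ideals of a Noetherian local ring are closed for the adic topology. -/
theorem exists_pow_not_mem_sup (J : Ideal S) (s : S) (hs : s ∉ J) :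
    ∃ N : ℕ, s ∉ J ⊔ maximalIdeal S ^ N := by
  by_contra hcon
  push Not at hcon
  apply hs
  have hH : IsHausdorff (maximalIdeal S) (S ⧸ J) := inferInstance
  have h0 : (Ideal.Quotient.mk J s) = 0 := by
    apply hH.haus'
    intro n
    rw [SModEq.zero]
    obtain ⟨j, hj, y, hy, hjy⟩ := Submodule.mem_sup.mp (hcon n)
    have h1 : Ideal.Quotient.mk J s = y • (Ideal.Quotient.mk J 1) := by
      rw [← hjy, map_add, Ideal.Quotient.eq_zero_iff_mem.mpr hj, zero_add]
      rw [← Ideal.Quotient.mk_eq_mk, ← Ideal.Quotient.mk_eq_mk, ← Submodule.Quotient.mk_smul,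
        smul_eq_mul, mul_one]
    rw [h1]
    exact Submodule.smul_mem_smul hy Submodule.mem_top
  exact Ideal.Quotient.eq_zero_iff_mem.mp h0

variable [IsDomain S] [UniqueFactorizationMonoid S]

theorem exists_uniform_dvd (Δ s : S) (hΔ : Δ ≠ 0) :
    ∃ N : ℕ, ∀ a : S, a ∣ Δ → a - s ∈ maximalIdeal S ^ N → a ∣ s := by
  classical
  haveI : Fintype {x : Associates S // x ∣ Associates.mk Δ} :=
    UniqueFactorizationMonoid.fintypeSubtypeDvd _ (by simpa [Associates.mk_ne_zero] using hΔ)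
  have hrep : ∀ x : {x : Associates S // x ∣ Associates.mk Δ}, ∃ d : S, Associates.mk d = x.1 :=
    fun x => Associates.mk_surjective x.1
  choose d hd using hrep
  have hx : ∀ x : {x : Associates S // x ∣ Associates.mk Δ}, ∃ N : ℕ,
      ¬ (d x ∣ s) → s ∉ Ideal.span {d x} ⊔ maximalIdeal S ^ N := by
    intro x
    by_cases hdv : d x ∣ s
    · exact ⟨0, fun h' => absurd hdv h'⟩
    · obtain ⟨N, hN⟩ := exists_pow_not_mem_sup S (Ideal.span {d x}) s
        (by rwa [Ideal.mem_span_singleton])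
      exact ⟨N, fun _ => hN⟩
  choose Nf hNf using hx
  refine ⟨Finset.univ.sup Nf, fun a hadvd hmem => ?_⟩
  let x : {x : Associates S // x ∣ Associates.mk Δ} :=
    ⟨Associates.mk a, Associates.mk_dvd_mk.mpr hadvd⟩
  have hassoc : Associated (d x) a := Associates.mk_eq_mk_iff_associated.mp (hd x)
  by_contra hnd
  have hnd' : ¬ d x ∣ s := fun h' => hnd (hassoc.symm.dvd.trans h')
  apply hNf x hnd'
  have hle : maximalIdeal S ^ (Finset.univ.sup Nf) ≤ maximalIdeal S ^ (Nf x) :=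
    Ideal.pow_le_pow_right (Finset.le_sup (Finset.mem_univ x))
  have e : s = a - (a - s) := by ring
  rw [e]
  refine Submodule.sub_mem _ (Submodule.mem_sup_left ?_) (Submodule.mem_sup_right (hle hmem))
  rw [Ideal.mem_span_singleton]
  exact hassoc.dvd

/-- In a Noetherian local UFD, a factorization `a₁ a₂ = s₁ s₂` sufficiently close to `(s₁, s₂)`
is the same factorization up to units. -/
theorem exists_uniform (s₁ s₂ : S) (h : s₁ * s₂ ≠ 0) :
    ∃ N : ℕ, 1 ≤ N ∧ ∀ a₁ a₂ : S, a₁ * a₂ = s₁ * s₂ → a₁ - s₁ ∈ maximalIdeal S ^ N →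
      a₂ - s₂ ∈ maximalIdeal S ^ N →
      Ideal.span {a₁} = Ideal.span {s₁} ∧ Ideal.span {a₂} = Ideal.span {s₂} := by
  obtain ⟨N₁, hN₁⟩ := exists_uniform_dvd S (s₁ * s₂) s₁ h
  obtain ⟨N₂, hN₂⟩ := exists_uniform_dvd S (s₁ * s₂) s₂ h
  refine ⟨max N₁ N₂ + 1, by omega, fun a₁ a₂ hprod h1 h2 => ?_⟩
  have hd1 : a₁ ∣ s₁ := hN₁ a₁ ⟨a₂, hprod.symm⟩ (Ideal.pow_le_pow_right (by omega) h1)
  have hd2 : a₂ ∣ s₂ := hN₂ a₂ ⟨a₁, by rw [mul_comm a₂ a₁]; exact hprod.symm⟩
    (Ideal.pow_le_pow_right (by omega) h2)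
  obtain ⟨w₁, hw₁⟩ := hd1
  obtain ⟨w₂, hw₂⟩ := hd2
  have hne : a₁ * a₂ ≠ 0 := hprod ▸ h
  have hw : w₁ * w₂ = 1 := by
    have h3 : a₁ * a₂ * (w₁ * w₂) = a₁ * a₂ * 1 := by
      rw [mul_one]
      calc a₁ * a₂ * (w₁ * w₂) = (a₁ * w₁) * (a₂ * w₂) := by ring
        _ = s₁ * s₂ := by rw [← hw₁, ← hw₂]
        _ = a₁ * a₂ := hprod.symm
    exact mul_left_cancel₀ hne h3
  have hu1 : IsUnit w₁ := IsUnit.of_mul_eq_one _ hw
  have hu2 : IsUnit w₂ := IsUnit.of_mul_eq_one _ (by rw [mul_comm]; exact hw)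
  constructor
  · rw [Ideal.span_singleton_eq_span_singleton]
    exact ⟨hu1.unit, by simpa using hw₁.symm⟩
  · rw [Ideal.span_singleton_eq_span_singleton]
    exact ⟨hu2.unit, by simpa using hw₂.symm⟩

end ufd

end Groth.Agent.H15.NodeApx
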