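import Mathlib
import Groth.Prelude.Def_Found
import Groth.Agent.H75.ArtinApprox
import Groth.Agent.H87.SecLoc
import Groth.Agent.H34.HensGRing
import Groth.Agent.H15.NodeApx1
import Groth.Agent.H15.NodeApx2

/-! helper15: Artin approximation of a retraction of a local algebra whose completion is a node
`R^[[u,v]]/(uv - Δ)` (S19894 / S13208), conditional on Popescu's theorem (S0595). -/

set_option autoImplicit false
universe u
open IsLocalRing

namespace Groth.Agent.H15.NodeApx

open Groth.Agent.H75.ArtinApprox (Popescu)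

section AP

/-- Artin approximation for maps from a finitely presented algebra to the completion, in
membership form (assuming Popescu). -/
theorem exists_lift_pow (hP : Popescu.{u}) (A : Type u) [CommRing A] [IsNoetherianRing A]
    (I : Ideal A) [HenselianRing A I] (hreg : CAlg.IsRegularHom A (AdicCompletion I A))
    (C : Type u) [CommRing C] [Algebra A C] [Algebra.FinitePresentation A C]
    (φ : C →ₐ[A] AdicCompletion I A) (N : ℕ) (hN : 1 ≤ N) :
    ∃ ρ : C →ₐ[A] A, ∀ c, algebraMap A (AdicCompletion I A) (ρ c) - φ c ∈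
      (I ^ N).map (algebraMap A (AdicCompletion I A)) := by
  have hIfg : I.FG := IsNoetherian.noetherian I
  haveI : IsNoetherianRing (AdicCompletion I A) :=
    Groth.Agent.Lead.isNoetherianRing_adicCompletion I hIfg
  obtain ⟨B, _, _, hsm, g, h, hgh⟩ := hP A (AdicCompletion I A) hreg C φ
  haveI := hsm
  haveI : HenselianRing A (I ^ N) := Groth.Agent.H75.ArtinApprox.henselianRing_pow I N hN
  obtain ⟨τ, hτ⟩ := Groth.Agent.S0536.result A B A (I ^ N) ((AdicCompletion.evalₐ I N).comp h)
  refine ⟨τ.comp g, fun c => ?_⟩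
  apply Groth.Agent.H75.ArtinApprox.mem_map_of_evalₐ_eq_zero I hIfg N
  have h1 : Ideal.Quotient.mk (I ^ N) (τ (g c)) = AdicCompletion.evalₐ I N (h (g c)) :=
    congrArg (fun f => f (g c)) hτ
  have h2 : h (g c) = φ c := congrArg (fun f => f c) hgh
  rw [map_sub, AlgHom.commutes, ← h2, ← h1]
  exact sub_self _

end AP

section core

variable (R : Type u) [CommRing R] [IsNoetherianRing R] [IsLocalRing R]

theorem map_pow_eq (k : ℕ) :
    (maximalIdeal R ^ k).map (algebraMap R (AdicCompletion (maximalIdeal R) R)) =
      maximalIdeal (AdicCompletion (maximalIdeal R) R) ^ k := by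
  rw [Ideal.map_pow, AdicCompletion.maximalIdeal_eq_map]

theorem exists_sub_mem (k : ℕ) (z : AdicCompletion (maximalIdeal R) R) :
    ∃ r : R, z - algebraMap R (AdicCompletion (maximalIdeal R) R) r ∈
      maximalIdeal (AdicCompletion (maximalIdeal R) R) ^ k := by
  obtain ⟨r, hr⟩ := Ideal.Quotient.mk_surjective (AdicCompletion.evalₐ (maximalIdeal R) k z)
  refine ⟨r, ?_⟩
  rw [← map_pow_eq]
  apply Groth.Agent.H75.ArtinApprox.mem_map_of_evalₐ_eq_zero (maximalIdeal R)
    (IsNoetherian.noetherian _)
  rw [map_sub, AlgHom.commutes, ← hr]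
  exact sub_self _

theorem algebraMap_injective :
    Function.Injective (algebraMap R (AdicCompletion (maximalIdeal R) R)) := by
  rw [injective_iff_map_eq_zero]
  intro x hx
  have h1 : ∀ n : ℕ, x ∈ maximalIdeal R ^ n := by
    intro n
    have h2 := congrArg (AdicCompletion.evalₐ (maximalIdeal R) n) hx
    rw [AlgHom.commutes, map_zero] at h2
    exact Ideal.Quotient.eq_zero_iff_mem.mp h2
  have h3 : x ∈ ⨅ n : ℕ, maximalIdeal R ^ n := by
    rw [Ideal.mem_iInf]
    exact h1
  rw [Ideal.iInf_pow_eq_bot_of_isLocalRing _ (Ideal.IsPrime.ne_top inferInstance)] at h3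
  exact h3

end core

section main

theorem core (hP : Popescu.{u}) (R : Type u) [CommRing R] [IsNoetherianRing R]
    [HenselianLocalRing R]
    (hreg : CAlg.IsRegularHom R (AdicCompletion (maximalIdeal R) R))
    (C : Type u) [CommRing C] [IsLocalRing C] [Algebra R C] [Algebra.EssFiniteType R C]
    [IsNoetherianRing C]
    (Φ : AdicCompletion (maximalIdeal C) C →+* AdicCompletion (maximalIdeal R) R)
    (hΦ : ∀ r : R, Φ (algebraMap C (AdicCompletion (maximalIdeal C) C) (algebraMap R C r)) =
      algebraMap R (AdicCompletion (maximalIdeal R) R) r)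
    (N : ℕ) (hN : 1 ≤ N) :
    ∃ (g : C →ₐ[R] R)
      (ĝ : AdicCompletion (maximalIdeal C) C →+* AdicCompletion (maximalIdeal R) R),
      (∀ c : C, ĝ (algebraMap C (AdicCompletion (maximalIdeal C) C) c) =
        algebraMap R (AdicCompletion (maximalIdeal R) R) (g c)) ∧
      ∀ x, ĝ x - Φ x ∈ maximalIdeal (AdicCompletion (maximalIdeal R) R) ^ N := by
  classical
  have hmax : maximalIdeal (AdicCompletion (maximalIdeal R) R) =
      (maximalIdeal R).map (algebraMap R (AdicCompletion (maximalIdeal R) R)) :=
    AdicCompletion.maximalIdeal_eq_map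
  have hmaxC : maximalIdeal (AdicCompletion (maximalIdeal C) C) =
      (maximalIdeal C).map (algebraMap C (AdicCompletion (maximalIdeal C) C)) :=
    AdicCompletion.maximalIdeal_eq_map
  -- Φ is local
  have hΦloc : ∀ x ∈ maximalIdeal (AdicCompletion (maximalIdeal C) C),
      Φ x ∈ maximalIdeal (AdicCompletion (maximalIdeal R) R) := by
    intro x hx
    by_contra hcon
    obtain ⟨r, hr⟩ := exists_sub_mem R 1 (Φ x)
    rw [pow_one] at hr
    have h1 : algebraMap R (AdicCompletion (maximalIdeal R) R) r ∉
        maximalIdeal (AdicCompletion (maximalIdeal R) R) := fun h' => hcon (by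
      have := Ideal.add_mem _ hr h'
      rwa [sub_add_cancel] at this)
    have hru : IsUnit r := by
      by_contra h''
      exact h1 (by
        rw [hmax]
        exact Ideal.mem_map_of_mem _ ((IsLocalRing.mem_maximalIdeal r).mpr h''))
    have hy : IsUnit (x - algebraMap C (AdicCompletion (maximalIdeal C) C) (algebraMap R C r)) := by
      have h2 : IsUnit (algebraMap C (AdicCompletion (maximalIdeal C) C) (algebraMap R C r)) :=
        (hru.map (algebraMap R C)).map _
      by_contra h3
      have h4 : x - algebraMap C (AdicCompletion (maximalIdeal C) C) (algebraMap R C r) ∈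
          maximalIdeal (AdicCompletion (maximalIdeal C) C) :=
        (IsLocalRing.mem_maximalIdeal _).mpr h3
      have h5 := Ideal.sub_mem _ hx h4
      rw [sub_sub_cancel] at h5
      exact (IsLocalRing.mem_maximalIdeal _).mp h5 h2
    have h6 := hy.map Φ
    rw [map_sub, hΦ] at h6
    exact (IsLocalRing.mem_maximalIdeal _).mp hr h6
  -- the map to approximate
  let φ : C →ₐ[R] AdicCompletion (maximalIdeal R) R :=
    { toRingHom := Φ.comp (algebraMap C (AdicCompletion (maximalIdeal C) C))
      commutes' := fun r => hΦ r }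
  have hφ : ∀ c, φ c = Φ (algebraMap C (AdicCompletion (maximalIdeal C) C) c) := fun _ => rfl
  haveI : Algebra.FinitePresentation R (Algebra.EssFiniteType.subalgebra R C) :=
    Algebra.FinitePresentation.of_finiteType.mp inferInstance
  obtain ⟨τ₀, hτ₀⟩ := exists_lift_pow hP R (maximalIdeal R) hreg
    (Algebra.EssFiniteType.subalgebra R C) (φ.comp (Algebra.EssFiniteType.subalgebra R C).val) N hN
  have hτ₀' : ∀ c₀ : Algebra.EssFiniteType.subalgebra R C,
      algebraMap R (AdicCompletion (maximalIdeal R) R) (τ₀ c₀) - φ (c₀ : C) ∈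
        maximalIdeal (AdicCompletion (maximalIdeal R) R) ^ N := by
    intro c₀
    rw [← map_pow_eq]
    exact hτ₀ c₀
  -- units
  have hunit : ∀ y : Algebra.EssFiniteType.submonoid R C, IsUnit (τ₀ y) := by
    intro y
    have hy : IsUnit ((y : Algebra.EssFiniteType.subalgebra R C) : C) := y.2
    have h1 : IsUnit (φ ((y : Algebra.EssFiniteType.subalgebra R C) : C)) :=
      (hy.map (algebraMap C (AdicCompletion (maximalIdeal C) C))).map Φ
    have h2 := hτ₀' y
    have h3 : algebraMap R (AdicCompletion (maximalIdeal R) R) (τ₀ y) ∉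
        maximalIdeal (AdicCompletion (maximalIdeal R) R) := by
      intro h'
      have := Ideal.sub_mem _ h' (Ideal.pow_le_self (by omega) h2)
      rw [sub_sub_cancel] at this
      exact (IsLocalRing.mem_maximalIdeal _).mp this h1
    have h4 : IsUnit (algebraMap R (AdicCompletion (maximalIdeal R) R) (τ₀ y)) :=
      IsLocalRing.notMem_maximalIdeal.mp h3
    exact (isUnit_map_iff (algebraMap R (AdicCompletion (maximalIdeal R) R)) _).mp h4
  let g : C →ₐ[R] R := IsLocalization.liftAlgHom (M := Algebra.EssFiniteType.submonoid R C)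
    (f := τ₀) hunit
  have hg_alg : ∀ x : Algebra.EssFiniteType.subalgebra R C, g (x : C) = τ₀ x := by
    intro x
    show IsLocalization.lift hunit (algebraMap (Algebra.EssFiniteType.subalgebra R C) C x) = _
    rw [IsLocalization.lift_eq]
    rfl
  -- congruence on C
  have hcong : ∀ c : C, algebraMap R (AdicCompletion (maximalIdeal R) R) (g c) - φ c ∈
      maximalIdeal (AdicCompletion (maximalIdeal R) R) ^ N := by
    intro c
    obtain ⟨⟨c₀, s⟩, hcs⟩ := IsLocalization.surj (Algebra.EssFiniteType.submonoid R C) c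
    have hcs' : c * ((s : Algebra.EssFiniteType.subalgebra R C) : C) = (c₀ : C) := hcs
    have h1 : g c * τ₀ s = τ₀ c₀ := by
      have := congrArg g hcs'
      rw [map_mul, hg_alg, hg_alg] at this
      exact this
    have h2 : φ c * φ ((s : Algebra.EssFiniteType.subalgebra R C) : C) = φ (c₀ : C) := by
      have := congrArg φ hcs'
      rw [map_mul] at this
      exact this
    have hs := hτ₀' s
    have hc₀ := hτ₀' c₀
    have h3 : (algebraMap R (AdicCompletion (maximalIdeal R) R) (g c) - φ c) *
        algebraMap R (AdicCompletion (maximalIdeal R) R) (τ₀ s) ∈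
        maximalIdeal (AdicCompletion (maximalIdeal R) R) ^ N := by
      have e : (algebraMap R (AdicCompletion (maximalIdeal R) R) (g c) - φ c) *
          algebraMap R (AdicCompletion (maximalIdeal R) R) (τ₀ s) =
          (algebraMap R (AdicCompletion (maximalIdeal R) R) (τ₀ c₀) - φ (c₀ : C)) -
            φ c * (algebraMap R (AdicCompletion (maximalIdeal R) R) (τ₀ s) -
              φ ((s : Algebra.EssFiniteType.subalgebra R C) : C)) := by
        rw [← h2, ← h1, map_mul]
        ring
      rw [e]
      exact Ideal.sub_mem _ hc₀ (Ideal.mul_mem_left _ _ hs)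
    have hu : IsUnit (algebraMap R (AdicCompletion (maximalIdeal R) R) (τ₀ s)) :=
      (hunit s).map _
    exact (Ideal.mul_unit_mem_iff_mem _ hu).mp h3
  -- g is local
  have hgloc : maximalIdeal C ≤ (maximalIdeal R).comap g := by
    intro c hc
    rw [Ideal.mem_comap]
    by_contra hcon
    have hu : IsUnit (g c) := IsLocalRing.notMem_maximalIdeal.mp hcon
    have h1 : φ c ∈ maximalIdeal (AdicCompletion (maximalIdeal R) R) :=
      hΦloc _ (by rw [hmaxC]; exact Ideal.mem_map_of_mem _ hc)
    have h2 := Ideal.add_mem _ (Ideal.pow_le_self (by omega) (hcong c)) h1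
    rw [sub_add_cancel] at h2
    exact (IsLocalRing.mem_maximalIdeal _).mp h2 (hu.map _)
  let ĝ : AdicCompletion (maximalIdeal C) C →+* AdicCompletion (maximalIdeal R) R :=
    (Groth.Agent.H87.ComplIso.hatMap (maximalIdeal C) (maximalIdeal R) g hgloc).toRingHom
  have hĝC : ∀ c : C, ĝ (algebraMap C (AdicCompletion (maximalIdeal C) C) c) =
      algebraMap R (AdicCompletion (maximalIdeal R) R) (g c) := fun c =>
    Groth.Agent.H87.SecLoc.hatMap_algebraMap (maximalIdeal C) (maximalIdeal R) g hgloc c
  refine ⟨g, ĝ, hĝC, fun x => ?_⟩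
  obtain ⟨c, hc⟩ := exists_sub_mem C N x
  have hĝN : ∀ y ∈ maximalIdeal (AdicCompletion (maximalIdeal C) C) ^ N,
      ĝ y ∈ maximalIdeal (AdicCompletion (maximalIdeal R) R) ^ N := by
    have hle : maximalIdeal (AdicCompletion (maximalIdeal C) C) ≤
        (maximalIdeal (AdicCompletion (maximalIdeal R) R)).comap ĝ := by
      rw [hmaxC, Ideal.map_le_iff_le_comap]
      intro c hc
      show ĝ (algebraMap C (AdicCompletion (maximalIdeal C) C) c) ∈
        maximalIdeal (AdicCompletion (maximalIdeal R) R)
      rw [hĝC, hmax]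
      exact Ideal.mem_map_of_mem _ (hgloc hc)
    intro y hy
    exact ((Ideal.pow_right_mono hle N).trans (Ideal.le_comap_pow _ N)) hy
  have hΦN : ∀ y ∈ maximalIdeal (AdicCompletion (maximalIdeal C) C) ^ N,
      Φ y ∈ maximalIdeal (AdicCompletion (maximalIdeal R) R) ^ N := by
    have hle : maximalIdeal (AdicCompletion (maximalIdeal C) C) ≤
        (maximalIdeal (AdicCompletion (maximalIdeal R) R)).comap Φ := fun y hy => hΦloc y hy
    intro y hy
    exact ((Ideal.pow_right_mono hle N).trans (Ideal.le_comap_pow _ N)) hy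
  have e : ĝ x - Φ x =
      ĝ (x - algebraMap C (AdicCompletion (maximalIdeal C) C) c) -
        Φ (x - algebraMap C (AdicCompletion (maximalIdeal C) C) c) +
      (algebraMap R (AdicCompletion (maximalIdeal R) R) (g c) - φ c) := by
    rw [map_sub, map_sub, hĝC, hφ]
    ring
  rw [e]
  exact Ideal.add_mem _ (Ideal.sub_mem _ (hĝN _ hc) (hΦN _ hc)) (hcong c)

end main

end Groth.Agent.H15.NodeApx
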