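import Mathlib
import Groth.Prelude.Def_Found
import Groth.Agent.H15.EtNbhd1
import Groth.Agent.H15.NodeApx3
import Groth.Agent.H34.HensGRing
import Groth.Agent.H3.PH3

/-! helper15: Artin approximation of a map into the completion of a local ring of a finite type
algebra by a map into an étale neighbourhood (ring-level core of S7202), assuming Popescu. -/

set_option autoImplicit false
universe u
open IsLocalRing TensorProduct

namespace Groth.Agent.H15.EtNbhd

open Groth.Agent.H47.Hens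
open Groth.Agent.H75.ArtinApprox (Popescu)

/-- elements of the completion whose `N`-th truncation vanishes come from `m^N`. -/
theorem mem_pow_of_algebraMap_mem {S : Type u} [CommRing S] (I : Ideal S) (N : ℕ) (h : S)
    (hh : algebraMap S (AdicCompletion I S) h ∈ (I ^ N).map (algebraMap S (AdicCompletion I S))) :
    h ∈ I ^ N := by
  have hle : (I ^ N).map (algebraMap S (AdicCompletion I S)) ≤
      RingHom.ker (AdicCompletion.evalₐ I N).toRingHom := by
    rw [Ideal.map_le_iff_le_comap]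
    intro j hj
    rw [Ideal.mem_comap, RingHom.mem_ker]
    show AdicCompletion.evalₐ I N (algebraMap S _ j) = 0
    rw [AlgHom.commutes]
    exact Ideal.Quotient.eq_zero_iff_mem.mpr hj
  have h1 : AdicCompletion.evalₐ I N (algebraMap S _ h) = 0 := hle hh
  rw [AlgHom.commutes] at h1
  exact Ideal.Quotient.eq_zero_iff_mem.mp h1

set_option maxHeartbeats 1600000 in
theorem ring_core (hP : Popescu.{u})
    (A₀ : Type u) [CommRing A₀] [IsNoetherianRing A₀]
    (B₀ : Type u) [CommRing B₀] [Algebra A₀ B₀]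
    (D₀ : Type u) [CommRing D₀] [Algebra A₀ D₀] [Algebra.FiniteType A₀ D₀]
    (𝔮 : Ideal B₀) [𝔮.IsPrime]
    (OX : Type u) [CommRing OX] [IsLocalRing OX] [Algebra B₀ OX] [IsLocalization.AtPrime OX 𝔮]
    (hG : CAlg.IsGRing OX)
    (φ₀ : D₀ →+* AdicCompletion (maximalIdeal OX) OX)
    (hφ₀ : ∀ a : A₀, φ₀ (algebraMap A₀ D₀ a) =
      algebraMap OX (AdicCompletion (maximalIdeal OX) OX) (algebraMap B₀ OX (algebraMap A₀ B₀ a)))
    (𝔯 : Ideal D₀)
    (h𝔯1 : ∀ d ∈ 𝔯, φ₀ d ∈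
      (maximalIdeal OX).map (algebraMap OX (AdicCompletion (maximalIdeal OX) OX)))
    (h𝔯2 : ∀ d, d ∉ 𝔯 → IsUnit (φ₀ d))
    (N : ℕ) (hN : 1 ≤ N) :
    ∃ (E : Type u) (_ : CommRing E) (_ : Algebra B₀ E) (_ : Algebra.Etale B₀ E) (𝔮E : Ideal E)
      (_ : 𝔮E.IsPrime) (ψ : D₀ →+* E),
      𝔮E.comap (algebraMap B₀ E) = 𝔮 ∧
      (∀ a : A₀, ψ (algebraMap A₀ D₀ a) = algebraMap B₀ E (algebraMap A₀ B₀ a)) ∧
      𝔮E.comap ψ = 𝔯 ∧
      ∀ (OU : Type u) [CommRing OU] [IsLocalRing OU] [Algebra E OU]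
        [IsLocalization.AtPrime OU 𝔮E] (lam : OX →+* OU),
        lam.comp (algebraMap B₀ OX) = (algebraMap E OU).comp (algebraMap B₀ E) →
        (∀ t : OU, ∃ c : OX, t - lam c ∈ maximalIdeal OU) ∧
        ∀ (d : D₀) (c : OX),
          AdicCompletion.evalₐ (maximalIdeal OX) N (φ₀ d) = Ideal.Quotient.mk _ c →
          algebraMap E OU (ψ d) - lam c ∈ maximalIdeal OU ^ N := by
  classical
  haveI : IsNoetherianRing OX := hG.1
  letI algOR : Algebra OX (H B₀ 𝔮) := (kap B₀ 𝔮 OX).toAlgebra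
  haveI locOR : IsLocalHom (algebraMap OX (H B₀ 𝔮)) := isLocalHom_kap B₀ 𝔮 OX
  haveI hensOR : Hensel.IsHenselization OX (H B₀ 𝔮) := isHenselization_kap B₀ 𝔮 OX
  haveI : IsNoetherianRing (H B₀ 𝔮) :=
    Groth.Agent.H34.HensFormal.isNoetherianRing_hens OX (H B₀ 𝔮)
  have hGR : CAlg.IsGRing (H B₀ 𝔮) := Groth.Agent.H34.HensGRing.isGRing_hens OX (H B₀ 𝔮) hG
  have hreg := Groth.Agent.H34.HensGRing.isRegularHom_cpl_of_isGRing (H B₀ 𝔮) hGR
  have hκ : ∀ c : OX, algebraMap OX (H B₀ 𝔮) c = kap B₀ 𝔮 OX c := fun _ => rfl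
  -- `kap` is local
  have hκloc : ∀ c ∈ maximalIdeal OX, kap B₀ 𝔮 OX c ∈ maximalIdeal (H B₀ 𝔮) := by
    intro c hc
    have h1 := ((IsLocalRing.local_hom_TFAE (algebraMap OX (H B₀ 𝔮))).out 0 2).mp locOR
    exact h1 (Ideal.mem_map_of_mem _ hc)
  have hκpow : ∀ (k : ℕ), ∀ c ∈ maximalIdeal OX ^ k, kap B₀ 𝔮 OX c ∈ maximalIdeal (H B₀ 𝔮) ^ k := by
    intro k c hc
    have hle : maximalIdeal OX ≤ (maximalIdeal (H B₀ 𝔮)).comap (kap B₀ 𝔮 OX) := hκloc
    exact ((Ideal.pow_right_mono hle k).trans (Ideal.le_comap_pow _ k)) hc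
  have hle : maximalIdeal OX ≤
      (maximalIdeal (H B₀ 𝔮)).comap (Algebra.ofId OX (H B₀ 𝔮)) := hκloc
  let θ := Groth.Agent.H87.ComplIso.hatMap (maximalIdeal OX) (maximalIdeal (H B₀ 𝔮))
    (Algebra.ofId OX (H B₀ 𝔮)) hle
  have hθ : ∀ c : OX, θ (algebraMap OX (AdicCompletion (maximalIdeal OX) OX) c) =
      algebraMap (H B₀ 𝔮) (AdicCompletion (maximalIdeal (H B₀ 𝔮)) (H B₀ 𝔮)) (kap B₀ 𝔮 OX c) :=
    fun c => Groth.Agent.H87.SecLoc.hatMap_algebraMap _ _ _ hle c
  -- θ respects the filtrations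
  have hθpow : ∀ (k : ℕ), ∀ z ∈ (maximalIdeal OX ^ k).map
      (algebraMap OX (AdicCompletion (maximalIdeal OX) OX)),
      θ z ∈ (maximalIdeal (H B₀ 𝔮) ^ k).map
        (algebraMap (H B₀ 𝔮) (AdicCompletion (maximalIdeal (H B₀ 𝔮)) (H B₀ 𝔮))) := by
    intro k
    have hle' : (maximalIdeal OX ^ k).map
        (algebraMap OX (AdicCompletion (maximalIdeal OX) OX)) ≤
        ((maximalIdeal (H B₀ 𝔮) ^ k).map
          (algebraMap (H B₀ 𝔮) (AdicCompletion (maximalIdeal (H B₀ 𝔮)) (H B₀ 𝔮)))).comap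
          θ.toRingHom := by
      rw [Ideal.map_le_iff_le_comap]
      intro c hc
      rw [Ideal.mem_comap, Ideal.mem_comap]
      show θ (algebraMap OX _ c) ∈ _
      rw [hθ]
      exact Ideal.mem_map_of_mem _ (hκpow k c hc)
    exact fun z hz => hle' hz
  -- algebra structures over A₀
  letI algA : Algebra A₀ (H B₀ 𝔮) :=
    ((algebraMap B₀ (H B₀ 𝔮)).comp (algebraMap A₀ B₀)).toAlgebra
  haveI : IsScalarTower A₀ B₀ (H B₀ 𝔮) := IsScalarTower.of_algebraMap_eq (fun _ => rfl)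
  haveI : Algebra.FinitePresentation A₀ D₀ :=
    Algebra.FinitePresentation.of_finiteType.mp inferInstance
  let χ : D₀ →ₐ[A₀] AdicCompletion (maximalIdeal (H B₀ 𝔮)) (H B₀ 𝔮) :=
    { toRingHom := θ.toRingHom.comp φ₀
      commutes' := fun a => by
        show θ (φ₀ (algebraMap A₀ D₀ a)) = _
        rw [hφ₀, hθ, kap_algebraMap]
        rfl }
  have hχ : ∀ d, χ d = θ (φ₀ d) := fun _ => rfl
  let lft : (H B₀ 𝔮) ⊗[A₀] D₀ →ₐ[H B₀ 𝔮]
      AdicCompletion (maximalIdeal (H B₀ 𝔮)) (H B₀ 𝔮) :=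
    Algebra.TensorProduct.lift (Algebra.ofId _ _) χ (fun _ _ => Commute.all _ _)
  obtain ⟨ρ', hρ'⟩ := Groth.Agent.H15.NodeApx.exists_lift_pow hP (H B₀ 𝔮) (maximalIdeal (H B₀ 𝔮)) hreg
    ((H B₀ 𝔮) ⊗[A₀] D₀) lft N hN
  let ρ : D₀ →+* H B₀ 𝔮 := ρ'.toRingHom.comp
    (Algebra.TensorProduct.includeRight : D₀ →ₐ[A₀] (H B₀ 𝔮) ⊗[A₀] D₀).toRingHom
  have hρdef : ∀ d, ρ d = ρ' ((1 : H B₀ 𝔮) ⊗ₜ[A₀] d) := fun _ => rfl
  have hρa : ∀ a, ρ (algebraMap A₀ D₀ a) = algebraMap B₀ (H B₀ 𝔮) (algebraMap A₀ B₀ a) := by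
    intro a
    rw [hρdef]
    have h1 : ((1 : H B₀ 𝔮) ⊗ₜ[A₀] (algebraMap A₀ D₀ a)) =
        algebraMap (H B₀ 𝔮) ((H B₀ 𝔮) ⊗[A₀] D₀) (algebraMap A₀ (H B₀ 𝔮) a) := by
      rw [Algebra.TensorProduct.algebraMap_apply, Algebra.algebraMap_self, RingHom.id_apply,
        Algebra.algebraMap_eq_smul_one, Algebra.algebraMap_eq_smul_one, TensorProduct.smul_tmul]
    rw [h1, ρ'.commutes]
    rfl
  have hρd : ∀ d, algebraMap (H B₀ 𝔮) (AdicCompletion (maximalIdeal (H B₀ 𝔮)) (H B₀ 𝔮)) (ρ d) -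
      θ (φ₀ d) ∈ (maximalIdeal (H B₀ 𝔮) ^ N).map
        (algebraMap (H B₀ 𝔮) (AdicCompletion (maximalIdeal (H B₀ 𝔮)) (H B₀ 𝔮))) := by
    intro d
    have h1 := hρ' ((1 : H B₀ 𝔮) ⊗ₜ[A₀] d)
    have h2 : lft ((1 : H B₀ 𝔮) ⊗ₜ[A₀] d) = θ (φ₀ d) := by
      show Algebra.TensorProduct.lift (Algebra.ofId _ _) χ _ ((1 : H B₀ 𝔮) ⊗ₜ[A₀] d) = _
      rw [Algebra.TensorProduct.lift_tmul, map_one, one_mul, hχ]
    rw [h2] at h1
    exact h1
  obtain ⟨Z, ψ, hψa, hψι⟩ := exists_factor B₀ 𝔮 A₀ (algebraMap A₀ B₀) D₀ ρ hρa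
  haveI hprime : (RingHom.ker Z.χ.toRingHom).IsPrime := RingHom.ker_isPrime _
  have hcomap : (RingHom.ker Z.χ.toRingHom).comap (algebraMap B₀ Z.A) = 𝔮 := by
    ext r
    simp only [Ideal.mem_comap, RingHom.mem_ker]
    rw [show Z.χ.toRingHom (algebraMap B₀ Z.A r) = algebraMap B₀ 𝔮.ResidueField r from
      Z.χ.commutes r, Ideal.algebraMap_residueField_eq_zero]
  have hmemE : ∀ e : Z.A, e ∈ RingHom.ker Z.χ.toRingHom ↔
      ι B₀ 𝔮 Z e ∈ maximalIdeal (H B₀ 𝔮) := by
    intro e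
    rw [mem_maximalIdeal_iff, ε_ι, RingHom.mem_ker]
    rfl
  -- the maximal ideal of the completion
  have hmaxh : maximalIdeal (AdicCompletion (maximalIdeal (H B₀ 𝔮)) (H B₀ 𝔮)) =
      (maximalIdeal (H B₀ 𝔮)).map
        (algebraMap (H B₀ 𝔮) (AdicCompletion (maximalIdeal (H B₀ 𝔮)) (H B₀ 𝔮))) :=
    AdicCompletion.maximalIdeal_eq_map
  have hNle : (maximalIdeal (H B₀ 𝔮) ^ N).map
      (algebraMap (H B₀ 𝔮) (AdicCompletion (maximalIdeal (H B₀ 𝔮)) (H B₀ 𝔮))) ≤
      maximalIdeal (AdicCompletion (maximalIdeal (H B₀ 𝔮)) (H B₀ 𝔮)) := by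
    rw [hmaxh]
    exact Ideal.map_mono (Ideal.pow_le_self (by omega))
  refine ⟨Z.A, inferInstance, inferInstance, inferInstance, RingHom.ker Z.χ.toRingHom, hprime, ψ,
    hcomap, hψa, ?_, ?_⟩
  · -- the point maps to `𝔯`
    ext d
    rw [Ideal.mem_comap, hmemE, hψι]
    constructor
    · intro hd
      by_contra hnot
      have hu := (h𝔯2 d hnot).map θ
      have h1 : algebraMap (H B₀ 𝔮) (AdicCompletion (maximalIdeal (H B₀ 𝔮)) (H B₀ 𝔮)) (ρ d) ∈
          maximalIdeal (AdicCompletion (maximalIdeal (H B₀ 𝔮)) (H B₀ 𝔮)) := by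
        rw [hmaxh]
        exact Ideal.mem_map_of_mem _ hd
      have h2 := Ideal.sub_mem _ h1 (hNle (hρd d))
      rw [sub_sub_cancel] at h2
      exact (IsLocalRing.mem_maximalIdeal _).mp h2 hu
    · intro hd
      have h1 : θ (φ₀ d) ∈ maximalIdeal (AdicCompletion (maximalIdeal (H B₀ 𝔮)) (H B₀ 𝔮)) := by
        rw [hmaxh]
        have := hθpow 1 (φ₀ d) (by rw [pow_one]; exact h𝔯1 d hd)
        rwa [pow_one] at this
      have h2 := Ideal.add_mem _ (hNle (hρd d)) h1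
      rw [sub_add_cancel] at h2
      by_contra hnot
      have hu : IsUnit (ρ d) := IsLocalRing.notMem_maximalIdeal.mp hnot
      exact (IsLocalRing.mem_maximalIdeal _).mp h2 (hu.map _)
  · intro OU _ _ _ _ lam hlam
    have hlam' : ∀ b : B₀, lam (algebraMap B₀ OX b) = algebraMap Z.A OU (algebraMap B₀ Z.A b) :=
      fun b => RingHom.congr_fun hlam b
    -- the map to the henselization
    let μ : OU →+* H B₀ 𝔮 :=
      IsLocalization.lift (M := (RingHom.ker Z.χ.toRingHom).primeCompl) (g := ι B₀ 𝔮 Z)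
        (fun s => isUnit_of_ε_ne_zero _ _ _ (by
          rw [ε_ι]
          exact fun h => s.2 (RingHom.mem_ker.mpr h)))
    have hμ : ∀ e : Z.A, μ (algebraMap Z.A OU e) = ι B₀ 𝔮 Z e := fun e =>
      IsLocalization.lift_eq _ e
    have hμlam : ∀ c, μ (lam c) = kap B₀ 𝔮 OX c := by
      have h1 : μ.comp lam = kap B₀ 𝔮 OX := by
        apply IsLocalization.ringHom_ext 𝔮.primeCompl
        refine RingHom.ext fun b => ?_
        show μ (lam (algebraMap B₀ OX b)) = kap B₀ 𝔮 OX (algebraMap B₀ OX b)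
        rw [kap_algebraMap, hlam', hμ, ι_algebraMap]
      exact fun c => RingHom.congr_fun h1 c
    -- residue maps
    let χU : OU →+* 𝔮.ResidueField :=
      IsLocalization.lift (M := (RingHom.ker Z.χ.toRingHom).primeCompl) (g := Z.χ.toRingHom)
        (fun s => IsUnit.mk0 _ (fun h => s.2 (RingHom.mem_ker.mpr h)))
    have hχU : ∀ e : Z.A, χU (algebraMap Z.A OU e) = Z.χ e := fun e =>
      IsLocalization.lift_eq _ e
    let resX : OX →+* 𝔮.ResidueField :=
      IsLocalization.lift (M := 𝔮.primeCompl) (g := algebraMap B₀ 𝔮.ResidueField)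
        (fun s => IsUnit.mk0 _ (fun h => s.2 ((Ideal.algebraMap_residueField_eq_zero).mp h)))
    have hresX : ∀ b : B₀, resX (algebraMap B₀ OX b) = algebraMap B₀ 𝔮.ResidueField b := fun b =>
      IsLocalization.lift_eq _ b
    have hχlam : ∀ c, χU (lam c) = resX c := by
      have h1 : χU.comp lam = resX := by
        apply IsLocalization.ringHom_ext 𝔮.primeCompl
        refine RingHom.ext fun b => ?_
        show χU (lam (algebraMap B₀ OX b)) = resX (algebraMap B₀ OX b)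
        rw [hresX, hlam', hχU, Z.χ.commutes]
      exact fun c => RingHom.congr_fun h1 c
    have hresX_surj : Function.Surjective resX := by
      intro z
      obtain ⟨r, s, hs, hz⟩ := exists_frac B₀ 𝔮 z
      refine ⟨IsLocalization.mk' OX r (⟨s, hs⟩ : 𝔮.primeCompl), ?_⟩
      have hne : algebraMap B₀ 𝔮.ResidueField s ≠ 0 := fun h =>
        hs ((Ideal.algebraMap_residueField_eq_zero).mp h)
      apply mul_right_cancel₀ hne
      rw [hz, ← hresX s, ← map_mul]
      have : IsLocalization.mk' OX r (⟨s, hs⟩ : 𝔮.primeCompl) * algebraMap B₀ OX s = algebraMap B₀ OX r :=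
        IsLocalization.mk'_spec OX r (⟨s, hs⟩ : 𝔮.primeCompl)
      rw [this, hresX]
    have hkerχU : ∀ y : OU, χU y = 0 → y ∈ maximalIdeal OU := by
      intro y hy
      by_contra hnot
      have hu : IsUnit y := IsLocalRing.notMem_maximalIdeal.mp hnot
      exact (hu.map χU).ne_zero hy
    have ha1 : ∀ t : OU, ∃ c : OX, t - lam c ∈ maximalIdeal OU := by
      intro t
      obtain ⟨c, hc⟩ := hresX_surj (χU t)
      exact ⟨c, hkerχU _ (by rw [map_sub, hχlam, hc, sub_self])⟩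
    have hmX : maximalIdeal OX = 𝔮.map (algebraMap B₀ OX) :=
      (IsLocalization.AtPrime.map_eq_maximalIdeal 𝔮 OX).symm
    have hmU : maximalIdeal OU = (RingHom.ker Z.χ.toRingHom).map (algebraMap Z.A OU) :=
      (IsLocalization.AtPrime.map_eq_maximalIdeal (RingHom.ker Z.χ.toRingHom) OU).symm
    have hlamloc : maximalIdeal OX ≤ (maximalIdeal OU).comap lam := by
      rw [hmX, Ideal.map_le_iff_le_comap]
      intro b hb
      rw [Ideal.mem_comap, Ideal.mem_comap]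
      apply hkerχU
      rw [hχlam, hresX]
      exact (Ideal.algebraMap_residueField_eq_zero).mpr hb
    have hμloc : maximalIdeal OU ≤ (maximalIdeal (H B₀ 𝔮)).comap μ := by
      rw [hmU, Ideal.map_le_iff_le_comap]
      intro e he
      rw [Ideal.mem_comap, Ideal.mem_comap, hμ]
      exact (hmemE e).mp he
    -- `m_U` is generated by `m_X`
    have ha2 : maximalIdeal OU ≤ (maximalIdeal OX).map lam := by
      intro y hy
      obtain ⟨e, w, rfl⟩ := IsLocalization.exists_mk'_eq (RingHom.ker Z.χ.toRingHom).primeCompl y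
      have he : e ∈ RingHom.ker Z.χ.toRingHom :=
        (IsLocalization.AtPrime.mk'_mem_maximal_iff OU (RingHom.ker Z.χ.toRingHom) e w).mp hy
      obtain ⟨e', he', hee⟩ := exists_mul_mem_map B₀ 𝔮 (RingHom.ker Z.χ.toRingHom) hcomap e he
      have h1 : algebraMap Z.A OU (e' * e) ∈ (maximalIdeal OX).map lam := by
        have h2 := Ideal.mem_map_of_mem (algebraMap Z.A OU) hee
        rw [Ideal.map_map, ← hlam, ← Ideal.map_map, ← hmX] at h2
        exact h2
      have h3 : IsLocalization.mk' OU e w * (algebraMap Z.A OU e' * algebraMap Z.A OU w) =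
          algebraMap Z.A OU (e' * e) := by
        rw [map_mul, mul_comm (algebraMap Z.A OU e') (algebraMap Z.A OU w), ← mul_assoc,
          IsLocalization.mk'_spec, mul_comm]
      have hu : IsUnit (algebraMap Z.A OU e' * algebraMap Z.A OU w) :=
        (IsLocalization.map_units OU (⟨e', he'⟩ : (RingHom.ker Z.χ.toRingHom).primeCompl)).mul
          (IsLocalization.map_units OU w)
      rw [← h3] at h1
      exact (Ideal.mul_unit_mem_iff_mem _ hu).mp h1
    have hlampow : ∀ (k : ℕ), ∀ c ∈ maximalIdeal OX ^ k, lam c ∈ maximalIdeal OU ^ k := by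
      intro k c hc
      exact ((Ideal.pow_right_mono hlamloc k).trans (Ideal.le_comap_pow _ k)) hc
    have hμpow : ∀ (k : ℕ), ∀ t ∈ maximalIdeal OU ^ k, μ t ∈ maximalIdeal (H B₀ 𝔮) ^ k := by
      intro k t ht
      exact ((Ideal.pow_right_mono hμloc k).trans (Ideal.le_comap_pow _ k)) ht
    -- surjectivity modulo powers
    have ha : ∀ t : OU, ∃ c : OX, t - lam c ∈ maximalIdeal OU ^ N := by
      letI : Algebra OX OU := lam.toAlgebra
      have h0 : (⊤ : Submodule OX OU) ≤ LinearMap.range (Algebra.linearMap OX OU) ⊔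
          (maximalIdeal OX) • ⊤ := by
        intro t _
        obtain ⟨c, hc⟩ := ha1 t
        have e : t = lam c + (t - lam c) := by ring
        rw [e]
        refine Submodule.add_mem _ (Submodule.mem_sup_left ⟨c, rfl⟩) (Submodule.mem_sup_right ?_)
        have h2 : t - lam c ∈ (maximalIdeal OX).map (algebraMap OX OU) := ha2 hc
        rw [Ideal.smul_top_eq_map]
        exact h2
      have h1 := Groth.Agent.H3.PH.top_le_range_sup_pow_smul (maximalIdeal OX) h0 N
      intro t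
      obtain ⟨y, ⟨c, rfl⟩, z, hz, hyz⟩ := Submodule.mem_sup.mp (h1 (Submodule.mem_top : t ∈ ⊤))
      refine ⟨c, ?_⟩
      have h3 : z ∈ (maximalIdeal OX ^ N).map (algebraMap OX OU) := by
        rw [Ideal.smul_top_eq_map] at hz
        exact hz
      have h4 : (maximalIdeal OX ^ N).map (algebraMap OX OU) ≤ maximalIdeal OU ^ N := by
        rw [Ideal.map_le_iff_le_comap]
        exact fun c hc => hlampow N c hc
      have e : t - lam c = z := by
        rw [← hyz]
        show (Algebra.linearMap OX OU c) + z - lam c = z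
        rw [Algebra.linearMap_apply]
        show lam c + z - lam c = z
        ring
      rw [e]
      exact h4 h3
    -- injectivity from the henselization
    have hb : ∀ c : OX, kap B₀ 𝔮 OX c ∈ maximalIdeal (H B₀ 𝔮) ^ N → c ∈ maximalIdeal OX ^ N := by
      intro c hc
      have hbij := quotientMap_pow_bijective OX (H B₀ 𝔮) N
      have h1 : Ideal.quotientMap ((maximalIdeal OX ^ N).map (algebraMap OX (H B₀ 𝔮)))
          (algebraMap OX (H B₀ 𝔮)) Ideal.le_comap_map (Ideal.Quotient.mk _ c) = 0 := by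
        rw [Ideal.quotientMap_mk, Ideal.Quotient.eq_zero_iff_mem, Ideal.map_pow,
          map_maximalIdeal_eq OX (H B₀ 𝔮), hκ]
        exact hc
      have h2 := hbij.1 (h1.trans (map_zero _).symm)
      exact Ideal.Quotient.eq_zero_iff_mem.mp h2
    have hinj : ∀ t : OU, μ t ∈ maximalIdeal (H B₀ 𝔮) ^ N → t ∈ maximalIdeal OU ^ N := by
      intro t ht
      obtain ⟨c, hc⟩ := ha t
      have h1 : kap B₀ 𝔮 OX c ∈ maximalIdeal (H B₀ 𝔮) ^ N := by
        have h2 := Ideal.sub_mem _ ht (hμpow N _ hc)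
        rw [map_sub, sub_sub_cancel, hμlam] at h2
        exact h2
      have h3 := hlampow N c (hb c h1)
      have e : t = (t - lam c) + lam c := by ring
      rw [e]
      exact Ideal.add_mem _ hc h3
    refine ⟨ha1, fun d c hdc => ?_⟩
    apply hinj
    rw [map_sub, hμ, hψι, hμlam]
    apply mem_pow_of_algebraMap_mem
    have hz : φ₀ d - algebraMap OX (AdicCompletion (maximalIdeal OX) OX) c ∈
        (maximalIdeal OX ^ N).map (algebraMap OX (AdicCompletion (maximalIdeal OX) OX)) := by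
      apply Groth.Agent.H75.ArtinApprox.mem_map_of_evalₐ_eq_zero (maximalIdeal OX)
        (IsNoetherian.noetherian _)
      rw [map_sub, AlgHom.commutes, hdc]
      exact sub_self _
    have h5 := hθpow N _ hz
    rw [map_sub, hθ] at h5
    have e : algebraMap (H B₀ 𝔮) (AdicCompletion (maximalIdeal (H B₀ 𝔮)) (H B₀ 𝔮))
        (ρ d - kap B₀ 𝔮 OX c) =
        (algebraMap (H B₀ 𝔮) (AdicCompletion (maximalIdeal (H B₀ 𝔮)) (H B₀ 𝔮)) (ρ d) -
          θ (φ₀ d)) + (θ (φ₀ d) - algebraMap (H B₀ 𝔮)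
            (AdicCompletion (maximalIdeal (H B₀ 𝔮)) (H B₀ 𝔮)) (kap B₀ 𝔮 OX c)) := by
      rw [map_sub]
      ring
    rw [e]
    exact Ideal.add_mem _ (hρd d) h5

end Groth.Agent.H15.EtNbhd
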