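import Mathlib
import Groth.Prelude.Def_Found
import Groth.Agent.H15.EtNbhd2
import Groth.Agent.H20.NormalFF

/-! helper15: scheme-level glue for S7202 (étale neighbourhood approximating a map into the
completion), assuming Popescu. -/

set_option autoImplicit false
universe u
open AlgebraicGeometry CategoryTheory Limits IsLocalRing

namespace Groth.Agent.H15.EtNbhd

open Groth.Agent.H75.ArtinApprox (Popescu)

theorem germ_stalkMap_appLE {X Y : Scheme.{u}} (f : X ⟶ Y) (U : Y.Opens) (V : X.Opens)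
    (hVU : V ≤ f ⁻¹ᵁ U) (x : X) (hx : x ∈ V) (hfx : f x ∈ U) :
    Y.presheaf.germ U (f x) hfx ≫ f.stalkMap x =
      f.appLE U V hVU ≫ X.presheaf.germ V x hx := by
  rw [Scheme.Hom.germ_stalkMap, Scheme.Hom.appLE, Category.assoc, TopCat.Presheaf.germ_res]

theorem fromSpec_appLE_top {X : Scheme.{u}} {U : X.Opens} (hU : IsAffineOpen U) :
    hU.fromSpec.appLE U ⊤ (by rw [hU.fromSpec_preimage_self]) =
      (Scheme.ΓSpecIso Γ(X, U)).inv := by
  rw [Scheme.Hom.appLE, hU.fromSpec_app_self, Category.assoc, ← Functor.map_comp]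
  convert Category.comp_id _
  exact (Spec _).presheaf.map_id _

theorem germ_stalkMap_spec {X : Scheme.{u}} {X₀ : X.Opens} (hX₀ : IsAffineOpen X₀)
    (E : CommRingCat.{u}) (g : Γ(X, X₀) ⟶ E) (u : Spec E)
    (h : (Spec.map g ≫ hX₀.fromSpec) u ∈ X₀) :
    X.presheaf.germ X₀ ((Spec.map g ≫ hX₀.fromSpec) u) h ≫
        (Spec.map g ≫ hX₀.fromSpec).stalkMap u =
      g ≫ StructureSheaf.toStalk E u := by
  have hle : (⊤ : (Spec E).Opens) ≤ (Spec.map g ≫ hX₀.fromSpec) ⁻¹ᵁ X₀ := by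
    rw [Scheme.Hom.comp_preimage, hX₀.fromSpec_preimage_self]
    exact le_of_eq rfl
  rw [germ_stalkMap_appLE (Spec.map g ≫ hX₀.fromSpec) X₀ ⊤ hle u trivial h]
  have h1 : (Spec.map g ≫ hX₀.fromSpec).appLE X₀ ⊤ hle =
      hX₀.fromSpec.appLE X₀ ⊤ (by rw [hX₀.fromSpec_preimage_self]) ≫
        (Spec.map g).appLE ⊤ ⊤ (le_of_eq rfl) :=
    (Scheme.Hom.appLE_comp_appLE _ _ _ _ _ _ _).symm
  rw [h1, fromSpec_appLE_top, Category.assoc]
  have h2 : (Spec.map g).appLE ⊤ ⊤ (le_of_eq rfl) = (Spec.map g).appTop :=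
    (Scheme.Hom.app_eq_appLE (Spec.map g)).symm
  rw [h2, ← Category.assoc, ← Scheme.ΓSpecIso_inv_naturality, Category.assoc]
  rfl

theorem stalkMap_spec_apply {X : Scheme.{u}} {X₀ : X.Opens} (hX₀ : IsAffineOpen X₀)
    (E : Type u) [CommRing E] (g : Γ(X, X₀) →+* E) (u : Spec (CommRingCat.of E)) (x : X)
    (hx : x ∈ X₀)
    (heu : (Spec.map (CommRingCat.ofHom g) ≫ hX₀.fromSpec) u = x) (b : Γ(X, X₀)) :
    ((Spec.map (CommRingCat.ofHom g) ≫ hX₀.fromSpec).stalkMap u).hom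
        ((X.presheaf.stalkCongr (Inseparable.of_eq heu)).inv.hom
          ((X.presheaf.germ X₀ x hx).hom b)) =
      (StructureSheaf.toStalk E u).hom (g b) := by
  have h1 : (X.presheaf.stalkCongr (Inseparable.of_eq heu)).inv.hom
      ((X.presheaf.germ X₀ x hx).hom b) =
      (X.presheaf.germ X₀ ((Spec.map (CommRingCat.ofHom g) ≫ hX₀.fromSpec) u)
        (heu ▸ hx)).hom b :=
    congrArg (fun t => t.hom b)
      (TopCat.Presheaf.germ_stalkSpecializes X.presheaf hx (Inseparable.of_eq heu).le)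
  rw [h1]
  exact congrArg (fun t => t.hom b)
    (germ_stalkMap_spec hX₀ (CommRingCat.of E) (CommRingCat.ofHom g) u (heu ▸ hx))


theorem etale_spec_comp {X : Scheme.{u}} {X₀ : X.Opens} (hX₀ : IsAffineOpen X₀) (E : Type u)
    [CommRing E] [Algebra Γ(X, X₀) E] [Algebra.Etale Γ(X, X₀) E] :
    Etale (Spec.map (CommRingCat.ofHom (algebraMap Γ(X, X₀) E)) ≫ hX₀.fromSpec) := by
  haveI : Etale (Spec.map (CommRingCat.ofHom (algebraMap Γ(X, X₀) E))) :=
    (HasRingHomProperty.Spec_iff (P := @Etale)).mpr (RingHom.etale_algebraMap.mpr inferInstance)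
  infer_instance

set_option maxHeartbeats 3200000 in
theorem main (hP : Popescu.{u}) {X Y S : Scheme.{u}} [IsLocallyNoetherian S]
    (p : X ⟶ S) (q : Y ⟶ S) [LocallyOfFiniteType p] [LocallyOfFiniteType q] (x : X) (y : Y)
    (hxy : p x = q y)
    (hG : CAlg.IsGRing ↑(S.presheaf.stalk (p x)))
    (φ : ↑(Y.presheaf.stalk y) →+* (AdicCompletion (IsLocalRing.maximalIdeal ↑(X.presheaf.stalk x)) ↑(X.presheaf.stalk x)))
    (hφ : φ.comp ((q.stalkMap y).hom.comp (S.presheaf.stalkCongr (Inseparable.of_eq hxy)).hom.hom) =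
      (algebraMap ↑(X.presheaf.stalk x) (AdicCompletion (IsLocalRing.maximalIdeal ↑(X.presheaf.stalk x)) ↑(X.presheaf.stalk x))).comp (p.stalkMap x).hom)
    (hloc : ∀ b ∈ IsLocalRing.maximalIdeal ↑(Y.presheaf.stalk y),
      φ b ∈ (IsLocalRing.maximalIdeal ↑(X.presheaf.stalk x)).map (algebraMap ↑(X.presheaf.stalk x) (AdicCompletion (IsLocalRing.maximalIdeal ↑(X.presheaf.stalk x)) ↑(X.presheaf.stalk x))))
    (N : ℕ) (hN : 1 ≤ N) :
    ∃ (U : Scheme.{u}) (e : U ⟶ X) (u : U) (heu : e u = x) (f : U ⟶ Y) (hfu : f u = y),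
      Etale e ∧ Function.Bijective (e.residueFieldMap u) ∧ f ≫ q = e ≫ p ∧
      ∀ (b : ↑(Y.presheaf.stalk y)) (c : ↑(X.presheaf.stalk x)),
        AdicCompletion.evalₐ (IsLocalRing.maximalIdeal ↑(X.presheaf.stalk x)) N (φ b) =
          Ideal.Quotient.mk (IsLocalRing.maximalIdeal ↑(X.presheaf.stalk x) ^ N) c →
        Ideal.Quotient.mk (IsLocalRing.maximalIdeal ↑(U.presheaf.stalk u) ^ N)
            ((f.stalkMap u).hom ((Y.presheaf.stalkCongr (Inseparable.of_eq hfu)).inv.hom b)) =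
          Ideal.Quotient.mk (IsLocalRing.maximalIdeal ↑(U.presheaf.stalk u) ^ N)
            ((e.stalkMap u).hom ((X.presheaf.stalkCongr (Inseparable.of_eq heu)).inv.hom c)) := by
  classical
  -- affine opens
  obtain ⟨_, ⟨W, hW, rfl⟩, hxW, -⟩ :=
    S.isBasis_affineOpens.exists_subset_of_mem_open (Set.mem_univ (p x)) isOpen_univ
  obtain ⟨_, ⟨X₀, hX₀, rfl⟩, hxX₀, hX₀W'⟩ :=
    X.isBasis_affineOpens.exists_subset_of_mem_open
      (show x ∈ ((p ⁻¹ᵁ W : X.Opens) : Set X) from hxW) (p ⁻¹ᵁ W).2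
  have hyW : q y ∈ W := hxy ▸ hxW
  obtain ⟨_, ⟨Y₀, hY₀, rfl⟩, hyY₀, hY₀W'⟩ :=
    Y.isBasis_affineOpens.exists_subset_of_mem_open
      (show y ∈ ((q ⁻¹ᵁ W : Y.Opens) : Set Y) from hyW) (q ⁻¹ᵁ W).2
  have hX₀W : X₀ ≤ p ⁻¹ᵁ W := fun _ h => hX₀W' h
  have hY₀W : Y₀ ≤ q ⁻¹ᵁ W := fun _ h => hY₀W' h
  replace hxX₀ : x ∈ X₀ := hxX₀
  replace hyY₀ : y ∈ Y₀ := hyY₀
  -- algebra structures
  letI algAB : Algebra Γ(S, W) Γ(X, X₀) := (p.appLE W X₀ hX₀W).hom.toAlgebra
  letI algAD : Algebra Γ(S, W) Γ(Y, Y₀) := (q.appLE W Y₀ hY₀W).hom.toAlgebra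
  haveI : IsNoetherianRing Γ(S, W) := IsLocallyNoetherian.component_noetherian ⟨W, hW⟩
  haveI : Algebra.FiniteType Γ(S, W) Γ(Y, Y₀) := q.finiteType_appLE hW hY₀ hY₀W
  letI algBX : Algebra Γ(X, X₀) (X.presheaf.stalk x) :=
    TopCat.Presheaf.algebra_section_stalk X.presheaf ⟨x, hxX₀⟩
  haveI locX : IsLocalization.AtPrime (X.presheaf.stalk x)
      (hX₀.primeIdealOf ⟨x, hxX₀⟩).asIdeal := hX₀.isLocalization_stalk ⟨x, hxX₀⟩
  letI algDY : Algebra Γ(Y, Y₀) (Y.presheaf.stalk y) :=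
    TopCat.Presheaf.algebra_section_stalk Y.presheaf ⟨y, hyY₀⟩
  haveI locY : IsLocalization.AtPrime (Y.presheaf.stalk y)
      (hY₀.primeIdealOf ⟨y, hyY₀⟩).asIdeal := hY₀.isLocalization_stalk ⟨y, hyY₀⟩
  have hGX : CAlg.IsGRing (X.presheaf.stalk x) := by
    letI : Algebra (S.presheaf.stalk (p x)) (X.presheaf.stalk x) := (p.stalkMap x).hom.toAlgebra
    haveI : Algebra.EssFiniteType (S.presheaf.stalk (p x)) (X.presheaf.stalk x) :=
      LocallyOfFiniteType.stalkMap p x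
    exact Groth.Agent.H20.NormalFF.isGRing_of_essFiniteType _ hG _
  -- the map φ₀
  let φ₀ : Γ(Y, Y₀) →+* AdicCompletion (maximalIdeal (X.presheaf.stalk x)) (X.presheaf.stalk x) :=
    φ.comp (Y.presheaf.germ Y₀ y hyY₀).hom
  have hφ₀ : ∀ a : Γ(S, W), φ₀ (algebraMap Γ(S, W) Γ(Y, Y₀) a) =
      algebraMap (X.presheaf.stalk x) (AdicCompletion (maximalIdeal (X.presheaf.stalk x))
        (X.presheaf.stalk x)) (algebraMap Γ(X, X₀) (X.presheaf.stalk x)
          (algebraMap Γ(S, W) Γ(X, X₀) a)) := by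
    intro a
    have h1 := RingHom.congr_fun hφ ((S.presheaf.germ W (p x) hxW).hom a)
    have h2 : (p.stalkMap x).hom ((S.presheaf.germ W (p x) hxW).hom a) =
        (X.presheaf.germ X₀ x hxX₀).hom ((p.appLE W X₀ hX₀W).hom a) :=
      congrArg (fun t => t.hom a) (germ_stalkMap_appLE p W X₀ hX₀W x hxX₀ hxW)
    have h3 : (S.presheaf.stalkCongr (Inseparable.of_eq hxy)).hom.hom
        ((S.presheaf.germ W (p x) hxW).hom a) = (S.presheaf.germ W (q y) hyW).hom a :=
      congrArg (fun t => t.hom a)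
        (TopCat.Presheaf.germ_stalkSpecializes S.presheaf hxW (Inseparable.of_eq hxy).ge)
    have h4 : (q.stalkMap y).hom ((S.presheaf.germ W (q y) hyW).hom a) =
        (Y.presheaf.germ Y₀ y hyY₀).hom ((q.appLE W Y₀ hY₀W).hom a) :=
      congrArg (fun t => t.hom a) (germ_stalkMap_appLE q W Y₀ hY₀W y hyY₀ hyW)
    simp only [RingHom.comp_apply] at h1
    rw [h2, h3, h4] at h1
    exact h1
  have h𝔯1 : ∀ d ∈ (hY₀.primeIdealOf ⟨y, hyY₀⟩).asIdeal, φ₀ d ∈
      (maximalIdeal (X.presheaf.stalk x)).map (algebraMap (X.presheaf.stalk x)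
        (AdicCompletion (maximalIdeal (X.presheaf.stalk x)) (X.presheaf.stalk x))) := by
    intro d hd
    refine hloc _ ?_
    exact (IsLocalization.AtPrime.to_map_mem_maximal_iff (Y.presheaf.stalk y)
      (hY₀.primeIdealOf ⟨y, hyY₀⟩).asIdeal d).mpr hd
  have h𝔯2 : ∀ d, d ∉ (hY₀.primeIdealOf ⟨y, hyY₀⟩).asIdeal → IsUnit (φ₀ d) := by
    intro d hd
    have h1 : IsUnit (algebraMap Γ(Y, Y₀) (Y.presheaf.stalk y) d) :=
      IsLocalization.map_units (M := (hY₀.primeIdealOf ⟨y, hyY₀⟩).asIdeal.primeCompl)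
        (Y.presheaf.stalk y) ⟨d, hd⟩
    exact h1.map φ
  obtain ⟨E, _, _, hEt, 𝔮E, _, ψ, hq, hψ, hr, hfin⟩ :=
    ring_core hP Γ(S, W) Γ(X, X₀) Γ(Y, Y₀) (hX₀.primeIdealOf ⟨x, hxX₀⟩).asIdeal
      (X.presheaf.stalk x) hGX φ₀ hφ₀ (hY₀.primeIdealOf ⟨y, hyY₀⟩).asIdeal h𝔯1 h𝔯2 N hN
  -- the scheme data
  let u : Spec (CommRingCat.of E) := (⟨𝔮E, inferInstance⟩ : PrimeSpectrum E)
  let e : Spec (CommRingCat.of E) ⟶ X :=
    Spec.map (CommRingCat.ofHom (algebraMap Γ(X, X₀) E)) ≫ hX₀.fromSpec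
  let f : Spec (CommRingCat.of E) ⟶ Y := Spec.map (CommRingCat.ofHom ψ) ≫ hY₀.fromSpec
  have heu : e u = x := by
    have h1 : Spec.map (CommRingCat.ofHom (algebraMap Γ(X, X₀) E)) u =
        hX₀.primeIdealOf ⟨x, hxX₀⟩ := PrimeSpectrum.ext hq
    show hX₀.fromSpec (Spec.map (CommRingCat.ofHom (algebraMap Γ(X, X₀) E)) u) = x
    rw [h1, hX₀.fromSpec_primeIdealOf]
  have hfu : f u = y := by
    have h1 : Spec.map (CommRingCat.ofHom ψ) u = hY₀.primeIdealOf ⟨y, hyY₀⟩ :=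
      PrimeSpectrum.ext hr
    show hY₀.fromSpec (Spec.map (CommRingCat.ofHom ψ) u) = y
    rw [h1, hY₀.fromSpec_primeIdealOf]
  -- the stalk of U
  letI algEU : Algebra E ((Spec (CommRingCat.of E)).presheaf.stalk u) :=
    StructureSheaf.stalkAlgebra E u
  haveI locU : IsLocalization.AtPrime ((Spec (CommRingCat.of E)).presheaf.stalk u) 𝔮E :=
    StructureSheaf.IsLocalization.to_stalk E u
  let lam : X.presheaf.stalk x →+* (Spec (CommRingCat.of E)).presheaf.stalk u :=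
    (e.stalkMap u).hom.comp (X.presheaf.stalkCongr (Inseparable.of_eq heu)).inv.hom
  have hlam : lam.comp (algebraMap Γ(X, X₀) (X.presheaf.stalk x)) =
      (algebraMap E ((Spec (CommRingCat.of E)).presheaf.stalk u)).comp
        (algebraMap Γ(X, X₀) E) := by
    ext b
    exact stalkMap_spec_apply hX₀ E (algebraMap Γ(X, X₀) E) u x hxX₀ heu b
  obtain ⟨hres, happ⟩ := hfin ((Spec (CommRingCat.of E)).presheaf.stalk u) lam hlam
  refine ⟨Spec (CommRingCat.of E), e, u, heu, f, hfu, ?_, ?_, ?_, ?_⟩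
  · -- étale
    exact etale_spec_comp hX₀ E
  · -- residue fields
    constructor
    · exact (e.residueFieldMap u).hom.injective
    · intro t
      obtain ⟨t', rfl⟩ := Scheme.residue_surjective _ u t
      obtain ⟨c, hc⟩ := hres t'
      refine ⟨(X.residue (e u)).hom
        ((X.presheaf.stalkCongr (Inseparable.of_eq heu)).inv.hom c), ?_⟩
      have h1 := congrArg (fun t => t.hom
        ((X.presheaf.stalkCongr (Inseparable.of_eq heu)).inv.hom c))
        (Scheme.residue_residueFieldMap e u)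
      refine h1.trans ?_
      exact (Ideal.Quotient.eq.mpr hc).symm
  · -- compatibility over S
    show (Spec.map (CommRingCat.ofHom ψ) ≫ hY₀.fromSpec) ≫ q =
      (Spec.map (CommRingCat.ofHom (algebraMap Γ(X, X₀) E)) ≫ hX₀.fromSpec) ≫ p
    rw [Category.assoc, Category.assoc, ← IsAffineOpen.SpecMap_appLE_fromSpec q hW hY₀ hY₀W,
      ← IsAffineOpen.SpecMap_appLE_fromSpec p hW hX₀ hX₀W, ← Spec.map_comp_assoc,
      ← Spec.map_comp_assoc]
    congr 2
    ext a
    exact hψ a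
  · -- the approximation
    intro b c hbc
    haveI hl1 : IsLocalHom (X.presheaf.stalkCongr (Inseparable.of_eq heu)).inv.hom :=
      isLocalHom_of_iso (X.presheaf.stalkCongr (Inseparable.of_eq heu)).symm
    haveI hl2 : IsLocalHom lam := RingHom.isLocalHom_comp _ _
    have hle : (maximalIdeal (X.presheaf.stalk x)) ^ N ≤
        Ideal.comap lam (maximalIdeal ((Spec (CommRingCat.of E)).presheaf.stalk u) ^ N) := by
      rw [← Ideal.map_le_iff_le_comap, Ideal.map_pow]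
      refine Ideal.pow_right_mono ?_ N
      rw [Ideal.map_le_iff_le_comap]
      intro c hc
      exact map_nonunit lam c hc
    let lamBar : (X.presheaf.stalk x ⧸ maximalIdeal (X.presheaf.stalk x) ^ N) →+*
        ((Spec (CommRingCat.of E)).presheaf.stalk u ⧸
          maximalIdeal ((Spec (CommRingCat.of E)).presheaf.stalk u) ^ N) :=
      Ideal.quotientMap _ lam hle
    let F1 : Y.presheaf.stalk y →+* ((Spec (CommRingCat.of E)).presheaf.stalk u ⧸
          maximalIdeal ((Spec (CommRingCat.of E)).presheaf.stalk u) ^ N) :=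
      (Ideal.Quotient.mk _).comp
        ((f.stalkMap u).hom.comp (Y.presheaf.stalkCongr (Inseparable.of_eq hfu)).inv.hom)
    let F2 : Y.presheaf.stalk y →+* ((Spec (CommRingCat.of E)).presheaf.stalk u ⧸
          maximalIdeal ((Spec (CommRingCat.of E)).presheaf.stalk u) ^ N) :=
      lamBar.comp ((AdicCompletion.evalₐ (maximalIdeal (X.presheaf.stalk x)) N).toRingHom.comp φ)
    have hF : F1 = F2 := by
      apply IsLocalization.ringHom_ext (hY₀.primeIdealOf ⟨y, hyY₀⟩).asIdeal.primeCompl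
      ext d
      obtain ⟨c', hc'⟩ := Ideal.Quotient.mk_surjective
        (AdicCompletion.evalₐ (maximalIdeal (X.presheaf.stalk x)) N (φ₀ d))
      have h1 := happ d c' hc'.symm
      have h2 : (f.stalkMap u).hom ((Y.presheaf.stalkCongr (Inseparable.of_eq hfu)).inv.hom
          ((Y.presheaf.germ Y₀ y hyY₀).hom d)) = (StructureSheaf.toStalk E u).hom (ψ d) :=
        stalkMap_spec_apply hY₀ E ψ u y hyY₀ hfu d
      have h3 : AdicCompletion.evalₐ (maximalIdeal (X.presheaf.stalk x)) N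
          (φ ((Y.presheaf.germ Y₀ y hyY₀).hom d)) = Ideal.Quotient.mk _ c' := hc'.symm
      show Ideal.Quotient.mk _ ((f.stalkMap u).hom
          ((Y.presheaf.stalkCongr (Inseparable.of_eq hfu)).inv.hom
            ((Y.presheaf.germ Y₀ y hyY₀).hom d))) =
        lamBar (AdicCompletion.evalₐ (maximalIdeal (X.presheaf.stalk x)) N
          (φ ((Y.presheaf.germ Y₀ y hyY₀).hom d)))
      rw [h2, h3]
      show _ = Ideal.Quotient.mk _ (lam c')
      exact Ideal.Quotient.eq.mpr h1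
    have h4 := RingHom.congr_fun hF b
    refine h4.trans ?_
    show lamBar (AdicCompletion.evalₐ (maximalIdeal (X.presheaf.stalk x)) N (φ b)) = _
    rw [hbc]
    rfl

end Groth.Agent.H15.EtNbhd
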