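import Groth.Prelude.Def_EGA4b
import Groth.Prelude.Def_CAlg
import Groth.Agent.H15.DepthLoc
import Groth.Agent.S0602
import Mathlib.RingTheory.Artinian.Ring
import Mathlib.RingTheory.Flat.EquationalCriterion
import Mathlib.RingTheory.Flat.Tensor
import Mathlib.RingTheory.Flat.Localization
import Mathlib.RingTheory.Ideal.Height
import Mathlib.RingTheory.Ideal.MinimalPrime.Noetherian
import Mathlib.RingTheory.Ideal.Quotient.Nilpotent
import Mathlib.RingTheory.Localization.Ideal
import Mathlib.Tactic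

/-!
# Flatness over an Artinian local base from `(S₁)`, `(S₂)` and codimension-one information

Let `A` be an Artinian local ring with maximal ideal `m`, and `B` a Noetherian `A`-algebra satisfying
`(S₁)`, whose reduction satisfies `(S₂)`, flat with reduced fibre at all primes of height `≤ 1`.
We show that `B/𝔟B` has no embedded primes for every ideal `𝔟` of `A` (`ne_map`), that `mB` is a
radical ideal (`isRadical_map_maximalIdeal`) and that `B` is flat over `A` (`flat_of_S1_S2`).
-/

set_option autoImplicit false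

universe u

open scoped Pointwise TensorProduct
open IsLocalRing

namespace Groth.Agent.H15.FamCyc

open Groth.Agent.H15.Depth

section FlatColon

variable {R S : Type u} [CommRing R] [CommRing S] [Algebra R S] [Module.Flat R S]

/-- relations modulo an extended ideal come from relations modulo the ideal (flatness) -/
theorem flat_relation_mem {ι : Type*} [Fintype ι] (J : Ideal R) (a : ι → R) (x : ι → S)
    (h : ∑ i, algebraMap R S (a i) * x i ∈ J.map (algebraMap R S)) :
    ∃ (k : ℕ) (c : ι → Fin k → R) (u : Fin k → S),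
      (∀ i, x i = ∑ j, algebraMap R S (c i j) * u j) ∧ ∀ j, ∑ i, a i * c i j ∈ J := by
  classical
  have h0 : ∑ i, algebraMap R S (a i) * x i ∈
      Submodule.span S (algebraMap R S '' (J : Set R)) := h
  obtain ⟨r', d, b, hb⟩ := Submodule.mem_span_set'.mp h0
  have hb' : ∀ l, ∃ b' : R, b' ∈ J ∧ algebraMap R S b' = (b l : S) := fun l => (b l).2
  choose b' hb'J hb'eq using hb'
  have hrel : ∑ m : ι ⊕ Fin r', (Sum.elim a (fun l => - b' l) m) • (Sum.elim x d m) = 0 := by
    have e1 : ∑ i, a i • x i = ∑ i, algebraMap R S (a i) * x i := by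
      simp [Algebra.smul_def]
    have e2 : ∑ l, (- b' l) • d l = - ∑ l, d l • (b l : S) := by
      rw [← Finset.sum_neg_distrib]
      refine Finset.sum_congr rfl fun l _ => ?_
      rw [← hb'eq l, Algebra.smul_def, smul_eq_mul, map_neg]
      ring
    rw [Fintype.sum_sum_type]
    simp only [Sum.elim_inl, Sum.elim_inr]
    rw [e1, e2, hb]
    ring
  obtain ⟨k, A, u, hA1, hA2⟩ := Module.Flat.isTrivialRelation_of_sum_smul_eq_zero (R := R) (M := S)
    (f := Sum.elim a (fun l => - b' l)) (x := Sum.elim x d) hrel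
  refine ⟨k, fun i j => A (Sum.inl i) j, u, fun i => ?_, fun j => ?_⟩
  · have := hA1 (Sum.inl i)
    simpa [Algebra.smul_def] using this
  · have := hA2 j
    rw [Fintype.sum_sum_type] at this
    simp only [Sum.elim_inl, Sum.elim_inr, neg_mul, Finset.sum_neg_distrib] at this
    have h3 : ∑ i, a i * A (Sum.inl i) j = ∑ l, b' l * A (Sum.inr l) j := by
      linear_combination this
    rw [h3]
    exact sum_mem fun l _ => Ideal.mul_mem_right _ _ (hb'J l)

theorem flat_mem_colon (I : Ideal R) (s : R) (y : S)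
    (h : algebraMap R S s * y ∈ I.map (algebraMap R S)) :
    ∃ (k : ℕ) (c : Fin k → R) (u : Fin k → S),
      y = ∑ j, algebraMap R S (c j) * u j ∧ ∀ j, s * c j ∈ I := by
  have h' : ∑ i : Unit, algebraMap R S ((fun _ => s) i) * (fun _ => y) i ∈
      I.map (algebraMap R S) := by simpa using h
  obtain ⟨k, c, u, h1, h2⟩ := flat_relation_mem I (fun _ : Unit => s) (fun _ => y) h'
  exact ⟨k, c (), u, h1 (), fun j => by simpa using h2 j⟩

/-- Over a local base `R`, if `a ∉ 𝔟` then the transporter of `a` into `𝔟S` lies in `mS`. -/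
theorem flat_colon_mem [IsLocalRing R] {𝔟 : Ideal R} {a : R} (ha : a ∉ 𝔟) {c : S}
    (h : algebraMap R S a * c ∈ 𝔟.map (algebraMap R S)) :
    c ∈ (maximalIdeal R).map (algebraMap R S) := by
  obtain ⟨k, d, u, hsum, hd⟩ := flat_mem_colon 𝔟 a c h
  rw [hsum]
  refine sum_mem fun j _ => Ideal.mul_mem_right _ _ (Ideal.mem_map_of_mem _ ?_)
  by_contra hj
  have hu : IsUnit (d j) := by
    by_contra hnu
    exact hj ((mem_maximalIdeal _).mpr hnu)
  obtain ⟨w, hw⟩ := hu
  apply ha
  have := 𝔟.mul_mem_right (↑w⁻¹ : R) (hd j)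
  rwa [← hw, mul_assoc, Units.mul_inv, mul_one] at this

end FlatColon

section Artinian

variable (A : Type u) [CommRing A] [IsArtinianRing A] [IsLocalRing A]

theorem isNilpotent_maximalIdeal : IsNilpotent (maximalIdeal A) := by
  have := IsArtinianRing.isNilpotent_jacobson_bot (R := A)
  rwa [IsLocalRing.jacobson_eq_maximalIdeal ⊥ bot_ne_top] at this

/-- Between two ideals `𝔟 < 𝔠` of an Artinian local ring there is an element of `𝔠` outside `𝔟`
which the maximal ideal multiplies into `𝔟`. -/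
theorem exists_socle_elt {𝔟 𝔠 : Ideal A} (h : 𝔟 < 𝔠) :
    ∃ a ∈ 𝔠, a ∉ 𝔟 ∧ ∀ μ ∈ maximalIdeal A, μ * a ∈ 𝔟 := by
  classical
  obtain ⟨n, hn⟩ := isNilpotent_maximalIdeal A
  have hex : ∃ j, (maximalIdeal A) ^ j * 𝔠 ≤ 𝔟 := ⟨n, by rw [hn, zero_mul]; exact bot_le⟩
  obtain ⟨j₀, hj₀, hmin⟩ : ∃ j₀, (maximalIdeal A) ^ j₀ * 𝔠 ≤ 𝔟 ∧
      ∀ k < j₀, ¬ (maximalIdeal A) ^ k * 𝔠 ≤ 𝔟 :=
    ⟨Nat.find hex, Nat.find_spec hex, fun k hk => Nat.find_min hex hk⟩
  match j₀, hj₀, hmin with
  | 0, hj₀, _ =>
    exfalso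
    rw [pow_zero, Ideal.one_eq_top, Ideal.top_mul] at hj₀
    exact not_le_of_gt h hj₀
  | k + 1, hj₀, hmin =>
    obtain ⟨a, hak, ha𝔟⟩ := SetLike.not_le_iff_exists.mp (hmin k (Nat.lt_succ_self k))
    have h3 : maximalIdeal A ^ k * 𝔠 ≤ 𝔠 := Ideal.mul_le_right
    refine ⟨a, h3 hak, ha𝔟, fun μ hμ => hj₀ ?_⟩
    have h4 : maximalIdeal A ^ (k + 1) * 𝔠 = maximalIdeal A * (maximalIdeal A ^ k * 𝔠) := by
      rw [pow_succ', mul_assoc]
    rw [h4]
    exact Ideal.mul_mem_mul hμ hak

variable {A}

theorem map_maximalIdeal_le_nilradical (C : Type*) [CommRing C] [Algebra A C] :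
    (maximalIdeal A).map (algebraMap A C) ≤ nilradical C := by
  rw [Ideal.map_le_iff_le_comap]
  intro μ hμ
  rw [Ideal.mem_comap, mem_nilradical]
  obtain ⟨n, hn⟩ := isNilpotent_maximalIdeal A
  refine ⟨n, ?_⟩
  have h1 : μ ^ n ∈ (maximalIdeal A) ^ n := Ideal.pow_mem_pow hμ n
  rw [hn, Ideal.zero_eq_bot, Ideal.mem_bot] at h1
  rw [← map_pow, h1, map_zero]

theorem comap_eq_maximalIdeal {C : Type*} [CommRing C] [Algebra A C] (q : Ideal C) [q.IsPrime] :
    q.comap (algebraMap A C) = maximalIdeal A := by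
  have h1 : (q.comap (algebraMap A C)).IsPrime := Ideal.comap_isPrime _ _
  have h2 : (q.comap (algebraMap A C)).IsMaximal := IsArtinianRing.isMaximal_of_isPrime _
  exact IsLocalRing.eq_maximalIdeal h2

omit [IsArtinianRing A] in
theorem mul_mem_map_of_socle {𝔟 : Ideal A} {a : A} (hma : ∀ μ ∈ maximalIdeal A, μ * a ∈ 𝔟)
    (C : Type*) [CommRing C] [Algebra A C] {x : C}
    (hx : x ∈ (maximalIdeal A).map (algebraMap A C)) :
    algebraMap A C a * x ∈ 𝔟.map (algebraMap A C) := by
  have h1 : Ideal.span {a} * maximalIdeal A ≤ 𝔟 := by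
    rw [Ideal.span_singleton_mul_le_iff]
    intro z hz
    rw [mul_comm]
    exact hma z hz
  have h2 := Ideal.map_mono (f := algebraMap A C) h1
  rw [Ideal.map_mul, Ideal.map_span, Set.image_singleton] at h2
  exact h2 (Ideal.mul_mem_mul (Ideal.mem_span_singleton_self _) hx)

omit [IsArtinianRing A] [IsLocalRing A] in
theorem lt_sup_span {𝔟 : Ideal A} {a : A} (ha : a ∉ 𝔟) : 𝔟 < 𝔟 ⊔ Ideal.span {a} := by
  refine lt_of_le_of_ne le_sup_left (fun h => ha ?_)
  rw [h]
  exact Ideal.mem_sup_right (Ideal.mem_span_singleton_self a)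

omit [IsArtinianRing A] [IsLocalRing A] in
theorem map_sup_span (C : Type*) [CommRing C] [Algebra A C] (𝔟 : Ideal A) (a : A) :
    (𝔟 ⊔ Ideal.span {a}).map (algebraMap A C) =
      𝔟.map (algebraMap A C) ⊔ Ideal.span {algebraMap A C a} := by
  rw [Ideal.map_sup, Ideal.map_span, Set.image_singleton]

end Artinian

section General

variable {R : Type u} [CommRing R]

/-- Every element outside an ideal of a Noetherian ring has a multiple whose transporter into the
ideal is prime. -/
theorem exists_colon_prime [IsNoetherianRing R] (𝔠 : Ideal R) {z : R} (hz : z ∉ 𝔠) :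
    ∃ (b : R) (P : Ideal R), P.IsPrime ∧ ∀ s, s ∈ P ↔ s * (b * z) ∈ 𝔠 := by
  let N : Submodule R (R ⧸ 𝔠) := Submodule.span R {Ideal.Quotient.mk 𝔠 z}
  have hne : (⟨Ideal.Quotient.mk 𝔠 z, Submodule.mem_span_singleton_self _⟩ : N) ≠ 0 := by
    intro h
    have h1 := congrArg Subtype.val h
    exact hz (Ideal.Quotient.eq_zero_iff_mem.mp h1)
  obtain ⟨P, hP, -⟩ := exists_le_isAssociatedPrime_of_isNoetherianRing R _ hne
  obtain ⟨hPp, y, hy⟩ := isAssociatedPrime_iff.mp hP
  obtain ⟨b, hb⟩ := Submodule.mem_span_singleton.mp y.2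
  refine ⟨b, P, hPp, fun s => ?_⟩
  rw [hy, Submodule.mem_colon_singleton, Submodule.mem_bot]
  have e : ((s • y : N) : R ⧸ 𝔠) = Ideal.Quotient.mk 𝔠 (s * (b * z)) := by
    rw [Submodule.coe_smul, ← hb]
    simp only [Algebra.smul_def, Ideal.Quotient.algebraMap_eq, map_mul]
  constructor
  · intro h
    rw [← Ideal.Quotient.eq_zero_iff_mem, ← e, h]
    rfl
  · intro h
    apply Subtype.ext
    rw [e]
    exact Ideal.Quotient.eq_zero_iff_mem.mpr h

/-- Heights do not drop on passing to the quotient by a nil ideal. -/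
theorem height_le_of_map_height_le (I : Ideal R) (hI : I ≤ nilradical R) :
    ∀ (n : ℕ) (P : Ideal R) [P.IsPrime], (P.map (Ideal.Quotient.mk I)).height ≤ n →
      P.height ≤ n := by
  intro n
  induction n with
  | zero =>
    intro P hP h
    have hIP : I ≤ P := hI.trans (nilradical_le_prime P)
    have : (P.map (Ideal.Quotient.mk I)).IsPrime := Ideal.isPrime_map_quotientMk_of_isPrime hIP
    rw [Ideal.height_le_iff] at h ⊢
    intro q hq hqP
    have hIq : I ≤ q := hI.trans (nilradical_le_prime q)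
    have hq' : (q.map (Ideal.Quotient.mk I)).IsPrime := Ideal.isPrime_map_quotientMk_of_isPrime hIq
    have hlt : q.map (Ideal.Quotient.mk I) < P.map (Ideal.Quotient.mk I) := by
      refine lt_of_le_of_ne (Ideal.map_mono hqP.le) (fun heq => ?_)
      apply not_le_of_gt hqP
      intro x hx
      have : Ideal.Quotient.mk I x ∈ P.map (Ideal.Quotient.mk I) := Ideal.mem_map_of_mem _ hx
      rw [← heq] at this
      exact (Ideal.mem_quotient_iff_mem hIq).mp this
    exact absurd (h _ hq' hlt) (by simp)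
  | succ k ih =>
    intro P hP h
    have hIP : I ≤ P := hI.trans (nilradical_le_prime P)
    have : (P.map (Ideal.Quotient.mk I)).IsPrime := Ideal.isPrime_map_quotientMk_of_isPrime hIP
    rw [Ideal.height_le_iff] at h ⊢
    intro q hq hqP
    have hIq : I ≤ q := hI.trans (nilradical_le_prime q)
    have hq' : (q.map (Ideal.Quotient.mk I)).IsPrime := Ideal.isPrime_map_quotientMk_of_isPrime hIq
    have hlt : q.map (Ideal.Quotient.mk I) < P.map (Ideal.Quotient.mk I) := by
      refine lt_of_le_of_ne (Ideal.map_mono hqP.le) (fun heq => ?_)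
      apply not_le_of_gt hqP
      intro x hx
      have : Ideal.Quotient.mk I x ∈ P.map (Ideal.Quotient.mk I) := Ideal.mem_map_of_mem _ hx
      rw [← heq] at this
      exact (Ideal.mem_quotient_iff_mem hIq).mp this
    have h1 := h _ hq' hlt
    rw [Nat.cast_succ, ENat.lt_natCast_add_one_iff] at h1 ⊢
    exact ih q h1

theorem mem_nilradical_of_forall_minimalPrimes {z : R} (h : ∀ q ∈ minimalPrimes R, z ∈ q) :
    z ∈ nilradical R := by
  rw [nilradical_eq_sInf, Ideal.mem_sInf]
  intro J hJ
  have : J.IsPrime := hJ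
  obtain ⟨q, hq, hqJ⟩ := Ideal.exists_minimalPrimes_le (bot_le : (⊥ : Ideal R) ≤ J)
  exact hqJ (h q hq)

/-- Prime avoidance: a non-minimal prime of a Noetherian ring has an element outside all minimal
primes. -/
theorem exists_mem_notMem_minimalPrimes [IsNoetherianRing R] (P : Ideal R) [hP : P.IsPrime]
    (hPmin : P ∉ minimalPrimes R) : ∃ t ∈ P, ∀ q ∈ minimalPrimes R, t ∉ q := by
  classical
  by_contra hcon
  push Not at hcon
  have hfin := minimalPrimes.finite_of_isNoetherianRing R
  have hsub : (P : Set R) ⊆ ⋃ q ∈ (hfin.toFinset : Set (Ideal R)), ((fun q : Ideal R => q) q : Set R) := by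
    intro t ht
    obtain ⟨q, hq, htq⟩ := hcon t ht
    simp only [Set.mem_iUnion]
    exact ⟨q, by simpa using hq, htq⟩
  obtain ⟨q, hq, hPq⟩ := (Ideal.subset_union_prime (f := fun q : Ideal R => q) ⊥ ⊥
    (fun q hq _ _ => ((hfin.mem_toFinset).mp hq).1.1)).mp hsub
  have hqmin : q ∈ minimalPrimes R := hfin.mem_toFinset.mp hq
  have hqP : q ≤ P := hqmin.2 ⟨hP, bot_le⟩ hPq
  have heq : P = q := le_antisymm hPq hqP
  exact hPmin (heq ▸ hqmin)

/-- If `𝔭 = (tR : b)` for a nonzerodivisor `t` in a Noetherian ring with `(S₂)`, then `𝔭` has height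
at most one. -/
theorem height_le_one_of_colon [IsNoetherianRing R] (hS2 : LocCoh.HasSk 2 R R) (𝔭 : Ideal R)
    [𝔭.IsPrime] (t b : R) (hreg : IsSMulRegular R t)
    (hcolon : ∀ σ, σ ∈ 𝔭 ↔ σ * b ∈ Ideal.span {t}) : 𝔭.height ≤ 1 := by
  by_contra hht
  have hIM : maximalIdeal (Localization.AtPrime 𝔭) •
      (⊤ : Submodule (Localization.AtPrime 𝔭) (LocalizedModule 𝔭.primeCompl R)) ≠ ⊤ :=
    Groth.Agent.S0602.smul_top_ne_top_of_equiv (Localization.AtPrime 𝔭)
      (LocalizedModule 𝔭.primeCompl R) (Groth.Agent.S0602.locSelfEquiv 𝔭.primeCompl)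
  have hfin : Module.Finite (Localization.AtPrime 𝔭) (LocalizedModule 𝔭.primeCompl R) :=
    Module.Finite.equiv (Groth.Agent.S0602.locSelfEquiv 𝔭.primeCompl).symm
  have ht𝔭 : t ∈ 𝔭 := (hcolon t).mpr (Ideal.mem_span_singleton'.mpr ⟨b, mul_comm b t⟩)
  have hx'm : algebraMap R (Localization.AtPrime 𝔭) t ∈ maximalIdeal (Localization.AtPrime 𝔭) :=
    (IsLocalization.AtPrime.to_map_mem_maximal_iff (Localization.AtPrime 𝔭) 𝔭 t).mpr ht𝔭
  have hx'reg : IsSMulRegular (LocalizedModule 𝔭.primeCompl R)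
      (algebraMap R (Localization.AtPrime 𝔭) t) :=
    IsSMulRegular.of_flat_of_isBaseChange (LocalizedModule.isBaseChange 𝔭.primeCompl R) hreg
  have hcol : 𝔭 = (⊥ : Submodule R (QuotSMulTop t R)).colon {Submodule.Quotient.mk b} := by
    ext σ
    rw [hcolon, Submodule.mem_colon_singleton, Submodule.mem_bot, ← Submodule.Quotient.mk_smul,
      Submodule.Quotient.mk_eq_zero, smul_eq_mul, Groth.Agent.H15.DepthOne.mem_smul_top_iff,
      Ideal.mem_span_singleton']
    constructor
    · rintro ⟨a, ha⟩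
      exact ⟨a, by rw [← ha, smul_eq_mul, mul_comm]⟩
    · rintro ⟨a, ha⟩
      exact ⟨a, by rw [← ha, smul_eq_mul, mul_comm]⟩
  have hsoc := hasSocle_localization_of_eq_colon 𝔭 (QuotSMulTop t R) _ hcol
  have hsoc' : HasSocle (maximalIdeal (Localization.AtPrime 𝔭))
      (QuotSMulTop (algebraMap R (Localization.AtPrime 𝔭) t) (LocalizedModule 𝔭.primeCompl R)) :=
    hsoc.congr (locQuotEquiv 𝔭.primeCompl R t)
  have hS := hS2 𝔭
  rw [Groth.Agent.S0602.supportDim_locSelf] at hS
  have h2 : ((2 : ℕ) : ℕ∞) ≤ LocCoh.depth (Localization.AtPrime 𝔭)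
      (LocalizedModule 𝔭.primeCompl R) := by
    have hpos : ((2 : ℕ) : ℕ∞) ≤ 𝔭.height := by
      have h1 : (1 : ℕ∞) < 𝔭.height := not_le.mp hht
      have := Order.add_one_le_of_lt h1
      rwa [one_add_one_eq_two] at this
    have e : ((2 : ℕ) : WithBot ℕ∞) = (((2 : ℕ) : ℕ∞) : WithBot ℕ∞) := rfl
    rw [e, min_eq_left (WithBot.coe_le_coe.mpr hpos)] at hS
    exact WithBot.coe_le_coe.mp hS
  have hseq := (le_idealDepth_iff hIM 2).mp h2
  have hseq1 : HasSeq (maximalIdeal (Localization.AtPrime 𝔭))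
      (QuotSMulTop (algebraMap R (Localization.AtPrime 𝔭) t) (LocalizedModule 𝔭.primeCompl R)) 1 :=
    hasSeq_quot_of_hasSeq_succ hx'm hx'reg hseq
  obtain ⟨y, hy, hyreg, -⟩ := hasSeq_succ_iff.mp hseq1
  exact hsoc'.not_regular hy hyreg

end General

section NE

variable (B : Type u) [CommRing B]

/-- "No embedded primes": every prime of the form `(𝔠 : x)` is a minimal prime of the ring. -/
def NE (𝔠 : Ideal B) : Prop :=
  ∀ (x : B) (P : Ideal B), P.IsPrime → (∀ s, s ∈ P ↔ s * x ∈ 𝔠) → P ∈ minimalPrimes B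

variable {B}
variable [IsNoetherianRing B]

theorem NE.regular {𝔠 : Ideal B} (h : NE B 𝔠) {t : B} (ht : ∀ q ∈ minimalPrimes B, t ∉ q) {z : B}
    (hz : t * z ∈ 𝔠) : z ∈ 𝔠 := by
  by_contra hzn
  obtain ⟨b, P, hP, hPiff⟩ := exists_colon_prime 𝔠 hzn
  have hmin := h (b * z) P hP hPiff
  apply ht P hmin
  rw [hPiff]
  have : t * (b * z) = b * (t * z) := by ring
  rw [this]
  exact 𝔠.mul_mem_left b hz

theorem NE.mem_of_local {𝔠 : Ideal B} (h : NE B 𝔠) {z : B}
    (hz : ∀ q ∈ minimalPrimes B, ∃ s, s ∉ q ∧ s * z ∈ 𝔠) : z ∈ 𝔠 := by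
  by_contra hzn
  obtain ⟨b, P, hP, hPiff⟩ := exists_colon_prime 𝔠 hzn
  have hmin := h (b * z) P hP hPiff
  obtain ⟨s, hs, hsz⟩ := hz P hmin
  apply hs
  rw [hPiff]
  have : s * (b * z) = b * (s * z) := by ring
  rw [this]
  exact 𝔠.mul_mem_left b hsz

omit [IsNoetherianRing B] in
theorem NE_bot (hS1 : LocCoh.HasSk 1 B B) : NE B ⊥ := by
  intro x P hP hPiff
  have := hP
  have hy : P = (⊥ : Submodule B B).colon {x} := by
    ext s
    rw [hPiff, Submodule.mem_colon_singleton, Submodule.mem_bot, Ideal.mem_bot, smul_eq_mul]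
  have hsoc := hasSocle_localization_of_eq_colon P B x hy
  have hIM := Groth.Agent.S0602.smul_top_ne_top_of_equiv (Localization.AtPrime P)
    (LocalizedModule P.primeCompl B) (Groth.Agent.S0602.locSelfEquiv P.primeCompl)
  have hdepth : ¬ ((1 : ℕ) : ℕ∞) ≤ LocCoh.depth (Localization.AtPrime P)
      (LocalizedModule P.primeCompl B) := by
    intro hle1
    have hseq := (le_idealDepth_iff hIM 1).mp hle1
    obtain ⟨a, ha, hreg, -⟩ := hasSeq_succ_iff.mp hseq
    exact hsoc.not_regular ha hreg
  have hS := hS1 P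
  rw [Groth.Agent.S0602.supportDim_locSelf] at hS
  have hht : P.height = 0 := by
    by_contra hcon
    have hpos : (1 : ℕ∞) ≤ P.height := Order.one_le_iff_ne_zero.mpr hcon
    apply hdepth
    have h3 : min ((1 : ℕ) : WithBot ℕ∞) ((P.height : ℕ∞) : WithBot ℕ∞) =
        ((1 : ℕ) : WithBot ℕ∞) := by
      apply min_eq_left
      exact_mod_cast hpos
    rw [h3] at hS
    exact_mod_cast hS
  exact Ideal.height_eq_zero_iff.mp hht

end NE

section LocalFlat

variable {A : Type u} [CommRing A] [IsArtinianRing A] [IsLocalRing A]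

/-- A local Noetherian flat `A`-algebra `C` with `mC` radical and different from the maximal ideal:
an element whose multiples by the maximal ideal of `C` lie in `𝔟C` lies in `𝔟C`. -/
theorem local_flat_regular (C : Type u) [CommRing C] [IsLocalRing C] [IsNoetherianRing C]
    [Algebra A C] [Module.Flat A C]
    (hrad : ((maximalIdeal A).map (algebraMap A C)).IsRadical)
    (hnm : ¬ maximalIdeal C ≤ (maximalIdeal A).map (algebraMap A C))
    (𝔟 : Ideal A) (x : C) (hx : ∀ p ∈ maximalIdeal C, p * x ∈ 𝔟.map (algebraMap A C)) :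
    x ∈ 𝔟.map (algebraMap A C) := by
  -- Step a: an element of the maximal ideal regular modulo `mC`
  obtain ⟨t, htm, htreg⟩ : ∃ t ∈ maximalIdeal C, ∀ z,
      t * z ∈ (maximalIdeal A).map (algebraMap A C) → z ∈ (maximalIdeal A).map (algebraMap A C) := by
    rcases exists_regular_or_hasSocle
      (I := (maximalIdeal C).map (Ideal.Quotient.mk ((maximalIdeal A).map (algebraMap A C))))
      (C ⧸ (maximalIdeal A).map (algebraMap A C)) with ⟨t', ht', hreg⟩ | ⟨f, hf, hI⟩
    · obtain ⟨t, ht, rfl⟩ :=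
        (Ideal.mem_map_iff_of_surjective _ Ideal.Quotient.mk_surjective).mp ht'
      refine ⟨t, ht, fun z hz => ?_⟩
      have h0 : (Ideal.Quotient.mk ((maximalIdeal A).map (algebraMap A C)) t) •
          (Ideal.Quotient.mk ((maximalIdeal A).map (algebraMap A C)) z) = 0 := by
        rw [smul_eq_mul, ← map_mul]
        exact Ideal.Quotient.eq_zero_iff_mem.mpr hz
      exact Ideal.Quotient.eq_zero_iff_mem.mp
        ((isSMulRegular_iff_right_eq_zero_of_smul.mp hreg) _ h0)
    · exfalso
      obtain ⟨c, rfl⟩ := Ideal.Quotient.mk_surjective f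
      have hc : c ∉ (maximalIdeal A).map (algebraMap A C) :=
        fun h => hf (Ideal.Quotient.eq_zero_iff_mem.mpr h)
      have hpc : ∀ p ∈ maximalIdeal C, p * c ∈ (maximalIdeal A).map (algebraMap A C) := by
        intro p hp
        have := hI (Ideal.Quotient.mk _ p) (Ideal.mem_map_of_mem _ hp)
        rw [smul_eq_mul, ← map_mul] at this
        exact Ideal.Quotient.eq_zero_iff_mem.mp this
      have hcu : IsUnit c := by
        by_contra hnu
        have hcm : c ∈ maximalIdeal C := (mem_maximalIdeal c).mpr hnu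
        have h2 := hpc c hcm
        exact hc (hrad (Ideal.mem_radical_iff.mpr ⟨2, by rw [sq]; exact h2⟩))
      apply hnm
      intro p hp
      have h2 := hpc p hp
      obtain ⟨u, rfl⟩ := hcu
      have h3 := Ideal.mul_mem_right (↑u⁻¹ : C) _ h2
      rwa [mul_assoc, Units.mul_inv, mul_one] at h3
  -- Step b: `t` is regular modulo every `𝔟C`
  have hR : ∀ 𝔟 : Ideal A, ∀ y, t * y ∈ Ideal.map (algebraMap A C) 𝔟 → y ∈ Ideal.map (algebraMap A C) 𝔟 := by
    intro 𝔟
    induction 𝔟 using IsNoetherian.induction with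
    | hgt 𝔟 ih =>
      intro y hy
      by_cases htop : 𝔟 = ⊤
      · rw [htop, Ideal.map_top]
        trivial
      · obtain ⟨a, -, ha𝔟, hma⟩ := exists_socle_elt A (lt_top_iff_ne_top.mpr htop)
        have h1 : y ∈ Ideal.map (algebraMap A C) (𝔟 ⊔ Ideal.span {a}) :=
          ih _ (lt_sup_span ha𝔟) y (Ideal.map_mono le_sup_left hy)
        rw [map_sup_span, Submodule.mem_sup] at h1
        obtain ⟨u, hu, v, hv, rfl⟩ := h1
        obtain ⟨c, rfl⟩ := Ideal.mem_span_singleton'.mp hv
        have h2 : algebraMap A C a * (t * c) ∈ Ideal.map (algebraMap A C) 𝔟 := by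
          have : algebraMap A C a * (t * c) = t * (u + c * algebraMap A C a) - t * u := by ring
          rw [this]
          exact sub_mem hy (Ideal.mul_mem_left _ _ hu)
        have h3 : t * c ∈ (maximalIdeal A).map (algebraMap A C) := flat_colon_mem ha𝔟 h2
        have h4 : c ∈ (maximalIdeal A).map (algebraMap A C) := htreg c h3
        have h5 : algebraMap A C a * c ∈ Ideal.map (algebraMap A C) 𝔟 := mul_mem_map_of_socle hma C h4
        refine add_mem hu ?_
        rw [mul_comm]
        exact h5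
  exact hR 𝔟 x (hx t htm)

end LocalFlat

section Main

variable {A : Type u} [CommRing A] [IsArtinianRing A] [IsLocalRing A]
  {B : Type u} [CommRing B] [Algebra A B] [IsNoetherianRing B]

omit [IsArtinianRing A] [IsLocalRing A] [IsNoetherianRing B] in
theorem mem_map_loc_iff (q : Ideal B) [q.IsPrime] (𝔟 : Ideal A) (x : B) :
    algebraMap B (Localization.AtPrime q) x ∈ 𝔟.map (algebraMap A (Localization.AtPrime q)) ↔
      ∃ s, s ∉ q ∧ s * x ∈ 𝔟.map (algebraMap A B) := by
  rw [IsScalarTower.algebraMap_eq A B (Localization.AtPrime q), ← Ideal.map_map,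
    IsLocalization.algebraMap_mem_map_algebraMap_iff q.primeCompl]
  rfl

variable (hflat : ∀ (q : Ideal B) [q.IsPrime], q.height ≤ 1 → Module.Flat A (Localization.AtPrime q))
  (hred : ∀ (q : Ideal B) [q.IsPrime], q.height ≤ 1 →
    ((maximalIdeal A).map (algebraMap A (Localization.AtPrime q))).IsRadical)

include hflat in
omit [IsArtinianRing A] [IsNoetherianRing B] in
theorem local_colon (q : Ideal B) [q.IsPrime] (hq : q.height ≤ 1) {𝔟 : Ideal A} {a : A}
    (ha : a ∉ 𝔟) {b : B}
    (hb : ∃ s, s ∉ q ∧ s * (algebraMap A B a * b) ∈ 𝔟.map (algebraMap A B)) :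
    ∃ s, s ∉ q ∧ s * b ∈ (maximalIdeal A).map (algebraMap A B) := by
  have := hflat q hq
  have h1 : algebraMap A (Localization.AtPrime q) a * algebraMap B (Localization.AtPrime q) b ∈
      𝔟.map (algebraMap A (Localization.AtPrime q)) := by
    have h2 := (mem_map_loc_iff q 𝔟 (algebraMap A B a * b)).mpr hb
    rwa [map_mul, ← IsScalarTower.algebraMap_apply] at h2
  exact (mem_map_loc_iff q _ b).mp (flat_colon_mem ha h1)

include hred in
omit [IsArtinianRing A] [IsNoetherianRing B] in
theorem local_radical (q : Ideal B) [q.IsPrime] (hq : q.height ≤ 1) {z : B} {N : ℕ}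
    (hz : ∃ s, s ∉ q ∧ s * z ^ N ∈ (maximalIdeal A).map (algebraMap A B)) :
    ∃ s, s ∉ q ∧ s * z ∈ (maximalIdeal A).map (algebraMap A B) := by
  have h1 := (mem_map_loc_iff q _ (z ^ N)).mpr hz
  rw [map_pow] at h1
  exact (mem_map_loc_iff q _ z).mp (hred q hq (Ideal.mem_radical_iff.mpr ⟨N, h1⟩))

omit [IsNoetherianRing B] in
theorem height_le_one_of_mem_minimalPrimes {q : Ideal B} (hq : q ∈ minimalPrimes B) :
    q.height ≤ 1 := by
  have := hq.1.1
  rw [Ideal.height_eq_zero_iff.mpr hq]
  exact zero_le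

include hred in
omit [IsArtinianRing A] in
/-- `K1`: nilpotent elements are carried into `𝔟B` by a socle element `a` of `A/𝔟`. -/
theorem mul_mem_of_mem_nilradical {𝔟 : Ideal A} (hNE : NE B (𝔟.map (algebraMap A B))) {a : A}
    (hma : ∀ μ ∈ maximalIdeal A, μ * a ∈ 𝔟) {b : B} (hb : b ∈ nilradical B) :
    algebraMap A B a * b ∈ 𝔟.map (algebraMap A B) := by
  apply hNE.mem_of_local
  intro q hq
  have := hq.1.1
  obtain ⟨N, hN⟩ := mem_nilradical.mp hb
  obtain ⟨s, hs, hsb⟩ := local_radical hred q (height_le_one_of_mem_minimalPrimes hq) (z := b)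
    (N := N) ⟨1, (Ideal.ne_top_iff_one q).mp hq.1.1.ne_top, by rw [hN, mul_zero]; exact zero_mem _⟩
  refine ⟨s, hs, ?_⟩
  have : s * (algebraMap A B a * b) = algebraMap A B a * (s * b) := by ring
  rw [this]
  exact mul_mem_map_of_socle hma B hsb

include hflat in
omit [IsNoetherianRing B] in
/-- `K2`: the transporter of a socle element `a` of `A/𝔟` into `𝔟B` consists of nilpotents. -/
theorem mem_nilradical_of_mul_mem {𝔟 : Ideal A} {a : A} (ha : a ∉ 𝔟) {b : B}
    (hb : algebraMap A B a * b ∈ 𝔟.map (algebraMap A B)) : b ∈ nilradical B := by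
  apply mem_nilradical_of_forall_minimalPrimes
  intro q hq
  have := hq.1.1
  obtain ⟨s, hs, hsb⟩ := local_colon hflat q (height_le_one_of_mem_minimalPrimes hq) ha
    ⟨1, (Ideal.ne_top_iff_one q).mp hq.1.1.ne_top, by rw [one_mul]; exact hb⟩
  have h1 : s * b ∈ q := nilradical_le_prime q (map_maximalIdeal_le_nilradical B hsb)
  exact (hq.1.1.mem_or_mem h1).resolve_left hs

end Main

section Step

variable {A : Type u} [CommRing A] [IsArtinianRing A] [IsLocalRing A]
  {B : Type u} [CommRing B] [Algebra A B] [IsNoetherianRing B]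

variable (hS2 : LocCoh.HasSk 2 (B ⧸ nilradical B) (B ⧸ nilradical B))
  (hflat : ∀ (q : Ideal B) [q.IsPrime], q.height ≤ 1 → Module.Flat A (Localization.AtPrime q))
  (hred : ∀ (q : Ideal B) [q.IsPrime], q.height ≤ 1 →
    ((maximalIdeal A).map (algebraMap A (Localization.AtPrime q))).IsRadical)

include hS2 hflat hred in
/-- The inductive step: adjoining a socle element of `A/𝔟` preserves the absence of embedded
primes. -/
theorem NE_step {𝔟 : Ideal A} (hNE : NE B (𝔟.map (algebraMap A B))) {a : A} (ha : a ∉ 𝔟)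
    (hma : ∀ μ ∈ maximalIdeal A, μ * a ∈ 𝔟) :
    NE B ((𝔟 ⊔ Ideal.span {a}).map (algebraMap A B)) := by
  intro x P hP hPiff
  have := hP
  by_contra hPmin
  by_cases hht : P.height ≤ 1
  · -- the flat case
    have hflatC := hflat P hht
    have hredC := hred P hht
    have hnm : ¬ maximalIdeal (Localization.AtPrime P) ≤
        (maximalIdeal A).map (algebraMap A (Localization.AtPrime P)) := by
      intro hle
      apply hPmin
      refine ⟨⟨hP, bot_le⟩, fun q' hq' hq'P => ?_⟩
      intro p hp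
      have h1 : algebraMap B (Localization.AtPrime P) p ∈ maximalIdeal (Localization.AtPrime P) :=
        (IsLocalization.AtPrime.to_map_mem_maximal_iff (Localization.AtPrime P) P p).mpr hp
      obtain ⟨s, hs, hsp⟩ := (mem_map_loc_iff P _ p).mp (hle h1)
      have h2 : s * p ∈ q' := by
        have := hq'.1
        exact nilradical_le_prime q' (map_maximalIdeal_le_nilradical B hsp)
      exact (hq'.1.mem_or_mem h2).resolve_left (fun hsq => hs (hq'P hsq))
    have key := local_flat_regular (Localization.AtPrime P) hredC hnm (𝔟 ⊔ Ideal.span {a})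
      (algebraMap B (Localization.AtPrime P) x) ?_
    · obtain ⟨s, hs, hsx⟩ := (mem_map_loc_iff P _ x).mp key
      exact hs ((hPiff s).mpr hsx)
    · intro p' hp'
      obtain ⟨p, s, rfl⟩ := IsLocalization.exists_mk'_eq P.primeCompl p'
      have hpP : p ∈ P :=
        (IsLocalization.AtPrime.mk'_mem_maximal_iff (Localization.AtPrime P) P p s).mp hp'
      have h1 : algebraMap B (Localization.AtPrime P) (p * x) ∈
          (𝔟 ⊔ Ideal.span {a}).map (algebraMap A (Localization.AtPrime P)) :=
        (mem_map_loc_iff P _ (p * x)).mpr ⟨1, (Ideal.ne_top_iff_one P).mp hP.ne_top, by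
          rw [one_mul]; exact (hPiff p).mp hpP⟩
      have h2 : IsLocalization.mk' (Localization.AtPrime P) p s *
          algebraMap B (Localization.AtPrime P) x =
          IsLocalization.mk' (Localization.AtPrime P) 1 s *
            algebraMap B (Localization.AtPrime P) (p * x) := by
        rw [IsLocalization.mk'_eq_mul_mk'_one p s, map_mul]
        ring
      rw [h2]
      exact Ideal.mul_mem_left _ _ h1
  · -- the `(S₂)` case
    obtain ⟨t, htP, htmin⟩ := exists_mem_notMem_minimalPrimes P hPmin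
    have htreg : ∀ z, t * z ∈ 𝔟.map (algebraMap A B) → z ∈ 𝔟.map (algebraMap A B) :=
      fun z hz => hNE.regular htmin hz
    have htx : t * x ∈ (𝔟 ⊔ Ideal.span {a}).map (algebraMap A B) := (hPiff t).mp htP
    rw [map_sup_span, Submodule.mem_sup] at htx
    obtain ⟨u, hu, v, hv, huv⟩ := htx
    obtain ⟨b, rfl⟩ := Ideal.mem_span_singleton'.mp hv
    have hcolon : ∀ s, s ∈ P ↔ s * b ∈ Ideal.span {t} ⊔ nilradical B := by
      intro s
      constructor
      · intro hs
        have hsx : s * x ∈ (𝔟 ⊔ Ideal.span {a}).map (algebraMap A B) := (hPiff s).mp hs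
        rw [map_sup_span, Submodule.mem_sup] at hsx
        obtain ⟨u', hu', v', hv', huv'⟩ := hsx
        obtain ⟨c, rfl⟩ := Ideal.mem_span_singleton'.mp hv'
        have h1 : algebraMap A B a * (s * b - t * c) ∈ 𝔟.map (algebraMap A B) := by
          have : algebraMap A B a * (s * b - t * c) = t * u' - s * u := by
            linear_combination s * huv - t * huv'
          rw [this]
          exact sub_mem (Ideal.mul_mem_left _ _ hu') (Ideal.mul_mem_left _ _ hu)
        have h2 : s * b - t * c ∈ nilradical B := mem_nilradical_of_mul_mem hflat ha h1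
        rw [Submodule.mem_sup]
        exact ⟨t * c, Ideal.mem_span_singleton'.mpr ⟨c, mul_comm c t⟩, s * b - t * c, h2, by ring⟩
      · intro hs
        rw [Submodule.mem_sup] at hs
        obtain ⟨w, hw, ν, hν, hwν⟩ := hs
        obtain ⟨b', rfl⟩ := Ideal.mem_span_singleton'.mp hw
        rw [hPiff, map_sup_span]
        have h1 : algebraMap A B a * ν ∈ 𝔟.map (algebraMap A B) :=
          mul_mem_of_mem_nilradical hred hNE hma hν
        have h2 : t * (s * x - algebraMap A B a * b') ∈ 𝔟.map (algebraMap A B) := by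
          have : t * (s * x - algebraMap A B a * b') = s * u + algebraMap A B a * ν := by
            linear_combination (-s) * huv - (algebraMap A B a) * hwν
          rw [this]
          exact add_mem (Ideal.mul_mem_left _ _ hu) h1
        have h3 := htreg _ h2
        rw [Submodule.mem_sup]
        exact ⟨s * x - algebraMap A B a * b', h3, algebraMap A B a * b',
          Ideal.mem_span_singleton'.mpr ⟨b', mul_comm _ _⟩, by ring⟩
    -- pass to the reduction
    have hIP : nilradical B ≤ P := nilradical_le_prime P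
    have h𝔭 : (P.map (Ideal.Quotient.mk (nilradical B))).IsPrime :=
      Ideal.isPrime_map_quotientMk_of_isPrime hIP
    have htreg' : IsSMulRegular (B ⧸ nilradical B) (Ideal.Quotient.mk (nilradical B) t) := by
      rw [isSMulRegular_iff_right_eq_zero_of_smul]
      intro z hz
      obtain ⟨z, rfl⟩ := Ideal.Quotient.mk_surjective z
      rw [smul_eq_mul, ← map_mul, Ideal.Quotient.eq_zero_iff_mem] at hz
      rw [Ideal.Quotient.eq_zero_iff_mem]
      apply mem_nilradical_of_forall_minimalPrimes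
      intro q hq
      have h1 : t * z ∈ q := by
        have := hq.1.1
        exact nilradical_le_prime q hz
      exact (hq.1.1.mem_or_mem h1).resolve_left (htmin q hq)
    have hcolon' : ∀ σ, σ ∈ P.map (Ideal.Quotient.mk (nilradical B)) ↔
        σ * Ideal.Quotient.mk (nilradical B) b ∈
          Ideal.span {Ideal.Quotient.mk (nilradical B) t} := by
      intro σ
      obtain ⟨s, rfl⟩ := Ideal.Quotient.mk_surjective σ
      have e : Ideal.span {Ideal.Quotient.mk (nilradical B) t} =
          (Ideal.span {t}).map (Ideal.Quotient.mk (nilradical B)) := by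
        rw [Ideal.map_span, Set.image_singleton]
      rw [← map_mul, e, Ideal.mem_quotient_iff_mem hIP, Ideal.mem_quotient_iff_mem_sup]
      exact hcolon s
    have h1 := height_le_one_of_colon hS2 (P.map (Ideal.Quotient.mk (nilradical B))) _ _
      htreg' hcolon'
    exact hht (by exact_mod_cast
      height_le_of_map_height_le (nilradical B) le_rfl 1 P (by exact_mod_cast h1))

include hS2 hflat hred in
/-- `B/𝔠B` has no embedded primes, for every ideal `𝔠` of `A`. -/
theorem ne_map (hS1 : LocCoh.HasSk 1 B B) (𝔠 : Ideal A) : NE B (𝔠.map (algebraMap A B)) := by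
  have key : ∀ 𝔟 : Ideal A, 𝔟 ≤ 𝔠 → NE B (Ideal.map (algebraMap A B) 𝔟) →
      NE B (𝔠.map (algebraMap A B)) := by
    intro 𝔟
    induction 𝔟 using IsNoetherian.induction with
    | hgt 𝔟 ih =>
      intro hle hNE
      by_cases h : 𝔟 = 𝔠
      · rw [← h]
        exact hNE
      · obtain ⟨a, ha𝔠, ha𝔟, hma⟩ := exists_socle_elt A (lt_of_le_of_ne hle h)
        exact ih _ (lt_sup_span ha𝔟)
          (sup_le hle ((Ideal.span_singleton_le_iff_mem _).mpr ha𝔠))
          (NE_step hS2 hflat hred hNE ha𝔟 hma)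
  exact key ⊥ bot_le (by rw [Ideal.map_bot]; exact NE_bot hS1)

include hS2 hflat hred in
theorem isRadical_map_maximalIdeal' (hS1 : LocCoh.HasSk 1 B B) :
    ((maximalIdeal A).map (algebraMap A B)).IsRadical := by
  intro z hz
  obtain ⟨N, hN⟩ := Ideal.mem_radical_iff.mp hz
  apply (ne_map hS2 hflat hred hS1 (maximalIdeal A)).mem_of_local
  intro q hq
  have := hq.1.1
  exact local_radical hred q (height_le_one_of_mem_minimalPrimes hq)
    ⟨1, (Ideal.ne_top_iff_one q).mp hq.1.1.ne_top, by rw [one_mul]; exact hN⟩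

end Step

section Final

variable {A : Type u} [CommRing A] [IsArtinianRing A] [IsLocalRing A]
  (B : Type u) [CommRing B] [Algebra A B] [IsNoetherianRing B]

omit [IsNoetherianRing B] in
theorem isRadical_of_hcodim
    (hcodim : ∀ (q : Ideal B) [q.IsPrime], q.height ≤ 1 →
      Module.Flat A (Localization.AtPrime q) ∧ IsReduced (EGA4.FibLocRing A B q))
    (q : Ideal B) [q.IsPrime] (hq : q.height ≤ 1) :
    ((maximalIdeal A).map (algebraMap A (Localization.AtPrime q))).IsRadical := by
  have h1 := (hcodim q hq).2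
  have h2 := (Ideal.isRadical_iff_quotient_reduced _).mpr h1
  rwa [comap_eq_maximalIdeal] at h2

/-- The fibre ideal `mB` is radical. -/
theorem isRadical_map_maximalIdeal
    (hS1 : LocCoh.HasSk 1 B B) (hS2 : LocCoh.HasSk 2 (B ⧸ nilradical B) (B ⧸ nilradical B))
    (hcodim : ∀ (q : Ideal B) [q.IsPrime], q.height ≤ 1 →
      Module.Flat A (Localization.AtPrime q) ∧ IsReduced (EGA4.FibLocRing A B q)) :
    ((maximalIdeal A).map (algebraMap A B)).IsRadical :=
  isRadical_map_maximalIdeal' hS2 (fun q _ hq => (hcodim q hq).1)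
    (fun q _ hq => isRadical_of_hcodim B hcodim q hq) hS1

end Final

end Groth.Agent.H15.FamCyc
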