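import Groth.Agent.H15.FamCyc

/-!
# Flatness over an Artinian local base (continuation of `FamCyc`)

With the notation of `Groth.Agent.H15.FamCyc`: from `mB = nil(B)` and the computation of the
transporters `(𝔟B : a)` we deduce that `𝔠 ⊗ B → B` is injective for every ideal `𝔠` of `A`, i.e.
`B` is flat over `A`.
-/

set_option autoImplicit false

universe u

open scoped TensorProduct
open IsLocalRing

namespace Groth.Agent.H15.FamCyc

section Tensor

variable {A : Type u} [CommRing A] (B : Type u) [CommRing B] [Algebra A B]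

/-- The multiplication map `𝔠 ⊗ B → B`. -/
noncomputable def mulMap (𝔠 : Ideal A) : 𝔠 ⊗[A] B →ₗ[A] B :=
  TensorProduct.lift ((LinearMap.lsmul A B).comp 𝔠.subtype)

@[simp] theorem mulMap_tmul (𝔠 : Ideal A) (c : 𝔠) (b : B) :
    mulMap B 𝔠 (c ⊗ₜ b) = (c : A) • b := by
  simp [mulMap]

/-- The map `𝔟 ⊗ B → 𝔠 ⊗ B` induced by an inclusion of ideals. -/
noncomputable def inclT {𝔟 𝔠 : Ideal A} (h : 𝔟 ≤ 𝔠) : 𝔟 ⊗[A] B →ₗ[A] 𝔠 ⊗[A] B :=
  (Submodule.inclusion h).rTensor B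

@[simp] theorem inclT_tmul {𝔟 𝔠 : Ideal A} (h : 𝔟 ≤ 𝔠) (c : 𝔟) (b : B) :
    inclT B h (c ⊗ₜ b) = (Submodule.inclusion h c) ⊗ₜ b := by
  simp [inclT]

theorem mulMap_mem (𝔠 : Ideal A) (z : 𝔠 ⊗[A] B) : mulMap B 𝔠 z ∈ 𝔠.map (algebraMap A B) := by
  induction z using TensorProduct.induction_on with
  | zero => simp
  | tmul c b =>
    rw [mulMap_tmul, Algebra.smul_def]
    exact Ideal.mul_mem_right _ _ (Ideal.mem_map_of_mem _ c.2)
  | add x y hx hy =>
    rw [map_add]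
    exact add_mem hx hy

theorem mulMap_inclT {𝔟 𝔠 : Ideal A} (h : 𝔟 ≤ 𝔠) (z : 𝔟 ⊗[A] B) :
    mulMap B 𝔠 (inclT B h z) = mulMap B 𝔟 z := by
  induction z using TensorProduct.induction_on with
  | zero => simp
  | tmul c b => simp
  | add x y hx hy => simp only [map_add, hx, hy]

theorem mulMap_bot_injective : Function.Injective (mulMap B (⊥ : Ideal A)) := by
  have h0 : ∀ z : (⊥ : Ideal A) ⊗[A] B, z = 0 := by
    intro z
    induction z using TensorProduct.induction_on with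
    | zero => rfl
    | tmul c b =>
      have hc : c = 0 := Subtype.ext ((Submodule.mem_bot A).mp c.2)
      rw [hc, TensorProduct.zero_tmul]
    | add x y hx hy => rw [hx, hy, add_zero]
  intro z₁ z₂ _
  rw [h0 z₁, h0 z₂]

variable [IsLocalRing A]

/-- The inductive step for injectivity of `𝔟 ⊗ B → B`. -/
theorem mulMap_injective_step {𝔟 : Ideal A} {a : A}
    (hma : ∀ μ ∈ maximalIdeal A, μ * a ∈ 𝔟)
    (hK : ∀ b : B, algebraMap A B a * b ∈ 𝔟.map (algebraMap A B) →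
      b ∈ (maximalIdeal A).map (algebraMap A B))
    (hinj : Function.Injective (mulMap B 𝔟)) :
    Function.Injective (mulMap B (𝔟 ⊔ Ideal.span {a})) := by
  have hle : 𝔟 ≤ 𝔟 ⊔ Ideal.span {a} := le_sup_left
  have ha' : a ∈ 𝔟 ⊔ Ideal.span {a} := Ideal.mem_sup_right (Ideal.mem_span_singleton_self a)
  -- every tensor is a tensor from `𝔟 ⊗ B` plus `a ⊗ b`
  have claim1 : ∀ z : (𝔟 ⊔ Ideal.span {a} : Ideal A) ⊗[A] B, ∃ (z₀ : 𝔟 ⊗[A] B) (b : B),
      z = inclT B hle z₀ + (⟨a, ha'⟩ : (𝔟 ⊔ Ideal.span {a} : Ideal A)) ⊗ₜ[A] b := by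
    intro z
    induction z using TensorProduct.induction_on with
    | zero => exact ⟨0, 0, by simp⟩
    | tmul c b₁ =>
      obtain ⟨β, hβ, v, hv, hβv⟩ := Submodule.mem_sup.mp c.2
      obtain ⟨α, rfl⟩ := Ideal.mem_span_singleton'.mp hv
      refine ⟨(⟨β, hβ⟩ : 𝔟) ⊗ₜ[A] b₁, α • b₁, ?_⟩
      have hc : c = Submodule.inclusion hle ⟨β, hβ⟩ +
          α • (⟨a, ha'⟩ : (𝔟 ⊔ Ideal.span {a} : Ideal A)) := by
        apply Subtype.ext
        simp [← hβv]
      rw [inclT_tmul, hc, TensorProduct.add_tmul, TensorProduct.smul_tmul]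
    | add x y hx hy =>
      obtain ⟨x₀, bx, rfl⟩ := hx
      obtain ⟨y₀, by', rfl⟩ := hy
      exact ⟨x₀ + y₀, bx + by', by rw [map_add, TensorProduct.tmul_add]; abel⟩
  -- `a ⊗ b` comes from `𝔟 ⊗ B` when `b ∈ mB`
  have claim2 : ∀ b ∈ (maximalIdeal A).map (algebraMap A B), ∃ z₁ : 𝔟 ⊗[A] B,
      (⟨a, ha'⟩ : (𝔟 ⊔ Ideal.span {a} : Ideal A)) ⊗ₜ[A] b = inclT B hle z₁ := by
    intro b hb
    have hb' : b ∈ (maximalIdeal A) • (⊤ : Submodule A B) := by
      rw [Ideal.smul_top_eq_map]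
      exact hb
    refine Submodule.smul_induction_on hb' ?_ ?_
    · intro μ hμ n _
      refine ⟨(⟨μ * a, hma μ hμ⟩ : 𝔟) ⊗ₜ[A] n, ?_⟩
      rw [inclT_tmul, ← TensorProduct.smul_tmul]
      congr 1
    · rintro x y ⟨zx, hzx⟩ ⟨zy, hzy⟩
      exact ⟨zx + zy, by rw [TensorProduct.tmul_add, hzx, hzy, map_add]⟩
  rw [injective_iff_map_eq_zero]
  intro z hz
  obtain ⟨z₀, b, rfl⟩ := claim1 z
  have hz' : mulMap B 𝔟 z₀ + a • b = 0 := by
    have := hz
    rwa [map_add, mulMap_inclT, mulMap_tmul] at this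
  have hab : algebraMap A B a * b ∈ 𝔟.map (algebraMap A B) := by
    have : algebraMap A B a * b = - mulMap B 𝔟 z₀ := by
      rw [← Algebra.smul_def]
      exact eq_neg_of_add_eq_zero_right hz'
    rw [this]
    exact neg_mem (mulMap_mem B 𝔟 z₀)
  obtain ⟨z₁, hz₁⟩ := claim2 b (hK b hab)
  have h0 : mulMap B 𝔟 (z₀ + z₁) = 0 := by
    rw [← mulMap_inclT B hle, map_add, ← hz₁]
    exact hz
  have h1 : z₀ + z₁ = 0 := hinj (by rw [h0, map_zero])
  rw [hz₁, ← map_add, h1, map_zero]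

end Tensor

section Flat

variable {A : Type u} [CommRing A] [IsArtinianRing A] [IsLocalRing A]
  (B : Type u) [CommRing B] [Algebra A B] [IsNoetherianRing B]

/-- `B` is flat over `A`. -/
theorem flat_of_S1_S2
    (hS1 : LocCoh.HasSk 1 B B) (hS2 : LocCoh.HasSk 2 (B ⧸ nilradical B) (B ⧸ nilradical B))
    (hcodim : ∀ (q : Ideal B) [q.IsPrime], q.height ≤ 1 →
      Module.Flat A (Localization.AtPrime q) ∧ IsReduced (EGA4.FibLocRing A B q)) :
    Module.Flat A B := by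
  have hrad := isRadical_map_maximalIdeal B hS1 hS2 hcodim
  have hflat : ∀ (q : Ideal B) [q.IsPrime], q.height ≤ 1 →
      Module.Flat A (Localization.AtPrime q) := fun q _ hq => (hcodim q hq).1
  have hnil : nilradical B ≤ (maximalIdeal A).map (algebraMap A B) := by
    intro z hz
    obtain ⟨N, hN⟩ := mem_nilradical.mp hz
    exact hrad (Ideal.mem_radical_iff.mpr ⟨N, by rw [hN]; exact zero_mem _⟩)
  have hT : ∀ 𝔠 : Ideal A, Function.Injective (mulMap B 𝔠) := by
    intro 𝔠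
    have key : ∀ 𝔟 : Ideal A, 𝔟 ≤ 𝔠 → Function.Injective (mulMap B 𝔟) →
        Function.Injective (mulMap B 𝔠) := by
      intro 𝔟
      induction 𝔟 using IsNoetherian.induction with
      | hgt 𝔟 ih =>
        intro hle hinj
        by_cases h : 𝔟 = 𝔠
        · rw [← h]
          exact hinj
        · obtain ⟨a, ha𝔠, ha𝔟, hma⟩ := exists_socle_elt A (lt_of_le_of_ne hle h)
          exact ih _ (lt_sup_span ha𝔟)
            (sup_le hle ((Ideal.span_singleton_le_iff_mem _).mpr ha𝔠))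
            (mulMap_injective_step B hma
              (fun b hb => hnil (mem_nilradical_of_mul_mem hflat ha𝔟 hb)) hinj)
    exact key ⊥ bot_le (mulMap_bot_injective B)
  rw [Module.Flat.iff_lift_lsmul_comp_subtype_injective]
  intro I _
  exact hT I

end Flat

end Groth.Agent.H15.FamCyc
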