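import Mathlib
import Groth.Prelude.Def_EGA4b
import Groth.Agent.S2659
import Groth.Agent.S0602
import Groth.Agent.H15.FlatLoc
import Groth.Agent.H15.DepthSpread
import Groth.Agent.H29.FlatCM

/-!
# Serre's condition `(S_n)` at a prime, for the ring itself (helper15)

* `locEquiv`: a linear equivalence induces a linear equivalence of localized modules.
* `hasSk_congr`: `(S_k)` is invariant under linear equivalences.
* `hasSkAt_self_iff`: `HasSkAt n R R q ↔ ∀ p' ≤ q, min n (ht p') ≤ depth R_{p'}`.
* `hasSk_self_of_ringEquiv`: `(S_n)` of a ring is invariant under ring isomorphisms.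
-/

set_option autoImplicit false
set_option linter.style.haveILetI false
set_option linter.unusedVariables false
set_option linter.unusedSectionVars false

universe u

open IsLocalRing

namespace Groth.Agent.H15.SkAt

open Groth.Agent.H15.DepthSpread

section Congr

variable {R : Type u} [CommRing R] {M N : Type u} [AddCommGroup M] [Module R M]
  [AddCommGroup N] [Module R N]

/-- A linear equivalence induces a linear equivalence of localized modules. -/
noncomputable def locEquiv (S : Submonoid R) (e : M ≃ₗ[R] N) :
    LocalizedModule S M ≃ₗ[Localization S] LocalizedModule S N :=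
  LinearEquiv.ofBijective
    ((IsLocalizedModule.linearEquiv S (LocalizedModule.mkLinearMap S M)
      ((LocalizedModule.mkLinearMap S N) ∘ₗ e.toLinearMap)).toLinearMap.extendScalarsOfIsLocalization
        S (Localization S))
    (IsLocalizedModule.linearEquiv S (LocalizedModule.mkLinearMap S M)
      ((LocalizedModule.mkLinearMap S N) ∘ₗ e.toLinearMap)).bijective

/-- `(S_k)` is invariant under linear equivalences. -/
theorem hasSk_congr (e : M ≃ₗ[R] N) (k : ℕ) (h : LocCoh.HasSk k R M) : LocCoh.HasSk k R N := by
  intro p _
  have e' : LocalizedModule p.primeCompl M ≃ₗ[Localization.AtPrime p]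
      LocalizedModule p.primeCompl N := locEquiv p.primeCompl e
  have h1 : LocCoh.depth (Localization.AtPrime p) (LocalizedModule p.primeCompl N) =
      LocCoh.depth (Localization.AtPrime p) (LocalizedModule p.primeCompl M) :=
    idealDepth_congr e'.symm
  rw [← Module.supportDim_eq_of_equiv e', h1]
  exact h p

end Congr

section Self

variable (R : Type u) [CommRing R]

/-- `(S_n)` at a prime for the ring itself, in terms of the generizations of the prime. -/
theorem hasSkAt_self_iff (n : ℕ) (q : Ideal R) [q.IsPrime] :
    EGA4.HasSkAt n R R q ↔ ∀ (p' : Ideal R) [p'.IsPrime], p' ≤ q →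
      min (n : ℕ∞) p'.height ≤
        LocCoh.depth (Localization.AtPrime p') (Localization.AtPrime p') := by
  unfold EGA4.HasSkAt
  have h1 : LocCoh.HasSk n (Localization.AtPrime q) (LocalizedModule q.primeCompl R) ↔
      LocCoh.HasSk n (Localization.AtPrime q) (Localization.AtPrime q) :=
    ⟨hasSk_congr (Groth.Agent.S0602.locSelfEquiv q.primeCompl) n,
      hasSk_congr (Groth.Agent.S0602.locSelfEquiv q.primeCompl).symm n⟩
  rw [h1, Groth.Agent.S2659.hasSk_self_iff]
  constructor
  · intro h p' _ hle
    obtain ⟨P', hP', hht, ⟨e⟩⟩ := Groth.Agent.H15.FlatLoc.exists_locLoc q p' hle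
    haveI := hP'
    have h2 := h P'
    have d1 : LocCoh.depth (Localization.AtPrime P')
        (LocalizedModule P'.primeCompl (Localization.AtPrime q)) =
        LocCoh.depth (Localization.AtPrime P') (Localization.AtPrime P') :=
      idealDepth_congr (Groth.Agent.S0602.locSelfEquiv P'.primeCompl)
    rw [d1, hht, ← Groth.Agent.H29.FlatCM.depth_ringEquiv e] at h2
    exact h2
  · intro h P _
    have hle := Groth.Agent.H15.FlatLoc.comap_le q P
    haveI : (P.comap (algebraMap R (Localization.AtPrime q))).IsPrime := Ideal.comap_isPrime _ P
    haveI hloc : IsLocalization.AtPrime (Localization.AtPrime P)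
        (P.comap (algebraMap R (Localization.AtPrime q))) :=
      IsLocalization.isLocalization_isLocalization_atPrime_isLocalization q.primeCompl
        (Localization.AtPrime P) P
    let e : Localization.AtPrime (P.comap (algebraMap R (Localization.AtPrime q))) ≃+*
        Localization.AtPrime P :=
      (IsLocalization.algEquiv (P.comap (algebraMap R (Localization.AtPrime q))).primeCompl
        (Localization.AtPrime (P.comap (algebraMap R (Localization.AtPrime q))))
        (Localization.AtPrime P)).toRingEquiv
    have hht : P.height = (P.comap (algebraMap R (Localization.AtPrime q))).height := by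
      have e1 : ((P.height : ℕ∞) : WithBot ℕ∞) =
          (((P.comap (algebraMap R (Localization.AtPrime q))).height : ℕ∞) : WithBot ℕ∞) := by
        rw [← IsLocalization.AtPrime.ringKrullDim_eq_height P (Localization.AtPrime P),
          ← IsLocalization.AtPrime.ringKrullDim_eq_height
            (P.comap (algebraMap R (Localization.AtPrime q)))
            (Localization.AtPrime (P.comap (algebraMap R (Localization.AtPrime q))))]
        exact (ringKrullDim_eq_of_ringEquiv e).symm
      exact WithBot.coe_injective e1
    have d1 : LocCoh.depth (Localization.AtPrime P)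
        (LocalizedModule P.primeCompl (Localization.AtPrime q)) =
        LocCoh.depth (Localization.AtPrime P) (Localization.AtPrime P) :=
      idealDepth_congr (Groth.Agent.S0602.locSelfEquiv P.primeCompl)
    rw [d1, hht, ← Groth.Agent.H29.FlatCM.depth_ringEquiv e]
    exact h _ hle

/-- `(S_n)` for the ring itself, in terms of depths of the local rings. -/
theorem hasSk_self_iff' (n : ℕ) :
    LocCoh.HasSk n R R ↔ ∀ (p : Ideal R) [p.IsPrime], min (n : ℕ∞) p.height ≤
      LocCoh.depth (Localization.AtPrime p) (Localization.AtPrime p) := by
  rw [Groth.Agent.S2659.hasSk_self_iff]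

variable {R}

/-- `(S_n)` of a ring is invariant under ring isomorphisms. -/
theorem hasSk_self_of_ringEquiv {R' : Type u} [CommRing R'] (e : R ≃+* R') (n : ℕ)
    (h : LocCoh.HasSk n R R) : LocCoh.HasSk n R' R' := by
  rw [hasSk_self_iff'] at h ⊢
  intro p hp
  haveI : (p.comap e).IsPrime := Ideal.comap_isPrime _ p
  let E : Localization.AtPrime (p.comap e) ≃+* Localization.AtPrime p :=
    IsLocalization.ringEquivOfRingEquiv
      (Localization.AtPrime (p.comap e)) (Localization.AtPrime p) e
      (e.map_primeCompl_comap_eq p)
  have hht : (p.comap e).height = p.height := RingEquiv.height_comap e p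
  rw [← hht, ← Groth.Agent.H29.FlatCM.depth_ringEquiv E]
  exact h _

end Self

end Groth.Agent.H15.SkAt
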