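import Groth.Agent.H15.FibreCM
import Groth.Agent.S5761
import Groth.Agent.S4744
import Groth.Agent.H72.RegLoc
import Groth.Agent.H29.DepthFinite
import Mathlib.RingTheory.Ideal.GoingUp
import Mathlib.RingTheory.Ideal.KrullsHeightTheorem

/-!
# Cohen–Macaulay local rings: localization, flat integral extensions, dimension one
-/

set_option autoImplicit false
set_option linter.style.haveILetI false
set_option maxHeartbeats 400000

universe u

open IsLocalRing TensorProduct

namespace Groth.Agent.H15.FinFlatCM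

attribute [local instance] Groth.Agent.H15.FlatLoc.isLocalRing_fibLocRing

/-- The local ring at `p` is Cohen–Macaulay. -/
abbrev CMat {R : Type u} [CommRing R] (p : Ideal R) [p.IsPrime] : Prop :=
  LocCoh.IsCohenMacaulayLocalRing (Localization.AtPrime p)

theorem CMat.congr {R : Type u} [CommRing R] {p q : Ideal R} [p.IsPrime] [q.IsPrime] (h : p = q)
    (hp : CMat p) : CMat q := by
  subst h
  exact hp

theorem fib_congr {A B : Type u} [CommRing A] [CommRing B] [Algebra A B] {p q : Ideal B}
    [p.IsPrime] [q.IsPrime] (h : p = q)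
    (hp : LocCoh.IsCohenMacaulayLocalRing (EGA4.FibLocRing A B p)) :
    LocCoh.IsCohenMacaulayLocalRing (EGA4.FibLocRing A B q) := by
  subst h
  exact hp

section Loc

variable (R : Type u) [CommRing R]

/-- A Cohen–Macaulay local ring has Cohen–Macaulay localizations. -/
theorem cmAt_of_isCM [IsLocalRing R] [IsNoetherianRing R]
    (hR : LocCoh.IsCohenMacaulayLocalRing R) (p : Ideal R) [hp : p.IsPrime] : CMat p := by
  have hM : LocCoh.IsCohenMacaulayModule R R := hR.supportDim_eq_depth
  have hsupp : (⟨p, hp⟩ : PrimeSpectrum R) ∈ Module.support R R := by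
    rw [Module.mem_support_iff']
    refine ⟨1, fun r hr h => hr ?_⟩
    have : r = 0 := by simpa using h
    rw [this]
    exact p.zero_mem
  have h1 := Groth.Agent.S5761.result R R hM ⟨p, hp⟩ hsupp
  have h2 := Groth.Agent.H29.CM.isCM_of_equiv
    (Groth.Agent.H29.DepthFinite.selfEquiv p.primeCompl) h1
  exact ⟨h2⟩

variable {R}

/-- Cohen–Macaulayness of local rings passes to generizations. -/
theorem cmAt_of_le [IsNoetherianRing R] (p p' : Ideal R) [p.IsPrime] [p'.IsPrime] (h : p' ≤ p)
    (hp : CMat p) : CMat p' := by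
  obtain ⟨P', hP', -, ⟨e⟩⟩ := Groth.Agent.H15.FlatLoc.exists_locLoc p p' h
  haveI := hP'
  haveI := hp
  have h1 : CMat P' := cmAt_of_isCM (Localization.AtPrime p) hp P'
  exact Groth.Agent.H29.FlatCM.isCM_ringEquiv e.symm h1

/-- A Cohen–Macaulay local ring is a Cohen–Macaulay ring. -/
theorem isCMRing_of_isCM [IsLocalRing R] [IsNoetherianRing R]
    (hR : LocCoh.IsCohenMacaulayLocalRing R) : LocCoh.IsCohenMacaulayRing R :=
  ⟨fun p _ => cmAt_of_isCM R hR p⟩

/-- A local ring whose localization at the maximal ideal is Cohen–Macaulay is Cohen–Macaulay. -/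
theorem isCM_of_cmAt_maximalIdeal [IsLocalRing R] (h : CMat (maximalIdeal R)) :
    LocCoh.IsCohenMacaulayLocalRing R :=
  Groth.Agent.H29.FlatCM.isCM_ringEquiv (Groth.Agent.H15.FlatLoc.selfEquivLocMax R).symm h

theorem cmAt_maximalIdeal_of_isCM [IsLocalRing R] (h : LocCoh.IsCohenMacaulayLocalRing R) :
    CMat (maximalIdeal R) :=
  Groth.Agent.H29.FlatCM.isCM_ringEquiv (Groth.Agent.H15.FlatLoc.selfEquivLocMax R) h

end Loc

section Flat

theorem cmAt_iff_height_eq_depth {R : Type u} [CommRing R] [IsNoetherianRing R] (p : Ideal R)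
    [p.IsPrime] :
    CMat p ↔ p.height = LocCoh.depth (Localization.AtPrime p) (Localization.AtPrime p) := by
  rw [CMat, Groth.Agent.H15.FibreCM.isCM_iff_height_eq_depth]
  have h1 : (((maximalIdeal (Localization.AtPrime p)).height : ℕ∞) : WithBot ℕ∞) =
      ((p.height : ℕ∞) : WithBot ℕ∞) := by
    rw [IsLocalRing.maximalIdeal_height_eq_ringKrullDim,
      IsLocalization.AtPrime.ringKrullDim_eq_height p]
  have h2 : (maximalIdeal (Localization.AtPrime p)).height = p.height := by exact_mod_cast h1
  rw [h2]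

variable (A B : Type u) [CommRing A] [CommRing B] [Algebra A B] [IsNoetherianRing A]
  [IsNoetherianRing B] [Module.Flat A B]

/-- If `A_p` is Cohen–Macaulay (`p = q ∩ A`), then `B_q` is Cohen–Macaulay iff the fibre local
ring at `q` is. -/
theorem cmAt_iff_fib (q : Ideal B) [q.IsPrime] (hA : CMat (q.comap (algebraMap A B))) :
    CMat q ↔ LocCoh.IsCohenMacaulayLocalRing (EGA4.FibLocRing A B q) := by
  obtain ⟨hdim, hdepth, -⟩ := Groth.Agent.H15.FlatLoc.flat_data A B q
  rw [← IsLocalRing.maximalIdeal_height_eq_ringKrullDim] at hdim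
  have hdim' : q.height = (q.comap (algebraMap A B)).height +
      (maximalIdeal (EGA4.FibLocRing A B q)).height := by exact_mod_cast hdim
  have hA' := (cmAt_iff_height_eq_depth _).mp hA
  have hne : (q.comap (algebraMap A B)).height ≠ ⊤ :=
    Ideal.height_ne_top (Ideal.IsPrime.ne_top inferInstance)
  rw [cmAt_iff_height_eq_depth, Groth.Agent.H15.FibreCM.isCM_iff_height_eq_depth, hdim', hdepth,
    ← hA']
  constructor
  · intro h
    exact ENat.add_right_injective_of_ne_top hne h
  · intro h
    rw [h]

theorem height_le_height_comap_of_isIntegral (R S : Type u) [CommRing R] [CommRing S] [Algebra R S]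
    [Algebra.IsIntegral R S] (Q : Ideal S) [hQ : Q.IsPrime] :
    Q.height ≤ (Q.comap (algebraMap R S)).height := by
  have h1 := PrimeSpectrum.height_eq_orderHeight (⟨Q, hQ⟩ : PrimeSpectrum S)
  have h2 := PrimeSpectrum.height_eq_orderHeight
    (PrimeSpectrum.comap (algebraMap R S) ⟨Q, hQ⟩)
  show (⟨Q, hQ⟩ : PrimeSpectrum S).asIdeal.height ≤
    (PrimeSpectrum.comap (algebraMap R S) ⟨Q, hQ⟩).asIdeal.height
  rw [h1, h2]
  exact Order.height_le_height_apply_of_strictMono (PrimeSpectrum.comap (algebraMap R S))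
    (fun P Q hPQ => Ideal.IsIntegral.comap_lt_comap (R := R) hPQ) ⟨Q, hQ⟩

/-- Ascent of Cohen–Macaulayness along a flat integral extension. -/
theorem cmAt_of_flat_isIntegral [Algebra.IsIntegral A B] (q : Ideal B) [q.IsPrime]
    (hA : CMat (q.comap (algebraMap A B))) : CMat q := by
  rw [cmAt_iff_fib A B q hA, Groth.Agent.H15.FibreCM.isCM_iff_height_eq_depth]
  obtain ⟨hdim, -, -⟩ := Groth.Agent.H15.FlatLoc.flat_data A B q
  rw [← IsLocalRing.maximalIdeal_height_eq_ringKrullDim] at hdim
  have hdim' : q.height = (q.comap (algebraMap A B)).height +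
      (maximalIdeal (EGA4.FibLocRing A B q)).height := by exact_mod_cast hdim
  have hne : (q.comap (algebraMap A B)).height ≠ ⊤ :=
    Ideal.height_ne_top (Ideal.IsPrime.ne_top inferInstance)
  have hle := height_le_height_comap_of_isIntegral A B q
  have hzero : (maximalIdeal (EGA4.FibLocRing A B q)).height = 0 := by
    apply ENat.add_right_injective_of_ne_top hne
    show (q.comap (algebraMap A B)).height + (maximalIdeal (EGA4.FibLocRing A B q)).height =
      (q.comap (algebraMap A B)).height + 0
    rw [add_zero]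
    exact le_antisymm (hdim' ▸ hle) le_self_add
  have h1 := Groth.Agent.H29.CM.depth_le_supportDim (A := EGA4.FibLocRing A B q)
    (M := EGA4.FibLocRing A B q)
  rw [Module.supportDim_self_eq_ringKrullDim,
    ← IsLocalRing.maximalIdeal_height_eq_ringKrullDim, hzero] at h1
  have h2 : LocCoh.depth (EGA4.FibLocRing A B q) (EGA4.FibLocRing A B q) ≤ 0 := by
    exact_mod_cast h1
  rw [hzero]
  exact (le_antisymm h2 zero_le).symm

/-- Ascent of the Cohen–Macaulay property (for rings) along a flat integral extension. -/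
theorem isCMRing_of_flat_isIntegral [Algebra.IsIntegral A B] (hA : LocCoh.IsCohenMacaulayRing A) :
    LocCoh.IsCohenMacaulayRing B :=
  ⟨fun q _ => cmAt_of_flat_isIntegral A B q (hA.isCohenMacaulayLocalRing_localization _)⟩

end Flat

section DimOne

/-- A Noetherian local domain of dimension at most one is Cohen–Macaulay. -/
theorem isCM_of_isDomain_of_dim_le_one (R : Type u) [CommRing R] [IsDomain R] [IsLocalRing R]
    [IsNoetherianRing R] (h : ringKrullDim R ≤ 1) : LocCoh.IsCohenMacaulayLocalRing R := by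
  refine ⟨?_⟩
  have h1 := Groth.Agent.H29.CM.depth_le_supportDim (A := R) (M := R)
  refine le_antisymm ?_ h1
  rw [Module.supportDim_self_eq_ringKrullDim]
  by_cases hm : maximalIdeal R = ⊥
  · rw [← IsLocalRing.maximalIdeal_height_eq_ringKrullDim, hm, Ideal.height_bot]
    exact_mod_cast zero_le
  · obtain ⟨x, hx, hx0⟩ := Submodule.exists_mem_ne_zero_of_ne_bot hm
    have hreg : IsSMulRegular R x := fun a b hab =>
      mul_left_cancel₀ hx0 (by simpa [smul_eq_mul] using hab)
    have hseq : Groth.Agent.H15.Depth.HasSeq (maximalIdeal R) R 1 :=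
      Groth.Agent.H15.Depth.hasSeq_succ_iff.mpr ⟨x, hx, hreg, Groth.Agent.H15.Depth.hasSeq_zero⟩
    have h2 : ((1 : ℕ) : ℕ∞) ≤ LocCoh.depth R R :=
      Groth.Agent.H15.Depth.le_idealDepth_of_hasSeq hseq
    refine h.trans ?_
    exact_mod_cast h2

end DimOne

section BaseChange

/-- Cohen–Macaulayness of an algebra over a field is preserved by finite field extensions. -/
theorem isCMRing_tensor_of_finite (k K F : Type u) [Field k] [Field K] [Algebra k K]
    [Module.Finite k K] [CommRing F] [Algebra k F] (hF : LocCoh.IsCohenMacaulayRing F) :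
    LocCoh.IsCohenMacaulayRing (K ⊗[k] F) := by
  haveI := hF
  haveI : IsNoetherianRing (F ⊗[k] K) := IsNoetherianRing.of_finite F (F ⊗[k] K)
  haveI : Algebra.IsIntegral F (F ⊗[k] K) := Algebra.IsIntegral.of_finite F (F ⊗[k] K)
  have h1 : LocCoh.IsCohenMacaulayRing (F ⊗[k] K) := isCMRing_of_flat_isIntegral F (F ⊗[k] K) hF
  exact Groth.Agent.S4744.isCMRing_of_ringEquiv (Algebra.TensorProduct.comm k F K).toRingEquiv h1

end BaseChange

end Groth.Agent.H15.FinFlatCM
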