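import Groth.Agent.H15.FinFlatCM
import Groth.Agent.H15.CohenCoeff
import Groth.Agent.H15.CohenNorm
import Groth.Agent.H15.PSRegular
import Groth.Agent.S0564
import Mathlib.RingTheory.Localization.Free
import Mathlib.RingTheory.Localization.Integral
import Mathlib.RingTheory.Localization.LocalizationLocalization
import Mathlib.Algebra.Module.LocalizedModule.IsLocalization

/-!
# Generic Cohen–Macaulayness of complete local domains

A complete Noetherian local domain `A` is finite over a regular local domain (Cohen), hence
generically free over it, hence there is `f ≠ 0` such that `A_p` is Cohen–Macaulay for all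
primes `p` not containing `f`.
-/

set_option autoImplicit false
set_option linter.style.haveILetI false
set_option maxHeartbeats 800000

universe u

open IsLocalRing Groth.Agent.H15.FinFlatCM

namespace Groth.Agent.H15.GenericCM

/-- All local rings of a localization of a regular local ring are Cohen–Macaulay. -/
theorem cmAt_localization_of_regular (P : Type u) [CommRing P] [IsRegularLocalRing P]
    (M : Submonoid P) (𝔮 : Ideal (Localization M)) [𝔮.IsPrime] : CMat 𝔮 := by
  haveI : IsRegularLocalRing
      (Localization.AtPrime (𝔮.comap (algebraMap P (Localization M)))) :=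
    Groth.Agent.S0564.result P _
  haveI : IsRegularLocalRing (Localization.AtPrime 𝔮) :=
    IsRegularLocalRing.of_ringEquiv
      (IsLocalization.localizationLocalizationAtPrimeIsoLocalization M 𝔮).toRingEquiv
  exact ⟨Groth.Agent.H72.RegLoc.isCM_of_isRegularLocalRing _⟩

/-- Generic Cohen–Macaulayness of a finite algebra over a regular local domain. -/
theorem exists_ne_zero_cmAt_of_finite (P A : Type u) [CommRing P] [IsDomain P]
    [IsRegularLocalRing P] [CommRing A] [Algebra P A] [Module.Finite P A] :
    ∃ g : P, g ≠ 0 ∧ ∀ (p : Ideal A) [p.IsPrime], algebraMap P A g ∉ p → CMat p := by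
  haveI : IsNoetherianRing A := IsNoetherianRing.of_finite P A
  haveI : Module.FinitePresentation P A := Module.finitePresentation_of_finite P A
  obtain ⟨g, hg, hfree, -⟩ := Module.FinitePresentation.exists_free_localizedModule_powers
    (nonZeroDivisors P) (LocalizedModule.mkLinearMap (nonZeroDivisors P) A) (FractionRing P)
  refine ⟨g, nonZeroDivisors.ne_zero hg, ?_⟩
  -- the localized rings
  haveI hN1 : IsNoetherianRing (Localization (Submonoid.powers g)) :=
    IsLocalization.isNoetherianRing (Submonoid.powers g) _ inferInstance
  haveI hN2 : IsNoetherianRing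
      (Localization (Algebra.algebraMapSubmonoid A (Submonoid.powers g))) :=
    IsLocalization.isNoetherianRing (Algebra.algebraMapSubmonoid A (Submonoid.powers g)) _
      inferInstance
  haveI : Algebra.IsIntegral P A := Algebra.IsIntegral.of_finite P A
  haveI hint : Algebra.IsIntegral (Localization (Submonoid.powers g))
      (Localization (Algebra.algebraMapSubmonoid A (Submonoid.powers g))) :=
    ⟨isIntegral_localization⟩
  haveI hflat : Module.Flat (Localization (Submonoid.powers g))
      (Localization (Algebra.algebraMapSubmonoid A (Submonoid.powers g))) := by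
    have h1 : Module.Flat (Localization (Submonoid.powers g))
        (LocalizedModule (Submonoid.powers g) A) := by
      haveI := hfree
      infer_instance
    have h2 : Module.Flat P (LocalizedModule (Submonoid.powers g) A) :=
      (Module.flat_iff_of_isLocalization (Localization (Submonoid.powers g))
        (Submonoid.powers g) _).mp h1
    let e : LocalizedModule (Submonoid.powers g) A ≃ₗ[P]
        Localization (Algebra.algebraMapSubmonoid A (Submonoid.powers g)) :=
      IsLocalizedModule.iso (Submonoid.powers g)
        (IsScalarTower.toAlgHom P A
          (Localization (Algebra.algebraMapSubmonoid A (Submonoid.powers g)))).toLinearMap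
    have h3 : Module.Flat P
        (Localization (Algebra.algebraMapSubmonoid A (Submonoid.powers g))) :=
      Module.Flat.of_linearEquiv e.symm
    exact (Module.flat_iff_of_isLocalization (Localization (Submonoid.powers g))
        (Submonoid.powers g) _).mpr h3
  intro p hp hgp
  have hdisj : Disjoint ((Algebra.algebraMapSubmonoid A (Submonoid.powers g) : Submonoid A) :
      Set A) (p : Set A) := by
    rw [Set.disjoint_left]
    rintro x ⟨y, ⟨k, rfl⟩, rfl⟩ hx
    rw [map_pow] at hx
    exact hgp (hp.mem_of_pow_mem k hx)
  haveI hQ : (p.map (algebraMap A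
      (Localization (Algebra.algebraMapSubmonoid A (Submonoid.powers g))))).IsPrime :=
    IsLocalization.isPrime_of_isPrime_disjoint _ _ p hp hdisj
  have hQc : (p.map (algebraMap A
      (Localization (Algebra.algebraMapSubmonoid A (Submonoid.powers g))))).comap
      (algebraMap A (Localization (Algebra.algebraMapSubmonoid A (Submonoid.powers g)))) = p :=
    IsLocalization.under_map_of_isPrime_disjoint _ _ hp hdisj
  have h1 : CMat (p.map (algebraMap A
      (Localization (Algebra.algebraMapSubmonoid A (Submonoid.powers g))))) :=
    cmAt_of_flat_isIntegral (Localization (Submonoid.powers g))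
      (Localization (Algebra.algebraMapSubmonoid A (Submonoid.powers g))) _
      (cmAt_localization_of_regular P (Submonoid.powers g) _)
  have h2 : CMat ((p.map (algebraMap A
      (Localization (Algebra.algebraMapSubmonoid A (Submonoid.powers g))))).comap
      (algebraMap A (Localization (Algebra.algebraMapSubmonoid A (Submonoid.powers g))))) :=
    Groth.Agent.H29.FlatCM.isCM_ringEquiv
      (IsLocalization.localizationLocalizationAtPrimeIsoLocalization
        (Algebra.algebraMapSubmonoid A (Submonoid.powers g)) _).toRingEquiv.symm h1
  exact CMat.congr hQc h2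

/-- A complete Noetherian local domain is generically Cohen–Macaulay. -/
theorem exists_ne_zero_cmAt (A : Type u) [CommRing A] [IsDomain A] [IsLocalRing A]
    [IsNoetherianRing A] [IsAdicComplete (maximalIdeal A) A] :
    ∃ f : A, f ≠ 0 ∧ ∀ (p : Ideal A) [p.IsPrime], f ∉ p → CMat p := by
  obtain ⟨D, hD⟩ := Groth.Agent.H15.CohenCoeff.exists_coeffData A
  obtain ⟨n, F, hinj, hfin, -, -⟩ := Groth.Agent.H15.CohenNorm.exists_finite_injective D.φ D.surj
    (hD inferInstance inferInstance)
  haveI := Groth.Agent.H15.PSRegular.isRegularLocalRing_mvPowerSeries (Λ := D.Λ) n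
  haveI : IsDomain (MvPowerSeries (Fin n) D.Λ) := NoZeroDivisors.to_isDomain _
  letI : Algebra (MvPowerSeries (Fin n) D.Λ) A := F.toAlgebra
  haveI : Module.Finite (MvPowerSeries (Fin n) D.Λ) A := hfin
  obtain ⟨g, hg, h⟩ := exists_ne_zero_cmAt_of_finite (MvPowerSeries (Fin n) D.Λ) A
  exact ⟨F g, fun h0 => hg (hinj (h0.trans (map_zero F).symm)), h⟩

end Groth.Agent.H15.GenericCM
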