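import Mathlib
import Groth.Prelude.Def_Hens2
import Groth.Agent.H3.PH15
import Groth.Agent.H87.ComplIso

/-! helper15: completion of a pair henselization; quotients of henselizations of finite type
algebras have the completion of a finite type algebra (S8801). -/

set_option autoImplicit false
universe u

namespace Groth.Agent.H15.HensAlg

open Groth.Agent.H3.PH

/-- The completion of a henselization of a pair is the completion of the pair (as algebras over a
base ring). -/
theorem compl_equiv (A B Bh : Type u) [CommRing A] [CommRing B] [CommRing Bh] [Algebra A B]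
    [Algebra B Bh] [Algebra A Bh] [IsScalarTower A B Bh] (I : Ideal A)
    (hBh : Hens2.IsPairHenselization B (I.map (algebraMap A B)) Bh) :
    Nonempty (AdicCompletion (I.map (algebraMap A B)) B ≃ₐ[A]
      AdicCompletion (I.map (algebraMap A Bh)) Bh) := by
  have hmap : (I.map (algebraMap A B)).map (algebraMap B Bh) = I.map (algebraMap A Bh) := by
    rw [Ideal.map_map, ← IsScalarTower.algebraMap_eq]
  have hpow : ∀ n : ℕ, ((I.map (algebraMap A B)) ^ n).map (algebraMap B Bh) =
      (I.map (algebraMap A Bh)) ^ n := by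
    intro n
    rw [Ideal.map_pow, hmap]
  let ν : B →ₐ[A] Bh := IsScalarTower.toAlgHom A B Bh
  have hν : ∀ b, ν b = algebraMap B Bh b := fun _ => rfl
  have hle : I.map (algebraMap A B) ≤ (I.map (algebraMap A Bh)).comap ν := by
    rw [← hmap]
    exact Ideal.le_comap_map
  have hbij := quotientMap_pow_bijective (I.map (algebraMap A B)) Bh hBh
  refine ⟨AlgEquiv.ofBijective _ (Groth.Agent.H87.ComplIso.hatMap_bijective
    (I.map (algebraMap A B)) (I.map (algebraMap A Bh)) ν hle ?_ ?_)⟩
  · intro n s
    obtain ⟨q, hq⟩ := (hbij n).2 (Ideal.Quotient.mk _ s)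
    obtain ⟨p, rfl⟩ := Ideal.Quotient.mk_surjective q
    refine ⟨p, ?_⟩
    rw [Ideal.quotientMap_mk, Ideal.Quotient.eq, hpow] at hq
    rw [hν, ← neg_sub]
    exact neg_mem hq
  · intro n p hp
    have h1 : Ideal.quotientMap (((I.map (algebraMap A B)) ^ n).map (algebraMap B Bh))
        (algebraMap B Bh) Ideal.le_comap_map (Ideal.Quotient.mk _ p) = 0 := by
      rw [Ideal.quotientMap_mk, Ideal.Quotient.eq_zero_iff_mem, hpow]
      exact hp
    have h2 := (hbij n).1 (h1.trans (map_zero _).symm)
    exact Ideal.Quotient.eq_zero_iff_mem.mp h2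

theorem main (A : Type u) [CommRing A] [IsNoetherianRing A] (I : Ideal A) (C : Type u)
    [CommRing C] [Algebra A C] [Algebra.FiniteType A C] (Ch : Type u) [CommRing Ch] [Algebra C Ch]
    [Algebra A Ch] [IsScalarTower A C Ch]
    (hCh : Hens2.IsPairHenselization C (I.map (algebraMap A C)) Ch) (J : Ideal Ch) :
    ∃ (B : Type u) (_ : CommRing B) (_ : Algebra A B), Algebra.FiniteType A B ∧
      Nonempty (AdicCompletion (I.map (algebraMap A B)) B ≃ₐ[A]
        AdicCompletion (I.map (algebraMap A (Ch ⧸ J))) (Ch ⧸ J)) := by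
  classical
  haveI : IsNoetherianRing C := Algebra.FiniteType.isNoetherianRing A C
  haveI : IsNoetherianRing Ch := isNoetherianRing_of_isPairHenselization _ Ch hCh
  obtain ⟨T, hT⟩ := (IsNoetherian.noetherian J : J.FG)
  obtain ⟨C', _, _, hEt, hq, φ', hφ'⟩ := exists_nbhd_rep_finset _ Ch hCh T
  have hy : ∀ x : T, ∃ y : C', φ' y = x := fun x => hφ' x.1 x.2
  choose y hy using hy
  letI : Algebra C' Ch := φ'.toRingHom.toAlgebra
  haveI : IsScalarTower C C' Ch := IsScalarTower.of_algebraMap_eq (fun c => (φ'.commutes c).symm)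
  have hJ : (Ideal.span (Set.range y)).map (algebraMap C' Ch) = J := by
    rw [Ideal.map_span, ← hT]
    congr 1
    ext x
    constructor
    · rintro ⟨_, ⟨t, rfl⟩, rfl⟩
      show φ' (y t) ∈ _
      rw [hy]
      exact t.2
    · intro hx
      exact ⟨y ⟨x, hx⟩, ⟨_, rfl⟩, hy ⟨x, hx⟩⟩
  subst hJ
  have h1 := isPairHenselization_of_nbhd _ Ch hCh C' hq
  have h2 := isPairHenselization_quotient _ Ch h1 (Ideal.span (Set.range y))
  letI : Algebra A C' := ((algebraMap C C').comp (algebraMap A C)).toAlgebra
  haveI : IsScalarTower A C C' := IsScalarTower.of_algebraMap_eq (fun _ => rfl)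
  haveI : IsScalarTower A C' Ch := IsScalarTower.of_algebraMap_eq (fun a => by
    show algebraMap A Ch a = algebraMap C' Ch (algebraMap C C' (algebraMap A C a))
    rw [← IsScalarTower.algebraMap_apply C C' Ch, ← IsScalarTower.algebraMap_apply A C Ch])
  haveI : IsScalarTower A (C' ⧸ Ideal.span (Set.range y))
      (Ch ⧸ (Ideal.span (Set.range y)).map (algebraMap C' Ch)) :=
    IsScalarTower.of_algebraMap_eq (fun a => by
      show Ideal.Quotient.mk _ (algebraMap A Ch a) =
        algebraMap (C' ⧸ Ideal.span (Set.range y)) _ (Ideal.Quotient.mk _ (algebraMap A C' a))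
      rw [Ideal.Quotient.algebraMap_quotient_map_quotient, ← IsScalarTower.algebraMap_apply A C' Ch])
  haveI : Algebra.FinitePresentation C C' := hEt.finitePresentation
  haveI : Algebra.FiniteType C C' := inferInstance
  haveI : Algebra.FiniteType A C' := Algebra.FiniteType.trans (S := C) inferInstance inferInstance
  refine ⟨C' ⧸ Ideal.span (Set.range y), inferInstance, inferInstance, inferInstance, ?_⟩
  have hK : ((I.map (algebraMap A C)).map (algebraMap C C')).map
      (Ideal.Quotient.mk (Ideal.span (Set.range y))) =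
      I.map (algebraMap A (C' ⧸ Ideal.span (Set.range y))) := by
    rw [Ideal.map_map, Ideal.map_map]
    rfl
  rw [hK] at h2
  exact compl_equiv A (C' ⧸ Ideal.span (Set.range y)) _ I h2

end Groth.Agent.H15.HensAlg
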