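import Mathlib
import Groth.Prelude.Def_FlatCA
set_option autoImplicit false
universe u
open CategoryTheory AlgebraicGeometry

namespace Groth.Agent.H15.NilLim_P3

variable {A : Type u} [CommRing A] {A' : ℕ → Type u} [∀ n, CommRing (A' n)]
  {φ : ∀ n, A' (n + 1) →+* A' n} {π : ∀ n, A →+* A' n}

/-- `comap` of a surjective ring map with nil kernel is surjective on prime spectra. -/
theorem comap_surjective_of_nil {B C : Type u} [CommRing B] [CommRing C] (f : B →+* C)
    (hf : Function.Surjective f) (hnil : ∀ x ∈ RingHom.ker f, IsNilpotent x) :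
    Function.Surjective (PrimeSpectrum.comap f) := by
  intro p
  have hker : RingHom.ker f ≤ p.asIdeal := by
    intro x hx
    obtain ⟨n, hn⟩ := hnil x hx
    exact p.isPrime.mem_of_pow_mem n (by rw [hn]; exact Ideal.zero_mem _)
  have hprime : (Ideal.map f p.asIdeal).IsPrime := Ideal.map_isPrime_of_surjective hf hker
  refine ⟨⟨Ideal.map f p.asIdeal, hprime⟩, ?_⟩
  ext1
  show Ideal.comap f (Ideal.map f p.asIdeal) = p.asIdeal
  rw [Ideal.comap_map_of_surjective f hf]
  exact sup_eq_left.mpr (by simpa [RingHom.ker] using hker)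

theorem exists_psi (hlim : FlatCA.IsRingLimit A A' φ π)
    (hsurj : ∀ n, Function.Surjective (φ n)) (hnil : ∀ n, ∀ x ∈ RingHom.ker (φ n), IsNilpotent x)
    (n : ℕ) :
    ∃ ψ : A' n →+* A' 0, ψ.comp (π n) = π 0 ∧ Function.Surjective (PrimeSpectrum.comap ψ) := by
  induction n with
  | zero =>
    refine ⟨RingHom.id _, by simp, ?_⟩
    intro p
    exact ⟨p, by ext1; rfl⟩
  | succ n ih =>
    obtain ⟨ψ, hψ, hs⟩ := ih
    refine ⟨ψ.comp (φ n), ?_, ?_⟩
    · rw [RingHom.comp_assoc, hlim.1 n, hψ]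
    · have h1 := comap_surjective_of_nil (φ n) (hsurj n) (hnil n)
      intro p
      obtain ⟨q, hq⟩ := h1 p
      obtain ⟨r, hr⟩ := hs q
      refine ⟨r, ?_⟩
      rw [← hq, ← hr]
      rfl

end Groth.Agent.H15.NilLim_P3
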