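import Mathlib
import Groth.Prelude.Def_Found
import Groth.Agent.H15.NodeApx3

/-! helper15: the node approximation statement (S19894 / S13208) assuming Popescu (S0595). -/

set_option autoImplicit false
universe u
open IsLocalRing

namespace Groth.Agent.H15.NodeApx

open Groth.Agent.H75.ArtinApprox (Popescu)

open MvPowerSeries in
theorem main (hP : Popescu.{u})
    (R : Type u) [CommRing R] [IsNoetherianRing R] [HenselianLocalRing R]
    (hG : CAlg.IsGRing R)
    [IsDomain (AdicCompletion (maximalIdeal R) R)]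
    [UniqueFactorizationMonoid (AdicCompletion (maximalIdeal R) R)]
    (Δ t₁ t₂ : R) (hΔ : Δ ≠ 0) (ht₁ : t₁ ∈ maximalIdeal R) (ht₂ : t₂ ∈ maximalIdeal R)
    (ht : t₁ * t₂ = Δ)
    (C : Type u) [CommRing C] [IsLocalRing C] [Algebra R C]
    [Algebra.EssFiniteType R C]
    (ψ : AdicCompletion (maximalIdeal C) C ≃+*
      (MvPowerSeries (Fin 2) (AdicCompletion (maximalIdeal R) R) ⧸
        Ideal.span {(X 0 * X 1 - MvPowerSeries.C (algebraMap R (AdicCompletion (maximalIdeal R) R) Δ) :
          MvPowerSeries (Fin 2) (AdicCompletion (maximalIdeal R) R))}))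
    (hψ : ψ.toRingHom.comp ((algebraMap C (AdicCompletion (maximalIdeal C) C)).comp (algebraMap R C)) =
      (Ideal.Quotient.mk _).comp ((MvPowerSeries.C : AdicCompletion (maximalIdeal R) R →+*
        MvPowerSeries (Fin 2) (AdicCompletion (maximalIdeal R) R)).comp
          (algebraMap R (AdicCompletion (maximalIdeal R) R)))) :
    ∃ (g : C →ₐ[R] R) (ĝ : AdicCompletion (maximalIdeal C) C →+* AdicCompletion (maximalIdeal R) R),
      ĝ.comp (algebraMap C (AdicCompletion (maximalIdeal C) C)) =
        (algebraMap R (AdicCompletion (maximalIdeal R) R)).comp g.toRingHom ∧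
      Ideal.span {ĝ (ψ.symm (Ideal.Quotient.mk _ (X 0)))} =
        Ideal.span {algebraMap R (AdicCompletion (maximalIdeal R) R) t₁} ∧
      Ideal.span {ĝ (ψ.symm (Ideal.Quotient.mk _ (X 1)))} =
        Ideal.span {algebraMap R (AdicCompletion (maximalIdeal R) R) t₂} := by
  classical
  haveI : IsNoetherianRing C := Algebra.EssFiniteType.isNoetherianRing R C
  haveI : IsNoetherianRing (AdicCompletion (maximalIdeal R) R) :=
    Groth.Agent.Lead.isNoetherianRing_adicCompletion _ (IsNoetherian.noetherian _)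
  have hreg := Groth.Agent.H34.HensGRing.isRegularHom_cpl_of_isGRing R hG
  have hmax : maximalIdeal (AdicCompletion (maximalIdeal R) R) =
      (maximalIdeal R).map (algebraMap R (AdicCompletion (maximalIdeal R) R)) :=
    AdicCompletion.maximalIdeal_eq_map
  -- the evaluation at (t₁, t₂)
  obtain ⟨ev, hevX, hevC⟩ := exists_eval (AdicCompletion (maximalIdeal R) R)
    (fun i : Fin 2 => if i = 0 then algebraMap R (AdicCompletion (maximalIdeal R) R) t₁
      else algebraMap R (AdicCompletion (maximalIdeal R) R) t₂) (by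
      intro i
      rw [hmax]
      split_ifs
      · exact Ideal.mem_map_of_mem _ ht₁
      · exact Ideal.mem_map_of_mem _ ht₂)
  have hev0 : ev (X 0) = algebraMap R (AdicCompletion (maximalIdeal R) R) t₁ := by
    rw [hevX]; simp
  have hev1 : ev (X 1) = algebraMap R (AdicCompletion (maximalIdeal R) R) t₂ := by
    rw [hevX]; simp
  have hJd : ∀ x ∈ Ideal.span {(X 0 * X 1 - MvPowerSeries.C
      (algebraMap R (AdicCompletion (maximalIdeal R) R) Δ) :
        MvPowerSeries (Fin 2) (AdicCompletion (maximalIdeal R) R))}, ev x = 0 := by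
    have hle : Ideal.span {(X 0 * X 1 - MvPowerSeries.C
        (algebraMap R (AdicCompletion (maximalIdeal R) R) Δ) :
          MvPowerSeries (Fin 2) (AdicCompletion (maximalIdeal R) R))} ≤ RingHom.ker ev := by
      rw [Ideal.span_le, Set.singleton_subset_iff]
      show ev _ = 0
      rw [map_sub, map_mul, hev0, hev1, hevC, ← map_mul, ht]
      exact sub_self _
    exact fun x hx => hle hx
  let ĝ₀ : (MvPowerSeries (Fin 2) (AdicCompletion (maximalIdeal R) R) ⧸
      Ideal.span {(X 0 * X 1 - MvPowerSeries.C (algebraMap R (AdicCompletion (maximalIdeal R) R) Δ) :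
        MvPowerSeries (Fin 2) (AdicCompletion (maximalIdeal R) R))}) →+*
      AdicCompletion (maximalIdeal R) R := Ideal.Quotient.lift _ ev hJd
  have hĝ₀ : ∀ p, ĝ₀ (Ideal.Quotient.mk _ p) = ev p := fun p => Ideal.Quotient.lift_mk _ _ _
  let Φ : AdicCompletion (maximalIdeal C) C →+* AdicCompletion (maximalIdeal R) R :=
    ĝ₀.comp ψ.toRingHom
  have hΦdef : ∀ x, Φ x = ĝ₀ (ψ x) := fun _ => rfl
  have hψ' : ∀ r : R, ψ (algebraMap C (AdicCompletion (maximalIdeal C) C) (algebraMap R C r)) =
      Ideal.Quotient.mk _ (MvPowerSeries.C (algebraMap R (AdicCompletion (maximalIdeal R) R) r)) :=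
    fun r => congrArg (fun f => f r) hψ
  have hΦ : ∀ r : R, Φ (algebraMap C (AdicCompletion (maximalIdeal C) C) (algebraMap R C r)) =
      algebraMap R (AdicCompletion (maximalIdeal R) R) r := by
    intro r
    rw [hΦdef, hψ', hĝ₀, hevC]
  have hinj := algebraMap_injective R
  have hne : algebraMap R (AdicCompletion (maximalIdeal R) R) t₁ *
      algebraMap R (AdicCompletion (maximalIdeal R) R) t₂ ≠ 0 := by
    rw [← map_mul, ht]
    exact fun h => hΔ (hinj (h.trans (map_zero _).symm))
  obtain ⟨N, hN1, hN⟩ := exists_uniform (AdicCompletion (maximalIdeal R) R) _ _ hne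
  obtain ⟨g, ĝ, hĝC, hclose⟩ := core hP R hreg C Φ hΦ N hN1
  refine ⟨g, ĝ, RingHom.ext fun c => hĝC c, ?_⟩
  have hU : Φ (ψ.symm (Ideal.Quotient.mk _ (X 0))) =
      algebraMap R (AdicCompletion (maximalIdeal R) R) t₁ := by
    rw [hΦdef, ψ.apply_symm_apply, hĝ₀, hev0]
  have hV : Φ (ψ.symm (Ideal.Quotient.mk _ (X 1))) =
      algebraMap R (AdicCompletion (maximalIdeal R) R) t₂ := by
    rw [hΦdef, ψ.apply_symm_apply, hĝ₀, hev1]
  have hprod : ĝ (ψ.symm (Ideal.Quotient.mk _ (X 0))) * ĝ (ψ.symm (Ideal.Quotient.mk _ (X 1))) =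
      algebraMap R (AdicCompletion (maximalIdeal R) R) t₁ *
        algebraMap R (AdicCompletion (maximalIdeal R) R) t₂ := by
    rw [← map_mul, ← map_mul, ← map_mul]
    have h1 : Ideal.Quotient.mk (Ideal.span {(X 0 * X 1 - MvPowerSeries.C
        (algebraMap R (AdicCompletion (maximalIdeal R) R) Δ) :
          MvPowerSeries (Fin 2) (AdicCompletion (maximalIdeal R) R))}) (X 0 * X 1) =
        Ideal.Quotient.mk _ (MvPowerSeries.C (algebraMap R (AdicCompletion (maximalIdeal R) R) Δ)) :=
      Ideal.Quotient.eq.mpr (Ideal.subset_span rfl)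
    rw [h1]
    have h2 : ψ.symm (Ideal.Quotient.mk _ (MvPowerSeries.C
        (algebraMap R (AdicCompletion (maximalIdeal R) R) Δ))) =
        algebraMap C (AdicCompletion (maximalIdeal C) C) (algebraMap R C Δ) := by
      rw [RingEquiv.symm_apply_eq]
      exact (hψ' Δ).symm
    rw [h2, hĝC, g.commutes, ← map_mul, ht]
    rfl
  exact hN _ _ hprod (by rw [← hU]; exact hclose _) (by rw [← hV]; exact hclose _)

end Groth.Agent.H15.NodeApx
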