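import Mathlib

/-!
# Openness of the normal locus (helper15)

For a Noetherian domain `R` with fraction field `K`, `N p` says that every element of `K` integral
over `R` lies in `R_p`.  It is equivalent to `R_p` being integrally closed.  If some `f ≠ 0` has
all integral elements of `K` in `R_f`, then `{p | N p}` is the complement of the union of `V(q)`
over the associated primes `q` of `R/fR` at which `N` fails.
-/

set_option autoImplicit false
universe u

namespace Groth.Agent.H15.NorOpen

variable {R : Type u} [CommRing R] [IsDomain R]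

/-- every element of the fraction field integral over `R` lies in `R_p`. -/
def N (p : Ideal R) : Prop :=
  ∀ x : FractionRing R, IsIntegral R x → ∃ s : R, s ∉ p ∧ ∃ a : R,
    algebraMap R (FractionRing R) s * x = algebraMap R (FractionRing R) a

omit [IsDomain R] in
theorem N.mono {p q : Ideal R} (h : q ≤ p) (hp : N p) : N q := fun x hx => by
  obtain ⟨s, hs, a, ha⟩ := hp x hx
  exact ⟨s, fun hq => hs (h hq), a, ha⟩

theorem N_iff_isIntegrallyClosed (p : Ideal R) [p.IsPrime] :
    N p ↔ IsIntegrallyClosed (Localization.AtPrime p) := by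
  let K := FractionRing R
  let Rp := Localization.AtPrime p
  constructor
  · intro hN
    refine (isIntegrallyClosed_iff K).mpr ?_
    intro x hx
    obtain ⟨⟨m, hm⟩, hmx⟩ := IsIntegral.exists_multiple_integral_of_isLocalization p.primeCompl x hx
    rw [Submonoid.mk_smul, Algebra.smul_def] at hmx
    obtain ⟨s, hs, a, ha⟩ := hN _ hmx
    have hsm : s * m ∈ p.primeCompl := by
      intro h
      rcases (‹p.IsPrime›).mem_or_mem h with h | h
      · exact hs h
      · exact hm h
    refine ⟨IsLocalization.mk' Rp a ⟨s * m, hsm⟩, ?_⟩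
    have hne : algebraMap R K (s * m) ≠ 0 := by
      intro h0
      have : s * m = 0 := (IsFractionRing.injective R K) (by rw [h0, map_zero])
      apply hsm
      change s * m ∈ p
      rw [this]; exact zero_mem _
    apply mul_left_cancel₀ hne
    have e1 : algebraMap R K (s * m) * algebraMap Rp K (IsLocalization.mk' Rp a ⟨s * m, hsm⟩)
        = algebraMap R K a := by
      rw [IsScalarTower.algebraMap_apply R Rp K (s * m), ← map_mul,
        IsLocalization.mk'_spec'_mk, ← IsScalarTower.algebraMap_apply]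
    rw [e1, ← ha, map_mul, mul_assoc]
  · intro hic x hx
    have hx' : IsIntegral Rp x := hx.tower_top
    obtain ⟨y, hy⟩ := (isIntegrallyClosed_iff K).mp hic hx'
    obtain ⟨a, ⟨s, hs⟩, rfl⟩ := IsLocalization.exists_mk'_eq p.primeCompl y
    refine ⟨s, hs, a, ?_⟩
    rw [← hy, IsScalarTower.algebraMap_apply R Rp K s, ← map_mul,
      IsLocalization.mk'_spec'_mk, ← IsScalarTower.algebraMap_apply]

/-- associated primes below `p` containing a transporter ideal contained in `p`. -/
theorem exists_ass_le [IsNoetherianRing R] (f a : R) (p : Ideal R) [p.IsPrime]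
    (h : ∀ t, t * a ∈ Ideal.span ({f} : Set R) → t ∈ p) :
    ∃ Q ∈ associatedPrimes R (R ⧸ Ideal.span ({f} : Set R)), Q ≤ p ∧
      ∀ t, t * a ∈ Ideal.span ({f} : Set R) → t ∈ Q := by
  let I : Ideal R := Ideal.span ({f} : Set R)
  let J : Ideal R := Submodule.colon (I : Submodule R R) ({a} : Set R)
  have hJmem : ∀ t, t ∈ J ↔ t * a ∈ I := fun t => by
    change t ∈ Submodule.colon _ _ ↔ _
    rw [Submodule.mem_colon_singleton, smul_eq_mul]
  have hJp : J ≤ p := fun t ht => h t ((hJmem t).mp ht)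
  obtain ⟨Q, hQmin, hQp⟩ := Ideal.exists_minimalPrimes_le hJp
  have hQass : Q ∈ associatedPrimes R (R ⧸ J) := by
    apply Module.associatedPrimes.minimalPrimes_annihilator_subset_associatedPrimes R (R ⧸ J)
    rw [Ideal.annihilator_quotient]
    exact hQmin
  let φ0 : R →ₗ[R] (R ⧸ I) := LinearMap.toSpanSingleton R (R ⧸ I) (Ideal.Quotient.mk I a)
  have hker : ∀ t, φ0 t = 0 ↔ t ∈ J := fun t => by
    rw [hJmem]
    change t • (Ideal.Quotient.mk I a) = 0 ↔ _
    rw [← Ideal.Quotient.eq_zero_iff_mem, map_mul]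
    rfl
  have hle : J ≤ LinearMap.ker φ0 := fun t ht => by
    rw [LinearMap.mem_ker]; exact (hker t).mpr ht
  let φ : (R ⧸ J) →ₗ[R] (R ⧸ I) := Submodule.liftQ J φ0 hle
  have hinj : Function.Injective φ := by
    rw [← LinearMap.ker_eq_bot]
    apply Submodule.ker_liftQ_eq_bot
    intro t ht
    rw [LinearMap.mem_ker] at ht
    exact (hker t).mp ht
  refine ⟨Q, ?_, hQp, fun t ht => hQmin.1.2 ((hJmem t).mpr ht)⟩
  exact (AssociatedPrimes.mem_iff.mp hQass).map_of_injective φ hinj

variable [IsNoetherianRing R]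

/-- one step: if `f * y` is in `R_p` and `y` is integral, then `y` is in `R_p`, provided `N` holds at
the associated primes of `R/fR` below `p`. -/
theorem step {f : R} (hf : f ≠ 0) (p : Ideal R) [p.IsPrime]
    (hAss : ∀ Q ∈ associatedPrimes R (R ⧸ Ideal.span ({f} : Set R)), Q ≤ p → N Q)
    (y : FractionRing R) (hy : IsIntegral R y)
    (h : ∃ s : R, s ∉ p ∧ ∃ a : R, algebraMap R (FractionRing R) s *
      (algebraMap R (FractionRing R) f * y) = algebraMap R (FractionRing R) a) :
    ∃ t : R, t ∉ p ∧ ∃ b : R,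
      algebraMap R (FractionRing R) t * y = algebraMap R (FractionRing R) b := by
  let K := FractionRing R
  obtain ⟨s, hs, a, ha⟩ := h
  have hinj : Function.Injective (algebraMap R K) := IsFractionRing.injective R K
  have hfK : algebraMap R K f ≠ 0 := fun h0 => hf (hinj (by rw [h0, map_zero]))
  by_cases hJ : ∀ t, t * a ∈ Ideal.span ({f} : Set R) → t ∈ p
  · exfalso
    obtain ⟨Q, hQ, hQp, hJQ⟩ := exists_ass_le f a p hJ
    have hsy : IsIntegral R (algebraMap R K s * y) := IsIntegral.mul isIntegral_algebraMap hy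
    obtain ⟨t, ht, c, hc⟩ := hAss Q hQ hQp _ hsy
    apply ht
    apply hJQ
    rw [Ideal.mem_span_singleton']
    refine ⟨c, ?_⟩
    apply hinj
    rw [map_mul, map_mul, ← hc, ← ha]
    ring
  · push Not at hJ
    obtain ⟨t, hta, htp⟩ := hJ
    obtain ⟨c, hc⟩ := Ideal.mem_span_singleton'.mp hta
    refine ⟨t * s, fun h => ?_, c, ?_⟩
    · rcases (‹p.IsPrime›).mem_or_mem h with h | h
      · exact htp h
      · exact hs h
    · apply mul_left_cancel₀ hfK
      have : algebraMap R K (c * f) = algebraMap R K (t * a) := by rw [hc]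
      rw [map_mul, map_mul, ← ha] at this
      rw [map_mul, mul_comm (algebraMap R K f) (algebraMap R K c), this]
      ring

theorem N_of_ass {f : R} (hf : f ≠ 0)
    (H : ∀ x : FractionRing R, IsIntegral R x → ∃ n : ℕ, ∃ a : R,
      algebraMap R (FractionRing R) (f ^ n) * x = algebraMap R (FractionRing R) a)
    (p : Ideal R) [p.IsPrime]
    (hAss : ∀ Q ∈ associatedPrimes R (R ⧸ Ideal.span ({f} : Set R)), Q ≤ p → N Q) : N p := by
  let K := FractionRing R
  have key : ∀ n : ℕ, ∀ y : K, IsIntegral R y →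
      (∃ s : R, s ∉ p ∧ ∃ a : R, algebraMap R K s * (algebraMap R K (f ^ n) * y) = algebraMap R K a) →
      ∃ t : R, t ∉ p ∧ ∃ b : R, algebraMap R K t * y = algebraMap R K b := by
    intro n
    induction n with
    | zero =>
      intro y _ h
      simpa using h
    | succ n ih =>
      intro y hy h
      apply ih y hy
      have hy1 : IsIntegral R (algebraMap R K (f ^ n) * y) := IsIntegral.mul isIntegral_algebraMap hy
      apply step hf p hAss _ hy1
      obtain ⟨s, hs, a, ha⟩ := h
      refine ⟨s, hs, a, ?_⟩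
      rw [← ha, pow_succ, map_mul]
      ring
  intro x hx
  obtain ⟨n, a, ha⟩ := H x hx
  apply key n x hx
  exact ⟨1, fun h => (‹p.IsPrime›).ne_top ((Ideal.eq_top_iff_one _).mpr h), a, by rw [map_one, one_mul, ha]⟩

/-- The locus where `N` holds is open as soon as integral elements have denominators a power of
some fixed `f ≠ 0`. -/
theorem isOpen_setOf_N {f : R} (hf : f ≠ 0)
    (H : ∀ x : FractionRing R, IsIntegral R x → ∃ n : ℕ, ∃ a : R,
      algebraMap R (FractionRing R) (f ^ n) * x = algebraMap R (FractionRing R) a) :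
    IsOpen {p : PrimeSpectrum R | N p.asIdeal} := by
  let Ass := associatedPrimes R (R ⧸ Ideal.span ({f} : Set R))
  have hfin : Ass.Finite := associatedPrimes.finite R _
  let Bad : Set (Ideal R) := {Q | Q ∈ Ass ∧ ¬ N Q}
  have hBadfin : Bad.Finite := hfin.subset (fun Q hQ => hQ.1)
  have hclosed : IsClosed (⋃ Q ∈ Bad, PrimeSpectrum.zeroLocus (Q : Set R)) :=
    hBadfin.isClosed_biUnion (fun Q _ => PrimeSpectrum.isClosed_zeroLocus _)
  have heq : {p : PrimeSpectrum R | N p.asIdeal} =
      (⋃ Q ∈ Bad, PrimeSpectrum.zeroLocus (Q : Set R))ᶜ := by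
    ext p
    simp only [Set.mem_ofPred_eq, Set.mem_compl_iff, Set.mem_iUnion, PrimeSpectrum.mem_zeroLocus,
      SetLike.coe_subset_coe, not_exists]
    constructor
    · intro hN Q hQ hQp
      exact hQ.2 (hN.mono hQp)
    · intro h
      apply N_of_ass hf H p.asIdeal
      intro Q hQ hQp
      by_contra hNQ
      exact h Q ⟨hQ, hNQ⟩ hQp
  rw [heq]
  exact hclosed.isOpen_compl

/-- Denominators are powers of `f` when `R_f` is integrally closed. -/
theorem H_of_away (f : R) (hf : f ≠ 0) (hn : IsIntegrallyClosed (Localization.Away f)) :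
    ∀ x : FractionRing R, IsIntegral R x → ∃ n : ℕ, ∃ a : R,
      algebraMap R (FractionRing R) (f ^ n) * x = algebraMap R (FractionRing R) a := by
  let K := FractionRing R
  let S := Localization.Away f
  have hM : Submonoid.powers f ≤ nonZeroDivisors R :=
    powers_le_nonZeroDivisors_of_noZeroDivisors hf
  have hunit : IsUnit (algebraMap R K f) := by
    rw [isUnit_iff_ne_zero]
    intro h0
    exact hf ((IsFractionRing.injective R K) (by rw [h0, map_zero]))
  let g : S →+* K := IsLocalization.Away.lift f (g := algebraMap R K) hunit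
  let _ := g.toAlgebra
  have : IsScalarTower R S K := IsScalarTower.of_algebraMap_eq (fun r => by
    rw [RingHom.algebraMap_toAlgebra]
    exact (IsLocalization.Away.lift_eq f hunit r).symm)
  have := IsFractionRing.isFractionRing_of_isDomain_of_isLocalization (Submonoid.powers f) S K
  intro x hx
  have hx' : IsIntegral S x := hx.tower_top
  obtain ⟨y, hy⟩ := (isIntegrallyClosed_iff K).mp hn hx'
  obtain ⟨a, s, rfl⟩ := IsLocalization.exists_mk'_eq (Submonoid.powers f) y
  obtain ⟨n, hn'⟩ := s.2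
  have hn'' : f ^ n = (s : R) := hn'
  refine ⟨n, a, ?_⟩
  rw [hn'', ← hy, IsScalarTower.algebraMap_apply R S K (s : R), ← map_mul,
    IsLocalization.mk'_spec', ← IsScalarTower.algebraMap_apply]


section General

variable {A : Type u} [CommRing A]

/-- If `p₀ ≤ q` and every element of `p₀` is killed by something outside `q`, then the localization
of `A/p₀` at `q/p₀` is a localization of `A` at `q`. -/
theorem isLocalization_quotient (p₀ q : Ideal A) [q.IsPrime] (hle : p₀ ≤ q)
    (hkill : ∀ a ∈ p₀, ∃ t, t ∉ q ∧ t * a = 0) [(q.map (Ideal.Quotient.mk p₀)).IsPrime] :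
    IsLocalization q.primeCompl (Localization.AtPrime (q.map (Ideal.Quotient.mk p₀))) := by
  let D := A ⧸ p₀
  let qb := q.map (Ideal.Quotient.mk p₀)
  let L := Localization.AtPrime qb
  have hmem : ∀ s : A, Ideal.Quotient.mk p₀ s ∈ qb ↔ s ∈ q :=
    fun s => Ideal.mem_quotient_iff_mem hle
  have halg : ∀ a : A, algebraMap A L a = algebraMap D L (Ideal.Quotient.mk p₀ a) := fun a => by
    rw [IsScalarTower.algebraMap_apply A D L]; rfl
  rw [isLocalization_iff]
  refine ⟨?_, ?_, ?_⟩
  · rintro ⟨s, hs⟩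
    rw [halg]
    exact IsLocalization.map_units L
      (⟨Ideal.Quotient.mk p₀ s, fun h => hs ((hmem s).mp h)⟩ : qb.primeCompl)
  · intro z
    obtain ⟨⟨r, ⟨s, hs⟩⟩, h⟩ := IsLocalization.surj qb.primeCompl z
    obtain ⟨r', rfl⟩ := Ideal.Quotient.mk_surjective r
    obtain ⟨s', rfl⟩ := Ideal.Quotient.mk_surjective s
    refine ⟨(r', ⟨s', fun h' => hs ((hmem s').mpr h')⟩), ?_⟩
    simp only [halg]
    exact h
  · intro x y hxy
    rw [halg, halg] at hxy
    obtain ⟨⟨c, hc⟩, hcxy⟩ := IsLocalization.exists_of_eq (M := qb.primeCompl) (S := L) hxy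
    obtain ⟨c', rfl⟩ := Ideal.Quotient.mk_surjective c
    have hc' : c' ∉ q := fun h' => hc ((hmem c').mpr h')
    have hmem2 : c' * (x - y) ∈ p₀ := by
      rw [← Ideal.Quotient.eq_zero_iff_mem, map_mul, map_sub, mul_sub, sub_eq_zero]
      exact hcxy
    obtain ⟨t, ht, hta⟩ := hkill _ hmem2
    refine ⟨⟨t * c', ?_⟩, ?_⟩
    · intro h'
      rcases (‹q.IsPrime›).mem_or_mem h' with h' | h'
      · exact ht h'
      · exact hc' h'
    · change t * c' * x = t * c' * y
      linear_combination hta

/-- Normality of `A_q` read off on the domain `A/p₀`. -/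
theorem normal_iff_N (p₀ : Ideal A) [p₀.IsPrime] (q : Ideal A) [q.IsPrime] (hle : p₀ ≤ q)
    (hkill : ∀ a ∈ p₀, ∃ t, t ∉ q ∧ t * a = 0) [(q.map (Ideal.Quotient.mk p₀)).IsPrime] :
    (IsDomain (Localization.AtPrime q) ∧ IsIntegrallyClosed (Localization.AtPrime q)) ↔
      N (R := A ⧸ p₀) (q.map (Ideal.Quotient.mk p₀)) := by
  have := isLocalization_quotient p₀ q hle hkill
  let e : Localization.AtPrime q ≃+* Localization.AtPrime (q.map (Ideal.Quotient.mk p₀)) :=
    (IsLocalization.algEquiv q.primeCompl (Localization.AtPrime q)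
      (Localization.AtPrime (q.map (Ideal.Quotient.mk p₀)))).toRingEquiv
  rw [N_iff_isIntegrallyClosed]
  constructor
  · rintro ⟨_, hic⟩
    exact IsIntegrallyClosed.of_equiv e
  · intro hic
    have hdom : IsDomain (Localization.AtPrime (q.map (Ideal.Quotient.mk p₀))) :=
      IsLocalization.isDomain_localization
        (Ideal.primeCompl_le_nonZeroDivisors (q.map (Ideal.Quotient.mk p₀)))
    exact ⟨Function.Injective.isDomain e.toRingHom e.injective, IsIntegrallyClosed.of_equiv e.symm⟩

theorem isField_of_minimal_of_isDomain (p : Ideal A) [p.IsPrime] (hmin : p ∈ minimalPrimes A)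
    [IsDomain (Localization.AtPrime p)] : IsField (Localization.AtPrime p) := by
  let Ap := Localization.AtPrime p
  have hprime : ((⊥ : Ideal Ap).comap (algebraMap A Ap)).IsPrime :=
    Ideal.comap_isPrime _ _
  have hle : (⊥ : Ideal Ap).comap (algebraMap A Ap) ≤ p := by
    have h1 := Ideal.comap_mono (f := algebraMap A Ap)
      (bot_le : (⊥ : Ideal Ap) ≤ IsLocalRing.maximalIdeal Ap)
    have h2 : (IsLocalRing.maximalIdeal Ap).comap (algebraMap A Ap) = p := by
      have := IsLocalization.AtPrime.under_maximalIdeal Ap p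
      rwa [Ideal.under_def] at this
    rwa [h2] at h1
  have hge : p ≤ (⊥ : Ideal Ap).comap (algebraMap A Ap) := hmin.2 ⟨hprime, bot_le⟩ hle
  rw [IsLocalRing.isField_iff_maximalIdeal_eq, ← IsLocalization.AtPrime.map_eq_maximalIdeal p Ap,
    eq_bot_iff, Ideal.map_le_iff_le_comap]
  exact hge

theorem normal_of_isField {B : Type u} [CommRing B] (h : IsField B) :
    IsDomain B ∧ IsIntegrallyClosed B := by
  let _ := h.toField
  exact ⟨inferInstance, inferInstance⟩

/-- The normal locus of a Noetherian ring is open as soon as every minimal prime in the normal locus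
has a neighbourhood in the normal locus. -/
theorem isOpen_norLocus_of_generic [IsNoetherianRing A]
    (h : ∀ p : PrimeSpectrum A, p.asIdeal ∈ minimalPrimes A →
      (IsDomain (Localization.AtPrime p.asIdeal) ∧
        IsIntegrallyClosed (Localization.AtPrime p.asIdeal)) →
      ∃ U : Set (PrimeSpectrum A), IsOpen U ∧ p ∈ U ∧ ∀ q ∈ U,
        (IsDomain (Localization.AtPrime q.asIdeal) ∧
          IsIntegrallyClosed (Localization.AtPrime q.asIdeal))) :
    IsOpen {p : PrimeSpectrum A | IsDomain (Localization.AtPrime p.asIdeal) ∧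
      IsIntegrallyClosed (Localization.AtPrime p.asIdeal)} := by
  rw [isOpen_iff_forall_mem_open]
  intro x hx
  let Ax := Localization.AtPrime x.asIdeal
  have hdomx : IsDomain Ax := hx.1
  let p₀ : Ideal A := RingHom.ker (algebraMap A Ax)
  have hp₀prime : p₀.IsPrime := RingHom.ker_isPrime _
  -- elements of p₀ are killed outside x
  have hkillx : ∀ a ∈ p₀, ∃ t, t ∉ x.asIdeal ∧ t * a = 0 := by
    intro a ha
    have h0 : algebraMap A Ax a = 0 := ha
    obtain ⟨⟨t, ht⟩, hta⟩ := (IsLocalization.map_eq_zero_iff x.asIdeal.primeCompl Ax a).mp h0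
    exact ⟨t, ht, hta⟩
  have hp₀x : p₀ ≤ x.asIdeal := by
    intro a ha
    obtain ⟨t, ht, hta⟩ := hkillx a ha
    have : t * a ∈ x.asIdeal := by rw [hta]; exact zero_mem _
    exact (x.isPrime.mem_or_mem this).resolve_left ht
  -- a single element g outside x killing p₀
  obtain ⟨g, hgx, hgkill⟩ : ∃ g, g ∉ x.asIdeal ∧ ∀ a ∈ p₀, g * a = 0 := by
    classical
    obtain ⟨S, hS⟩ := (isNoetherianRing_iff_ideal_fg A).mp ‹_› p₀
    choose! t ht hta using hkillx
    refine ⟨∏ a ∈ S, t a, ?_, ?_⟩
    · intro hmem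
      obtain ⟨a, haS, hat⟩ := (Ideal.IsPrime.prod_mem_iff (hp := x.isPrime)).mp hmem
      exact ht a (hS ▸ Ideal.subset_span haS) hat
    · intro a ha
      rw [← hS] at ha
      refine Submodule.span_induction ?_ ?_ ?_ ?_ ha
      · intro b hb
        have hbp : b ∈ p₀ := hS ▸ Ideal.subset_span hb
        rw [← Finset.prod_erase_mul S t hb, mul_assoc, hta b hbp, mul_zero]
      · exact mul_zero _
      · intro b c _ _ hb hc
        rw [mul_add, hb, hc, add_zero]
      · intro r b _ hb
        rw [smul_eq_mul, mul_left_comm, hb, mul_zero]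
  have hgp₀ : g ∉ p₀ := fun h' => hgx (hp₀x h')
  -- p₀ is a minimal prime
  have hp₀min : p₀ ∈ minimalPrimes A := by
    refine ⟨⟨hp₀prime, bot_le⟩, ?_⟩
    rintro P ⟨hP, -⟩ hPle a ha
    have : g * a ∈ P := by rw [hgkill a ha]; exact zero_mem _
    exact (hP.mem_or_mem this).resolve_left (fun hgP => hgp₀ (hPle hgP))
  -- A_{p₀} is a field
  have hfield : IsField (Localization.AtPrime p₀) := by
    rw [IsLocalRing.isField_iff_maximalIdeal_eq,
      ← IsLocalization.AtPrime.map_eq_maximalIdeal p₀ (Localization.AtPrime p₀),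
      eq_bot_iff, Ideal.map_le_iff_le_comap]
    intro a ha
    rw [Ideal.mem_comap, Ideal.mem_bot]
    exact (IsLocalization.map_eq_zero_iff p₀.primeCompl (Localization.AtPrime p₀) a).mpr
      ⟨⟨g, hgp₀⟩, hgkill a ha⟩
  obtain ⟨U, hUopen, hp₀U, hUnor⟩ := h ⟨p₀, hp₀prime⟩ hp₀min (normal_of_isField hfield)
  obtain ⟨_, ⟨f, rfl⟩, hp₀f, hfU⟩ :=
    PrimeSpectrum.isTopologicalBasis_basic_opens.exists_subset_of_mem_open hp₀U hUopen
  have hfp₀ : f ∉ p₀ := hp₀f
  -- the domain D = A / p₀
  let D := A ⧸ p₀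
  let π : A →+* D := Ideal.Quotient.mk p₀
  have hfg : π (f * g) ≠ 0 := by
    intro h0
    rcases hp₀prime.mem_or_mem (Ideal.Quotient.eq_zero_iff_mem.mp h0) with h' | h'
    · exact hfp₀ h'
    · exact hgp₀ h'
  -- normality of A_q for q in D(g), read on D
  have hkillq : ∀ q : Ideal A, g ∉ q → q.IsPrime → ∀ a ∈ p₀, ∃ t, t ∉ q ∧ t * a = 0 :=
    fun q hgq _ a ha => ⟨g, hgq, hgkill a ha⟩
  have hleq : ∀ q : Ideal A, g ∉ q → q.IsPrime → p₀ ≤ q := by
    intro q hgq hq a ha
    have : g * a ∈ q := by rw [hgkill a ha]; exact zero_mem _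
    exact (hq.mem_or_mem this).resolve_left hgq
  -- denominators of integral elements are powers of fg
  have H : ∀ y : FractionRing D, IsIntegral D y → ∃ n : ℕ, ∃ a : D,
      algebraMap D (FractionRing D) (π (f * g) ^ n) * y = algebraMap D (FractionRing D) a := by
    intro y hy
    let 𝔞 : Ideal D :=
      { carrier := {d | ∃ a : D, algebraMap D (FractionRing D) d * y = algebraMap D (FractionRing D) a}
        add_mem' := by
          rintro d₁ d₂ ⟨a₁, h₁⟩ ⟨a₂, h₂⟩
          exact ⟨a₁ + a₂, by rw [map_add, map_add, add_mul, h₁, h₂]⟩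
        zero_mem' := ⟨0, by rw [map_zero, zero_mul]⟩
        smul_mem' := by
          rintro c d ⟨a, h₁⟩
          exact ⟨c * a, by rw [smul_eq_mul, map_mul, map_mul, mul_assoc, h₁]⟩ }
    have hrad : π (f * g) ∈ 𝔞.radical := by
      rw [Ideal.radical_eq_sInf, Ideal.mem_sInf]
      rintro Qb ⟨h𝔞Q, hQb⟩
      by_contra hfgQ
      let Q : Ideal A := Qb.comap π
      have hQ : Q.IsPrime := Ideal.comap_isPrime _ _
      have hQmap : Q.map π = Qb := Ideal.map_comap_of_surjective π Ideal.Quotient.mk_surjective Qb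
      have hfgQ' : f * g ∉ Q := hfgQ
      have hfQ : f ∉ Q := fun h' => hfgQ' (Q.mul_mem_right g h')
      have hgQ : g ∉ Q := fun h' => hfgQ' (Q.mul_mem_left f h')
      have hnorQ := hUnor ⟨Q, hQ⟩ (hfU hfQ)
      have hQbprime : (Q.map π).IsPrime := hQmap ▸ hQb
      have hN := (normal_iff_N p₀ Q (hleq Q hgQ hQ) (hkillq Q hgQ hQ)).mp hnorQ
      obtain ⟨s, hs, a, ha⟩ := hN y hy
      apply hs
      rw [hQmap]
      exact h𝔞Q ⟨a, ha⟩
    obtain ⟨n, a, ha⟩ := hrad
    exact ⟨n, a, ha⟩
  have hopen := isOpen_setOf_N hfg H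
  -- x̄ lies in the open set
  have hxbprime : (x.asIdeal.map π).IsPrime := Ideal.isPrime_map_quotientMk_of_isPrime hp₀x
  have hxN : N (x.asIdeal.map π) := (normal_iff_N p₀ x.asIdeal hp₀x hkillx).mp hx
  obtain ⟨_, ⟨hb, rfl⟩, hxhb, hhbN⟩ :=
    PrimeSpectrum.isTopologicalBasis_basic_opens.exists_subset_of_mem_open
      (a := (⟨x.asIdeal.map π, hxbprime⟩ : PrimeSpectrum D)) hxN hopen
  obtain ⟨h', rfl⟩ := Ideal.Quotient.mk_surjective hb
  have hh'x : h' ∉ x.asIdeal := fun hm => hxhb ((Ideal.mem_quotient_iff_mem hp₀x).mpr hm)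
  refine ⟨(PrimeSpectrum.basicOpen (g * h') : Set (PrimeSpectrum A)), ?_,
    (PrimeSpectrum.basicOpen (g * h')).isOpen, ?_⟩
  · intro q hq
    have hq' : g * h' ∉ q.asIdeal := hq
    have hgq : g ∉ q.asIdeal := fun hm => hq' (q.asIdeal.mul_mem_right h' hm)
    have hhq : h' ∉ q.asIdeal := fun hm => hq' (q.asIdeal.mul_mem_left g hm)
    have hle := hleq q.asIdeal hgq q.isPrime
    have hqbprime : (q.asIdeal.map π).IsPrime := Ideal.isPrime_map_quotientMk_of_isPrime hle
    refine (normal_iff_N p₀ q.asIdeal hle (hkillq q.asIdeal hgq q.isPrime)).mpr ?_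
    have : (⟨q.asIdeal.map π, hqbprime⟩ : PrimeSpectrum D) ∈
        (PrimeSpectrum.basicOpen (π h') : Set (PrimeSpectrum D)) :=
      fun hm => hhq ((Ideal.mem_quotient_iff_mem hle).mp hm)
    exact hhbN this
  · change g * h' ∉ x.asIdeal
    intro hm
    rcases x.isPrime.mem_or_mem hm with hm | hm
    · exact hgx hm
    · exact hh'x hm

end General

end Groth.Agent.H15.NorOpen
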