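import Mathlib.RingTheory.Length
import Mathlib.RingTheory.KrullDimension.NonZeroDivisors
import Mathlib.RingTheory.HopkinsLevitzki
import Mathlib.Algebra.Module.Torsion.Basic
import Mathlib.RingTheory.QuotSMulTop
import Mathlib.RingTheory.Ideal.Quotient.Noetherian
import Mathlib.Algebra.Module.SnakeLemma

set_option autoImplicit false
universe u v

namespace Groth.Agent.H15

open scoped Pointwise

theorem withBot_le_zero_of_add_one_le_one (x : WithBot ℕ∞) (h : x + 1 ≤ 1) : x ≤ 0 := by
  induction x using WithBot.recBotCoe with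
  | bot => exact bot_le
  | coe n =>
    have h' : ((n + 1 : ℕ∞) : WithBot ℕ∞) ≤ ((1 : ℕ∞) : WithBot ℕ∞) := by exact_mod_cast h
    rw [WithBot.coe_le_coe] at h'
    have : n ≤ 0 := by
      induction n using ENat.recTopCoe with
      | top => simp at h'
      | coe m =>
        have : (m : ℕ∞) + 1 ≤ 1 := h'
        have : m + 1 ≤ 1 := by exact_mod_cast this
        have : m = 0 := by omega
        simp [this]
    exact_mod_cast this

/-- A finite module over a Noetherian ring of dimension at most one which is killed by a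
non-zero-divisor has finite length. -/
theorem length_lt_top_of_isTorsionBy (A : Type u) [CommRing A] [IsNoetherianRing A]
    (hdim : ringKrullDim A ≤ 1) (s : A) (hs : s ∈ nonZeroDivisors A)
    (X : Type v) [AddCommGroup X] [Module A X] [Module.Finite A X]
    (hX : Module.IsTorsionBy A X s) : Module.length A X < ⊤ := by
  let _ := hX.module
  have hB : Ring.KrullDimLE 0 (A ⧸ Ideal.span {s}) := by
    rw [Ring.krullDimLE_iff]
    have h1 := ringKrullDim_quotient_succ_le_of_nonZeroDivisor hs
    exact withBot_le_zero_of_add_one_le_one _ (h1.trans hdim)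
  have : IsArtinianRing (A ⧸ Ideal.span {s}) := IsNoetherianRing.isArtinianRing_of_krullDimLE_zero
  have : Module.Finite (A ⧸ Ideal.span {s}) X := Module.Finite.of_restrictScalars_finite A _ X
  rw [Module.length_eq_of_surjective (R := A ⧸ Ideal.span {s}) (S := A) Ideal.Quotient.mk_surjective]
  exact lt_top_iff_ne_top.mpr Module.length_ne_top

section Exact

variable {A : Type*} [CommRing A]

theorem length_eq_ker_add_range {X Y : Type*} [AddCommGroup X] [Module A X] [AddCommGroup Y]
    [Module A Y] (f : X →ₗ[A] Y) :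
    Module.length A X = Module.length A (LinearMap.ker f) + Module.length A (LinearMap.range f) := by
  refine Module.length_eq_add_of_exact (LinearMap.ker f).subtype f.rangeRestrict
    (Submodule.injective_subtype _) f.surjective_rangeRestrict ?_
  intro x
  constructor
  · intro hx
    refine ⟨⟨x, ?_⟩, rfl⟩
    rw [LinearMap.mem_ker]
    exact congrArg Subtype.val hx
  · rintro ⟨y, rfl⟩
    apply Subtype.ext
    exact y.2

theorem length_ker_eq_of_exact {X Y Z : Type*} [AddCommGroup X] [Module A X] [AddCommGroup Y]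
    [Module A Y] [AddCommGroup Z] [Module A Z] {f : X →ₗ[A] Y} {g : Y →ₗ[A] Z}
    (h : Function.Exact f g) :
    Module.length A (LinearMap.ker g) = Module.length A (LinearMap.range f) := by
  rw [h.linearMap_ker_eq]

/-- Lengths along a six-term exact sequence. -/
theorem length_six_term {X₁ X₂ X₃ X₄ X₅ X₆ : Type*}
    [AddCommGroup X₁] [Module A X₁] [AddCommGroup X₂] [Module A X₂] [AddCommGroup X₃] [Module A X₃]
    [AddCommGroup X₄] [Module A X₄] [AddCommGroup X₅] [Module A X₅] [AddCommGroup X₆] [Module A X₆]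
    (f₁ : X₁ →ₗ[A] X₂) (f₂ : X₂ →ₗ[A] X₃) (f₃ : X₃ →ₗ[A] X₄) (f₄ : X₄ →ₗ[A] X₅) (f₅ : X₅ →ₗ[A] X₆)
    (h₁ : Function.Injective f₁) (h₁₂ : Function.Exact f₁ f₂) (h₂₃ : Function.Exact f₂ f₃)
    (h₃₄ : Function.Exact f₃ f₄) (h₄₅ : Function.Exact f₄ f₅) (h₅ : Function.Surjective f₅) :
    Module.length A X₁ + Module.length A X₃ + Module.length A X₅ =
      Module.length A X₂ + Module.length A X₄ + Module.length A X₆ := by
  have e₁ := length_eq_ker_add_range f₁
  have e₂ := length_eq_ker_add_range f₂
  have e₃ := length_eq_ker_add_range f₃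
  have e₄ := length_eq_ker_add_range f₄
  have e₅ := length_eq_ker_add_range f₅
  rw [length_ker_eq_of_exact h₁₂] at e₂
  rw [length_ker_eq_of_exact h₂₃] at e₃
  rw [length_ker_eq_of_exact h₃₄] at e₄
  rw [length_ker_eq_of_exact h₄₅] at e₅
  have k₁ : Module.length A (LinearMap.ker f₁) = 0 := by
    rw [LinearMap.ker_eq_bot.mpr h₁]; exact Module.length_bot
  have r₅ : Module.length A (LinearMap.range f₅) = Module.length A X₆ := by
    rw [LinearMap.range_eq_top.mpr h₅]; exact Module.length_top
  rw [k₁, zero_add] at e₁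
  rw [r₅] at e₅
  rw [e₁, e₂, e₃, e₄, e₅]
  ring

end Exact

section Snake

variable {A : Type u} [CommRing A] (t : A)
variable {M' M M'' : Type*} [AddCommGroup M'] [Module A M'] [AddCommGroup M] [Module A M]
  [AddCommGroup M''] [Module A M'']

/-- the kernel of multiplication by `t` -/
abbrev kerT (X : Type*) [AddCommGroup X] [Module A X] : Submodule A X :=
  LinearMap.ker (t • (LinearMap.id : X →ₗ[A] X))

theorem exact_smul_mkQ (X : Type*) [AddCommGroup X] [Module A X] :
    Function.Exact (t • (LinearMap.id : X →ₗ[A] X)) (Submodule.mkQ (t • ⊤ : Submodule A X)) := by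
  intro x
  rw [Submodule.mkQ_apply, Submodule.Quotient.mk_eq_zero, Submodule.mem_smul_pointwise_iff_exists]
  constructor
  · rintro ⟨y, -, rfl⟩
    exact ⟨y, rfl⟩
  · rintro ⟨y, rfl⟩
    exact ⟨y, trivial, rfl⟩

/-- restriction of a linear map to the kernels of multiplication by `t`. -/
def kerMap {X Y : Type*} [AddCommGroup X] [Module A X] [AddCommGroup Y] [Module A Y]
    (f : X →ₗ[A] Y) : kerT t X →ₗ[A] kerT t Y :=
  (f.comp (kerT t X).subtype).codRestrict (kerT t Y) (by
    intro x
    have hx : t • (x : X) = 0 := LinearMap.mem_ker.mp x.2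
    simp only [LinearMap.mem_ker, LinearMap.smul_apply, LinearMap.id_coe, id_eq, LinearMap.coe_comp,
      Submodule.coe_subtype, Function.comp_apply]
    rw [← map_smul, hx, map_zero])

@[simp] theorem kerMap_coe {X Y : Type*} [AddCommGroup X] [Module A X] [AddCommGroup Y] [Module A Y]
    (f : X →ₗ[A] Y) (x : kerT t X) : ((kerMap t f x : kerT t Y) : Y) = f x := rfl

/-- Additivity of the defect of multiplication by `t` along a short exact sequence, in `ℕ∞`. -/
theorem length_snake (i : M' →ₗ[A] M) (p : M →ₗ[A] M'')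
    (hi : Function.Injective i) (hp : Function.Surjective p) (hex : Function.Exact i p) :
    Module.length A (kerT t M') + Module.length A (kerT t M'') + Module.length A (QuotSMulTop t M) =
      Module.length A (kerT t M) + Module.length A (QuotSMulTop t M') +
        Module.length A (QuotSMulTop t M'') := by
  have h₁ : i.comp (t • (LinearMap.id : M' →ₗ[A] M')) = (t • (LinearMap.id : M →ₗ[A] M)).comp i := by
    ext x; simp
  have h₂ : p.comp (t • (LinearMap.id : M →ₗ[A] M)) = (t • (LinearMap.id : M'' →ₗ[A] M'')).comp p := by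
    ext x; simp
  let δ := SnakeLemma.δ' (t • (LinearMap.id : M' →ₗ[A] M')) (t • (LinearMap.id : M →ₗ[A] M))
    (t • (LinearMap.id : M'' →ₗ[A] M'')) i p hex i p hex h₁ h₂
    (kerT t M'').subtype (LinearMap.exact_subtype_ker_map _)
    (Submodule.mkQ (t • ⊤ : Submodule A M')) (exact_smul_mkQ t M') hp hi
  have hFδ : Function.Exact (kerMap t p) δ :=
    SnakeLemma.exact_δ'_right (t • (LinearMap.id : M' →ₗ[A] M')) (t • (LinearMap.id : M →ₗ[A] M))
      (t • (LinearMap.id : M'' →ₗ[A] M'')) i p hex i p hex h₁ h₂
      (kerT t M).subtype (LinearMap.exact_subtype_ker_map _)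
      (kerT t M'').subtype (LinearMap.exact_subtype_ker_map _)
      (Submodule.mkQ (t • ⊤ : Submodule A M')) (exact_smul_mkQ t M') hp hi
      (kerMap t p) (by ext x; rfl) (Submodule.injective_subtype _)
  have hδG : Function.Exact δ (QuotSMulTop.map t i) :=
    SnakeLemma.exact_δ'_left (t • (LinearMap.id : M' →ₗ[A] M')) (t • (LinearMap.id : M →ₗ[A] M))
      (t • (LinearMap.id : M'' →ₗ[A] M'')) i p hex i p hex h₁ h₂
      (kerT t M'').subtype (LinearMap.exact_subtype_ker_map _)
      (Submodule.mkQ (t • ⊤ : Submodule A M')) (exact_smul_mkQ t M')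
      (Submodule.mkQ (t • ⊤ : Submodule A M)) (exact_smul_mkQ t M) hp hi
      (QuotSMulTop.map t i) (by ext x; rfl) (Submodule.mkQ_surjective _)
  have hE : Function.Injective (kerMap t i) := by
    intro x y hxy
    apply Subtype.ext
    apply hi
    exact congrArg Subtype.val hxy
  have hEF : Function.Exact (kerMap t i) (kerMap t p) := by
    intro x
    constructor
    · intro hx
      have hx' : p (x : M) = 0 := congrArg Subtype.val hx
      obtain ⟨y, hy⟩ := (hex _).mp hx'
      refine ⟨⟨y, ?_⟩, Subtype.ext hy⟩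
      rw [LinearMap.mem_ker]
      apply hi
      have hx2 : t • (x : M) = 0 := LinearMap.mem_ker.mp x.2
      simp only [LinearMap.smul_apply, LinearMap.id_coe, id_eq, map_smul, map_zero]
      rw [hy, hx2]
    · rintro ⟨y, rfl⟩
      apply Subtype.ext
      exact hex.apply_apply_eq_zero _
  exact length_six_term (kerMap t i) (kerMap t p) δ (QuotSMulTop.map t i) (QuotSMulTop.map t p)
    hE hEF hFδ hδG (QuotSMulTop.map_exact t hex hp) (QuotSMulTop.map_surjective t hp)

end Snake

end Groth.Agent.H15
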