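import Groth.Agent.H15.FinFlatCM
import Mathlib.RingTheory.Ideal.AssociatedPrime.Localization
import Mathlib.RingTheory.Flat.TorsionFree
import Mathlib.RingTheory.DiscreteValuationRing.TFAE
import Mathlib.RingTheory.LocalProperties.Reduced

/-!
# Reducedness of flat algebras over normal domains

Let `A'` be a Noetherian normal domain and `B'` a Noetherian flat `A'`-algebra whose fibre local
rings over the nonzero primes of `A'` are reduced, and such that every prime of `B'` specializes to
a prime lying over a nonzero prime of `A'`. Then `B'` is reduced.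
-/

set_option autoImplicit false
set_option linter.style.haveILetI false
set_option maxHeartbeats 800000

universe u

open IsLocalRing

namespace Groth.Agent.H15.RedCore

attribute [local instance] Groth.Agent.H15.FlatLoc.isLocalRing_fibLocRing

/-- A Noetherian local ring `R` with a regular element `π` of the maximal ideal such that `R/π` is
reduced is reduced. -/
theorem isReduced_of_quotient_regular (R : Type u) [CommRing R] [IsLocalRing R]
    [IsNoetherianRing R] (π : R) (hπm : π ∈ maximalIdeal R) (hreg : IsSMulRegular R π)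
    (hred : IsReduced (R ⧸ Ideal.span {π})) : IsReduced R := by
  have hN : (nilradical R : Submodule R R) ≤ Ideal.span {π} • (nilradical R : Submodule R R) := by
    intro x hx
    have hx' : IsNilpotent x := hx
    have h1 : IsNilpotent (Ideal.Quotient.mk (Ideal.span {π}) x) := hx'.map _
    have h2 : Ideal.Quotient.mk (Ideal.span {π}) x = 0 := h1.eq_zero
    obtain ⟨y, rfl⟩ := Ideal.mem_span_singleton'.mp (Ideal.Quotient.eq_zero_iff_mem.mp h2)
    have hy : IsNilpotent y := by
      obtain ⟨n, hn⟩ := hx'
      refine ⟨n, ?_⟩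
      rw [mul_pow] at hn
      have hregn : IsSMulRegular R (π ^ n) := hreg.pow n
      apply hregn
      show π ^ n • y ^ n = π ^ n • 0
      rw [smul_eq_mul, smul_eq_mul, mul_zero, mul_comm]
      exact hn
    rw [mul_comm]
    exact Submodule.smul_mem_smul (Ideal.mem_span_singleton_self π) hy
  have h3 := Submodule.eq_bot_of_le_smul_of_le_jacobson_bot (Ideal.span {π})
    (nilradical R : Submodule R R) (IsNoetherian.noetherian _) hN (by
      rw [IsLocalRing.jacobson_eq_maximalIdeal ⊥ bot_ne_top]
      exact (Ideal.span_singleton_le_iff_mem _).mpr hπm)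
  exact nilradical_eq_bot_iff.mp h3

/-- Reducedness of a fibre ring gives reducedness of the fibre local rings. -/
theorem isReduced_fibLocRing_of_fiber (A B : Type u) [CommRing A] [CommRing B] [Algebra A B]
    (p : Ideal A) [p.IsPrime] (h : IsReduced (p.Fiber B)) (r : Ideal B) [r.IsPrime]
    (hr : r.comap (algebraMap A B) = p) : IsReduced (EGA4.FibLocRing A B r) := by
  obtain ⟨q, hq, hqr⟩ := Groth.Agent.H15.FibreSk.exists_fiber_prime A B p r hr
  haveI := hq
  obtain ⟨-, ⟨e⟩⟩ := Groth.Agent.H15.FibreSk.exists_fiber_equiv A B p q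
  have h1 : IsReduced (Localization.AtPrime q) := inferInstance
  have h2 : IsReduced (EGA4.FibLocRing A B
      (q.comap (Algebra.TensorProduct.includeRight : B →ₐ[A] p.Fiber B))) :=
    isReduced_of_injective e.symm.toRingHom e.symm.injective
  have gen : ∀ (I : Ideal B) [I.IsPrime], I = r → IsReduced (EGA4.FibLocRing A B I) →
      IsReduced (EGA4.FibLocRing A B r) := by
    intro I _ hI hc
    subst hI
    exact hc
  exact gen _ hqr h2

section Core

variable (A' B' : Type u) [CommRing A'] [CommRing B'] [IsDomain A'] [IsIntegrallyClosed A']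
  [IsNoetherianRing A'] [IsNoetherianRing B'] [Algebra A' B'] [Module.Flat A' B']

theorem isReduced_of_normal_base
    (hfib : ∀ (Q : Ideal B') [Q.IsPrime], Q.comap (algebraMap A' B') ≠ ⊥ →
      IsReduced (EGA4.FibLocRing A' B' Q))
    (hspec : ∀ (q : Ideal B') [q.IsPrime], ∃ (Q : Ideal B') (_ : Q.IsPrime), q ≤ Q ∧
      Q.comap (algebraMap A' B') ≠ ⊥) : IsReduced B' := by
  by_contra hnot
  have hN : nilradical B' ≠ ⊥ := fun h => hnot (nilradical_eq_bot_iff.mp h)
  haveI : Nontrivial ↥(nilradical B') := Submodule.nontrivial_iff_ne_bot.mpr hN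
  obtain ⟨q, hq⟩ := associatedPrimes.nonempty B' ↥(nilradical B')
  haveI hqprime : q.IsPrime := hq.isPrime
  obtain ⟨-, y, hy⟩ := isAssociatedPrime_iff.mp hq
  have hqB : q ∈ associatedPrimes B' B' :=
    associatedPrimes.subset_of_injective (f := (nilradical B').subtype) Subtype.val_injective hq
  have hx_nil : IsNilpotent (y : B') := y.2
  have hann : ∀ b : B', b ∈ q ↔ b * (y : B') = 0 := by
    intro b
    rw [hy, Submodule.mem_colon_singleton, Submodule.mem_bot]
    constructor
    · intro h
      have := congrArg Subtype.val h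
      simpa using this
    · intro h
      apply Subtype.ext
      simpa using h
  have hx0 : (y : B') ≠ 0 := by
    intro h0
    apply hqprime.ne_top
    rw [Ideal.eq_top_iff_one, hann, h0, mul_zero]
  have hq0 : q.comap (algebraMap A' B') = ⊥ := by
    rw [eq_bot_iff]
    intro a ha
    rw [Ideal.mem_bot]
    by_contra ha0
    have hreg : IsSMulRegular B' a :=
      Module.Flat.isSMulRegular_of_nonZeroDivisors (mem_nonZeroDivisors_of_ne_zero ha0)
    have h1 : algebraMap A' B' a * (y : B') = 0 := (hann _).mp ha
    have h2 : a • (y : B') = a • (0 : B') := by rw [Algebra.smul_def, h1, smul_zero]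
    exact hx0 (hreg h2)
  obtain ⟨Q₀, hQ₀prime, hqQ₀, hQ₀ne⟩ := hspec q
  haveI := hQ₀prime
  obtain ⟨t, htQ₀, ht0⟩ := Submodule.exists_mem_ne_zero_of_ne_bot hQ₀ne
  have hle : q ⊔ Ideal.span {algebraMap A' B' t} ≤ Q₀ :=
    sup_le hqQ₀ ((Ideal.span_singleton_le_iff_mem _).mpr htQ₀)
  obtain ⟨Q, hQmin, hQQ₀⟩ := Ideal.exists_minimalPrimes_le hle
  haveI hQprime : Q.IsPrime := hQmin.1.1
  have hqQ : q ≤ Q := le_sup_left.trans hQmin.1.2
  have htQ : algebraMap A' B' t ∈ Q :=
    hQmin.1.2 (Ideal.mem_sup_right (Ideal.mem_span_singleton_self _))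
  have hPne : Q.comap (algebraMap A' B') ≠ ⊥ := by
    intro h
    have h1 : t ∈ Q.comap (algebraMap A' B') := htQ
    rw [h, Ideal.mem_bot] at h1
    exact ht0 h1
  -- the local ring at `Q` is not reduced
  have hnotred : ¬ IsReduced (Localization.AtPrime Q) := by
    intro hred
    have h1 : IsNilpotent (algebraMap B' (Localization.AtPrime Q) y) := hx_nil.map _
    have h2 := h1.eq_zero
    obtain ⟨s, hs⟩ := (IsLocalization.map_eq_zero_iff Q.primeCompl _ _).mp h2
    exact s.2 (hqQ ((hann _).mpr hs))
  -- depth of the local ring at `Q` is at most one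
  have hqmapprime : (q.map (algebraMap B' (Localization.AtPrime Q))).IsPrime :=
    Ideal.isPrime_map_of_isLocalizationAtPrime Q hqQ
  have hqc : (q.map (algebraMap B' (Localization.AtPrime Q))).comap
      (algebraMap B' (Localization.AtPrime Q)) = q :=
    Ideal.under_map_of_isLocalizationAtPrime Q hqQ
  have hass : q.map (algebraMap B' (Localization.AtPrime Q)) ∈
      associatedPrimes (Localization.AtPrime Q) (Localization.AtPrime Q) := by
    apply Module.associatedPrimes.mem_associatedPrimes_of_comap_mem_associatedPrimes_of_isLocalizedModule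
      Q.primeCompl (Algebra.linearMap B' (Localization.AtPrime Q))
    rw [hqc]
    exact hqB
  have hdepth1 := Groth.Agent.H29.CM.depth_le_ringKrullDim_quotient hass
  haveI hQbar : (Q.map (Ideal.Quotient.mk q)).IsPrime :=
    Ideal.map_isPrime_of_surjective Ideal.Quotient.mk_surjective (by rw [Ideal.mk_ker]; exact hqQ)
  have hsub : Algebra.algebraMapSubmonoid (B' ⧸ q) Q.primeCompl =
      (Q.map (Ideal.Quotient.mk q)).primeCompl := by
    ext x
    constructor
    · rintro ⟨b, hb, rfl⟩ hmem
      apply hb
      have h1 : b ∈ (Q.map (Ideal.Quotient.mk q)).comap (Ideal.Quotient.mk q) := hmem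
      rw [Ideal.comap_map_of_surjective _ Ideal.Quotient.mk_surjective,
        ← RingHom.ker_eq_comap_bot, Ideal.mk_ker, sup_eq_left.mpr hqQ] at h1
      exact h1
    · intro hx
      obtain ⟨b, rfl⟩ := Ideal.Quotient.mk_surjective x
      exact ⟨b, fun hb => hx (Ideal.mem_map_of_mem _ hb), rfl⟩
  haveI hlocq : IsLocalization.AtPrime
      (Localization.AtPrime Q ⧸ q.map (algebraMap B' (Localization.AtPrime Q)))
      (Q.map (Ideal.Quotient.mk q)) := by
    show IsLocalization (Q.map (Ideal.Quotient.mk q)).primeCompl _
    rw [← hsub]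
    infer_instance
  have hdim1 : ringKrullDim
      (Localization.AtPrime Q ⧸ q.map (algebraMap B' (Localization.AtPrime Q))) ≤ 1 := by
    rw [IsLocalization.AtPrime.ringKrullDim_eq_height (Q.map (Ideal.Quotient.mk q))]
    have h1 := Ideal.map_height_le_one_of_mem_minimalPrimes hQmin
    exact_mod_cast h1
  have hdepthQ : LocCoh.depth (Localization.AtPrime Q) (Localization.AtPrime Q) ≤ 1 := by
    have h1 := hdepth1.trans hdim1
    exact_mod_cast h1
  -- hence the depth of `A'_P` is at most one
  obtain ⟨-, hdepth, -⟩ := Groth.Agent.H15.FlatLoc.flat_data A' B' Q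
  have hdepthP : LocCoh.depth (Localization.AtPrime (Q.comap (algebraMap A' B')))
      (Localization.AtPrime (Q.comap (algebraMap A' B'))) ≤ 1 :=
    le_trans (hdepth ▸ le_self_add) hdepthQ
  haveI : IsDomain (Localization.AtPrime (Q.comap (algebraMap A' B'))) :=
    IsLocalization.isDomain_localization (Ideal.primeCompl_le_nonZeroDivisors _)
  haveI : IsIntegrallyClosed (Localization.AtPrime (Q.comap (algebraMap A' B'))) :=
    isIntegrallyClosed_of_isLocalization _ (Q.comap (algebraMap A' B')).primeCompl
      (Ideal.primeCompl_le_nonZeroDivisors _)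
  have hmin2 := Groth.Agent.H15.FlatLoc.min_two_le_depth_of_normal
    (Localization.AtPrime (Q.comap (algebraMap A' B')))
  have hht : (maximalIdeal (Localization.AtPrime (Q.comap (algebraMap A' B')))).height ≤ 1 := by
    have h1 := hmin2.trans hdepthP
    rcases le_total ((2 : ℕ) : ℕ∞)
      (maximalIdeal (Localization.AtPrime (Q.comap (algebraMap A' B')))).height with h | h
    · rw [min_eq_left h] at h1
      exfalso
      have : ((2 : ℕ) : ℕ∞) ≤ ((1 : ℕ) : ℕ∞) := by exact_mod_cast h1
      have : (2 : ℕ) ≤ 1 := by exact_mod_cast this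
      omega
    · rw [min_eq_right h] at h1
      exact h1
  -- so `A'_P` has principal maximal ideal
  have hnotfield : ¬ IsField (Localization.AtPrime (Q.comap (algebraMap A' B'))) :=
    IsLocalization.AtPrime.not_isField A' hPne _
  have hmne : maximalIdeal (Localization.AtPrime (Q.comap (algebraMap A' B'))) ≠ ⊥ :=
    fun h => hnotfield (IsLocalRing.isField_iff_maximalIdeal_eq.mpr h)
  have huniq : ∃! P : Ideal (Localization.AtPrime (Q.comap (algebraMap A' B'))),
      P ≠ ⊥ ∧ P.IsPrime := by
    refine ⟨maximalIdeal _, ⟨hmne, inferInstance⟩, ?_⟩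
    rintro 𝔞 ⟨h𝔞0, h𝔞prime⟩
    haveI := h𝔞prime
    by_contra hne
    have hlt : 𝔞 < maximalIdeal _ := lt_of_le_of_ne (le_maximalIdeal h𝔞prime.ne_top) hne
    have h1 : (⊥ : Ideal (Localization.AtPrime (Q.comap (algebraMap A' B')))).height < 𝔞.height :=
      Ideal.height_strict_mono_of_isPrime_of_isPrime (bot_lt_iff_ne_bot.mpr h𝔞0)
    have h2 : 𝔞.height < (maximalIdeal _).height :=
      Ideal.height_strict_mono_of_isPrime_of_isPrime hlt
    have h3 : (1 : ℕ∞) ≤ 𝔞.height := Order.one_le_iff_pos.mpr (lt_of_le_of_lt zero_le h1)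
    exact lt_irrefl _ (h2.trans_le (hht.trans h3))
  have hprinc : Submodule.IsPrincipal
      (maximalIdeal (Localization.AtPrime (Q.comap (algebraMap A' B')))) :=
    ((IsDiscreteValuationRing.TFAE (Localization.AtPrime (Q.comap (algebraMap A' B')))
      hnotfield).out 3 4).mp
      (show IsIntegrallyClosed (Localization.AtPrime (Q.comap (algebraMap A' B'))) ∧
        ∃! P : Ideal (Localization.AtPrime (Q.comap (algebraMap A' B'))), P ≠ ⊥ ∧ P.IsPrime from
        ⟨inferInstance, huniq⟩)
  obtain ⟨π, hπ⟩ := hprinc.principal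
  have hπ' : maximalIdeal (Localization.AtPrime (Q.comap (algebraMap A' B'))) =
      Ideal.span {π} := hπ
  have hπ0 : π ≠ 0 := by
    intro h
    apply hmne
    rw [hπ', h, Ideal.span_singleton_eq_bot]
  -- the homomorphism `A'_P → B'_Q`
  haveI hlo : Q.LiesOver (Q.comap (algebraMap A' B')) := ⟨rfl⟩
  letI alg := Localization.AtPrime.algebraOfLiesOver (Q.comap (algebraMap A' B')) Q
  haveI : IsLocalHom (algebraMap (Localization.AtPrime (Q.comap (algebraMap A' B')))
      (Localization.AtPrime Q)) := Localization.isLocalHom_localRingHom _ _ _ _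
  have hI : (maximalIdeal (Localization.AtPrime (Q.comap (algebraMap A' B')))).map
      (algebraMap _ (Localization.AtPrime Q)) =
      (Q.comap (algebraMap A' B')).map (algebraMap A' (Localization.AtPrime Q)) := by
    rw [← Localization.AtPrime.map_eq_maximalIdeal, Ideal.map_map,
      ← IsScalarTower.algebraMap_eq A' (Localization.AtPrime (Q.comap (algebraMap A' B')))
        (Localization.AtPrime Q)]
  have hspan : Ideal.span {algebraMap (Localization.AtPrime (Q.comap (algebraMap A' B')))
      (Localization.AtPrime Q) π} =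
      (Q.comap (algebraMap A' B')).map (algebraMap A' (Localization.AtPrime Q)) := by
    rw [← hI, hπ', Ideal.map_span, Set.image_singleton]
  have hregπ : IsSMulRegular (Localization.AtPrime Q)
      (algebraMap (Localization.AtPrime (Q.comap (algebraMap A' B')))
        (Localization.AtPrime Q) π) := by
    have h1 : IsSMulRegular (Localization.AtPrime Q) π :=
      Module.Flat.isSMulRegular_of_nonZeroDivisors (mem_nonZeroDivisors_of_ne_zero hπ0)
    intro a b hab
    apply h1
    simpa [Algebra.smul_def] using hab
  have hπm : algebraMap (Localization.AtPrime (Q.comap (algebraMap A' B')))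
      (Localization.AtPrime Q) π ∈ maximalIdeal (Localization.AtPrime Q) := by
    apply map_nonunit
    rw [hπ']
    exact Ideal.mem_span_singleton_self π
  have hredfib : IsReduced (Localization.AtPrime Q ⧸
      Ideal.span {algebraMap (Localization.AtPrime (Q.comap (algebraMap A' B')))
        (Localization.AtPrime Q) π}) := by
    haveI := hfib Q hPne
    exact isReduced_of_injective (Ideal.quotEquivOfEq hspan).toRingHom
      (Ideal.quotEquivOfEq hspan).injective
  exact hnotred (isReduced_of_quotient_regular _ _ hπm hregπ hredfib)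

end Core

end Groth.Agent.H15.RedCore
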