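import Groth.Agent.H15.RedCore
import Groth.Agent.H25.GeomRedFib
import Groth.Agent.S0568

/-!
# Geometrically reduced fibres of flat local homomorphisms over a Nagata base
-/

set_option autoImplicit false
set_option linter.style.haveILetI false
set_option maxHeartbeats 1600000

universe u

open IsLocalRing TensorProduct

namespace Groth.Agent.H15.RedFibres

set_option linter.unusedSectionVars false

section Finite

variable (A B : Type u) [CommRing A] [CommRing B] [IsLocalRing A] [IsLocalRing B]
  [IsNoetherianRing A] [IsNoetherianRing B] [Algebra A B] [IsLocalHom (algebraMap A B)]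
  [Module.Flat A B]

/-- The maximal ideals of `A' ⊗[A] B` contain the image of the maximal ideal of `B`, when `A'`
is integral over `A`. -/
theorem one_tmul_mem_of_isMaximal (A' : Type u) [CommRing A'] [Algebra A A']
    [Algebra.IsIntegral A A'] (Q : Ideal (A' ⊗[A] B)) [hQ : Q.IsMaximal] (b : B)
    (hb : b ∈ maximalIdeal B) : (1 : A') ⊗ₜ[A] b ∈ Q := by
  let e : B ⊗[A] A' ≃ₐ[A] A' ⊗[A] B := Algebra.TensorProduct.comm A B A'
  haveI hQ' : (Q.comap (e : B ⊗[A] A' →+* A' ⊗[A] B)).IsMaximal :=
    Ideal.comap_isMaximal_of_surjective _ e.surjective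
  haveI := Ideal.isMaximal_comap_of_isIntegral_of_isMaximal (R := B)
    (Q.comap (e : B ⊗[A] A' →+* A' ⊗[A] B))
  have h1 : (Q.comap (e : B ⊗[A] A' →+* A' ⊗[A] B)).comap (algebraMap B (B ⊗[A] A')) =
      maximalIdeal B := IsLocalRing.eq_maximalIdeal inferInstance
  have h2 : b ∈ (Q.comap (e : B ⊗[A] A' →+* A' ⊗[A] B)).comap (algebraMap B (B ⊗[A] A')) := by
    rw [h1]; exact hb
  rw [Ideal.mem_comap, Ideal.mem_comap, Algebra.TensorProduct.algebraMap_apply] at h2
  have h3 : (e : B ⊗[A] A' →+* A' ⊗[A] B) (b ⊗ₜ[A] (1 : A')) = (1 : A') ⊗ₜ[A] b := by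
    show e (b ⊗ₜ[A] (1 : A')) = _
    simp [e]
  rw [← h3]
  simpa using h2

variable (p : Ideal A) [p.IsPrime]

/-- The key case, for an abstract normalization `A'` with fraction field `k'`. -/
theorem isReduced_tensor_of_normalization (hpm : p ≠ maximalIdeal A)
    (hIH : ∀ (K : Type u) [Field K] [Algebra A K], p < RingHom.ker (algebraMap A K) →
      IsReduced (K ⊗[A] B))
    (k' : Type u) [Field k'] [Algebra A k']
    (A' : Type u) [CommRing A'] [IsDomain A'] [IsIntegrallyClosed A'] [Algebra A A']
    [Module.Finite A A'] [Algebra A' k'] [IsScalarTower A A' k'] [IsFractionRing A' k']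
    (hker : ∀ a : A, algebraMap A A' a = 0 ↔ a ∈ p) : IsReduced (k' ⊗[A] B) := by
  haveI : IsNoetherianRing A' := IsNoetherianRing.of_finite A A'
  haveI : Algebra.IsIntegral A A' := Algebra.IsIntegral.of_finite A _
  haveI : IsNoetherianRing (B ⊗[A] A') := IsNoetherianRing.of_finite B _
  haveI : IsNoetherianRing (A' ⊗[A] B) :=
    isNoetherianRing_of_ringEquiv _ (Algebra.TensorProduct.comm A B A').toRingEquiv
  have hbotc : (⊥ : Ideal A').comap (algebraMap A A') = p := by
    ext a
    rw [Ideal.mem_comap, Ideal.mem_bot, hker]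
  have hred : IsReduced (A' ⊗[A] B) := by
    apply Groth.Agent.H15.RedCore.isReduced_of_normal_base A' (A' ⊗[A] B)
    · intro Q _ hQ
      apply Groth.Agent.H15.RedCore.isReduced_fibLocRing_of_fiber A' (A' ⊗[A] B)
        (Q.comap (algebraMap A' (A' ⊗[A] B))) _ Q rfl
      set P := Q.comap (algebraMap A' (A' ⊗[A] B)) with hP
      have hlt : p < RingHom.ker (algebraMap A P.ResidueField) := by
        have hk : RingHom.ker (algebraMap A P.ResidueField) = P.comap (algebraMap A A') := by
          rw [IsScalarTower.algebraMap_eq A A' P.ResidueField,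
            ← RingHom.comap_ker, Ideal.ker_algebraMap_residueField]
        rw [hk, ← hbotc]
        exact Ideal.IsIntegral.comap_lt_comap (R := A) (bot_lt_iff_ne_bot.mpr hQ)
      haveI := hIH P.ResidueField hlt
      exact isReduced_of_injective
        (Algebra.TensorProduct.cancelBaseChange A A' P.ResidueField P.ResidueField B)
        (AlgEquiv.injective _)
    · intro q hq
      obtain ⟨Q, hQmax, hqQ⟩ := Ideal.exists_le_maximal q hq.ne_top
      haveI := hQmax
      refine ⟨Q, hQmax.isPrime, hqQ, ?_⟩
      obtain ⟨t, htm, htp⟩ := SetLike.exists_of_lt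
        (lt_of_le_of_ne (le_maximalIdeal (Ideal.IsPrime.ne_top inferInstance)) hpm)
      have htB : algebraMap A B t ∈ maximalIdeal B := map_nonunit (algebraMap A B) t htm
      have h1 := one_tmul_mem_of_isMaximal A B A' Q _ htB
      have h2 : (1 : A') ⊗ₜ[A] (algebraMap A B t) =
          algebraMap A' (A' ⊗[A] B) (algebraMap A A' t) := by
        rw [Algebra.TensorProduct.algebraMap_apply, Algebra.algebraMap_eq_smul_one,
          Algebra.algebraMap_eq_smul_one (R := A) (A := A'),
          TensorProduct.tmul_smul, TensorProduct.smul_tmul']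
        simp
      rw [h2] at h1
      intro hbot
      have h3 : algebraMap A A' t ∈ Q.comap (algebraMap A' (A' ⊗[A] B)) := h1
      rw [hbot, Ideal.mem_bot, hker] at h3
      exact htp h3
  -- `k' ⊗ B` is a localization of `A' ⊗ B`
  haveI := hred
  haveI h4 : IsReduced ((A' ⊗[A] B) ⊗[A'] k') := by
    have h := isReduced_localizationPreserves (R := A' ⊗[A] B)
      (Algebra.algebraMapSubmonoid (A' ⊗[A] B) (nonZeroDivisors A'))
      ((A' ⊗[A] B) ⊗[A'] k') hred
    exact h
  haveI h5 : IsReduced (k' ⊗[A'] (A' ⊗[A] B)) :=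
    isReduced_of_injective
      (Algebra.TensorProduct.comm A' k' (A' ⊗[A] B)) (AlgEquiv.injective _)
  exact isReduced_of_injective
    (Algebra.TensorProduct.cancelBaseChange A A' k' k' B).symm (AlgEquiv.injective _)

/-- The key case: a finite extension `k'` of the fraction field of `A/p`. -/
theorem isReduced_tensor_finite (hpm : p ≠ maximalIdeal A) (hN2 : CAlg.IsN2 (A ⧸ p))
    (hIH : ∀ (K : Type u) [Field K] [Algebra A K], p < RingHom.ker (algebraMap A K) →
      IsReduced (K ⊗[A] B))
    (k' : Type u) [Field k'] [Algebra (FractionRing (A ⧸ p)) k']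
    [Module.Finite (FractionRing (A ⧸ p)) k'] [Algebra (A ⧸ p) k']
    [IsScalarTower (A ⧸ p) (FractionRing (A ⧸ p)) k'] [Algebra A k']
    [IsScalarTower A (A ⧸ p) k'] : IsReduced (k' ⊗[A] B) := by
  have hfin : Module.Finite (A ⧸ p) (integralClosure (A ⧸ p) k') :=
    hN2 k' (inferInstance : FiniteDimensional (FractionRing (A ⧸ p)) k')
  haveI := hfin
  haveI hic : IsIntegrallyClosed (integralClosure (A ⧸ p) k') :=
    integralClosure.isIntegrallyClosedOfFiniteExtension (FractionRing (A ⧸ p))
  haveI hfr : IsFractionRing (integralClosure (A ⧸ p) k') k' :=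
    integralClosure.isFractionRing_of_finite_extension (FractionRing (A ⧸ p)) k'
  haveI : Module.Finite A (integralClosure (A ⧸ p) k') :=
    Module.Finite.trans (A ⧸ p) (integralClosure (A ⧸ p) k')
  have hinjk : Function.Injective (algebraMap (A ⧸ p) k') := by
    rw [IsScalarTower.algebraMap_eq (A ⧸ p) (FractionRing (A ⧸ p)) k']
    exact (algebraMap (FractionRing (A ⧸ p)) k').injective.comp
      (IsFractionRing.injective (A ⧸ p) (FractionRing (A ⧸ p)))
  have hker : ∀ a : A, algebraMap A (integralClosure (A ⧸ p) k') a = 0 ↔ a ∈ p := by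
    intro a
    rw [← Subtype.coe_inj]
    show algebraMap A k' a = 0 ↔ _
    rw [IsScalarTower.algebraMap_apply A (A ⧸ p) k', map_eq_zero_iff _ hinjk,
      Ideal.Quotient.algebraMap_eq, Ideal.Quotient.eq_zero_iff_mem]
  exact isReduced_tensor_of_normalization A B p hpm hIH k' (integralClosure (A ⧸ p) k') hker

open Groth.Agent.H25.GeomRed in
/-- The inductive step: the fibre over `p` is geometrically reduced if the fibres over the strict
specializations of `p` are. -/
theorem isReduced_tensor_of_isN2 (hpm : p ≠ maximalIdeal A) (hN2 : CAlg.IsN2 (A ⧸ p))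
    (hIH : ∀ (K : Type u) [Field K] [Algebra A K], p < RingHom.ker (algebraMap A K) →
      IsReduced (K ⊗[A] B))
    (K : Type u) [Field K] [Algebra A K] (hK : RingHom.ker (algebraMap A K) = p) :
    IsReduced (K ⊗[A] B) := by
  letI algK : Algebra (A ⧸ p) K := (Ideal.Quotient.lift p (algebraMap A K) (fun a ha => by
    rw [← RingHom.mem_ker, hK]; exact ha)).toAlgebra
  haveI : IsScalarTower A (A ⧸ p) K := IsScalarTower.of_algebraMap_eq (fun a => rfl)
  have hinj : Function.Injective (algebraMap (A ⧸ p) K) :=
    RingHom.lift_injective_of_ker_le_ideal p _ (le_of_eq hK)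
  letI : Algebra (FractionRing (A ⧸ p)) K := (IsFractionRing.lift hinj).toAlgebra
  haveI : IsScalarTower (A ⧸ p) (FractionRing (A ⧸ p)) K :=
    IsScalarTower.of_algebraMap_eq (fun x => (IsFractionRing.lift_algebraMap hinj x).symm)
  haveI : IsScalarTower A (FractionRing (A ⧸ p)) K := IsScalarTower.of_algebraMap_eq (fun a => by
    rw [IsScalarTower.algebraMap_apply A (A ⧸ p) K,
      IsScalarTower.algebraMap_apply (A ⧸ p) (FractionRing (A ⧸ p)) K,
      ← IsScalarTower.algebraMap_apply A (A ⧸ p) (FractionRing (A ⧸ p))])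
  have h02 := (tfae_geometricallyReduced (k := FractionRing (A ⧸ p))
    (S := FractionRing (A ⧸ p) ⊗[A] B)).out 0 2
  have hall := h02.mp (by
    intro k' _ _ _ _
    letI : Algebra (A ⧸ p) k' := ((algebraMap (FractionRing (A ⧸ p)) k').comp
      (algebraMap (A ⧸ p) (FractionRing (A ⧸ p)))).toAlgebra
    haveI : IsScalarTower (A ⧸ p) (FractionRing (A ⧸ p)) k' :=
      IsScalarTower.of_algebraMap_eq (fun _ => rfl)
    letI : Algebra A k' := ((algebraMap (A ⧸ p) k').comp (algebraMap A (A ⧸ p))).toAlgebra
    haveI : IsScalarTower A (A ⧸ p) k' := IsScalarTower.of_algebraMap_eq (fun _ => rfl)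
    haveI : IsScalarTower A (FractionRing (A ⧸ p)) k' :=
      IsScalarTower.of_algebraMap_eq (fun a => by
        rw [IsScalarTower.algebraMap_apply A (A ⧸ p) k',
          IsScalarTower.algebraMap_apply (A ⧸ p) (FractionRing (A ⧸ p)) k',
          ← IsScalarTower.algebraMap_apply A (A ⧸ p) (FractionRing (A ⧸ p))])
    haveI := isReduced_tensor_finite A B p hpm hN2 hIH k'
    exact isReduced_of_injective
      (Algebra.TensorProduct.cancelBaseChange A (FractionRing (A ⧸ p)) k' k' B)
      (AlgEquiv.injective _))
  haveI := hall K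
  exact isReduced_of_injective
    (Algebra.TensorProduct.cancelBaseChange A (FractionRing (A ⧸ p)) K K B).symm
    (AlgEquiv.injective _)

end Finite

section Nagata

variable (A B : Type u) [CommRing A] [CommRing B] [IsLocalRing A] [IsLocalRing B]
  [IsNoetherianRing A] [IsNoetherianRing B] [Algebra A B] [IsLocalHom (algebraMap A B)]
  [Module.Flat A B]

/-- A flat local homomorphism over a Nagata local ring with geometrically reduced closed fibre has
geometrically reduced fibres (in the form: all field-valued base changes are reduced). -/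
theorem isReduced_tensor_of_nagata (hnag : CAlg.IsNagata A)
    (hcl : ∀ (K : Type u) [Field K] [Algebra A K],
      RingHom.ker (algebraMap A K) = maximalIdeal A → IsReduced (K ⊗[A] B)) :
    ∀ (K : Type u) [Field K] [Algebra A K], IsReduced (K ⊗[A] B) := by
  have main : ∀ (p : Ideal A), ∀ (K : Type u) [Field K] [Algebra A K],
      RingHom.ker (algebraMap A K) = p → IsReduced (K ⊗[A] B) := by
    intro p
    induction p using WellFoundedGT.induction with
    | ind p ih =>
    intro K _ _ hK
    haveI : p.IsPrime := hK ▸ RingHom.ker_isPrime _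
    by_cases hpm : p = maximalIdeal A
    · exact hcl K (hK.trans hpm)
    · exact isReduced_tensor_of_isN2 A B p hpm (hnag.2 p)
        (fun K' _ _ hlt => ih _ hlt K' rfl) K hK
  intro K _ _
  exact main _ K rfl

end Nagata

end Groth.Agent.H15.RedFibres
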