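import Groth.Agent.H15.SerreNormal
import Mathlib.RingTheory.HopkinsLevitzki
import Mathlib.RingTheory.Nakayama
import Mathlib.RingTheory.Ideal.MinimalPrime.Noetherian
import Mathlib.Tactic

/-!
# Reduced principal divisors in two-dimensional normal local domains

Let `A` be a Noetherian normal local domain of dimension two.

* `exists_reduced_mem_primes`: for finitely many height-one primes there is a nonzero `f` in all of
  them with `A ⧸ (f)` reduced.

The proof: for a height-one prime `q` the local ring `A_q` has principal maximal ideal.  `Gen q x`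
says that `x` generates `qA_q`, `Sq q x` that `x` lies in `(qA_q)²`.  Starting from any nonzero `f₀`
in the primes and an `h ∈ m` outside the minimal primes of `f₀`, we modify `f` to `f + h g`, where
`g` is chosen such that `f + h g` generates `qA_q` at every minimal prime `q` of `f`; the ideal
`√(f) + (h)` strictly decreases, and `A ⧸ (f₀, h)` is Artinian.
-/

set_option autoImplicit false

universe u

open IsLocalRing

namespace Groth.Agent.H15.ReducedDiv

section LocalRing

variable {D : Type*} [CommRing D] [IsLocalRing D]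

theorem isUnit_one_add_of_mem {a : D} (ha : a ∈ maximalIdeal D) : IsUnit (1 + a) := by
  by_contra hnu
  have h1 : (1 + a) ∈ maximalIdeal D := (IsLocalRing.mem_maximalIdeal _).mpr hnu
  have h2 : (1 : D) ∈ maximalIdeal D := by
    have := (maximalIdeal D).sub_mem h1 ha
    simpa using this
  exact (Ideal.ne_top_iff_one _).mp (IsLocalRing.maximalIdeal.isMaximal D).ne_top h2

theorem span_add_eq {x y : D} (hx : Ideal.span {x} = maximalIdeal D)
    (hy : y ∈ maximalIdeal D ^ 2) : Ideal.span {x + y} = maximalIdeal D := by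
  have hxm : x ∈ maximalIdeal D := by
    rw [← hx]
    exact Ideal.mem_span_singleton_self x
  rw [← hx, Ideal.span_singleton_pow, Ideal.mem_span_singleton'] at hy
  obtain ⟨z, hz⟩ := hy
  have hu : IsUnit (1 + z * x) := isUnit_one_add_of_mem (Ideal.mul_mem_left _ _ hxm)
  have hxy : x + y = (1 + z * x) * x := by
    rw [← hz]
    ring
  rw [hxy, Ideal.span_singleton_mul_left_unit hu, hx]

theorem mem_sq_of_ne {π x : D} (hπ : maximalIdeal D = Ideal.span {π}) (hx : x ∈ maximalIdeal D)
    (hne : Ideal.span {x} ≠ maximalIdeal D) : x ∈ maximalIdeal D ^ 2 := by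
  have hπm : π ∈ maximalIdeal D := by
    rw [hπ]
    exact Ideal.mem_span_singleton_self π
  have hx' := hx
  rw [hπ, Ideal.mem_span_singleton'] at hx'
  obtain ⟨y, hy⟩ := hx'
  have hynu : ¬ IsUnit y := by
    intro hu
    apply hne
    rw [← hy, Ideal.span_singleton_mul_left_unit hu, hπ]
  have hym : y ∈ maximalIdeal D := (IsLocalRing.mem_maximalIdeal _).mpr hynu
  rw [pow_two, ← hy]
  exact Ideal.mul_mem_mul hym hπm

end LocalRing

section Defs

variable {A : Type u} [CommRing A]

/-- `x` generates the maximal ideal of `A_q`. -/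
def Gen (q : Ideal A) (x : A) : Prop :=
  ∃ _ : q.IsPrime, Ideal.span {algebraMap A (Localization.AtPrime q) x} =
    maximalIdeal (Localization.AtPrime q)

/-- the image of `x` lies in the square of the maximal ideal of `A_q`. -/
def Sq (q : Ideal A) (x : A) : Prop :=
  ∃ _ : q.IsPrime, algebraMap A (Localization.AtPrime q) x ∈
    maximalIdeal (Localization.AtPrime q) ^ 2

theorem Gen.mem {q : Ideal A} {x : A} (h : Gen q x) : x ∈ q := by
  obtain ⟨hq, h⟩ := h
  rw [← IsLocalization.AtPrime.to_map_mem_maximal_iff (Localization.AtPrime q) q x, ← h]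
  exact Ideal.mem_span_singleton_self _

theorem Gen.add {q : Ideal A} {x y : A} (hx : Gen q x) (hy : Sq q y) : Gen q (x + y) := by
  obtain ⟨hq, hx⟩ := hx
  obtain ⟨_, hy⟩ := hy
  refine ⟨hq, ?_⟩
  rw [map_add]
  exact span_add_eq hx hy

theorem Gen.mul_left {q : Ideal A} {x : A} (hx : Gen q x) {u : A} (hu : u ∉ q) :
    Gen q (u * x) := by
  obtain ⟨hq, hx⟩ := hx
  refine ⟨hq, ?_⟩
  have huu : IsUnit (algebraMap A (Localization.AtPrime q) u) :=
    IsLocalization.map_units (Localization.AtPrime q) (⟨u, hu⟩ : q.primeCompl)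
  rw [map_mul, Ideal.span_singleton_mul_left_unit huu, hx]

theorem Sq.add {q : Ideal A} {x y : A} (hx : Sq q x) (hy : Sq q y) : Sq q (x + y) := by
  obtain ⟨hq, hx⟩ := hx
  obtain ⟨_, hy⟩ := hy
  refine ⟨hq, ?_⟩
  rw [map_add]
  exact Ideal.add_mem _ hx hy

theorem Sq.mul_left {q : Ideal A} {x : A} (hx : Sq q x) (a : A) : Sq q (a * x) := by
  obtain ⟨hq, hx⟩ := hx
  refine ⟨hq, ?_⟩
  rw [map_mul]
  exact Ideal.mul_mem_left _ _ hx

theorem Sq.zero {q : Ideal A} (hq : q.IsPrime) : Sq q 0 := by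
  refine ⟨hq, ?_⟩
  rw [map_zero]
  exact Ideal.zero_mem _

theorem Sq.sum {q : Ideal A} (hq : q.IsPrime) {ι : Type*} (T : Finset ι) (g : ι → A)
    (h : ∀ i ∈ T, Sq q (g i)) : Sq q (∑ i ∈ T, g i) := by
  classical
  induction T using Finset.induction_on with
  | empty => simpa using Sq.zero hq
  | insert a T ha ih =>
    rw [Finset.sum_insert ha]
    exact (h a (Finset.mem_insert_self a T)).add
      (ih (fun i hi => h i (Finset.mem_insert_of_mem hi)))

theorem Sq.of_mul {q : Ideal A} (hq : q.IsPrime) {x y : A} (hx : x ∈ q) (hy : y ∈ q) :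
    Sq q (x * y) := by
  refine ⟨hq, ?_⟩
  rw [map_mul, pow_two]
  exact Ideal.mul_mem_mul
    ((IsLocalization.AtPrime.to_map_mem_maximal_iff (Localization.AtPrime q) q x).mpr hx)
    ((IsLocalization.AtPrime.to_map_mem_maximal_iff (Localization.AtPrime q) q y).mpr hy)

end Defs

section Normal

variable {A : Type u} [CommRing A] [IsDomain A] [IsNoetherianRing A] [IsIntegrallyClosed A]

theorem hasRk_hasSk : LocCoh.HasRk 1 A ∧ LocCoh.HasSk 2 A A :=
  SerreNormal.hasRk_hasSk_of_normal (fun p _ =>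
    ⟨inferInstance, isIntegrallyClosed_of_isLocalization (Localization.AtPrime p) p.primeCompl
      p.primeCompl_le_nonZeroDivisors⟩)

theorem exists_principal (q : Ideal A) [q.IsPrime] (hht : q.height = 1) :
    ∃ π : Localization.AtPrime q, maximalIdeal (Localization.AtPrime q) = Ideal.span {π} := by
  obtain ⟨hR1, -⟩ := hasRk_hasSk (A := A)
  haveI : IsRegularLocalRing (Localization.AtPrime q) := hR1 q (by rw [hht]; norm_num)
  have hdim : ringKrullDim (Localization.AtPrime q) ≤ 1 := by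
    rw [IsLocalization.AtPrime.ringKrullDim_eq_height q (Localization.AtPrime q), hht]
    norm_num
  exact SerreNormal.exists_maximalIdeal_eq_span_singleton _ hdim

theorem exists_gen (q : Ideal A) [hq : q.IsPrime] (hht : q.height = 1) : ∃ π : A, Gen q π := by
  obtain ⟨π', hπ'⟩ := exists_principal q hht
  obtain ⟨a, s, rfl⟩ := IsLocalization.exists_mk'_eq q.primeCompl π'
  refine ⟨a, hq, ?_⟩
  rw [hπ']
  have h1 : algebraMap A (Localization.AtPrime q) a =
      algebraMap A (Localization.AtPrime q) (s : A) *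
        IsLocalization.mk' (Localization.AtPrime q) a s := by
    rw [mul_comm, IsLocalization.mk'_spec]
  rw [h1, Ideal.span_singleton_mul_left_unit (IsLocalization.map_units _ s)]

theorem gen_or_sq (q : Ideal A) [hq : q.IsPrime] (hht : q.height = 1) {x : A} (hx : x ∈ q) :
    Gen q x ∨ Sq q x := by
  by_cases hG : Gen q x
  · exact Or.inl hG
  · right
    obtain ⟨π', hπ'⟩ := exists_principal q hht
    exact ⟨hq, mem_sq_of_ne hπ'
      ((IsLocalization.AtPrime.to_map_mem_maximal_iff (Localization.AtPrime q) q x).mpr hx)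
      (fun h => hG ⟨hq, h⟩)⟩

/-- two comparable primes, the smaller of height at least one and the larger of height at most
one, are equal. -/
theorem eq_of_le_of_height {q Q : Ideal A} [q.IsPrime] [Q.IsPrime] (hle : q ≤ Q)
    (hq : 1 ≤ q.height) (hQ : Q.height ≤ 1) : q = Q := by
  by_contra hne
  have hlt : q < Q := lt_of_le_of_ne hle hne
  have := Ideal.height_strict_mono_of_isPrime hlt
  exact absurd (hq.trans_lt (this.trans_le hQ)) (lt_irrefl _)

theorem mem_minimalPrimes_of_height_le_one {f : A} (hf : f ≠ 0) {q : Ideal A} [q.IsPrime]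
    (hfq : f ∈ q) (hq : q.height ≤ 1) : q ∈ (Ideal.span {f}).minimalPrimes :=
  Ideal.mem_minimalPrimes_of_height_le
    ((Ideal.span_singleton_le_iff_mem q).mpr hfq)
    (hq.trans (Ideal.one_le_height_span_singleton_of_mem_nonZeroDivisors
      (mem_nonZeroDivisors_of_ne_zero hf)))

theorem height_eq_one_of_mem_minimalPrimes {f : A} (hf : f ≠ 0) {q : Ideal A}
    (hq : q ∈ (Ideal.span {f}).minimalPrimes) : q.height = 1 := by
  haveI := hq.1.1
  apply le_antisymm (Ideal.height_le_one_of_isPrincipal_of_mem_minimalPrimes _ q hq)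
  rw [Order.one_le_iff_pos, pos_iff_ne_zero, Ne, Ideal.height_eq_zero_iff_eq_bot]
  intro hbot
  apply hf
  have : f ∈ q := hq.1.2 (Ideal.mem_span_singleton_self f)
  rw [hbot] at this
  exact this

/-- membership in a principal ideal all of whose minimal primes are "unramified". -/
theorem mem_span_of_gen {a b : A} (ha : a ≠ 0)
    (hb : ∀ q ∈ (Ideal.span {a}).minimalPrimes, Gen q a ∧ b ∈ q) : b ∈ Ideal.span {a} := by
  obtain ⟨-, hS2⟩ := hasRk_hasSk (A := A)
  apply SerreNormal.mem_span_of_forall_height_le_one hS2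
    (IsRegular.of_ne_zero ha).left.isSMulRegular
  intro Q hQ hQht
  by_cases haQ : a ∈ Q
  · have hQmin := mem_minimalPrimes_of_height_le_one ha haQ hQht
    obtain ⟨⟨_, hG⟩, hbQ⟩ := hb Q hQmin
    rw [hG]
    exact (IsLocalization.AtPrime.to_map_mem_maximal_iff (Localization.AtPrime Q) Q b).mpr hbQ
  · have hu : IsUnit (algebraMap A (Localization.AtPrime Q) a) :=
      IsLocalization.map_units (Localization.AtPrime Q) (⟨a, haQ⟩ : Q.primeCompl)
    rw [Ideal.span_singleton_eq_top.mpr hu]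
    trivial

theorem isReduced_of_gen {f : A} (hf : f ≠ 0)
    (hG : ∀ q ∈ (Ideal.span {f}).minimalPrimes, Gen q f) :
    IsReduced (A ⧸ Ideal.span {f}) := by
  rw [← Ideal.isRadical_iff_quotient_reduced]
  intro x hx
  apply mem_span_of_gen hf
  intro q hq
  refine ⟨hG q hq, ?_⟩
  haveI := hq.1.1
  exact (hq.1.1.radical_le_iff.mpr hq.1.2) hx

/-- for `q` in a finite set of height-one primes, an element generating `qA_q` and lying in the
symbolic squares of the other primes. -/
theorem exists_gen_sq (q : Ideal A) [hq : q.IsPrime] (hqht : q.height = 1)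
    (T : Finset (Ideal A)) (hT : ∀ q' ∈ T, q'.IsPrime ∧ q'.height = 1 ∧ q' ≠ q) :
    ∃ g : A, Gen q g ∧ ∀ q' ∈ T, Sq q' g := by
  classical
  induction T using Finset.induction_on with
  | empty =>
    obtain ⟨π, hπ⟩ := exists_gen q hqht
    exact ⟨π, hπ, by simp⟩
  | insert q' T hq'T ih =>
    obtain ⟨g, hg, hgT⟩ := ih (fun q'' hq'' => hT q'' (Finset.mem_insert_of_mem hq''))
    obtain ⟨hq'p, hq'ht, hq'ne⟩ := hT q' (Finset.mem_insert_self q' T)
    haveI := hq'p
    have hnle : ¬ q' ≤ q := fun hle =>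
      hq'ne (eq_of_le_of_height hle hq'ht.ge hqht.le)
    obtain ⟨t, htq', htq⟩ := SetLike.not_le_iff_exists.mp hnle
    refine ⟨(t * t) * g, hg.mul_left (fun h => htq ((hq.mem_or_mem h).elim id id)), ?_⟩
    intro q'' hq''
    rcases Finset.mem_insert.mp hq'' with rfl | hq''
    · have := (Sq.of_mul hq'p htq' htq').mul_left g
      rwa [mul_comm] at this
    · exact (hgT q'' hq'').mul_left _

end Normal

section Local

variable {A : Type u} [CommRing A] [IsDomain A] [IsNoetherianRing A] [IsIntegrallyClosed A]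
  [IsLocalRing A]

theorem height_maximalIdeal (hdim : ringKrullDim A = 2) : (maximalIdeal A).height = 2 := by
  have := IsLocalRing.maximalIdeal_height_eq_ringKrullDim (R := A)
  rw [hdim] at this
  have h2 : (((2 : ℕ∞) : WithBot ℕ∞)) = (2 : WithBot ℕ∞) := rfl
  rw [← h2] at this
  exact WithBot.coe_injective this

/-- if `V(f, h) = {m}` in a two-dimensional local domain then `f ∉ (h)`. -/
theorem notMem_span (hdim : ringKrullDim A = 2) {f h : A} (hh : h ∈ maximalIdeal A)
    (H : ∀ P : Ideal A, P.IsPrime → f ∈ P → h ∈ P → P = maximalIdeal A) :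
    f ∉ Ideal.span {h} := by
  intro hf
  have hne : Ideal.span {h} ≠ ⊤ := by
    intro htop
    have : Ideal.span {h} ≤ maximalIdeal A := (Ideal.span_singleton_le_iff_mem _).mpr hh
    rw [htop] at this
    exact (IsLocalRing.maximalIdeal.isMaximal A).ne_top (top_le_iff.mp this)
  obtain ⟨P, hP⟩ := Ideal.nonempty_minimalPrimes hne
  have hPm : P = maximalIdeal A :=
    H P hP.1.1 (hP.1.2 hf) (hP.1.2 (Ideal.mem_span_singleton_self h))
  have hle := Ideal.height_le_one_of_isPrincipal_of_mem_minimalPrimes _ P hP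
  rw [hPm, height_maximalIdeal hdim] at hle
  exact absurd hle (by norm_num)

theorem ne_zero_of_H (hdim : ringKrullDim A = 2) {f h : A} (hh : h ∈ maximalIdeal A)
    (H : ∀ P : Ideal A, P.IsPrime → f ∈ P → h ∈ P → P = maximalIdeal A) : f ≠ 0 := by
  intro h0
  exact notMem_span hdim hh H (h0 ▸ Ideal.zero_mem _)

theorem isArtinianRing_quot (𝔞 : Ideal A)
    (h : ∀ P : Ideal A, P.IsPrime → 𝔞 ≤ P → P = maximalIdeal A) : IsArtinianRing (A ⧸ 𝔞) := by
  rw [isArtinianRing_iff_isNoetherianRing_krullDimLE_zero]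
  refine ⟨inferInstance, Ring.krullDimLE_zero_iff.mpr fun P hP => ?_⟩
  have hc : P.comap (Ideal.Quotient.mk 𝔞) = maximalIdeal A :=
    h _ (Ideal.comap_isPrime _ _) (by
      intro x hx
      rw [Ideal.mem_comap, Ideal.Quotient.eq_zero_iff_mem.mpr hx]
      exact P.zero_mem)
  have hP' : P = (maximalIdeal A).map (Ideal.Quotient.mk 𝔞) := by
    rw [← hc, Ideal.map_comap_of_surjective (Ideal.Quotient.mk 𝔞) Ideal.Quotient.mk_surjective]
  rcases Ideal.map_eq_top_or_isMaximal_of_surjective (Ideal.Quotient.mk 𝔞)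
    Ideal.Quotient.mk_surjective
    (IsLocalRing.maximalIdeal.isMaximal A) with h1 | h1
  · exfalso
    rw [← hP'] at h1
    exact hP.ne_top h1
  · rw [hP']
    exact h1

theorem map_mk_lt {𝔞 J₁ J₂ : Ideal A} (h𝔞 : 𝔞 ≤ J₁) (hlt : J₁ < J₂) :
    J₁.map (Ideal.Quotient.mk 𝔞) < J₂.map (Ideal.Quotient.mk 𝔞) := by
  refine lt_of_le_of_ne (Ideal.map_mono hlt.le) (fun heq => hlt.ne ?_)
  have h1 := Ideal.comap_map_of_surjective (Ideal.Quotient.mk 𝔞) Ideal.Quotient.mk_surjective J₁
  have h2 := Ideal.comap_map_of_surjective (Ideal.Quotient.mk 𝔞) Ideal.Quotient.mk_surjective J₂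
  rw [← RingHom.ker_eq_comap_bot, Ideal.mk_ker] at h1 h2
  have h3 : J₁ ⊔ 𝔞 = J₂ ⊔ 𝔞 := by rw [← h1, ← h2, heq]
  rw [sup_eq_left.mpr h𝔞, sup_eq_left.mpr (h𝔞.trans hlt.le)] at h3
  exact h3

/-- the modification step. -/
theorem step (hdim : ringKrullDim A = 2) (h : A) (hh : h ∈ maximalIdeal A) (f : A)
    (H : ∀ P : Ideal A, P.IsPrime → f ∈ P → h ∈ P → P = maximalIdeal A)
    (hbad : ¬ ∀ q ∈ (Ideal.span {f}).minimalPrimes, Gen q f) :
    ∃ g : A, g ∈ (Ideal.span {f}).radical ∧
      (Ideal.span {f + h * g}).radical ⊔ Ideal.span {h} <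
        (Ideal.span {f}).radical ⊔ Ideal.span {h} := by
  classical
  have hf0 : f ≠ 0 := ne_zero_of_H hdim hh H
  have hfin : (Ideal.span {f}).minimalPrimes.Finite :=
    Ideal.finite_minimalPrimes_of_isNoetherianRing A _
  set SF : Finset (Ideal A) := hfin.toFinset with hSF
  have hmemSF : ∀ q, q ∈ SF ↔ q ∈ (Ideal.span {f}).minimalPrimes := fun q => by
    rw [hSF, Set.Finite.mem_toFinset]
  have hS : ∀ q ∈ SF, q.IsPrime ∧ q.height = 1 := fun q hq =>
    ⟨((hmemSF q).mp hq).1.1, height_eq_one_of_mem_minimalPrimes hf0 ((hmemSF q).mp hq)⟩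
  have hfq : ∀ q ∈ SF, f ∈ q := fun q hq =>
    ((hmemSF q).mp hq).1.2 (Ideal.mem_span_singleton_self f)
  have hhq : ∀ q ∈ SF, h ∉ q := by
    intro q hq hhq
    have hqm := H q (hS q hq).1 (hfq q hq) hhq
    have h1 := (hS q hq).2
    rw [hqm, height_maximalIdeal hdim] at h1
    exact absurd h1 (by norm_num)
  have hex : ∀ q, q ∈ SF → ∃ g : A, Gen q g ∧ ∀ q' ∈ SF.erase q, Sq q' g := by
    intro q hq
    haveI := (hS q hq).1
    exact exists_gen_sq q (hS q hq).2 (SF.erase q) (fun q' hq' =>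
      ⟨(hS q' (Finset.mem_of_mem_erase hq')).1, (hS q' (Finset.mem_of_mem_erase hq')).2,
        Finset.ne_of_mem_erase hq'⟩)
  choose! g hgGen hgSq using hex
  set B : Finset (Ideal A) := SF.filter (fun q => ¬ Gen q f) with hB
  set G : A := ∑ q ∈ B, g q with hG
  have key : ∀ q ∈ SF, Gen q (f + h * G) := by
    intro q hq
    obtain ⟨hqp, hqht⟩ := hS q hq
    haveI := hqp
    by_cases hqB : q ∈ B
    · have hnG : ¬ Gen q f := (Finset.mem_filter.mp hqB).2
      have hfSq : Sq q f := (gen_or_sq q hqht (hfq q hq)).resolve_left hnG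
      have hsum : G = g q + ∑ q'' ∈ B.erase q, g q'' := (Finset.add_sum_erase B g hqB).symm
      have hrest : Sq q (∑ q'' ∈ B.erase q, g q'') := Sq.sum hqp _ _ (fun q'' hq'' =>
        hgSq q'' (Finset.mem_filter.mp (Finset.mem_of_mem_erase hq'')).1 q
          (Finset.mem_erase.mpr ⟨(Finset.ne_of_mem_erase hq'').symm, hq⟩))
      have hGG : Gen q G := hsum ▸ (hgGen q hq).add hrest
      have h1 : Gen q (h * G + f) := (hGG.mul_left (hhq q hq)).add hfSq
      rwa [add_comm] at h1
    · have hG' : Gen q f := by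
        by_contra hn
        exact hqB (Finset.mem_filter.mpr ⟨hq, hn⟩)
      have hrest : Sq q G := Sq.sum hqp _ _ (fun q'' hq'' =>
        hgSq q'' (Finset.mem_filter.mp hq'').1 q
          (Finset.mem_erase.mpr ⟨fun heq => hqB (heq ▸ hq''), hq⟩))
      exact hG'.add (hrest.mul_left h)
  have hGrad : G ∈ (Ideal.span {f}).radical := by
    rw [← Ideal.sInf_minimalPrimes, Ideal.mem_sInf]
    intro q hq
    have hq' := (hmemSF q).mpr hq
    have h1 : f + h * G ∈ q := (key q hq').mem
    have h2 : h * G ∈ q := by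
      have := q.sub_mem h1 (hfq q hq')
      rwa [add_sub_cancel_left] at this
    exact ((hS q hq').1.mem_or_mem h2).resolve_left (hhq q hq')
  refine ⟨G, hGrad, ?_⟩
  set f₁ : A := f + h * G with hf₁
  have hf₁rad : f₁ ∈ (Ideal.span {f}).radical :=
    Ideal.add_mem _ (Ideal.le_radical (Ideal.mem_span_singleton_self f))
      (Ideal.mul_mem_left _ _ hGrad)
  have hle : (Ideal.span {f₁}).radical ≤ (Ideal.span {f}).radical :=
    Ideal.radical_le_radical_iff.mpr ((Ideal.span_singleton_le_iff_mem _).mpr hf₁rad)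
  refine lt_of_le_of_ne (sup_le_sup_right hle _) (fun heq => ?_)
  have hH₁ : ∀ P : Ideal A, P.IsPrime → f₁ ∈ P → h ∈ P → P = maximalIdeal A := by
    intro P hP hfP hhP
    refine H P hP ?_ hhP
    have : f = f₁ - h * G := by rw [hf₁]; ring
    rw [this]
    exact P.sub_mem hfP (P.mul_mem_right _ hhP)
  have hf₁0 : f₁ ≠ 0 := ne_zero_of_H hdim hh hH₁
  -- Nakayama
  have hL : (Ideal.span {f}).radical ≤ (Ideal.span {f₁}).radical := by
    apply Submodule.le_of_le_smul_of_le_jacobson_bot (I := Ideal.span {h})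
      (IsNoetherian.noetherian _)
    · rw [IsLocalRing.jacobson_eq_maximalIdeal ⊥ bot_ne_top]
      exact (Ideal.span_singleton_le_iff_mem _).mpr hh
    · intro x hx
      have hx' : x ∈ (Ideal.span {f₁}).radical ⊔ Ideal.span {h} := by
        rw [heq]
        exact Ideal.mem_sup_left hx
      obtain ⟨y, hy, z', hz', rfl⟩ := Submodule.mem_sup.mp hx'
      obtain ⟨z, rfl⟩ := Ideal.mem_span_singleton'.mp hz'
      have hz : z ∈ (Ideal.span {f}).radical := by
        rw [← Ideal.sInf_minimalPrimes, Ideal.mem_sInf]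
        intro q hq
        have hq' := (hmemSF q).mpr hq
        have hrq : (Ideal.span {f}).radical ≤ q := by
          haveI := hq.1.1
          exact hq.1.1.radical_le_iff.mpr hq.1.2
        have h1 : z * h ∈ q := by
          have := q.sub_mem (hrq hx) (hrq (hle hy))
          rwa [add_sub_cancel_left] at this
        exact ((hS q hq').1.mem_or_mem h1).resolve_right (hhq q hq')
      refine Submodule.add_mem_sup hy ?_
      have : z * h = h • z := by rw [smul_eq_mul, mul_comm]
      rw [this]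
      exact Submodule.smul_mem_smul (Ideal.mem_span_singleton_self h) hz
  have hrad : (Ideal.span {f₁}).radical = (Ideal.span {f}).radical := le_antisymm hle hL
  have hMin : (Ideal.span {f₁}).minimalPrimes = (Ideal.span {f}).minimalPrimes := by
    rw [← Ideal.radical_minimalPrimes, hrad, Ideal.radical_minimalPrimes]
  have hmem : f ∈ Ideal.span {f₁} := mem_span_of_gen hf₁0 (fun q hq => by
    rw [hMin] at hq
    exact ⟨key q ((hmemSF q).mpr hq), hfq q ((hmemSF q).mpr hq)⟩)
  obtain ⟨u, hu⟩ := Ideal.mem_span_singleton'.mp hmem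
  by_cases huu : IsUnit u
  · apply hbad
    intro q hq
    have hq' := (hmemSF q).mpr hq
    have huq : u ∉ q := fun huq => (hS q hq').1.ne_top (Ideal.eq_top_of_isUnit_mem _ huq huu)
    have := (key q hq').mul_left huq
    rwa [hu] at this
  · have h1 : (1 - u) * f₁ = h * G := by
      rw [sub_mul, one_mul, hu, hf₁]
      ring
    have hunit : IsUnit (1 - u) := IsLocalRing.isUnit_one_sub_self_of_mem_nonunits u huu
    obtain ⟨v, hv⟩ := hunit.exists_left_inv
    have h2 : f₁ = (v * G) * h := by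
      calc f₁ = (v * (1 - u)) * f₁ := by rw [hv, one_mul]
        _ = v * ((1 - u) * f₁) := by ring
        _ = (v * G) * h := by rw [h1]; ring
    exact notMem_span hdim hh hH₁ (Ideal.mem_span_singleton'.mpr ⟨v * G, h2.symm⟩)

/-- the core existence statement. -/
theorem exists_reduced_aux (hdim : ringKrullDim A = 2) (f₀ h : A) (hh : h ∈ maximalIdeal A)
    (H : ∀ P : Ideal A, P.IsPrime → f₀ ∈ P → h ∈ P → P = maximalIdeal A) :
    ∃ f, f ∈ (Ideal.span {f₀}).radical ∧ f ≠ 0 ∧ IsReduced (A ⧸ Ideal.span {f}) := by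
  set 𝔞 : Ideal A := Ideal.span {f₀} ⊔ Ideal.span {h} with h𝔞
  have hf₀𝔞 : f₀ ∈ 𝔞 := Ideal.mem_sup_left (Ideal.mem_span_singleton_self f₀)
  have hh𝔞 : h ∈ 𝔞 := Ideal.mem_sup_right (Ideal.mem_span_singleton_self h)
  haveI : IsArtinianRing (A ⧸ 𝔞) :=
    isArtinianRing_quot 𝔞 (fun P hP hle => H P hP (hle hf₀𝔞) (hle hh𝔞))
  let J : A → Ideal A := fun f => (Ideal.span {f}).radical ⊔ Ideal.span {h}
  let Inv : A → Prop := fun f => f - f₀ ∈ Ideal.span {h} ∧ f ∈ (Ideal.span {f₀}).radical
  let T : Set (Ideal (A ⧸ 𝔞)) := {I | ∃ f, Inv f ∧ (J f).map (Ideal.Quotient.mk 𝔞) = I}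
  have hT : T.Nonempty :=
    ⟨_, f₀, ⟨by rw [sub_self]; exact Ideal.zero_mem _,
      Ideal.le_radical (Ideal.mem_span_singleton_self f₀)⟩, rfl⟩
  obtain ⟨I, ⟨f, hInv, rfl⟩, hmin⟩ := (wellFounded_lt (α := Ideal (A ⧸ 𝔞))).has_min T hT
  have hHf : ∀ P : Ideal A, P.IsPrime → f ∈ P → h ∈ P → P = maximalIdeal A := by
    intro P hP hfP hhP
    refine H P hP ?_ hhP
    have : f₀ = f - (f - f₀) := by ring
    rw [this]
    exact P.sub_mem hfP ((Ideal.span_singleton_le_iff_mem P).mpr hhP hInv.1)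
  have hf0 : f ≠ 0 := ne_zero_of_H hdim hh hHf
  refine ⟨f, hInv.2, hf0, ?_⟩
  apply isReduced_of_gen hf0
  by_contra hbad
  obtain ⟨g, hg, hlt⟩ := step hdim h hh f hHf hbad
  have hInv₁ : Inv (f + h * g) := by
    refine ⟨?_, ?_⟩
    · have : f + h * g - f₀ = (f - f₀) + g * h := by ring
      rw [this]
      exact Ideal.add_mem _ hInv.1 (Ideal.mem_span_singleton'.mpr ⟨g, rfl⟩)
    · have hrr : (Ideal.span {f}).radical ≤ (Ideal.span {f₀}).radical :=
        Ideal.radical_le_radical_iff.mpr ((Ideal.span_singleton_le_iff_mem _).mpr hInv.2)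
      exact Ideal.add_mem _ hInv.2 (Ideal.mul_mem_left _ _ (hrr hg))
  have h𝔞J : 𝔞 ≤ J (f + h * g) := by
    rw [h𝔞]
    refine sup_le ?_ le_sup_right
    rw [Ideal.span_singleton_le_iff_mem]
    have : f₀ = (f + h * g) - (f + h * g - f₀) := by ring
    rw [this]
    exact Ideal.sub_mem _
      (Ideal.mem_sup_left (Ideal.le_radical (Ideal.mem_span_singleton_self _)))
      (Ideal.mem_sup_right hInv₁.1)
  exact hmin _ ⟨f + h * g, hInv₁, rfl⟩ (map_mk_lt h𝔞J hlt)

/-- **Main theorem**: in a two-dimensional Noetherian normal local domain, finitely many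
height-one primes contain a common nonzero element `f` with `A ⧸ (f)` reduced. -/
theorem exists_reduced_mem_primes (hdim : ringKrullDim A = 2)
    (s : Finset (Ideal A)) (hs : ∀ p ∈ s, p.IsPrime ∧ p.height = 1) :
    ∃ f : A, f ≠ 0 ∧ (∀ p ∈ s, f ∈ p) ∧ IsReduced (A ⧸ Ideal.span {f}) := by
  classical
  -- a nonzero element of the maximal ideal
  have hmne : maximalIdeal A ≠ ⊥ := by
    intro hbot
    have := height_maximalIdeal hdim
    rw [hbot, Ideal.height_bot] at this
    exact absurd this (by norm_num)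
  obtain ⟨x₀, hx₀m, hx₀⟩ := Submodule.exists_mem_ne_zero_of_ne_bot hmne
  have hex : ∀ p, p ∈ s → ∃ x : A, x ∈ p ∧ x ≠ 0 := by
    intro p hp
    have hpne : p ≠ ⊥ := Ideal.ne_bot_of_height_eq_one (hs p hp).2
    exact Submodule.exists_mem_ne_zero_of_ne_bot hpne
  choose! x hxp hx0 using hex
  set f₀ : A := x₀ * ∏ p ∈ s, x p with hf₀
  have hf₀0 : f₀ ≠ 0 := mul_ne_zero hx₀ (Finset.prod_ne_zero_iff.mpr hx0)
  have hf₀m : f₀ ∈ maximalIdeal A := Ideal.mul_mem_right _ _ hx₀m
  have hf₀s : ∀ p ∈ s, f₀ ∈ p := by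
    intro p hp
    obtain ⟨c, hc⟩ := Finset.dvd_prod_of_mem x hp
    rw [hf₀, hc]
    exact Ideal.mul_mem_left _ _ (Ideal.mul_mem_right _ _ (hxp p hp))
  -- minimal primes of f₀
  have hfin : (Ideal.span {f₀}).minimalPrimes.Finite :=
    Ideal.finite_minimalPrimes_of_isNoetherianRing A _
  set SF : Finset (Ideal A) := hfin.toFinset with hSF
  have hmemSF : ∀ q, q ∈ SF ↔ q ∈ (Ideal.span {f₀}).minimalPrimes := fun q => by
    rw [hSF, Set.Finite.mem_toFinset]
  have hS : ∀ q ∈ SF, q.IsPrime ∧ q.height = 1 := fun q hq =>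
    ⟨((hmemSF q).mp hq).1.1, height_eq_one_of_mem_minimalPrimes hf₀0 ((hmemSF q).mp hq)⟩
  -- prime avoidance
  have hav : ∃ h ∈ maximalIdeal A, ∀ q ∈ SF, h ∉ q := by
    by_contra hcon
    push_neg at hcon
    have hsub : ((maximalIdeal A : Ideal A) : Set A) ⊆ ⋃ q ∈ (SF : Set (Ideal A)), (q : Set A) := by
      intro y hy
      obtain ⟨q, hq, hyq⟩ := hcon y hy
      exact Set.mem_biUnion (Finset.mem_coe.mpr hq) hyq
    obtain ⟨q, hq, hmq⟩ := (Ideal.subset_union_prime (s := SF) (f := fun q => q) ⊥ ⊥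
      (fun q hq _ _ => (hS q hq).1)).mp hsub
    have hqm : q = maximalIdeal A :=
      ((IsLocalRing.maximalIdeal.isMaximal A).eq_of_le (hS q hq).1.ne_top hmq).symm
    have h1 := (hS q hq).2
    rw [hqm, height_maximalIdeal hdim] at h1
    exact absurd h1 (by norm_num)
  obtain ⟨h, hhm, hhq⟩ := hav
  have H : ∀ P : Ideal A, P.IsPrime → f₀ ∈ P → h ∈ P → P = maximalIdeal A := by
    intro P hP hfP hhP
    haveI := hP
    obtain ⟨q, hqmin, hqP⟩ := Ideal.exists_minimalPrimes_le
      ((Ideal.span_singleton_le_iff_mem P).mpr hfP)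
    have hq' := (hmemSF q).mpr hqmin
    haveI := (hS q hq').1
    have hlt : q < P := lt_of_le_of_ne hqP (fun heq => hhq q hq' (heq ▸ hhP))
    by_contra hne
    have hlt2 : P < maximalIdeal A :=
      lt_of_le_of_ne (IsLocalRing.le_maximalIdeal hP.ne_top) hne
    have h1 := Ideal.height_strict_mono_of_isPrime hlt
    have h2 := Ideal.height_strict_mono_of_isPrime hlt2
    rw [(hS q hq').2] at h1
    rw [height_maximalIdeal hdim] at h2
    have h3 : (1 : ℕ∞) + 1 ≤ P.height := Order.add_one_le_of_lt h1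
    have h4 : ((1 : ℕ∞) + 1) = 2 := by norm_num
    rw [h4] at h3
    exact absurd (h3.trans_lt h2) (lt_irrefl _)
  obtain ⟨f, hfrad, hf0, hred⟩ := exists_reduced_aux hdim f₀ h hhm H
  refine ⟨f, hf0, fun p hp => ?_, hred⟩
  haveI := (hs p hp).1
  exact ((hs p hp).1.radical_le_iff.mpr
    ((Ideal.span_singleton_le_iff_mem p).mpr (hf₀s p hp))) hfrad

/-- Corollary: given a nonzero `a ∈ m` there is a nonzero `c` with `A ⧸ (c)` reduced and `a ∣ cⁿ`. -/
theorem exists_reduced_dvd_pow (hdim : ringKrullDim A = 2) (a : A) (ha0 : a ≠ 0) :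
    ∃ c : A, c ≠ 0 ∧ IsReduced (A ⧸ Ideal.span {c}) ∧ ∃ n : ℕ, a ∣ c ^ n := by
  have hfin : (Ideal.span {a}).minimalPrimes.Finite :=
    Ideal.finite_minimalPrimes_of_isNoetherianRing A _
  obtain ⟨c, hc0, hcs, hred⟩ := exists_reduced_mem_primes hdim hfin.toFinset (fun q hq =>
    ⟨((Set.Finite.mem_toFinset hfin).mp hq).1.1,
      height_eq_one_of_mem_minimalPrimes ha0 ((Set.Finite.mem_toFinset hfin).mp hq)⟩)
  refine ⟨c, hc0, hred, ?_⟩
  have hcrad : c ∈ (Ideal.span {a}).radical := by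
    rw [← Ideal.sInf_minimalPrimes, Ideal.mem_sInf]
    intro q hq
    exact hcs q ((Set.Finite.mem_toFinset hfin).mpr hq)
  obtain ⟨n, hn⟩ := hcrad
  exact ⟨n, Ideal.mem_span_singleton.mp hn⟩

end Local

end Groth.Agent.H15.ReducedDiv
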