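import Groth.Agent.H15.ReducedDiv
import Groth.Agent.H71.Catenary
import Mathlib.RingTheory.Ideal.MinimalPrime.Localization

/-!
# Reduced principal divisors in catenary normal local domains

Generalisation of `ReducedDiv` to arbitrary dimension: in a catenary Noetherian normal local domain
`A`, every nonzero radical ideal contains a nonzero `f` with `A ⧸ (f)` reduced.

The modification process of `ReducedDiv` is run in `A`; termination is measured in the Artinian
ring `W⁻¹A ⧸ (f₀, h)`, where `W` is the complement of the union of the minimal primes of `(f₀, h)`.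
Catenarity is used to see that for a height-one prime `q`, the minimal primes over `q + (h)` have
height two.
-/

set_option autoImplicit false

universe u

open IsLocalRing

namespace Groth.Agent.H15.ReducedDivGen

open Groth.Agent.H15.ReducedDiv

section Defs

variable {A : Type u} [CommRing A]

theorem Gen.of_mul_left {q : Ideal A} {x u : A} (hx : Gen q (u * x)) (hu : u ∉ q) : Gen q x := by
  obtain ⟨hq, hx⟩ := hx
  refine ⟨hq, ?_⟩
  have huu : IsUnit (algebraMap A (Localization.AtPrime q) u) :=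
    IsLocalization.map_units (Localization.AtPrime q) (⟨u, hu⟩ : q.primeCompl)
  rw [map_mul, Ideal.span_singleton_mul_left_unit huu] at hx
  exact hx

/-- membership in an extended ideal of the localisation at a prime. -/
theorem algebraMap_mem_map_iff (Q : Ideal A) [Q.IsPrime] (I : Ideal A) (x : A) :
    algebraMap A (Localization.AtPrime Q) x ∈ I.map (algebraMap A (Localization.AtPrime Q)) ↔
      ∃ t, t ∉ Q ∧ t * x ∈ I := by
  constructor
  · intro hx
    rw [IsLocalization.mem_map_algebraMap_iff Q.primeCompl] at hx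
    obtain ⟨⟨⟨a, ha⟩, ⟨t, ht⟩⟩, h⟩ := hx
    simp only at h
    rw [← map_mul, IsLocalization.eq_iff_exists Q.primeCompl] at h
    obtain ⟨⟨c, hc⟩, hc'⟩ := h
    simp only at hc'
    refine ⟨c * t, fun hmem => ?_, ?_⟩
    · rcases (inferInstance : Q.IsPrime).mem_or_mem hmem with h' | h'
      · exact hc h'
      · exact ht h'
    · have : c * t * x = c * a := by rw [← hc']; ring
      rw [this]
      exact I.mul_mem_left _ ha
  · rintro ⟨t, ht, h⟩
    have hu : IsUnit (algebraMap A (Localization.AtPrime Q) t) :=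
      IsLocalization.map_units (Localization.AtPrime Q) (⟨t, ht⟩ : Q.primeCompl)
    rw [← Ideal.unit_mul_mem_iff_mem _ hu, ← map_mul]
    exact Ideal.mem_map_of_mem _ h

end Defs

section Normal

variable {A : Type u} [CommRing A] [IsDomain A] [IsNoetherianRing A] [IsIntegrallyClosed A]

/-- the modification: given `h` outside all minimal primes of `f`, there is `G` such that
`f + h G` generates `qA_q` at every minimal prime `q` of `f`. -/
theorem exists_modification {f h : A} (hf0 : f ≠ 0)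
    (hhq' : ∀ q ∈ (Ideal.span {f}).minimalPrimes, h ∉ q) :
    ∃ G : A, G ∈ (Ideal.span {f}).radical ∧
      ∀ q ∈ (Ideal.span {f}).minimalPrimes, Gen q (f + h * G) := by
  classical
  have hfin : (Ideal.span {f}).minimalPrimes.Finite :=
    Ideal.finite_minimalPrimes_of_isNoetherianRing A _
  set SF : Finset (Ideal A) := hfin.toFinset with hSF
  have hmemSF : ∀ q, q ∈ SF ↔ q ∈ (Ideal.span {f}).minimalPrimes := fun q => by
    rw [hSF, Set.Finite.mem_toFinset]
  have hS : ∀ q ∈ SF, q.IsPrime ∧ q.height = 1 := fun q hq =>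
    ⟨((hmemSF q).mp hq).1.1, height_eq_one_of_mem_minimalPrimes hf0 ((hmemSF q).mp hq)⟩
  have hfq : ∀ q ∈ SF, f ∈ q := fun q hq =>
    ((hmemSF q).mp hq).1.2 (Ideal.mem_span_singleton_self f)
  have hhq : ∀ q ∈ SF, h ∉ q := fun q hq => hhq' q ((hmemSF q).mp hq)
  have hex : ∀ q, q ∈ SF → ∃ g : A, Gen q g ∧ ∀ q' ∈ SF.erase q, Sq q' g := by
    intro q hq
    haveI := (hS q hq).1
    exact exists_gen_sq q (hS q hq).2 (SF.erase q) (fun q' hq' =>
      ⟨(hS q' (Finset.mem_of_mem_erase hq')).1, (hS q' (Finset.mem_of_mem_erase hq')).2,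
        Finset.ne_of_mem_erase hq'⟩)
  choose! g hgGen hgSq using hex
  set B : Finset (Ideal A) := SF.filter (fun q => ¬ Gen q f) with hB
  set G : A := ∑ q ∈ B, g q with hG
  have key : ∀ q ∈ SF, Gen q (f + h * G) := by
    intro q hq
    obtain ⟨hqp, hqht⟩ := hS q hq
    haveI := hqp
    by_cases hqB : q ∈ B
    · have hnG : ¬ Gen q f := (Finset.mem_filter.mp hqB).2
      have hfSq : Sq q f := (gen_or_sq q hqht (hfq q hq)).resolve_left hnG
      have hsum : G = g q + ∑ q'' ∈ B.erase q, g q'' := (Finset.add_sum_erase B g hqB).symm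
      have hrest : Sq q (∑ q'' ∈ B.erase q, g q'') := Sq.sum hqp _ _ (fun q'' hq'' =>
        hgSq q'' (Finset.mem_filter.mp (Finset.mem_of_mem_erase hq'')).1 q
          (Finset.mem_erase.mpr ⟨(Finset.ne_of_mem_erase hq'').symm, hq⟩))
      have hGG : Gen q G := hsum ▸ (hgGen q hq).add hrest
      have h1 : Gen q (h * G + f) := (hGG.mul_left (hhq q hq)).add hfSq
      rwa [add_comm] at h1
    · have hG' : Gen q f := by
        by_contra hn
        exact hqB (Finset.mem_filter.mpr ⟨hq, hn⟩)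
      have hrest : Sq q G := Sq.sum hqp _ _ (fun q'' hq'' =>
        hgSq q'' (Finset.mem_filter.mp hq'').1 q
          (Finset.mem_erase.mpr ⟨fun heq => hqB (heq ▸ hq''), hq⟩))
      exact hG'.add (hrest.mul_left h)
  have hGrad : G ∈ (Ideal.span {f}).radical := by
    rw [← Ideal.sInf_minimalPrimes, Ideal.mem_sInf]
    intro q hq
    have hq' := (hmemSF q).mpr hq
    have h1 : f + h * G ∈ q := (key q hq').mem
    have h2 : h * G ∈ q := by
      have := q.sub_mem h1 (hfq q hq')
      rwa [add_sub_cancel_left] at this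
    exact ((hS q hq').1.mem_or_mem h2).resolve_left (hhq q hq')
  exact ⟨G, hGrad, fun q hq => key q ((hmemSF q).mpr hq)⟩

end Normal

section Measure

variable {A : Type u} [CommRing A]

/-- the complement of the union of the minimal primes of `𝔞`. -/
def compl (𝔞 : Ideal A) : Submonoid A where
  carrier := {x | ∀ P ∈ 𝔞.minimalPrimes, x ∉ P}
  one_mem' := fun P hP h1 => hP.1.1.ne_top ((Ideal.eq_top_iff_one _).mpr h1)
  mul_mem' := fun {x y} hx hy P hP hxy => (hP.1.1.mem_or_mem hxy).elim (hx P hP) (hy P hP)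

theorem mem_compl {𝔞 : Ideal A} {x : A} : x ∈ compl 𝔞 ↔ ∀ P ∈ 𝔞.minimalPrimes, x ∉ P := Iff.rfl

/-- the semilocalisation of `A ⧸ 𝔞` at its minimal primes. -/
abbrev ArtQ (𝔞 : Ideal A) : Type u :=
  Localization (compl 𝔞) ⧸ 𝔞.map (algebraMap A (Localization (compl 𝔞)))

/-- the canonical map. -/
def φ (𝔞 : Ideal A) : A →+* ArtQ 𝔞 :=
  (Ideal.Quotient.mk _).comp (algebraMap A (Localization (compl 𝔞)))

theorem map_comap_φ (𝔞 : Ideal A) (I : Ideal (ArtQ 𝔞)) : (I.comap (φ 𝔞)).map (φ 𝔞) = I := by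
  unfold φ
  rw [← Ideal.comap_comap, ← Ideal.map_map, IsLocalization.map_comap (compl 𝔞),
    Ideal.map_comap_of_surjective _ Ideal.Quotient.mk_surjective]

theorem exists_mul_mem_of_φ_mem {𝔞 J₁ : Ideal A} (h𝔞 : 𝔞 ≤ J₁) {x : A}
    (hx : φ 𝔞 x ∈ J₁.map (φ 𝔞)) : ∃ w ∈ compl 𝔞, w * x ∈ J₁ := by
  unfold φ at hx
  rw [← Ideal.map_map, RingHom.comp_apply, Ideal.mem_quotient_iff_mem
    (Ideal.map_mono h𝔞), IsLocalization.mem_map_algebraMap_iff (compl 𝔞)] at hx
  obtain ⟨⟨⟨a, ha⟩, ⟨w, hw⟩⟩, h⟩ := hx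
  simp only at h
  rw [← map_mul, IsLocalization.eq_iff_exists (compl 𝔞)] at h
  obtain ⟨⟨c, hc⟩, hc'⟩ := h
  simp only at hc'
  refine ⟨c * w, (compl 𝔞).mul_mem hc hw, ?_⟩
  have : c * w * x = c * a := by rw [← hc']; ring
  rw [this]
  exact J₁.mul_mem_left _ ha

variable [IsNoetherianRing A]

theorem comap_φ_mem_minimalPrimes (𝔞 : Ideal A) (𝔔 : Ideal (ArtQ 𝔞)) [h𝔔 : 𝔔.IsPrime] :
    𝔔.comap (φ 𝔞) ∈ 𝔞.minimalPrimes := by
  classical
  have hprime : (𝔔.comap (φ 𝔞)).IsPrime := Ideal.comap_isPrime _ _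
  have hle : 𝔞 ≤ 𝔔.comap (φ 𝔞) := by
    intro x hx
    rw [Ideal.mem_comap]
    have : φ 𝔞 x = 0 := by
      unfold φ
      rw [RingHom.comp_apply, Ideal.Quotient.eq_zero_iff_mem]
      exact Ideal.mem_map_of_mem _ hx
    rw [this]
    exact 𝔔.zero_mem
  have hdisj : ∀ w ∈ compl 𝔞, w ∉ 𝔔.comap (φ 𝔞) := by
    intro w hw hmem
    rw [Ideal.mem_comap] at hmem
    have hu : IsUnit (φ 𝔞 w) := by
      unfold φ
      rw [RingHom.comp_apply]
      exact (IsLocalization.map_units (Localization (compl 𝔞)) (⟨w, hw⟩ : compl 𝔞)).map _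
    exact h𝔔.ne_top (Ideal.eq_top_of_isUnit_mem _ hmem hu)
  have hfin : 𝔞.minimalPrimes.Finite := Ideal.finite_minimalPrimes_of_isNoetherianRing A _
  have hsub : ((𝔔.comap (φ 𝔞) : Ideal A) : Set A) ⊆
      ⋃ P ∈ (hfin.toFinset : Set (Ideal A)), (P : Set A) := by
    intro x hx
    by_contra hcon
    apply hdisj x _ hx
    intro P hP hxP
    apply hcon
    exact Set.mem_biUnion (Finset.mem_coe.mpr ((Set.Finite.mem_toFinset hfin).mpr hP)) hxP
  obtain ⟨P, hP, hleP⟩ := (Ideal.subset_union_prime (s := hfin.toFinset) (f := fun q => q) ⊥ ⊥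
    (fun q hq _ _ => ((Set.Finite.mem_toFinset hfin).mp hq).1.1)).mp hsub
  have hPmin := (Set.Finite.mem_toFinset hfin).mp hP
  have : 𝔔.comap (φ 𝔞) = P := le_antisymm hleP (hPmin.2 ⟨hprime, hle⟩ hleP)
  rw [this]
  exact hPmin

theorem isArtinianRing_artQ (𝔞 : Ideal A) : IsArtinianRing (ArtQ 𝔞) := by
  haveI : IsNoetherianRing (Localization (compl 𝔞)) :=
    IsLocalization.isNoetherianRing (compl 𝔞) _ inferInstance
  rw [isArtinianRing_iff_isNoetherianRing_krullDimLE_zero]
  refine ⟨inferInstance, Ring.krullDimLE_zero_iff.mpr fun 𝔓 h𝔓 => ?_⟩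
  obtain ⟨𝔐, h𝔐, hle⟩ := Ideal.exists_le_maximal 𝔓 h𝔓.ne_top
  haveI := h𝔐.isPrime
  have h1 := comap_φ_mem_minimalPrimes 𝔞 𝔓
  have h2 := comap_φ_mem_minimalPrimes 𝔞 𝔐
  have h3 : 𝔐.comap (φ 𝔞) ≤ 𝔓.comap (φ 𝔞) := h2.2 h1.1 (Ideal.comap_mono hle)
  have h4 : 𝔐 ≤ 𝔓 := by
    rw [← map_comap_φ 𝔞 𝔐, ← map_comap_φ 𝔞 𝔓]
    exact Ideal.map_mono h3
  have : 𝔓 = 𝔐 := le_antisymm hle h4
  rw [this]
  exact h𝔐

end Measure

section Local

variable {A : Type u} [CommRing A] [IsDomain A] [IsNoetherianRing A] [IsIntegrallyClosed A]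
  [IsLocalRing A]

omit [IsIntegrallyClosed A] in
/-- in a catenary Noetherian local domain, a prime minimal over `q + (h)` with `q` of height one
has height at most two. -/
theorem height_le_two_of_catenary (hc : CAlg.IsCatenary A) {q P : Ideal A} [hq : q.IsPrime]
    (hqht : q.height = 1) {h : A} (hhq : h ∉ q)
    (hP : P ∈ (q ⊔ Ideal.span {h}).minimalPrimes) : P.height ≤ 2 := by
  have hPp : P.IsPrime := hP.1.1
  have hqP : q ≤ P := le_sup_left.trans hP.1.2
  have hhP : h ∈ P := hP.1.2 (Ideal.mem_sup_right (Ideal.mem_span_singleton_self h))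
  set x : PrimeSpectrum A := ⊥ with hx
  set y : PrimeSpectrum A := ⟨q, hq⟩ with hy
  set z : PrimeSpectrum A := ⟨P, hPp⟩ with hz
  have hxy : x ⋖ y := by
    refine ⟨lt_of_le_of_ne bot_le (fun heq => ?_), fun r h1 h2 => ?_⟩
    · exact (Ideal.ne_bot_of_height_eq_one hqht) (congrArg PrimeSpectrum.asIdeal heq).symm
    · haveI := r.isPrime
      have hr0 : r.asIdeal ≠ ⊥ := fun h0 => h1.ne (PrimeSpectrum.ext h0.symm)
      have h3 : (1 : ℕ∞) ≤ r.asIdeal.height := by
        rw [Order.one_le_iff_pos, pos_iff_ne_zero, Ne, Ideal.height_eq_zero_iff_eq_bot]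
        exact hr0
      have h4 := Ideal.height_strict_mono_of_isPrime (show r.asIdeal < q from h2)
      rw [hqht] at h4
      exact absurd (h3.trans_lt h4) (lt_irrefl _)
  have hyz : y ⋖ z := by
    refine ⟨lt_of_le_of_ne hqP (fun heq => hhq ?_), fun r h1 h2 => ?_⟩
    · have : q = P := congrArg PrimeSpectrum.asIdeal heq
      rw [this]
      exact hhP
    · haveI := r.isPrime
      have hle := Ideal.map_height_le_one_of_mem_minimalPrimes hP
      have hqr : q ≤ r.asIdeal := h1.le
      have hrP : r.asIdeal ≤ P := h2.le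
      have hker : RingHom.ker (Ideal.Quotient.mk q) ≤ r.asIdeal := by
        rw [Ideal.mk_ker]
        exact hqr
      have hrp : (r.asIdeal.map (Ideal.Quotient.mk q)).IsPrime :=
        Ideal.map_isPrime_of_surjective Ideal.Quotient.mk_surjective hker
      have hPp' : (P.map (Ideal.Quotient.mk q)).IsPrime :=
        Ideal.map_isPrime_of_surjective Ideal.Quotient.mk_surjective (by
          rw [Ideal.mk_ker]
          exact hqP)
      have hcm : ∀ I : Ideal A, q ≤ I →
          (I.map (Ideal.Quotient.mk q)).comap (Ideal.Quotient.mk q) = I := by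
        intro I hI
        rw [Ideal.comap_map_of_surjective (Ideal.Quotient.mk q) Ideal.Quotient.mk_surjective,
          ← RingHom.ker_eq_comap_bot, Ideal.mk_ker, sup_eq_left.mpr hI]
      have hlt : r.asIdeal.map (Ideal.Quotient.mk q) < P.map (Ideal.Quotient.mk q) := by
        refine lt_of_le_of_ne (Ideal.map_mono hrP) (fun heq => ?_)
        have := congrArg (Ideal.comap (Ideal.Quotient.mk q)) heq
        rw [hcm _ hqr, hcm _ hqP] at this
        exact h2.ne (PrimeSpectrum.ext this)
      have hr0 : r.asIdeal.map (Ideal.Quotient.mk q) ≠ ⊥ := by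
        intro h0
        have hrq : r.asIdeal ≤ q := by
          rw [← hcm _ hqr, h0, ← RingHom.ker_eq_comap_bot, Ideal.mk_ker]
        exact absurd h1 (not_lt_of_ge hrq)
      have h3 : (1 : ℕ∞) ≤ (r.asIdeal.map (Ideal.Quotient.mk q)).height := by
        rw [Order.one_le_iff_pos, pos_iff_ne_zero, Ne, Ideal.height_eq_zero_iff_eq_bot]
        exact hr0
      have h4 := Ideal.height_strict_mono_of_isPrime hlt
      exact absurd ((h3.trans_lt h4).trans_le hle) (lt_irrefl _)
  have e1 := Groth.Agent.H71.CAT.coheight_eq_of_covBy hc hxy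
  have e2 := Groth.Agent.H71.CAT.coheight_eq_of_covBy hc hyz
  have h5 : Order.height z + Order.coheight z ≤ Order.coheight x := by
    have h6 := Order.krullDim_eq_iSup_height_add_coheight_of_nonempty (α := PrimeSpectrum A)
    rw [← Order.coheight_bot_eq_krullDim] at h6
    have h7 := WithBot.coe_injective h6
    rw [hx, h7]
    exact le_iSup (fun a : PrimeSpectrum A => Order.height a + Order.coheight a) z
  rw [e1, e2] at h5
  have hfin : Order.coheight z ≠ ⊤ := by
    intro htop
    have h8 := Order.coheight_le_krullDim z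
    rw [htop] at h8
    have h9 : Order.krullDim (PrimeSpectrum A) < ⊤ := ringKrullDim_lt_top (R := A)
    exact absurd (lt_of_le_of_lt h8 h9) (lt_irrefl _)
  have h10 : Order.height z ≤ 2 := by
    have h11 : Order.height z + Order.coheight z ≤ 2 + Order.coheight z := by
      have : Order.coheight z + 1 + 1 = 2 + Order.coheight z := by
        rw [add_assoc, one_add_one_eq_two, add_comm]
      rw [← this]
      exact h5
    exact (ENat.add_le_add_iff_right hfin).mp h11
  have h12 := PrimeSpectrum.height_eq_orderHeight z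
  rw [← h12] at h10
  exact h10

/-- the condition that every prime containing `f` and `h` has height at least two. -/
def H2 (h f : A) : Prop :=
  ∀ P : Ideal A, P.IsPrime → f ∈ P → h ∈ P → (2 : ℕ∞) ≤ P.height

omit [IsIntegrallyClosed A] in
theorem notMem_span_of_H2 {f h : A} (hh : h ∈ maximalIdeal A) (H : H2 h f) :
    f ∉ Ideal.span {h} := by
  intro hf
  have hne : Ideal.span {h} ≠ ⊤ := by
    intro htop
    have : Ideal.span {h} ≤ maximalIdeal A := (Ideal.span_singleton_le_iff_mem _).mpr hh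
    rw [htop] at this
    exact (IsLocalRing.maximalIdeal.isMaximal A).ne_top (top_le_iff.mp this)
  obtain ⟨P, hP⟩ := Ideal.nonempty_minimalPrimes hne
  have h2 := H P hP.1.1 (hP.1.2 hf) (hP.1.2 (Ideal.mem_span_singleton_self h))
  have hle := Ideal.height_le_one_of_isPrincipal_of_mem_minimalPrimes _ P hP
  exact absurd (h2.trans hle) (by norm_num)

omit [IsIntegrallyClosed A] in
theorem ne_zero_of_H2 {f h : A} (hh : h ∈ maximalIdeal A) (H : H2 h f) : f ≠ 0 := by
  intro h0
  exact notMem_span_of_H2 hh H (h0 ▸ Ideal.zero_mem _)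

theorem notMem_of_H2 {f h : A} (hh : h ∈ maximalIdeal A) (H : H2 h f) {q : Ideal A}
    (hq : q ∈ (Ideal.span {f}).minimalPrimes) : h ∉ q := by
  intro hhq
  have h1 := height_eq_one_of_mem_minimalPrimes (ne_zero_of_H2 hh H) hq
  have h2 := H q hq.1.1 (hq.1.2 (Ideal.mem_span_singleton_self f)) hhq
  rw [h1] at h2
  exact absurd h2 (by norm_num)

/-- the modification step, with the localised measure. -/
theorem stepGen (hc : CAlg.IsCatenary A) {h : A} (hh : h ∈ maximalIdeal A) {f : A}
    (H : H2 h f) (W : Set A)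
    (hW : ∀ P : Ideal A, P.IsPrime → f ∈ P → h ∈ P → P.height ≤ 2 → ∀ w ∈ W, w ∉ P)
    (hbad : ¬ ∀ q ∈ (Ideal.span {f}).minimalPrimes, Gen q f) :
    ∃ g : A, g ∈ (Ideal.span {f}).radical ∧
      ¬ ∀ x ∈ (Ideal.span {f}).radical, ∃ w ∈ W,
        w * x ∈ (Ideal.span {f + h * g}).radical ⊔ Ideal.span {h} := by
  classical
  have hf0 : f ≠ 0 := ne_zero_of_H2 hh H
  have hhS : ∀ q ∈ (Ideal.span {f}).minimalPrimes, h ∉ q := fun q hq => notMem_of_H2 hh H hq
  obtain ⟨G, hGrad, key⟩ := exists_modification hf0 hhS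
  refine ⟨G, hGrad, fun hdag => ?_⟩
  set f₁ : A := f + h * G with hf₁
  have H₁ : H2 h f₁ := by
    intro P hP hfP hhP
    refine H P hP ?_ hhP
    have : f = f₁ - h * G := by rw [hf₁]; ring
    rw [this]
    exact P.sub_mem hfP (P.mul_mem_right _ hhP)
  have hf₁0 : f₁ ≠ 0 := ne_zero_of_H2 hh H₁
  have hf₁rad : f₁ ∈ (Ideal.span {f}).radical :=
    Ideal.add_mem _ (Ideal.le_radical (Ideal.mem_span_singleton_self f))
      (Ideal.mul_mem_left _ _ hGrad)
  have hle : (Ideal.span {f₁}).radical ≤ (Ideal.span {f}).radical :=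
    Ideal.radical_le_radical_iff.mpr ((Ideal.span_singleton_le_iff_mem _).mpr hf₁rad)
  push_neg at hbad
  obtain ⟨q₀, hq₀, hnG⟩ := hbad
  have hq₀p : q₀.IsPrime := hq₀.1.1
  haveI := hq₀p
  have hq₀ht := height_eq_one_of_mem_minimalPrimes hf0 hq₀
  have hfq₀ : f ∈ q₀ := hq₀.1.2 (Ideal.mem_span_singleton_self f)
  have hne : q₀ ⊔ Ideal.span {h} ≠ ⊤ := by
    intro htop
    have : q₀ ⊔ Ideal.span {h} ≤ maximalIdeal A :=
      sup_le (IsLocalRing.le_maximalIdeal hq₀p.ne_top) ((Ideal.span_singleton_le_iff_mem _).mpr hh)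
    rw [htop] at this
    exact (IsLocalRing.maximalIdeal.isMaximal A).ne_top (top_le_iff.mp this)
  obtain ⟨P, hP⟩ := Ideal.nonempty_minimalPrimes hne
  have hPp : P.IsPrime := hP.1.1
  haveI := hPp
  have hq₀P : q₀ ≤ P := le_sup_left.trans hP.1.2
  have hhP : h ∈ P := hP.1.2 (Ideal.mem_sup_right (Ideal.mem_span_singleton_self h))
  have hPht : P.height ≤ 2 := height_le_two_of_catenary hc hq₀ht (hhS q₀ hq₀) hP
  have hWP : ∀ w ∈ W, w ∉ P := hW P hPp (hq₀P hfq₀) hhP hPht
  -- no new minimal primes inside `P`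
  have hnonew : ∀ q' ∈ (Ideal.span {f₁}).minimalPrimes, q' ≤ P →
      q' ∈ (Ideal.span {f}).minimalPrimes := by
    intro q' hq' hq'P
    have hq'p : q'.IsPrime := hq'.1.1
    haveI := hq'p
    have hq'ht := height_eq_one_of_mem_minimalPrimes hf₁0 hq'
    suffices hfq' : f ∈ q' from mem_minimalPrimes_of_height_le_one hf0 hfq' hq'ht.le
    have hrq' : (Ideal.span {f₁}).radical ≤ q' := hq'p.radical_le_iff.mpr hq'.1.2
    have hNak : ((Ideal.span {f}).radical).map (algebraMap A (Localization.AtPrime P)) ≤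
        q'.map (algebraMap A (Localization.AtPrime P)) := by
      apply Submodule.le_of_le_smul_of_le_jacobson_bot
        (I := Ideal.span {algebraMap A (Localization.AtPrime P) h}) (IsNoetherian.noetherian _)
      · rw [IsLocalRing.jacobson_eq_maximalIdeal ⊥ bot_ne_top, Ideal.span_singleton_le_iff_mem]
        exact (IsLocalization.AtPrime.to_map_mem_maximal_iff (Localization.AtPrime P) P h).mpr hhP
      · rw [Ideal.map_le_iff_le_comap]
        intro x hx
        rw [Ideal.mem_comap]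
        obtain ⟨w, hwW, hwx⟩ := hdag x hx
        obtain ⟨y, hy, z', hz', hyz⟩ := Submodule.mem_sup.mp hwx
        obtain ⟨z, rfl⟩ := Ideal.mem_span_singleton'.mp hz'
        have hz : z ∈ (Ideal.span {f}).radical := by
          rw [← Ideal.sInf_minimalPrimes, Ideal.mem_sInf]
          intro q hq
          have hrq : (Ideal.span {f}).radical ≤ q := hq.1.1.radical_le_iff.mpr hq.1.2
          have h1 : z * h ∈ q := by
            have h2 : w * x ∈ q := q.mul_mem_left _ (hrq hx)
            rw [← hyz] at h2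
            have := q.sub_mem h2 (hrq (hle hy))
            rwa [add_sub_cancel_left] at this
          exact (hq.1.1.mem_or_mem h1).resolve_right (hhS q hq)
        have hu : IsUnit (algebraMap A (Localization.AtPrime P) w) :=
          IsLocalization.map_units (Localization.AtPrime P) (⟨w, hWP w hwW⟩ : P.primeCompl)
        have e : algebraMap A (Localization.AtPrime P) w * algebraMap A (Localization.AtPrime P) x =
            algebraMap A (Localization.AtPrime P) y +
              algebraMap A (Localization.AtPrime P) h • algebraMap A (Localization.AtPrime P) z := by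
          rw [smul_eq_mul, ← map_mul, ← map_mul, ← map_add, ← hyz, mul_comm h z]
        rw [← Ideal.unit_mul_mem_iff_mem _ hu, e]
        refine Submodule.add_mem_sup (Ideal.mem_map_of_mem _ (hrq' hy)) ?_
        exact Submodule.smul_mem_smul (Ideal.mem_span_singleton_self _)
          (Ideal.mem_map_of_mem _ hz)
    have h1 : algebraMap A (Localization.AtPrime P) f ∈
        q'.map (algebraMap A (Localization.AtPrime P)) :=
      hNak (Ideal.mem_map_of_mem _ (Ideal.le_radical (Ideal.mem_span_singleton_self f)))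
    have hdisj : Disjoint (P.primeCompl : Set A) (q' : Set A) :=
      Set.disjoint_left.mpr (fun a ha haq => ha (hq'P haq))
    have hcm := IsLocalization.comap_map_of_isPrime_disjoint P.primeCompl
      (Localization.AtPrime P) hq'p hdisj
    rw [← hcm]
    exact h1
  -- local membership
  have hmem : ∃ s, s ∉ P ∧ s * f ∈ Ideal.span {f₁} := by
    have hfin₁ : (Ideal.span {f₁}).minimalPrimes.Finite :=
      Ideal.finite_minimalPrimes_of_isNoetherianRing A _
    have hF : ∀ F : Finset (Ideal A),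
        (∀ Q ∈ F, Q ∈ (Ideal.span {f₁}).minimalPrimes ∧ ¬ Q ≤ P) →
        ∃ s, s ∉ P ∧ ∀ Q ∈ F, ∃ t, t ∉ Q ∧ t * s ∈ Ideal.span {f₁} := by
      intro F
      induction F using Finset.induction_on with
      | empty =>
        exact fun _ => ⟨1, (Ideal.ne_top_iff_one P).mp hPp.ne_top, by simp⟩
      | insert Q F hQF ih =>
        intro hall
        obtain ⟨s, hsP, hs⟩ := ih (fun Q' hQ' => hall Q' (Finset.mem_insert_of_mem hQ'))
        obtain ⟨hQmin, hQP⟩ := hall Q (Finset.mem_insert_self Q F)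
        have hQp : Q.IsPrime := hQmin.1.1
        haveI := hQp
        obtain ⟨sQ, hsQ, hsQP⟩ := SetLike.not_le_iff_exists.mp hQP
        have hrad := IsLocalization.AtPrime.radical_map_of_mem_minimalPrimes
          (Localization.AtPrime Q) Q (Ideal.span {f₁}) hQmin
        have h1 : algebraMap A (Localization.AtPrime Q) sQ ∈
            ((Ideal.span {f₁}).map (algebraMap A (Localization.AtPrime Q))).radical := by
          rw [hrad]
          exact Ideal.mem_map_of_mem _ hsQ
        obtain ⟨n, hn⟩ := h1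
        rw [← map_pow, algebraMap_mem_map_iff] at hn
        obtain ⟨t, htQ, ht⟩ := hn
        refine ⟨s * sQ ^ n, fun hmem => ?_, fun Q' hQ' => ?_⟩
        · rcases hPp.mem_or_mem hmem with h' | h'
          · exact hsP h'
          · exact hsQP (hPp.mem_of_pow_mem n h')
        · rcases Finset.mem_insert.mp hQ' with heq | hQ'
          · subst heq
            refine ⟨t, htQ, ?_⟩
            have : t * (s * sQ ^ n) = s * (t * sQ ^ n) := by ring
            rw [this]
            exact Ideal.mul_mem_left _ _ ht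
          · obtain ⟨t', ht'Q, ht'⟩ := hs Q' hQ'
            refine ⟨t', ht'Q, ?_⟩
            have : t' * (s * sQ ^ n) = sQ ^ n * (t' * s) := by ring
            rw [this]
            exact Ideal.mul_mem_left _ _ ht'
    obtain ⟨s, hsP, hs⟩ := hF (hfin₁.toFinset.filter (fun Q => ¬ Q ≤ P)) (fun Q hQ => by
      rw [Finset.mem_filter, Set.Finite.mem_toFinset] at hQ
      exact hQ)
    refine ⟨s, hsP, ?_⟩
    obtain ⟨-, hS2⟩ := hasRk_hasSk (A := A)
    apply SerreNormal.mem_span_of_forall_height_le_one hS2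
      (IsRegular.of_ne_zero hf₁0).left.isSMulRegular
    intro Q hQ hQht
    by_cases hf₁Q : f₁ ∈ Q
    · have hQmin := mem_minimalPrimes_of_height_le_one hf₁0 hf₁Q hQht
      by_cases hQP : Q ≤ P
      · have hQS := hnonew Q hQmin hQP
        obtain ⟨_, hG⟩ := key Q hQS
        rw [hG]
        exact (IsLocalization.AtPrime.to_map_mem_maximal_iff (Localization.AtPrime Q) Q _).mpr
          (Q.mul_mem_left _ (hQS.1.2 (Ideal.mem_span_singleton_self f)))
      · obtain ⟨t, htQ, ht⟩ := hs Q (Finset.mem_filter.mpr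
          ⟨(Set.Finite.mem_toFinset hfin₁).mpr hQmin, hQP⟩)
        have h1 : algebraMap A (Localization.AtPrime Q) s ∈
            (Ideal.span {f₁}).map (algebraMap A (Localization.AtPrime Q)) :=
          (algebraMap_mem_map_iff Q _ s).mpr ⟨t, htQ, ht⟩
        rw [Ideal.map_span, Set.image_singleton] at h1
        rw [map_mul]
        exact Ideal.mul_mem_right _ _ h1
    · have hu : IsUnit (algebraMap A (Localization.AtPrime Q) f₁) :=
        IsLocalization.map_units (Localization.AtPrime Q) (⟨f₁, hf₁Q⟩ : Q.primeCompl)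
      rw [Ideal.span_singleton_eq_top.mpr hu]
      trivial
  -- the contradiction
  obtain ⟨s, hsP, hsf⟩ := hmem
  obtain ⟨c, hc'⟩ := Ideal.mem_span_singleton'.mp hsf
  have hcq₀ : c ∈ q₀ := by
    by_contra hcn
    have h1 : Gen q₀ (c * f₁) := (key q₀ hq₀).mul_left hcn
    rw [hc'] at h1
    exact hnG (Gen.of_mul_left h1 (fun hs => hsP (hq₀P hs)))
  have htP : s - c ∉ P := by
    intro h'
    apply hsP
    have := P.add_mem h' (hq₀P hcq₀)
    rwa [sub_add_cancel] at this
  have h2 : (s - c) * f₁ = (s * G) * h := by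
    calc (s - c) * f₁ = s * f₁ - c * f₁ := by ring
      _ = s * (f + h * G) - s * f := by rw [hc']
      _ = (s * G) * h := by ring
  obtain ⟨P₀, hP₀min, hP₀P⟩ := Ideal.exists_minimalPrimes_le
    (show Ideal.span {h} ≤ P from (Ideal.span_singleton_le_iff_mem P).mpr hhP)
  have hP₀ht := Ideal.height_le_one_of_isPrincipal_of_mem_minimalPrimes _ P₀ hP₀min
  have hhP₀ : h ∈ P₀ := hP₀min.1.2 (Ideal.mem_span_singleton_self h)
  have hf₁P₀ : f₁ ∈ P₀ := by
    have h3 : (s - c) * f₁ ∈ P₀ := by
      rw [h2]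
      exact P₀.mul_mem_left _ hhP₀
    exact (hP₀min.1.1.mem_or_mem h3).resolve_left (fun h' => htP (hP₀P h'))
  have h4 := H₁ P₀ hP₀min.1.1 hf₁P₀ hhP₀
  exact absurd (h4.trans hP₀ht) (by norm_num)

/-- the core existence statement in arbitrary dimension. -/
theorem exists_reduced_gen (hc : CAlg.IsCatenary A) (f₀ h : A) (hh : h ∈ maximalIdeal A)
    (H : H2 h f₀) :
    ∃ f, f ∈ (Ideal.span {f₀}).radical ∧ f ≠ 0 ∧ IsReduced (A ⧸ Ideal.span {f}) := by
  set 𝔞 : Ideal A := Ideal.span {f₀} ⊔ Ideal.span {h} with h𝔞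
  have hf₀𝔞 : f₀ ∈ 𝔞 := Ideal.mem_sup_left (Ideal.mem_span_singleton_self f₀)
  have hh𝔞 : h ∈ 𝔞 := Ideal.mem_sup_right (Ideal.mem_span_singleton_self h)
  haveI : IsArtinianRing (ArtQ 𝔞) := isArtinianRing_artQ 𝔞
  let J : A → Ideal A := fun f => (Ideal.span {f}).radical ⊔ Ideal.span {h}
  let Inv : A → Prop := fun f => f - f₀ ∈ Ideal.span {h} ∧ f ∈ (Ideal.span {f₀}).radical
  let T : Set (Ideal (ArtQ 𝔞)) := {I | ∃ f, Inv f ∧ (J f).map (φ 𝔞) = I}
  have hT : T.Nonempty :=
    ⟨_, f₀, ⟨by rw [sub_self]; exact Ideal.zero_mem _,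
      Ideal.le_radical (Ideal.mem_span_singleton_self f₀)⟩, rfl⟩
  obtain ⟨I, ⟨f, hInv, rfl⟩, hmin⟩ := (wellFounded_lt (α := Ideal (ArtQ 𝔞))).has_min T hT
  have hf₀f : ∀ P : Ideal A, f ∈ P → h ∈ P → f₀ ∈ P := by
    intro P hfP hhP
    have : f₀ = f - (f - f₀) := by ring
    rw [this]
    exact P.sub_mem hfP ((Ideal.span_singleton_le_iff_mem P).mpr hhP hInv.1)
  have hHf : H2 h f := fun P hP hfP hhP => H P hP (hf₀f P hfP hhP) hhP
  have hf0 : f ≠ 0 := ne_zero_of_H2 hh hHf
  refine ⟨f, hInv.2, hf0, ?_⟩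
  apply isReduced_of_gen hf0
  by_contra hbad
  have hW : ∀ P : Ideal A, P.IsPrime → f ∈ P → h ∈ P → P.height ≤ 2 →
      ∀ w ∈ (compl 𝔞 : Set A), w ∉ P := by
    intro P hP hfP hhP hPht w hw
    haveI := hP
    have h𝔞P : 𝔞 ≤ P := sup_le ((Ideal.span_singleton_le_iff_mem P).mpr (hf₀f P hfP hhP))
      ((Ideal.span_singleton_le_iff_mem P).mpr hhP)
    have hPmin : P ∈ 𝔞.minimalPrimes := by
      refine ⟨⟨hP, h𝔞P⟩, fun P'' hP'' hle => ?_⟩
      by_contra hnle
      haveI := hP''.1
      have hlt : P'' < P := lt_of_le_of_ne hle (fun heq => hnle (heq ▸ le_rfl))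
      have h1 := Ideal.height_strict_mono_of_isPrime hlt
      have h2 := H P'' hP''.1 (hP''.2 hf₀𝔞) (hP''.2 hh𝔞)
      exact absurd ((h2.trans_lt h1).trans_le hPht) (lt_irrefl _)
    exact hw P hPmin
  obtain ⟨g, hg, hndag⟩ := stepGen hc hh hHf (compl 𝔞 : Set A) hW hbad
  have hInv₁ : Inv (f + h * g) := by
    refine ⟨?_, ?_⟩
    · have : f + h * g - f₀ = (f - f₀) + g * h := by ring
      rw [this]
      exact Ideal.add_mem _ hInv.1 (Ideal.mem_span_singleton'.mpr ⟨g, rfl⟩)
    · have hrr : (Ideal.span {f}).radical ≤ (Ideal.span {f₀}).radical :=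
        Ideal.radical_le_radical_iff.mpr ((Ideal.span_singleton_le_iff_mem _).mpr hInv.2)
      exact Ideal.add_mem _ hInv.2 (Ideal.mul_mem_left _ _ (hrr hg))
  have h𝔞J : 𝔞 ≤ J (f + h * g) := by
    rw [h𝔞]
    refine sup_le ?_ le_sup_right
    rw [Ideal.span_singleton_le_iff_mem]
    have : f₀ = (f + h * g) - (f + h * g - f₀) := by ring
    rw [this]
    exact Ideal.sub_mem _
      (Ideal.mem_sup_left (Ideal.le_radical (Ideal.mem_span_singleton_self _)))
      (Ideal.mem_sup_right hInv₁.1)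
  have hJle : J (f + h * g) ≤ J f := by
    refine sup_le_sup_right (Ideal.radical_le_radical_iff.mpr
      ((Ideal.span_singleton_le_iff_mem _).mpr ?_)) _
    exact Ideal.add_mem _ (Ideal.le_radical (Ideal.mem_span_singleton_self f))
      (Ideal.mul_mem_left _ _ hg)
  apply hmin _ ⟨f + h * g, hInv₁, rfl⟩
  refine lt_of_le_of_ne (Ideal.map_mono hJle) (fun heq => hndag ?_)
  intro x hx
  have hx' : φ 𝔞 x ∈ (J (f + h * g)).map (φ 𝔞) := by
    rw [heq]
    exact Ideal.mem_map_of_mem _ (Ideal.mem_sup_left hx)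
  exact exists_mul_mem_of_φ_mem h𝔞J hx'

/-- **Main theorem**: in a catenary Noetherian normal local domain every nonzero radical ideal
contains a nonzero element `f` with `A ⧸ (f)` reduced. -/
theorem exists_reduced_mem_radical (hc : CAlg.IsCatenary A) (J : Ideal A) (hJ : J.IsRadical)
    (hJ0 : J ≠ ⊥) : ∃ f ∈ J, f ≠ 0 ∧ IsReduced (A ⧸ Ideal.span {f}) := by
  classical
  by_cases hJtop : J = ⊤
  · refine ⟨1, hJtop ▸ Submodule.mem_top, one_ne_zero, ?_⟩
    have : Subsingleton (A ⧸ Ideal.span {(1 : A)}) := by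
      rw [Ideal.span_singleton_one]
      exact Ideal.Quotient.subsingleton_iff.mpr rfl
    exact ⟨fun x _ => Subsingleton.elim x 0⟩
  have hJm : J ≤ maximalIdeal A := IsLocalRing.le_maximalIdeal hJtop
  obtain ⟨f₀, hf₀J, hf₀0⟩ := Submodule.exists_mem_ne_zero_of_ne_bot hJ0
  have hfin : (Ideal.span {f₀}).minimalPrimes.Finite :=
    Ideal.finite_minimalPrimes_of_isNoetherianRing A _
  by_cases hm : maximalIdeal A ∈ (Ideal.span {f₀}).minimalPrimes
  · -- dimension one
    have hmht := height_eq_one_of_mem_minimalPrimes hf₀0 hm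
    obtain ⟨π, hπ⟩ := exists_gen (maximalIdeal A) hmht
    have hπ0 : π ≠ 0 := by
      intro h0
      obtain ⟨_, hG⟩ := hπ
      rw [h0, map_zero] at hG
      have h1 : algebraMap A (Localization.AtPrime (maximalIdeal A)) f₀ ∈
          maximalIdeal (Localization.AtPrime (maximalIdeal A)) :=
        (IsLocalization.AtPrime.to_map_mem_maximal_iff _ (maximalIdeal A) f₀).mpr (hJm hf₀J)
      rw [← hG, Ideal.mem_span_singleton, zero_dvd_iff] at h1
      exact hf₀0 ((IsLocalization.injective (Localization.AtPrime (maximalIdeal A))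
        (maximalIdeal A).primeCompl_le_nonZeroDivisors) (by rw [h1, map_zero]))
    have hmJ : maximalIdeal A ≤ J := by
      have hJr : J = J.radical := hJ.radical.symm
      rw [hJr, Ideal.radical_eq_sInf]
      refine le_sInf fun P hP => ?_
      haveI := hP.2
      have hP0 : P ≠ ⊥ := fun h0 => hJ0 (le_bot_iff.mp (h0 ▸ hP.1))
      have h1 : (1 : ℕ∞) ≤ P.height := by
        rw [Order.one_le_iff_pos, pos_iff_ne_zero, Ne, Ideal.height_eq_zero_iff_eq_bot]
        exact hP0
      exact (eq_of_le_of_height (IsLocalRing.le_maximalIdeal hP.2.ne_top) h1 hmht.le).ge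
    refine ⟨π, hmJ hπ.mem, hπ0, isReduced_of_gen hπ0 (fun q hq => ?_)⟩
    haveI := hq.1.1
    have hqht := height_eq_one_of_mem_minimalPrimes hπ0 hq
    have : q = maximalIdeal A :=
      eq_of_le_of_height (IsLocalRing.le_maximalIdeal hq.1.1.ne_top) hqht.ge hmht.le
    rw [this]
    exact hπ
  · -- prime avoidance
    have hav : ∃ h ∈ maximalIdeal A, ∀ q ∈ (Ideal.span {f₀}).minimalPrimes, h ∉ q := by
      by_contra hcon
      push_neg at hcon
      have hsub : ((maximalIdeal A : Ideal A) : Set A) ⊆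
          ⋃ q ∈ (hfin.toFinset : Set (Ideal A)), (q : Set A) := by
        intro y hy
        obtain ⟨q, hq, hyq⟩ := hcon y hy
        exact Set.mem_biUnion (Finset.mem_coe.mpr ((Set.Finite.mem_toFinset hfin).mpr hq)) hyq
      obtain ⟨q, hq, hmq⟩ := (Ideal.subset_union_prime (s := hfin.toFinset) (f := fun q => q)
        ⊥ ⊥ (fun q hq _ _ => ((Set.Finite.mem_toFinset hfin).mp hq).1.1)).mp hsub
      have hq' := (Set.Finite.mem_toFinset hfin).mp hq
      have hqm : q = maximalIdeal A :=
        ((IsLocalRing.maximalIdeal.isMaximal A).eq_of_le hq'.1.1.ne_top hmq).symm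
      exact hm (hqm ▸ hq')
    obtain ⟨h, hhm, hhq⟩ := hav
    have H : H2 h f₀ := by
      intro P hP hfP hhP
      haveI := hP
      obtain ⟨q, hqmin, hqP⟩ := Ideal.exists_minimalPrimes_le
        ((Ideal.span_singleton_le_iff_mem P).mpr hfP)
      haveI := hqmin.1.1
      have hlt : q < P := lt_of_le_of_ne hqP (fun heq => hhq q hqmin (heq ▸ hhP))
      have h1 := Ideal.height_strict_mono_of_isPrime hlt
      rw [height_eq_one_of_mem_minimalPrimes hf₀0 hqmin] at h1
      have h3 : (1 : ℕ∞) + 1 ≤ P.height := Order.add_one_le_of_lt h1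
      rwa [one_add_one_eq_two] at h3
    obtain ⟨f, hfrad, hf0, hred⟩ := exists_reduced_gen hc f₀ h hhm H
    exact ⟨f, (hJ.radical_le_iff.mpr ((Ideal.span_singleton_le_iff_mem J).mpr hf₀J)) hfrad,
      hf0, hred⟩

end Local

end Groth.Agent.H15.ReducedDivGen
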