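import Mathlib
import Groth.Agent.H15.StrictSub2

/-!
# Directed union of essentially étale local subalgebras (S16433)
-/

set_option autoImplicit false
set_option linter.style.haveILetI false
set_option linter.unusedSectionVars false
set_option maxHeartbeats 3200000
universe u
open TensorProduct IsLocalRing

namespace Groth.Agent.H15.StrictSub

theorem exists_essentiallyEtale_le
    (A S : Type u) [CommRing A] [IsLocalRing A] [IsDomain A] [IsIntegrallyClosed A]
    (hA : EGA4.IsExcellent A) [CommRing S] [IsLocalRing S] [Algebra A S] [IsLocalHom (algebraMap A S)]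
    [Hensel.IsStrictHenselization A S] (D : Subalgebra A S) [IsLocalRing D]
    [IsLocalHom (algebraMap D S)] [IsDomain D] [IsIntegrallyClosed D]
    (s : Finset S) (hs : (s : Set S) ⊆ (D : Set S)) :
    ∃ D' : Subalgebra A S, D' ≤ D ∧ (s : Set S) ⊆ (D' : Set S) ∧
      ∃ _ : IsLocalRing D', IsLocalHom (algebraMap D' S) ∧ EGA4loc.IsEssentiallyEtale A D' := by
  classical
  haveI : IsNoetherianRing A := hA.1
  have hI := Groth.Agent.H47.HensNoeth.isIndEtaleLocal_of_isStrictHenselization A S
  haveI : Module.Flat A S := hI.flat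
  haveI : Module.FaithfullyFlat A S := Module.FaithfullyFlat.of_flat_of_isLocalHom
  obtain ⟨hSd, -⟩ := (Groth.Agent.S2748.result A S).mpr ⟨inferInstance, inferInstance⟩
  haveI := hSd
  have hAS : Function.Injective (algebraMap A S) := FaithfulSMul.algebraMap_injective A S
  have hAD : Function.Injective (algebraMap A D) := by
    intro a b hab
    apply hAS
    rw [IsScalarTower.algebraMap_apply A D S, IsScalarTower.algebraMap_apply A D S, hab]
  have hDL : Function.Injective (algebraMap D (FractionRing D)) :=
    IsFractionRing.injective D (FractionRing D)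
  have hAL : Function.Injective (algebraMap A (FractionRing D)) := by
    rw [IsScalarTower.algebraMap_eq A D (FractionRing D)]; exact hDL.comp hAD
  haveI : FaithfulSMul A (FractionRing D) :=
    (faithfulSMul_iff_algebraMap_injective A (FractionRing D)).mpr hAL
  -- every element of `Frac D` is algebraic over `A`
  haveI hDalg : Algebra.IsAlgebraic A D := by
    constructor
    intro d
    have h1 : IsAlgebraic A ((d : D) : S) :=
      Groth.Agent.H15.StrictSub.isAlgebraic_of_isStrictHenselization A S d
    exact (isAlgebraic_algHom_iff D.val Subtype.val_injective).mp h1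
  haveI : Module.IsTorsionFree A (FractionRing D) :=
    (Module.isTorsionFree_iff_algebraMap_injective).mpr hAL
  haveI hLalg : Algebra.IsAlgebraic A (FractionRing D) :=
    (IsFractionRing.isAlgebraic_iff' A D (FractionRing D)).mp hDalg
  -- the finite set in `D` and the subfield
  let sD : Finset D := s.subtype (· ∈ D)
  let F : Subfield (FractionRing D) :=
    Subfield.closure (Set.range (algebraMap A (FractionRing D)) ∪
      (algebraMap D (FractionRing D)) '' (sD : Set D))
  have hAF : ∀ a : A, algebraMap A (FractionRing D) a ∈ F :=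
    fun a => Subfield.subset_closure (Or.inl ⟨a, rfl⟩)
  -- the subalgebra
  let D' : Subalgebra A S :=
    { carrier := {x | ∃ hx : x ∈ D, algebraMap D (FractionRing D) ⟨x, hx⟩ ∈ F}
      mul_mem' := by
        rintro x y ⟨hx, hxF⟩ ⟨hy, hyF⟩
        refine ⟨D.mul_mem hx hy, ?_⟩
        have : (⟨x * y, D.mul_mem hx hy⟩ : D) = ⟨x, hx⟩ * ⟨y, hy⟩ := rfl
        rw [this, map_mul]
        exact F.mul_mem hxF hyF
      add_mem' := by
        rintro x y ⟨hx, hxF⟩ ⟨hy, hyF⟩
        refine ⟨D.add_mem hx hy, ?_⟩
        have : (⟨x + y, D.add_mem hx hy⟩ : D) = ⟨x, hx⟩ + ⟨y, hy⟩ := rfl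
        rw [this, map_add]
        exact F.add_mem hxF hyF
      algebraMap_mem' := by
        intro a
        refine ⟨D.algebraMap_mem a, ?_⟩
        have : (⟨algebraMap A S a, D.algebraMap_mem a⟩ : D) = algebraMap A D a := rfl
        rw [this, ← IsScalarTower.algebraMap_apply A D (FractionRing D)]
        exact hAF a }
  have hmemD' : ∀ x : S, x ∈ D' ↔ ∃ hx : x ∈ D, algebraMap D (FractionRing D) ⟨x, hx⟩ ∈ F :=
    fun _ => Iff.rfl
  have hDD' : D' ≤ D := fun x hx => ((hmemD' x).mp hx).fst
  have hsD' : (s : Set S) ⊆ (D' : Set S) := by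
    intro x hx
    refine (hmemD' x).mpr ⟨hs hx, ?_⟩
    apply Subfield.subset_closure
    right
    refine ⟨⟨x, hs hx⟩, ?_, rfl⟩
    show (⟨x, hs hx⟩ : D) ∈ sD
    rw [Finset.mem_subtype]
    exact Finset.mem_coe.mp hx
  -- the map to `F`
  let j₀ : D' →ₐ[A] FractionRing D :=
    (IsScalarTower.toAlgHom A D (FractionRing D)).comp (Subalgebra.inclusion hDD')
  have hj₀ : ∀ y : D', j₀ y = algebraMap D (FractionRing D) ⟨(y : S), hDD' y.2⟩ := fun _ => rfl
  have hj₀F : ∀ y : D', j₀ y ∈ F := by
    intro y
    obtain ⟨hx, hF⟩ := (hmemD' y).mp y.2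
    exact hF
  have hj₀inj : Function.Injective j₀ := by
    intro x y hxy
    have h1 : Subalgebra.inclusion hDD' x = Subalgebra.inclusion hDD' y := hDL hxy
    exact Subalgebra.inclusion_injective hDD' h1
  -- unit criterion
  have hunit : ∀ y : D', IsUnit ((y : S)) → IsUnit y := by
    intro y hy
    have h1 : IsUnit (⟨(y : S), hDD' y.2⟩ : D) :=
      isUnit_of_map_unit (algebraMap D S) _ hy
    obtain ⟨d', hd'⟩ := h1.exists_right_inv
    have hd'F : algebraMap D (FractionRing D) d' ∈ F := by
      have h2 : algebraMap D (FractionRing D) ⟨(y : S), hDD' y.2⟩ *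
          algebraMap D (FractionRing D) d' = 1 := by rw [← map_mul, hd', map_one]
      have h3 : algebraMap D (FractionRing D) d' =
          (algebraMap D (FractionRing D) ⟨(y : S), hDD' y.2⟩)⁻¹ :=
        eq_inv_of_mul_eq_one_right h2
      rw [h3]
      exact F.inv_mem (hj₀F y)
    have hd'mem : (d' : S) ∈ D' := (hmemD' _).mpr ⟨d'.2, hd'F⟩
    refine IsUnit.of_mul_eq_one (⟨(d' : S), hd'mem⟩ : D') ?_
    apply Subtype.ext
    have h5 : ((⟨(y : S), hDD' y.2⟩ * d' : D) : S) = ((1 : D) : S) := congrArg Subtype.val hd'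
    show (y : S) * (d' : S) = 1
    exact h5
  haveI hlocD' : IsLocalRing D' := by
    apply IsLocalRing.of_isUnit_or_isUnit_one_sub_self
    intro a
    rcases IsLocalRing.isUnit_or_isUnit_one_sub_self ((a : D') : S) with h | h
    · exact Or.inl (hunit a h)
    · exact Or.inr (hunit (1 - a) h)
  haveI hlochom : IsLocalHom (algebraMap D' S) := ⟨fun y hy => hunit y hy⟩
  haveI : IsDomain D' := inferInstance
  -- the field `F` as fraction field of `D'`
  let j : D' →+* F := (j₀ : D' →+* FractionRing D).codRestrict F hj₀F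
  letI algDF : Algebra D' F := j.toAlgebra
  letI algAF : Algebra A F :=
    ((algebraMap A (FractionRing D)).codRestrict F hAF).toAlgebra
  haveI : IsScalarTower A D' F := IsScalarTower.of_algebraMap_eq (fun a => by
    apply Subtype.ext
    show algebraMap A (FractionRing D) a = j₀ (algebraMap A D' a)
    rw [AlgHom.commutes])
  have hjval : ∀ y : D', ((algebraMap D' F y : F) : FractionRing D) = j₀ y := fun _ => rfl
  have hjinj : Function.Injective (algebraMap D' F) := by
    intro x y hxy
    apply hj₀inj
    rw [← hjval, ← hjval, hxy]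
  haveI : FaithfulSMul D' F := (faithfulSMul_iff_algebraMap_injective D' F).mpr hjinj
  -- elements of `D` lying in `F` come from `D'`
  have hlift : ∀ d : D, algebraMap D (FractionRing D) d ∈ F →
      ∃ y : D', j₀ y = algebraMap D (FractionRing D) d := by
    intro d hd
    exact ⟨⟨(d : S), (hmemD' _).mpr ⟨d.2, hd⟩⟩, rfl⟩
  haveI hfrac : IsFractionRing D' F := by
    apply IsFractionRing.of_field
    intro z
    obtain ⟨a, ha0, hint⟩ := (Algebra.IsAlgebraic.isAlgebraic (R := A) (z : FractionRing D)).exists_integral_multiple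
    have h2 : IsIntegral D (a • (z : FractionRing D)) := hint.tower_top
    obtain ⟨d, hd⟩ := IsIntegrallyClosed.algebraMap_eq_of_integral h2
    have hdF : algebraMap D (FractionRing D) d ∈ F := by
      rw [hd, Algebra.smul_def]
      exact F.mul_mem (hAF a) z.2
    obtain ⟨y, hy⟩ := hlift d hdF
    refine ⟨y, algebraMap A D' a, ?_⟩
    apply Subtype.ext
    have ha' : algebraMap A (FractionRing D) a ≠ 0 := fun h0 => ha0 (hAL (by rw [h0, map_zero]))
    have h3 : ((algebraMap D' F (algebraMap A D' a) : F) : FractionRing D) =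
        algebraMap A (FractionRing D) a := by
      rw [hjval, AlgHom.commutes]
    show (z : FractionRing D) = ((algebraMap D' F y / algebraMap D' F (algebraMap A D' a) : F) :
      FractionRing D)
    rw [Subfield.coe_div, h3, hjval, hy, hd, Algebra.smul_def, mul_div_cancel_left₀ _ ha']
  haveI hintcl : IsIntegrallyClosed D' := by
    rw [isIntegrallyClosed_iff F]
    intro z hz
    have h1 : IsIntegral D (F.subtype z) := by
      refine hz.map_of_comp_eq ((Subalgebra.inclusion hDD' : D' →ₐ[A] D) : D' →+* D)
        F.subtype ?_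
      ext y
      rfl
    obtain ⟨d, hd⟩ := IsIntegrallyClosed.algebraMap_eq_of_integral h1
    have hdF : algebraMap D (FractionRing D) d ∈ F := by
      rw [hd]; exact z.2
    obtain ⟨y, hy⟩ := hlift d hdF
    refine ⟨y, Subtype.ext ?_⟩
    rw [hjval, hy, hd]
    rfl
  -- finite generation
  have hfg' : ∃ s'' : Finset D', Subfield.closure (Set.range (algebraMap A F) ∪
      (algebraMap D' F) '' (s'' : Set D')) = ⊤ := by
    refine ⟨s.subtype (· ∈ D'), ?_⟩
    rw [eq_top_iff]
    intro z _
    obtain ⟨G, hG⟩ : ∃ G : Subfield F, G = Subfield.closure (Set.range (algebraMap A F) ∪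
      (algebraMap D' F) '' ((s.subtype (· ∈ D') : Finset D') : Set D')) := ⟨_, rfl⟩
    rw [← hG]
    have hle : F ≤ G.map F.subtype := by
      show Subfield.closure _ ≤ _
      rw [Subfield.closure_le]
      rintro x (⟨a, rfl⟩ | ⟨d, hd, rfl⟩)
      · refine Subfield.mem_map.mpr ⟨algebraMap A F a, ?_, rfl⟩
        rw [hG]
        exact Subfield.subset_closure (Or.inl ⟨a, rfl⟩)
      · have hds : (d : S) ∈ s := by
          have : d ∈ sD := hd
          rwa [Finset.mem_subtype] at this
        refine Subfield.mem_map.mpr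
          ⟨algebraMap D' F ⟨(d : S), hsD' (Finset.mem_coe.mpr hds)⟩, ?_, rfl⟩
        rw [hG]
        apply Subfield.subset_closure
        right
        refine ⟨⟨(d : S), hsD' (Finset.mem_coe.mpr hds)⟩, ?_, rfl⟩
        show (⟨(d : S), hsD' (Finset.mem_coe.mpr hds)⟩ : D') ∈ s.subtype (· ∈ D')
        rw [Finset.mem_subtype]
        exact hds
    obtain ⟨g, hgG, hgz⟩ := Subfield.mem_map.mp (hle z.2)
    have : g = z := Subtype.ext hgz
    rw [← this]
    exact hgG
  have hess := isEssentiallyEtale_of_normal A S hA D' F hfg'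
  exact ⟨D', hDD', hsD', hlocD', hlochom, hess⟩

end Groth.Agent.H15.StrictSub
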