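import Mathlib
import Groth.Agent.H15.StrictSub6
import Groth.Agent.H29.ExcFT
import Groth.Agent.H20.PolyGRing2

/-!
# `S/Q ∩ L` is an excellent henselian local domain with fraction field `L` (S16445)
-/

set_option autoImplicit false
set_option linter.style.haveILetI false
set_option linter.unusedSectionVars false
set_option maxHeartbeats 6400000
universe u
open TensorProduct IsLocalRing

namespace Groth.Agent.H15.StrictSub

set_option maxRecDepth 2000 in
theorem descent_aux3
    (A S : Type u) [CommRing A] [HenselianLocalRing A] [IsNoetherianRing A]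
    [CommRing S] [IsLocalRing S] [Algebra A S] [IsLocalHom (algebraMap A S)]
    [Hensel.IsStrictHenselization A S]
    (Q : Ideal S) [Q.IsPrime] (hQ : Q ∈ minimalPrimes S)
    (A₁ : Type u) [CommRing A₁] [IsDomain A₁] [IsIntegrallyClosed A₁] [HenselianLocalRing A₁]
    [IsNoetherianRing A₁] (hN2₁ : CAlg.IsN2 A₁) [Algebra A A₁] [Module.Finite A A₁]
    [IsLocalHom (algebraMap A A₁)]
    (c : A) (hc0 : algebraMap A A₁ c ≠ 0)
    (hc : ∀ a₁ : A₁, ∃ a : A, c • a₁ = algebraMap A A₁ a)
    (T : Type u) [CommRing T] [IsLocalRing T] [Algebra A₁ T] [IsLocalHom (algebraMap A₁ T)]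
    [Hensel.IsStrictHenselization A₁ T] [Algebra A T] [IsScalarTower A A₁ T]
    [Algebra S T] [IsScalarTower A S T] (hker : RingHom.ker (algebraMap S T) = Q)
    (t : Finset (FractionRing (S ⧸ Q))) (D : Subalgebra A (S ⧸ Q))
    (hmemD : ∀ x : S ⧸ Q, x ∈ D ↔ algebraMap (S ⧸ Q) (FractionRing (S ⧸ Q)) x ∈
      Subfield.closure (Set.range (algebraMap A (FractionRing (S ⧸ Q))) ∪
        (t : Set (FractionRing (S ⧸ Q))))) :
    Module.Finite A D ∧ Algebra.FormallyUnramified A D ∧
      ∀ l ∈ Subfield.closure (Set.range (algebraMap A (FractionRing (S ⧸ Q))) ∪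
          (t : Set (FractionRing (S ⧸ Q)))),
        ∃ a ∈ D, ∃ b ∈ D, algebraMap (S ⧸ Q) (FractionRing (S ⧸ Q)) b ≠ 0 ∧
          l * algebraMap (S ⧸ Q) (FractionRing (S ⧸ Q)) b =
            algebraMap (S ⧸ Q) (FractionRing (S ⧸ Q)) a := by
  classical
  have hI := Groth.Agent.H47.HensNoeth.isIndEtaleLocal_of_isStrictHenselization A S
  haveI : Module.Flat A S := hI.flat
  haveI : Module.FaithfullyFlat A S := Module.FaithfullyFlat.of_flat_of_isLocalHom
  obtain ⟨F, hF⟩ : ∃ F : Subfield (FractionRing (S ⧸ Q)), F = Subfield.closure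
    (Set.range (algebraMap A (FractionRing (S ⧸ Q))) ∪ (t : Set (FractionRing (S ⧸ Q)))) :=
    ⟨_, rfl⟩
  rw [← hF] at hmemD ⊢
  obtain ⟨hTd, hTn⟩ := (Groth.Agent.S2748.result A₁ T).mpr ⟨inferInstance, inferInstance⟩
  haveI := hTd
  haveI := hTn
  haveI hlocST : IsLocalHom (algebraMap S T) :=
    Groth.Agent.H47.HensTransport.isLocalHom_algebraMap_strict A A₁ S T
  have hI₁ := Groth.Agent.H47.HensNoeth.isIndEtaleLocal_of_isStrictHenselization A₁ T
  haveI : Module.Flat A₁ T := hI₁.flat
  haveI : Module.FaithfullyFlat A₁ T := Module.FaithfullyFlat.of_flat_of_isLocalHom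
  have hA₁T : Function.Injective (algebraMap A₁ T) := FaithfulSMul.algebraMap_injective A₁ T
  -- the induced map on `S ⧸ Q`
  let σbar : S ⧸ Q →+* T := Ideal.Quotient.lift Q (algebraMap S T) (fun s hs => by
    rw [← RingHom.mem_ker, hker]; exact hs)
  have hσbar : ∀ s : S, σbar (Ideal.Quotient.mk Q s) = algebraMap S T s := fun s => rfl
  have hσbarinj : Function.Injective σbar :=
    RingHom.lift_injective_of_ker_le_ideal Q _ (by rw [hker])
  letI algRT : Algebra (S ⧸ Q) T := σbar.toAlgebra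
  have halgRT : ∀ s : S, algebraMap (S ⧸ Q) T (Ideal.Quotient.mk Q s) = algebraMap S T s :=
    fun s => rfl
  haveI : IsScalarTower A (S ⧸ Q) T := IsScalarTower.of_algebraMap_eq (fun a => by
    rw [← Ideal.Quotient.mk_algebraMap, halgRT, ← IsScalarTower.algebraMap_apply A S T])
  have hRT : Function.Injective (algebraMap (S ⧸ Q) T) := hσbarinj
  -- Step 3: comparison of the two fraction fields
  have hTΩ : Function.Injective (algebraMap T (FractionRing T)) :=
    IsFractionRing.injective T (FractionRing T)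
  have hinjι : Function.Injective
      ((algebraMap T (FractionRing T)).comp (algebraMap (S ⧸ Q) T)) := hTΩ.comp hRT
  obtain ⟨ι, hι⟩ : ∃ ι : FractionRing (S ⧸ Q) →+* FractionRing T,
      ∀ x : S ⧸ Q, ι (algebraMap (S ⧸ Q) (FractionRing (S ⧸ Q)) x) =
        algebraMap T (FractionRing T) (algebraMap (S ⧸ Q) T x) :=
    ⟨IsFractionRing.lift hinjι, fun x => IsFractionRing.lift_algebraMap hinjι x⟩
  have hιA : ∀ a : A, ι (algebraMap A (FractionRing (S ⧸ Q)) a) =
      algebraMap A₁ (FractionRing T) (algebraMap A A₁ a) := by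
    intro a
    rw [IsScalarTower.algebraMap_apply A (S ⧸ Q) (FractionRing (S ⧸ Q)), hι,
      ← IsScalarTower.algebraMap_apply A (S ⧸ Q) T, IsScalarTower.algebraMap_apply A A₁ T,
      ← IsScalarTower.algebraMap_apply A₁ T (FractionRing T)]
  have hAF : ∀ a : A, algebraMap A (FractionRing (S ⧸ Q)) a ∈ F := fun a => by
    rw [hF]; exact Subfield.subset_closure (Or.inl ⟨a, rfl⟩)
  obtain ⟨FT, hFT⟩ : ∃ FT : Subfield (FractionRing T), FT = Subfield.closure
    (Set.range (algebraMap A₁ (FractionRing T)) ∪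
      ((t.image ι : Finset (FractionRing T)) : Set (FractionRing T))) := ⟨_, rfl⟩
  have hFFT : ∀ f ∈ F, ι f ∈ FT := by
    have hle : F ≤ FT.comap ι := by
      rw [hF, Subfield.closure_le]
      rintro x (⟨a, rfl⟩ | hx)
      · show ι _ ∈ FT
        rw [hιA, hFT]
        exact Subfield.subset_closure (Or.inl ⟨_, rfl⟩)
      · show ι x ∈ FT
        rw [hFT]
        exact Subfield.subset_closure
          (Or.inr (Finset.mem_coe.mpr (Finset.mem_image_of_mem ι (Finset.mem_coe.mp hx))))
    exact fun f hf => hle hf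
  have hA₁Ω : Function.Injective (algebraMap A₁ (FractionRing T)) := by
    rw [IsScalarTower.algebraMap_eq A₁ T (FractionRing T)]; exact hTΩ.comp hA₁T
  have hne : algebraMap A₁ (FractionRing T) (algebraMap A A₁ c) ≠ 0 :=
    fun h => hc0 (hA₁Ω (by rw [h, map_zero]))
  have hFTF : FT ≤ F.map ι := by
    rw [hFT, Subfield.closure_le]
    rintro y (⟨a₁, rfl⟩ | hy)
    · obtain ⟨a, ha⟩ := hc a₁
      refine ⟨algebraMap A (FractionRing (S ⧸ Q)) a / algebraMap A (FractionRing (S ⧸ Q)) c,
        F.div_mem (hAF a) (hAF c), ?_⟩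
      rw [map_div₀, hιA, hιA, ← ha, Algebra.smul_def, map_mul]
      field_simp
    · obtain ⟨τ, hτ, rfl⟩ := Finset.mem_image.mp (Finset.mem_coe.mp hy)
      exact ⟨τ, by rw [hF]; exact Subfield.subset_closure (Or.inr (Finset.mem_coe.mpr hτ)), rfl⟩
  have hback : ∀ x : S ⧸ Q, algebraMap T (FractionRing T) (algebraMap (S ⧸ Q) T x) ∈ FT →
      algebraMap (S ⧸ Q) (FractionRing (S ⧸ Q)) x ∈ F := by
    intro x hx
    obtain ⟨f, hf, hfx⟩ := hFTF hx
    have : f = algebraMap (S ⧸ Q) (FractionRing (S ⧸ Q)) x := ι.injective (by rw [hfx, hι])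
    rw [← this]; exact hf
  -- Step 4: the normal case applied to `A₁ → T`
  let DT : Subalgebra A₁ T :=
    { carrier := (algebraMap T (FractionRing T)) ⁻¹' (FT : Set (FractionRing T))
      mul_mem' := by
        intro x y hx hy
        show algebraMap T (FractionRing T) (x * y) ∈ FT
        rw [map_mul]; exact FT.mul_mem hx hy
      add_mem' := by
        intro x y hx hy
        show algebraMap T (FractionRing T) (x + y) ∈ FT
        rw [map_add]; exact FT.add_mem hx hy
      algebraMap_mem' := by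
        intro a
        show algebraMap T (FractionRing T) (algebraMap A₁ T a) ∈ FT
        rw [← IsScalarTower.algebraMap_apply A₁ T (FractionRing T), hFT]
        exact Subfield.subset_closure (Or.inl ⟨a, rfl⟩) }
  have hmemDT : ∀ y : T, y ∈ DT ↔ algebraMap T (FractionRing T) y ∈ FT := fun _ => Iff.rfl
  have hDTeq : (DT : Set T) = (algebraMap T (FractionRing T)) ⁻¹'
      (Subfield.closure (Set.range (algebraMap A₁ (FractionRing T)) ∪
        ((t.image ι : Finset (FractionRing T)) : Set (FractionRing T))) :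
          Set (FractionRing T)) := by
    rw [← hFT]; rfl
  obtain ⟨hDTloc, hDThom, hessDT, hmDT, hfinDT⟩ :=
    inter_subfield_normal A₁ T hN2₁ (FractionRing T) (t.image ι) DT hDTeq
  haveI := hDTloc
  haveI := hDThom
  haveI hintT : Algebra.IsIntegral A₁ T := isIntegral_of_henselian A₁ T
  haveI hintDT : Algebra.IsIntegral A₁ DT :=
    Algebra.IsIntegral.of_injective DT.val Subtype.val_injective
  haveI : Module.Finite A₁ DT := hfinDT hintDT
  haveI : HenselianLocalRing DT :=
    Groth.Agent.H3.henselianLocalRing_of_isIntegral_of_isLocalRing A₁ DT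
  -- Step 5: residue fields
  haveI hlocA₁DT : IsLocalHom (algebraMap A₁ DT) := Groth.Agent.H3.isLocalHom_of_isIntegral A₁ DT
  haveI : IsScalarTower A A₁ DT := inferInstance
  haveI : IsScalarTower A DT T := inferInstance
  haveI hlocADT : IsLocalHom (algebraMap A DT) := by
    rw [IsScalarTower.algebraMap_eq A A₁ DT]
    exact RingHom.isLocalHom_comp _ _
  obtain ⟨hfeDT, heftDT⟩ := Groth.Agent.S2782.instances_of_isEssentiallyEtale hessDT
  haveI := hfeDT
  haveI := heftDT
  haveI : Algebra.IsSeparable (ResidueField A₁) (ResidueField DT) := inferInstance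
  haveI : Module.Finite (ResidueField A) (ResidueField A₁) := inferInstance
  haveI : Module.Finite (ResidueField A₁) (ResidueField DT) := inferInstance
  haveI : Module.Finite (ResidueField A) (ResidueField DT) :=
    Module.Finite.trans (ResidueField A₁) (ResidueField DT)
  haveI : IsScalarTower (ResidueField A) (ResidueField A₁) (ResidueField DT) := inferInstance
  haveI : Algebra.IsAlgebraic (ResidueField A) (ResidueField A₁) :=
    Algebra.IsAlgebraic.of_finite _ _
  have hβ : IntermediateField.adjoin (ResidueField A₁)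
      ((separableClosure (ResidueField A) (ResidueField DT) :
        IntermediateField (ResidueField A) (ResidueField DT)) : Set (ResidueField DT)) = ⊤ :=
    separableClosure.adjoin_eq_of_isAlgebraic_of_isSeparable (F := ResidueField A)
      (E := ResidueField A₁) (ResidueField DT)
  obtain ⟨Ks, hKs⟩ : ∃ Ks : IntermediateField (ResidueField A) (ResidueField DT),
      Ks = separableClosure (ResidueField A) (ResidueField DT) := ⟨_, rfl⟩
  rw [← hKs] at hβ
  haveI : Algebra.IsSeparable (ResidueField A) Ks := by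
    rw [hKs]; infer_instance
  haveI : Module.Finite (ResidueField A) Ks := inferInstance
  haveI : Algebra.FormallyEtale (ResidueField A) Ks :=
    Algebra.FormallyEtale.of_isSeparable (ResidueField A) Ks
  haveI : Algebra.FinitePresentation (ResidueField A) Ks :=
    Algebra.FinitePresentation.of_finiteType.mp inferInstance
  haveI : Algebra.Etale (ResidueField A) Ks := {}
  obtain ⟨E, _, _, hEfin, hEet, ⟨eE⟩⟩ :=
    Groth.Agent.H3.exists_finite_etale_lift_of_isLocalRing A Ks
  haveI := hEfin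
  haveI := hEet
  -- `E` is local
  let θ : (E ⧸ (maximalIdeal A).map (algebraMap A E)) ≃+* Ks :=
    (Algebra.TensorProduct.quotIdealMapEquivQuotTensor E (maximalIdeal A)).toRingEquiv.trans
      eE.toRingEquiv
  have hEfield : IsField (E ⧸ (maximalIdeal A).map (algebraMap A E)) :=
    MulEquiv.isField (Field.toIsField Ks) θ.toMulEquiv
  haveI hmaxE : ((maximalIdeal A).map (algebraMap A E)).IsMaximal :=
    Ideal.Quotient.maximal_of_isField _ hEfield
  haveI : Algebra.IsIntegral A E := Algebra.IsIntegral.of_finite A E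
  haveI hEloc : IsLocalRing E := Groth.Agent.S16444.isLocalRing_of_isMaximal_map hmaxE
  haveI : IsLocalHom (algebraMap A E) := Groth.Agent.H3.isLocalHom_of_isIntegral A E
  -- every element of `k ⊗ E` is a pure tensor `1 ⊗ e`
  have hpure : ∀ w : (ResidueField A) ⊗[A] E, ∃ e : E, w = (1 : ResidueField A) ⊗ₜ[A] e := by
    intro w
    induction w using TensorProduct.induction_on with
    | zero => exact ⟨0, (TensorProduct.tmul_zero _ _).symm⟩
    | tmul x e =>
      obtain ⟨a, rfl⟩ := residue_surjective x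
      refine ⟨a • e, ?_⟩
      rw [← TensorProduct.smul_tmul, ← Algebra.algebraMap_eq_smul_one]
      rfl
    | add x y hx hy =>
      obtain ⟨e1, rfl⟩ := hx
      obtain ⟨e2, rfl⟩ := hy
      exact ⟨e1 + e2, (TensorProduct.tmul_add _ _ _).symm⟩
  -- the residual point
  let χ₀ : E →ₐ[A] ResidueField DT :=
    { toRingHom := (algebraMap Ks (ResidueField DT)).comp
        (eE.toAlgHom.toRingHom.comp
          (Algebra.TensorProduct.includeRight : E →ₐ[A] (ResidueField A) ⊗[A] E).toRingHom)
      commutes' := by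
        intro a
        show algebraMap Ks (ResidueField DT) (eE ((1 : ResidueField A) ⊗ₜ[A] (algebraMap A E a))) =
          algebraMap A (ResidueField DT) a
        have h1 : (1 : ResidueField A) ⊗ₜ[A] (algebraMap A E a) =
            algebraMap (ResidueField A) ((ResidueField A) ⊗[A] E)
              (algebraMap A (ResidueField A) a) := by
          rw [Algebra.TensorProduct.algebraMap_apply, Algebra.algebraMap_eq_smul_one,
            ← TensorProduct.smul_tmul, ← Algebra.algebraMap_eq_smul_one]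
          rfl
        rw [h1, eE.commutes, ← IsScalarTower.algebraMap_apply (ResidueField A) Ks (ResidueField DT),
          ← IsScalarTower.algebraMap_apply A (ResidueField A) (ResidueField DT)] }
  have hχ₀ : ∀ e : E, χ₀ e = ((eE ((1 : ResidueField A) ⊗ₜ[A] e) : Ks) : ResidueField DT) :=
    fun e => rfl
  obtain ⟨f, hf⟩ := Groth.Agent.H3.exists_algHom_of_etale_of_residue A DT E χ₀
  -- Step 5': the lift `g : E → S`
  have hsc : IsSepClosure (ResidueField A) (ResidueField S) :=
    (inferInstance : Hensel.IsStrictHenselization A S).isSepClosure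
  haveI : IsSepClosed (ResidueField S) := hsc.sep_closed
  haveI hShens : HenselianLocalRing S :=
    (inferInstance : Hensel.IsStrictHenselization A S).henselian
  let fT : E →ₐ[A] T := (DT.val.restrictScalars A).comp f
  have hfT : ∀ e : E, fT e = ((f e : DT) : T) := fun e => rfl
  let χT₀ : E →ₐ[A] ResidueField T := (IsScalarTower.toAlgHom A T (ResidueField T)).comp fT
  have hχT₀ : ∀ e : E, χT₀ e = residue T (fT e) := fun e => rfl
  let χT : S ⊗[A] E →ₐ[S] ResidueField T :=
    Algebra.TensorProduct.lift (Algebra.ofId S (ResidueField T)) χT₀ (fun _ _ => Commute.all _ _)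
  obtain ⟨χS, hχS⟩ := Groth.Agent.H3.exists_algHom_residueField_of_isSepClosed S (S ⊗[A] E)
    (ResidueField T) χT
  obtain ⟨G, hG⟩ := Groth.Agent.H3.exists_algHom_of_etale_of_residue S S (S ⊗[A] E) χS
  let g : E →ₐ[A] S := (G.restrictScalars A).comp Algebra.TensorProduct.includeRight
  have hg : ∀ e : E, g e = G ((1 : S) ⊗ₜ[A] e) := fun e => rfl
  have hres_g : ∀ e : E, residue T (algebraMap S T (g e)) = residue T (fT e) := by
    intro e
    rw [← ResidueField.algebraMap_residue, hg, hG, hχS]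
    simp only [χT, Algebra.TensorProduct.lift_tmul, map_one, one_mul]
    rfl
  -- Step 6: compatibility
  have hcomp : (IsScalarTower.toAlgHom A S T).comp g = fT :=
    Groth.Agent.H3.algHom_ext_of_etale_of_residue A T E _ _ hres_g
  have hσg : ∀ e : E, algebraMap S T (g e) = ((f e : DT) : T) := fun e =>
    AlgHom.congr_fun hcomp e
  -- Step 7: `gbar` lands in `D`
  let gbar : E →ₐ[A] S ⧸ Q := (Ideal.Quotient.mkₐ A Q).comp g
  have hgbar : ∀ e : E, gbar e = Ideal.Quotient.mk Q (g e) := fun e => rfl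
  have hgD : ∀ e : E, gbar e ∈ D := by
    intro e
    refine (hmemD _).mpr (hback _ ?_)
    rw [hgbar, halgRT, hσg]
    exact (hmemDT _).mp (f e).2
  -- Step 8: `DT` is spanned over `A₁` by the image of `f`
  have hrange : Set.range χ₀ = (Ks : Set (ResidueField DT)) := by
    ext z
    constructor
    · rintro ⟨e, rfl⟩
      rw [hχ₀]
      exact (eE ((1 : ResidueField A) ⊗ₜ[A] e)).2
    · intro hz
      obtain ⟨e, he⟩ := hpure (eE.symm ⟨z, hz⟩)
      refine ⟨e, ?_⟩
      rw [hχ₀, ← he, AlgEquiv.apply_symm_apply]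
  have hadj : Algebra.adjoin (ResidueField A₁) (Ks : Set (ResidueField DT)) = ⊤ := by
    have h1 := IntermediateField.adjoin_toSubalgebra (F := ResidueField A₁)
      (Ks : Set (ResidueField DT))
    rw [hβ] at h1
    rw [← h1]
    exact IntermediateField.top_toSubalgebra
  have hspanK : Submodule.span (ResidueField A₁) (Ks : Set (ResidueField DT)) = ⊤ := by
    have h3 := Algebra.adjoin_eq_span (ResidueField A₁) (Ks : Set (ResidueField DT))
    have h4 : ((Submonoid.closure (Ks : Set (ResidueField DT)) : Submonoid (ResidueField DT)) :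
        Set (ResidueField DT)) = (Ks : Set (ResidueField DT)) :=
      congrArg (fun M : Submonoid (ResidueField DT) => (M : Set (ResidueField DT)))
        (Submonoid.closure_eq Ks.toSubalgebra.toSubsemiring.toSubmonoid)
    rw [h4, hadj] at h3
    rw [← h3]
    exact Algebra.top_toSubmodule
  have hlift : ∀ z ∈ Submodule.span (ResidueField A₁) (Set.range χ₀),
      ∃ y' ∈ Submodule.span A₁ (Set.range f), residue DT y' = z := by
    intro z hz
    induction hz using Submodule.span_induction with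
    | mem z hz =>
      obtain ⟨e, rfl⟩ := hz
      exact ⟨f e, Submodule.subset_span ⟨e, rfl⟩, hf e⟩
    | zero => exact ⟨0, Submodule.zero_mem _, map_zero _⟩
    | add z₁ z₂ _ _ h₁ h₂ =>
      obtain ⟨y₁, hy₁, rfl⟩ := h₁
      obtain ⟨y₂, hy₂, rfl⟩ := h₂
      exact ⟨y₁ + y₂, Submodule.add_mem _ hy₁ hy₂, map_add _ _ _⟩
    | smul r z _ h =>
      obtain ⟨y, hy, rfl⟩ := h
      obtain ⟨a₁, rfl⟩ := residue_surjective r
      refine ⟨a₁ • y, Submodule.smul_mem _ _ hy, ?_⟩
      rw [Algebra.smul_def, map_mul, Algebra.smul_def, ResidueField.algebraMap_residue]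
  have hN : (⊤ : Submodule A₁ DT) ≤ Submodule.span A₁ (Set.range f) := by
    apply Submodule.le_of_le_smul_of_le_jacobson_bot (I := maximalIdeal A₁) Module.Finite.fg_top
    · rw [IsLocalRing.jacobson_eq_maximalIdeal ⊥ bot_ne_top]
    · intro y _
      obtain ⟨y', hy'N, hy'⟩ := hlift (residue DT y) (by
        rw [hrange, hspanK]; exact Submodule.mem_top)
      have hdiff : y - y' ∈ maximalIdeal DT := by
        rw [← Ideal.Quotient.eq]
        exact hy'.symm
      have hdiff' : y - y' ∈ (maximalIdeal A₁) • (⊤ : Submodule A₁ DT) := by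
        rw [Ideal.smul_top_eq_map, hmDT]
        exact hdiff
      have hy : y = y' + (y - y') := by ring
      rw [hy]
      exact Submodule.add_mem_sup hy'N hdiff'
  have hcf : ∀ y ∈ Submodule.span A₁ (Set.range f), ∀ a₁ : A₁, ∃ e : E, c • (a₁ • y) = f e := by
    intro y hy
    induction hy using Submodule.span_induction with
    | mem y hy =>
      obtain ⟨e', rfl⟩ := hy
      intro a₁
      obtain ⟨a, ha⟩ := hc a₁
      refine ⟨a • e', ?_⟩
      rw [← smul_assoc, ha, map_smul, algebraMap_smul]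
    | zero =>
      intro a₁
      exact ⟨0, by rw [smul_zero, smul_zero, map_zero]⟩
    | add y₁ y₂ _ _ h₁ h₂ =>
      intro a₁
      obtain ⟨e₁, he₁⟩ := h₁ a₁
      obtain ⟨e₂, he₂⟩ := h₂ a₁
      exact ⟨e₁ + e₂, by rw [smul_add, smul_add, he₁, he₂, map_add]⟩
    | smul b₁ y _ h =>
      intro a₁
      obtain ⟨e, he⟩ := h (a₁ * b₁)
      exact ⟨e, by rw [← he, mul_smul]⟩
  -- Step 9a: `S` is a strict henselization of `E`, and `Q` is generated by `q = ker f`
  haveI hintS : Algebra.IsIntegral A S := isIntegral_of_henselian A S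
  letI algES : Algebra E S := g.toRingHom.toAlgebra
  haveI : IsScalarTower A E S := IsScalarTower.of_algebraMap_eq (fun a => (g.commutes a).symm)
  have halgES : ∀ e : E, algebraMap E S e = g e := fun e => rfl
  haveI : Algebra.IsIntegral E S := Algebra.IsIntegral.tower_top (R := A)
  haveI : IsLocalHom (algebraMap E S) := Groth.Agent.H3.isLocalHom_of_isIntegral E S
  haveI : Module.Flat E S := Algebra.FormallyUnramified.flat_of_restrictScalars A E S
  haveI : Module.FaithfullyFlat E S := Module.FaithfullyFlat.of_flat_of_isLocalHom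
  haveI hES : Hensel.IsStrictHenselization E S := isStrictHenselization_of_etale_local A S E
  obtain ⟨q, hq⟩ : ∃ q : Ideal E, q = RingHom.ker f.toRingHom := ⟨_, rfl⟩
  haveI hqp : q.IsPrime := hq ▸ RingHom.ker_isPrime _
  have hqmem : ∀ e : E, e ∈ q ↔ f e = 0 := by
    intro e
    rw [hq, RingHom.mem_ker]
    rfl
  have hgq : ∀ e : E, e ∈ q → g e ∈ Q := by
    intro e he
    rw [← hker, RingHom.mem_ker, hσg, (hqmem e).mp he]
    rfl
  have hqQ : q.map (algebraMap E S) ≤ Q := by
    rw [Ideal.map_le_iff_le_comap]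
    intro e he
    rw [Ideal.mem_comap, halgES]
    exact hgq e he
  have hqle : q ≤ maximalIdeal E := IsLocalRing.le_maximalIdeal hqp.ne_top
  have hJ : q.map (algebraMap E S) ≤ maximalIdeal S :=
    Groth.Agent.H47.Unibranch.map_le_maximalIdeal E S hqle
  haveI : IsLocalRing (E ⧸ q) := Groth.Agent.H47.Unibranch.isLocalRing_quotient _ hqp.ne_top
  haveI : IsLocalRing (S ⧸ q.map (algebraMap E S)) :=
    Groth.Agent.H47.Unibranch.isLocalRing_quotient _
      (fun h => (maximalIdeal.isMaximal S).ne_top (top_le_iff.mp (h ▸ hJ)))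
  haveI : IsLocalHom (algebraMap (E ⧸ q) (S ⧸ q.map (algebraMap E S))) :=
    Groth.Agent.H47.Unibranch.isLocalHom_quotient_map E S _
  haveI : Hensel.IsStrictHenselization (E ⧸ q) (S ⧸ q.map (algebraMap E S)) :=
    Groth.Agent.H47.StrictQuot.isStrictHenselization_quotient q
  -- `DT` as an algebra over `E ⧸ q`
  let fbar : E ⧸ q →+* DT := Ideal.Quotient.lift q f.toRingHom (fun e he => (hqmem e).mp he)
  have hfbar : ∀ e : E, fbar (Ideal.Quotient.mk q e) = f e := fun e => rfl
  have hfbarinj : Function.Injective fbar :=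
    RingHom.lift_injective_of_ker_le_ideal q _ (by rw [hq])
  letI algEqDT : Algebra (E ⧸ q) DT := fbar.toAlgebra
  have halgEqDT : ∀ e : E, algebraMap (E ⧸ q) DT (Ideal.Quotient.mk q e) = f e := fun e => rfl
  haveI : IsScalarTower A (E ⧸ q) DT := IsScalarTower.of_algebraMap_eq (fun a => by
    rw [← Ideal.Quotient.mk_algebraMap, halgEqDT, f.commutes])
  haveI : Algebra.IsIntegral A A₁ := Algebra.IsIntegral.of_finite A A₁
  haveI : Algebra.IsIntegral A DT := Algebra.IsIntegral.trans A₁
  haveI : Algebra.IsIntegral (E ⧸ q) DT := Algebra.IsIntegral.tower_top (R := A)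
  haveI : IsLocalHom (algebraMap (E ⧸ q) DT) :=
    Groth.Agent.H3.isLocalHom_of_isIntegral (E ⧸ q) DT
  haveI : IsDomain DT := inferInstance
  haveI hDTnormal : IsIntegrallyClosed DT := by
    obtain ⟨C, _, _, qC, _, hCet, -, ⟨eC⟩⟩ := hessDT
    haveI := hCet
    obtain ⟨-, hn⟩ := Groth.Agent.H47.EtaleNormal.isDomain_isIntegrallyClosed_atPrime A₁ C qC
      (Localization.AtPrime qC)
    haveI := hn
    exact IsIntegrallyClosed.of_equiv eC.symm.toRingEquiv
  haveI : Algebra.IsAlgebraic (ResidueField A) (ResidueField DT) :=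
    Algebra.IsAlgebraic.of_finite _ _
  haveI hpiK : IsPurelyInseparable Ks (ResidueField DT) := by
    rw [hKs]; infer_instance
  haveI hpi : IsPurelyInseparable (ResidueField (E ⧸ q)) (ResidueField DT) := by
    obtain ⟨p, hp⟩ : ∃ p : ℕ, p = ringExpChar (ResidueField DT) := ⟨_, rfl⟩
    haveI : ExpChar (ResidueField DT) p := hp ▸ ringExpChar.expChar _
    haveI : ExpChar Ks p :=
      RingHom.expChar (algebraMap Ks (ResidueField DT)) (RingHom.injective _) p
    haveI : ExpChar (ResidueField (E ⧸ q)) p :=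
      RingHom.expChar (algebraMap (ResidueField (E ⧸ q)) (ResidueField DT))
        (RingHom.injective _) p
    rw [isPurelyInseparable_iff_pow_mem (ResidueField (E ⧸ q)) p]
    intro x
    obtain ⟨n, z, hz⟩ := (isPurelyInseparable_iff_pow_mem Ks p).mp hpiK x
    refine ⟨n, ?_⟩
    rw [← hz]
    have hzK : (algebraMap Ks (ResidueField DT) z) ∈ Set.range χ₀ := by
      rw [hrange]; exact z.2
    obtain ⟨e, he⟩ := hzK
    refine ⟨residue (E ⧸ q) (Ideal.Quotient.mk q e), ?_⟩
    rw [ResidueField.algebraMap_residue, halgEqDT, hf, he]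
  haveI hdomQ : IsDomain (S ⧸ q.map (algebraMap E S)) :=
    Groth.Agent.H47.UnibranchStrict.isDomain_strict_general (E ⧸ q) DT
      (S ⧸ q.map (algebraMap E S)) hfbarinj
  haveI hqSp : (q.map (algebraMap E S)).IsPrime :=
    (Ideal.Quotient.isDomain_iff_prime _).mp hdomQ
  have hQeq : Q = q.map (algebraMap E S) :=
    le_antisymm (hQ.2 ⟨hqSp, bot_le⟩ hqQ) hqQ
  -- Step 9: `D` is contained in the image of `gbar`
  have hcR : algebraMap A (S ⧸ Q) c ≠ 0 := by
    intro h
    apply hc0
    apply hA₁T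
    rw [map_zero, ← IsScalarTower.algebraMap_apply A A₁ T,
      IsScalarTower.algebraMap_apply A (S ⧸ Q) T, h, map_zero]
  have hDg : ∀ x : S ⧸ Q, x ∈ D → ∃ e : E, gbar e = x := by
    intro x hx
    obtain ⟨s, rfl⟩ := Ideal.Quotient.mk_surjective x
    have hxT : algebraMap S T s ∈ DT := by
      refine (hmemDT _).mpr ?_
      rw [← halgRT, ← hι]
      exact hFFT _ ((hmemD _).mp hx)
    obtain ⟨e', he'⟩ := hcf ⟨algebraMap S T s, hxT⟩ (hN Submodule.mem_top) 1
    rw [one_smul] at he'
    have h1 : algebraMap S T (c • s) = algebraMap S T (g e') := by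
      rw [hσg, ← he', Algebra.smul_def, map_mul, ← IsScalarTower.algebraMap_apply A S T]
      rw [Algebra.smul_def]
      simp only [MulMemClass.coe_mul]
      rw [IsScalarTower.algebraMap_apply A DT T]
      rfl
    have h2 : c • s - g e' ∈ Q := by
      rw [← hker, RingHom.mem_ker, map_sub, h1, sub_self]
    have h3 : g e' ∈ (Ideal.span {algebraMap A E c} ⊔ q).map (algebraMap E S) := by
      have h0 : g e' = c • s - (c • s - g e') := by ring
      rw [h0]
      apply Ideal.sub_mem
      · apply Ideal.map_mono (le_sup_left : Ideal.span {algebraMap A E c} ≤ _)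
        rw [Ideal.map_span, Set.image_singleton, ← IsScalarTower.algebraMap_apply A E S,
          Algebra.smul_def]
        exact Ideal.mem_span_singleton'.mpr ⟨s, mul_comm _ _⟩
      · apply Ideal.map_mono (le_sup_right : q ≤ Ideal.span {algebraMap A E c} ⊔ q)
        rw [← hQeq]
        exact h2
    have h4 : e' ∈ Ideal.span {algebraMap A E c} ⊔ q := by
      rw [← Ideal.comap_map_eq_self_of_faithfullyFlat (B := S)
        (Ideal.span {algebraMap A E c} ⊔ q), Ideal.mem_comap, halgES]
      exact h3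
    obtain ⟨y, hy, z, hz, hyz⟩ := Submodule.mem_sup.mp h4
    obtain ⟨e, he⟩ := Ideal.mem_span_singleton'.mp hy
    refine ⟨e, ?_⟩
    have h5 : Ideal.Quotient.mk Q (g z) = 0 :=
      Ideal.Quotient.eq_zero_iff_mem.mpr (hgq z hz)
    have h6 : Ideal.Quotient.mk Q (c • s) = Ideal.Quotient.mk Q (g e') :=
      Ideal.Quotient.eq.mpr h2
    have h7 : algebraMap A (S ⧸ Q) c * gbar e = algebraMap A (S ⧸ Q) c * Ideal.Quotient.mk Q s := by
      have h8 : Ideal.Quotient.mk Q (c • s) =
          algebraMap A (S ⧸ Q) c * Ideal.Quotient.mk Q s := by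
        rw [Algebra.smul_def, map_mul, Ideal.Quotient.mk_algebraMap]
      rw [← h8, h6, ← hyz, ← he, map_add, map_mul, map_add, map_mul, h5, add_zero,
        AlgHom.commutes, Ideal.Quotient.mk_algebraMap, hgbar, mul_comm]
    exact mul_left_cancel₀ hcR h7
  -- Step 10: conclusion
  let gD : E →ₐ[A] D := gbar.codRestrict D hgD
  have hgDsurj : Function.Surjective gD := by
    intro y
    obtain ⟨e, he⟩ := hDg y y.2
    exact ⟨e, Subtype.ext he⟩
  refine ⟨Module.Finite.of_surjective gD.toLinearMap hgDsurj,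
    Algebra.FormallyUnramified.of_surjective gD hgDsurj, ?_⟩
  -- the fraction field of `D` is `F`
  intro l hl
  have hlT : ι l ∈ FT := hFFT l hl
  haveI hTalg : Algebra.IsAlgebraic A₁ T :=
    ⟨fun x => isAlgebraic_of_isStrictHenselization A₁ T x⟩
  haveI : FaithfulSMul A₁ (FractionRing T) :=
    (faithfulSMul_iff_algebraMap_injective A₁ (FractionRing T)).mpr hA₁Ω
  haveI : Module.IsTorsionFree A₁ (FractionRing T) :=
    (Module.isTorsionFree_iff_algebraMap_injective).mpr hA₁Ω
  haveI hΩalg : Algebra.IsAlgebraic A₁ (FractionRing T) :=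
    (IsFractionRing.isAlgebraic_iff' A₁ T (FractionRing T)).mp hTalg
  obtain ⟨a₁, ha₁0, hint⟩ :=
    (Algebra.IsAlgebraic.isAlgebraic (R := A₁) (ι l)).exists_integral_multiple
  have h2 : IsIntegral T (a₁ • ι l) := hint.tower_top
  obtain ⟨y, hy⟩ := IsIntegrallyClosed.algebraMap_eq_of_integral h2
  have hA₁FT : ∀ a : A₁, algebraMap A₁ (FractionRing T) a ∈ FT := fun a => by
    rw [hFT]; exact Subfield.subset_closure (Or.inl ⟨a, rfl⟩)
  have hyDT : y ∈ DT := by
    refine (hmemDT y).mpr ?_
    rw [hy, Algebra.smul_def]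
    exact FT.mul_mem (hA₁FT a₁) hlT
  obtain ⟨e, he⟩ := hcf ⟨y, hyDT⟩ (hN Submodule.mem_top) 1
  rw [one_smul] at he
  obtain ⟨a', ha'⟩ := hc a₁
  have hιa' : ι (algebraMap (S ⧸ Q) (FractionRing (S ⧸ Q)) (algebraMap A (S ⧸ Q) a')) =
      algebraMap A₁ (FractionRing T) (algebraMap A A₁ c) * algebraMap A₁ (FractionRing T) a₁ := by
    rw [← IsScalarTower.algebraMap_apply A (S ⧸ Q) (FractionRing (S ⧸ Q)), hιA, ← ha',
      Algebra.smul_def, map_mul]
  refine ⟨gbar e, hgD e, algebraMap A (S ⧸ Q) a', D.algebraMap_mem a', ?_, ?_⟩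
  · intro h0
    have h3 := congrArg ι h0
    rw [hιa', map_zero] at h3
    rcases mul_eq_zero.mp h3 with h4 | h4
    · exact hne h4
    · exact ha₁0 (hA₁Ω (by rw [h4, map_zero]))
  · apply ι.injective
    rw [map_mul, hιa', hι, hgbar, halgRT, hσg, ← he]
    have h5 : (((c • (⟨y, hyDT⟩ : DT) : DT)) : T) = algebraMap A₁ T (algebraMap A A₁ c) * y := by
      rw [Algebra.smul_def]
      simp only [MulMemClass.coe_mul]
      rw [IsScalarTower.algebraMap_apply A A₁ DT]
      rfl
    rw [h5, map_mul, hy, ← IsScalarTower.algebraMap_apply A₁ T (FractionRing T), Algebra.smul_def]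
    ring

theorem inter_subfield_reduced_aux'
    (A S : Type u) [CommRing A] [HenselianLocalRing A] [IsNoetherianRing A]
    [CommRing S] [IsLocalRing S] [Algebra A S] [IsLocalHom (algebraMap A S)]
    [Hensel.IsStrictHenselization A S] (Q : Ideal S) [Q.IsPrime] (hQ : Q ∈ minimalPrimes S)
    (t : Finset (FractionRing (S ⧸ Q)))
    (A₁ : Type u) [CommRing A₁] [IsDomain A₁] [IsIntegrallyClosed A₁] [HenselianLocalRing A₁]
    [IsNoetherianRing A₁] (hN2₁ : CAlg.IsN2 A₁) [Algebra A A₁] [Module.Finite A A₁]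
    [IsLocalHom (algebraMap A A₁)]
    (c : A) (hc0 : algebraMap A A₁ c ≠ 0)
    (hc : ∀ a₁ : A₁, ∃ a : A, c • a₁ = algebraMap A A₁ a)
    (jA₁ : A₁ →+* FractionRing (S ⧸ Q))
    (hjA₁ : ∀ a : A, jA₁ (algebraMap A A₁ a) = algebraMap A (FractionRing (S ⧸ Q)) a)
    (D : Subalgebra A (S ⧸ Q))
    (hmemD : ∀ x : S ⧸ Q, x ∈ D ↔ algebraMap (S ⧸ Q) (FractionRing (S ⧸ Q)) x ∈
      Subfield.closure (Set.range (algebraMap A (FractionRing (S ⧸ Q))) ∪
        (t : Set (FractionRing (S ⧸ Q))))) :
    Module.Finite A D ∧ Algebra.FormallyUnramified A D ∧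
      ∀ l ∈ Subfield.closure (Set.range (algebraMap A (FractionRing (S ⧸ Q))) ∪
          (t : Set (FractionRing (S ⧸ Q)))),
        ∃ a ∈ D, ∃ b ∈ D, algebraMap (S ⧸ Q) (FractionRing (S ⧸ Q)) b ≠ 0 ∧
          l * algebraMap (S ⧸ Q) (FractionRing (S ⧸ Q)) b =
            algebraMap (S ⧸ Q) (FractionRing (S ⧸ Q)) a := by
  have hRK : Function.Injective (algebraMap (S ⧸ Q) (FractionRing (S ⧸ Q))) :=
    IsFractionRing.injective _ _
  letI algA₁K : Algebra A₁ (FractionRing (S ⧸ Q)) := jA₁.toAlgebra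
  haveI : IsScalarTower A A₁ (FractionRing (S ⧸ Q)) :=
    IsScalarTower.of_algebraMap_eq (fun a => (hjA₁ a).symm)
  let jS : S →ₐ[A] FractionRing (S ⧸ Q) :=
    (IsScalarTower.toAlgHom A (S ⧸ Q) (FractionRing (S ⧸ Q))).comp (Ideal.Quotient.mkₐ A Q)
  have hjS : ∀ s : S, jS s = 0 ↔ s ∈ Q := by
    intro s
    show algebraMap (S ⧸ Q) (FractionRing (S ⧸ Q)) (Ideal.Quotient.mk Q s) = 0 ↔ _
    rw [map_eq_zero_iff _ hRK, Ideal.Quotient.eq_zero_iff_mem]
  obtain ⟨T, _, _, _, _, hT, σ, hσ, hker⟩ := exists_sigma_ker A S Q hQ A₁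
    (FractionRing (S ⧸ Q)) jS hjS
  haveI := hT
  letI algAT : Algebra A T := ((algebraMap A₁ T).comp (algebraMap A A₁)).toAlgebra
  haveI : IsScalarTower A A₁ T := IsScalarTower.of_algebraMap_eq (fun _ => rfl)
  letI algST : Algebra S T := σ.toAlgebra
  haveI : IsScalarTower A S T :=
    IsScalarTower.of_algebraMap_eq (fun a => (RingHom.congr_fun hσ a).symm)
  exact descent_aux3 A S Q hQ A₁ hN2₁ c hc0 hc T hker t D hmemD

set_option maxRecDepth 2000 in
theorem inter_subfield_reduced_frac
    (A S : Type u) [CommRing A] [HenselianLocalRing A] [IsReduced A] (hA : EGA4.IsExcellent A)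
    [CommRing S] [IsLocalRing S] [Algebra A S] [IsLocalHom (algebraMap A S)]
    [Hensel.IsStrictHenselization A S] (Q : Ideal S) (hQ : Q ∈ minimalPrimes S) [Q.IsPrime]
    (t : Finset (FractionRing (S ⧸ Q))) :
    ∃ D' : Subalgebra A (S ⧸ Q), (D' : Set (S ⧸ Q)) =
        (algebraMap (S ⧸ Q) (FractionRing (S ⧸ Q))) ⁻¹'
        (Subfield.closure (Set.range (algebraMap A (FractionRing (S ⧸ Q))) ∪
          (t : Set (FractionRing (S ⧸ Q)))) : Set (FractionRing (S ⧸ Q))) ∧
      EGA4.IsExcellent D' ∧ ∃ _ : HenselianLocalRing D',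
        ∀ l ∈ Subfield.closure (Set.range (algebraMap A (FractionRing (S ⧸ Q))) ∪
            (t : Set (FractionRing (S ⧸ Q)))),
          ∃ a ∈ D', ∃ b ∈ D', algebraMap (S ⧸ Q) (FractionRing (S ⧸ Q)) b ≠ 0 ∧
            l * algebraMap (S ⧸ Q) (FractionRing (S ⧸ Q)) b =
              algebraMap (S ⧸ Q) (FractionRing (S ⧸ Q)) a := by
  classical
  haveI : IsNoetherianRing A := hA.1
  obtain ⟨F, hF⟩ : ∃ F : Subfield (FractionRing (S ⧸ Q)), F = Subfield.closure
    (Set.range (algebraMap A (FractionRing (S ⧸ Q))) ∪ (t : Set (FractionRing (S ⧸ Q)))) :=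
    ⟨_, rfl⟩
  rw [← hF]
  have hAF : ∀ a : A, algebraMap A (FractionRing (S ⧸ Q)) a ∈ F := fun a => by
    rw [hF]; exact Subfield.subset_closure (Or.inl ⟨a, rfl⟩)
  let D : Subalgebra A (S ⧸ Q) :=
    { carrier := (algebraMap (S ⧸ Q) (FractionRing (S ⧸ Q))) ⁻¹' (F : Set (FractionRing (S ⧸ Q)))
      mul_mem' := by
        intro x y hx hy
        show algebraMap (S ⧸ Q) (FractionRing (S ⧸ Q)) (x * y) ∈ F
        rw [map_mul]; exact F.mul_mem hx hy
      add_mem' := by
        intro x y hx hy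
        show algebraMap (S ⧸ Q) (FractionRing (S ⧸ Q)) (x + y) ∈ F
        rw [map_add]; exact F.add_mem hx hy
      algebraMap_mem' := by
        intro a
        show algebraMap (S ⧸ Q) (FractionRing (S ⧸ Q)) (algebraMap A (S ⧸ Q) a) ∈ F
        rw [← IsScalarTower.algebraMap_apply A (S ⧸ Q) (FractionRing (S ⧸ Q))]
        exact hAF a }
  have hmemD : ∀ x : S ⧸ Q, x ∈ D ↔ algebraMap (S ⧸ Q) (FractionRing (S ⧸ Q)) x ∈ F :=
    fun _ => Iff.rfl
  refine ⟨D, rfl, ?_⟩
  -- the prime `P` and the domain `B = A ⧸ P`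
  obtain ⟨P, hP⟩ : ∃ P : Ideal A, P = Q.comap (algebraMap A S) := ⟨_, rfl⟩
  haveI hPp : P.IsPrime := hP ▸ Ideal.comap_isPrime _ _
  haveI : IsLocalRing (A ⧸ P) := Groth.Agent.H47.Unibranch.isLocalRing_quotient _ hPp.ne_top
  haveI : HenselianLocalRing (A ⧸ P) := Groth.Agent.S13598.henselian_quotient P
  have hNag : CAlg.IsNagata A :=
    Groth.Agent.H11.QENagata.isNagata_of_isQuasiExcellent A ⟨hA.1, hA.2.2.1, hA.2.2.2⟩
  have hN2B : CAlg.IsN2 (A ⧸ P) := hNag.2 P
  haveI hfinB : Module.Finite (A ⧸ P) (integralClosure (A ⧸ P) (FractionRing (A ⧸ P))) :=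
    hN2B (FractionRing (A ⧸ P)) inferInstance
  haveI : IsLocalRing (integralClosure (A ⧸ P) (FractionRing (A ⧸ P))) :=
    Groth.Agent.H3.isLocalRing_of_isIntegral_of_isDomain (A ⧸ P) _
  haveI : IsIntegrallyClosed (integralClosure (A ⧸ P) (FractionRing (A ⧸ P))) :=
    integralClosure.isIntegrallyClosedOfFiniteExtension (FractionRing (A ⧸ P))
  haveI : IsNoetherianRing (integralClosure (A ⧸ P) (FractionRing (A ⧸ P))) :=
    Algebra.FiniteType.isNoetherianRing (A ⧸ P) _
  have hNagB : CAlg.IsNagata (A ⧸ P) :=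
    Groth.Agent.H11.NagataFT.isNagata_of_finiteType A hNag _
  have hNag₁ : CAlg.IsNagata (integralClosure (A ⧸ P) (FractionRing (A ⧸ P))) :=
    Groth.Agent.H11.NagataFT.isNagata_of_finiteType (A ⧸ P) hNagB _
  have hN2₁ : CAlg.IsN2 (integralClosure (A ⧸ P) (FractionRing (A ⧸ P))) :=
    Groth.Agent.H11.NagataFT.isN2_of_isNagata_domain _ hNag₁
  haveI : HenselianLocalRing (integralClosure (A ⧸ P) (FractionRing (A ⧸ P))) :=
    Groth.Agent.H3.henselianLocalRing_of_isIntegral_of_isLocalRing (A ⧸ P) _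
  haveI : IsScalarTower A (A ⧸ P) (integralClosure (A ⧸ P) (FractionRing (A ⧸ P))) :=
    inferInstance
  haveI : Module.Finite A (A ⧸ P) :=
    Module.Finite.of_surjective (Algebra.linearMap A (A ⧸ P)) Ideal.Quotient.mk_surjective
  haveI : Module.Finite A (integralClosure (A ⧸ P) (FractionRing (A ⧸ P))) :=
    Module.Finite.trans (A ⧸ P) _
  haveI : Algebra.IsIntegral A (integralClosure (A ⧸ P) (FractionRing (A ⧸ P))) :=
    Algebra.IsIntegral.of_finite A _
  haveI : IsLocalHom (algebraMap A (integralClosure (A ⧸ P) (FractionRing (A ⧸ P)))) :=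
    Groth.Agent.H3.isLocalHom_of_isIntegral A _
  -- the conductor
  have hinjB : Function.Injective
      (algebraMap (A ⧸ P) (integralClosure (A ⧸ P) (FractionRing (A ⧸ P)))) := by
    intro a b hab
    apply IsFractionRing.injective (A ⧸ P) (FractionRing (A ⧸ P))
    have := congrArg
      (fun z : integralClosure (A ⧸ P) (FractionRing (A ⧸ P)) => (z : FractionRing (A ⧸ P))) hab
    exact this
  obtain ⟨s₁, hs₁⟩ := (Module.Finite.fg_top :
    (⊤ : Submodule (A ⧸ P) (integralClosure (A ⧸ P) (FractionRing (A ⧸ P)))).FG)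
  obtain ⟨⟨cb, hcM⟩, hcs⟩ := IsLocalization.exist_integer_multiples_of_finset
    (nonZeroDivisors (A ⧸ P))
    (s₁.image (fun z : integralClosure (A ⧸ P) (FractionRing (A ⧸ P)) =>
      (z : FractionRing (A ⧸ P))))
  have hcb0 : cb ≠ 0 := nonZeroDivisors.ne_zero hcM
  have hcB : ∀ a₁ : integralClosure (A ⧸ P) (FractionRing (A ⧸ P)), ∃ b : A ⧸ P,
      cb • a₁ = algebraMap (A ⧸ P) (integralClosure (A ⧸ P) (FractionRing (A ⧸ P))) b := by
    intro a₁
    have hmem : a₁ ∈ Submodule.span (A ⧸ P)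
        (s₁ : Set (integralClosure (A ⧸ P) (FractionRing (A ⧸ P)))) := by
      rw [hs₁]; exact Submodule.mem_top
    induction hmem using Submodule.span_induction with
    | mem y hy =>
      obtain ⟨r, hr⟩ := hcs (y : FractionRing (A ⧸ P))
        (Finset.mem_image_of_mem _ (Finset.mem_coe.mp hy))
      refine ⟨r, Subtype.ext ?_⟩
      exact hr.symm
    | zero => exact ⟨0, by rw [smul_zero, map_zero]⟩
    | add y₁ y₂ _ _ h₁ h₂ =>
      obtain ⟨r₁, hr₁⟩ := h₁
      obtain ⟨r₂, hr₂⟩ := h₂
      exact ⟨r₁ + r₂, by rw [smul_add, hr₁, hr₂, map_add]⟩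
    | smul r y _ h =>
      obtain ⟨r', hr'⟩ := h
      exact ⟨r * r', by rw [smul_comm, hr', map_mul, Algebra.smul_def]⟩
  obtain ⟨c, rfl⟩ := Ideal.Quotient.mk_surjective cb
  have hc0 : algebraMap A (integralClosure (A ⧸ P) (FractionRing (A ⧸ P))) c ≠ 0 := by
    rw [IsScalarTower.algebraMap_apply A (A ⧸ P)
      (integralClosure (A ⧸ P) (FractionRing (A ⧸ P)))]
    intro h
    exact hcb0 (hinjB (h.trans (map_zero _).symm))
  have hc : ∀ a₁ : integralClosure (A ⧸ P) (FractionRing (A ⧸ P)), ∃ a : A,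
      c • a₁ = algebraMap A (integralClosure (A ⧸ P) (FractionRing (A ⧸ P))) a := by
    intro a₁
    obtain ⟨b, hb⟩ := hcB a₁
    obtain ⟨a, rfl⟩ := Ideal.Quotient.mk_surjective b
    refine ⟨a, ?_⟩
    rw [IsScalarTower.algebraMap_apply A (A ⧸ P)
      (integralClosure (A ⧸ P) (FractionRing (A ⧸ P))), ← algebraMap_smul (A ⧸ P) c a₁]
    exact hb
  -- the field `K` receiving both `S ⧸ Q` and `A₁`
  let jB : A ⧸ P →+* S ⧸ Q := Ideal.quotientMap Q (algebraMap A S) hP.le
  have hjB : ∀ a : A, jB (Ideal.Quotient.mk P a) = Ideal.Quotient.mk Q (algebraMap A S a) :=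
    fun a => rfl
  have hjBinj : Function.Injective jB := Ideal.quotientMap_injective' hP.ge
  have hRK : Function.Injective (algebraMap (S ⧸ Q) (FractionRing (S ⧸ Q))) :=
    IsFractionRing.injective _ _
  have hjK₀ : Function.Injective ((algebraMap (S ⧸ Q) (FractionRing (S ⧸ Q))).comp jB) :=
    hRK.comp hjBinj
  let jA₁ : integralClosure (A ⧸ P) (FractionRing (A ⧸ P)) →+* FractionRing (S ⧸ Q) :=
    (IsFractionRing.lift hjK₀).comp
      (algebraMap (integralClosure (A ⧸ P) (FractionRing (A ⧸ P))) (FractionRing (A ⧸ P)))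
  have hjA₁ : ∀ a : A, jA₁ (algebraMap A (integralClosure (A ⧸ P) (FractionRing (A ⧸ P))) a) =
      algebraMap A (FractionRing (S ⧸ Q)) a := by
    intro a
    show IsFractionRing.lift hjK₀ (algebraMap (integralClosure (A ⧸ P) (FractionRing (A ⧸ P)))
        (FractionRing (A ⧸ P))
        (algebraMap A (integralClosure (A ⧸ P) (FractionRing (A ⧸ P))) a)) = _
    have h1 : algebraMap (integralClosure (A ⧸ P) (FractionRing (A ⧸ P)))
        (FractionRing (A ⧸ P))
        (algebraMap A (integralClosure (A ⧸ P) (FractionRing (A ⧸ P))) a) =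
        algebraMap (A ⧸ P) (FractionRing (A ⧸ P)) (Ideal.Quotient.mk P a) := by
      rw [← IsScalarTower.algebraMap_apply A (integralClosure (A ⧸ P) (FractionRing (A ⧸ P)))
        (FractionRing (A ⧸ P)), IsScalarTower.algebraMap_apply A (A ⧸ P) (FractionRing (A ⧸ P))]
      rfl
    rw [h1, IsFractionRing.lift_algebraMap, RingHom.comp_apply, hjB,
      Ideal.Quotient.mk_algebraMap,
      ← IsScalarTower.algebraMap_apply A (S ⧸ Q) (FractionRing (S ⧸ Q))]
  obtain ⟨hfin, -, hfrac⟩ := inter_subfield_reduced_aux' A S Q hQ t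
    (integralClosure (A ⧸ P) (FractionRing (A ⧸ P)))
    hN2₁ c hc0 hc jA₁ hjA₁ D (fun x => by rw [← hF]; exact hmemD x)
  haveI := hfin
  haveI : Algebra.FiniteType A D := inferInstance
  have hexc : EGA4.IsExcellent D :=
    Groth.Agent.H29.ExcFT.isExcellent_of_finiteType_of_isGRing hA
      (Groth.Agent.H20.PolyGRing.isGRing_of_finiteType A hA.2.2.1 D)
  haveI : IsDomain D := inferInstance
  haveI : Algebra.IsIntegral A D := Algebra.IsIntegral.of_finite A D
  haveI : IsLocalRing D := Groth.Agent.H3.isLocalRing_of_isIntegral_of_isDomain A D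
  have hhens : HenselianLocalRing D :=
    Groth.Agent.H3.henselianLocalRing_of_isIntegral_of_isLocalRing A D
  refine ⟨hexc, hhens, ?_⟩
  intro l hl
  rw [← hF] at hfrac
  exact hfrac l hl

end Groth.Agent.H15.StrictSub
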