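import Mathlib
import Groth.Agent.H57.TorFree.Defs
import Groth.Agent.H57.RelAssGen.RowGeneric
import Groth.Agent.H57.RelAssSU.Bridge
import Groth.Agent.H26.RA_G1
import Groth.Agent.H26.RA_G2

/-!
# (ALG-i) / (ALG-ii) for helper57's S4832 squad (torsion-free fibres)

`alg_tf_pos_of` takes (GSU) for the given `p₀` as a hypothesis; `alg_tf_neg` is closed.
-/

set_option autoImplicit false
universe u
open Groth.Agent.H57.RelAssGen Groth.Agent.H57.TorFree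

namespace Groth.Agent.H15.TF_ALG

section General

variable {A₀ B M : Type u} [CommRing A₀] [CommRing B] [Algebra A₀ B]
  [Algebra.FiniteType A₀ B] [AddCommGroup M] [Module B M] [Module A₀ M] [IsScalarTower A₀ B M]
  [Module.Finite B M]

omit [Algebra.FiniteType A₀ B] in
theorem fibI_le (q : Ideal B) : fibI A₀ q ≤ q := Ideal.map_comap_le

omit [Algebra.FiniteType A₀ B] in
/-- `GenAt` gives `SocAt` for the module `B` itself, with witness `1`. -/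
theorem socAt_self_of_genAt (q : Ideal B) (h : GenAt (fibI A₀ q) q) :
    SocAt (fibI A₀ q) q B := by
  refine ⟨1, fun s hs hmem => ?_, fun b hb => ?_⟩
  · simp only [smul_eq_mul, mul_one, Ideal.mul_top] at hmem
    exact hs (fibI_le q hmem)
  · obtain ⟨s, hs, hsb⟩ := h b hb
    refine ⟨s, hs, ?_⟩
    simp only [smul_eq_mul, mul_one, Ideal.mul_top]
    exact hsb

omit [Algebra.FiniteType A₀ B] in
theorem fibI_eq_of_comap_eq {q q' : Ideal B}
    (h : q.comap (algebraMap A₀ B) = q'.comap (algebraMap A₀ B)) : fibI A₀ q = fibI A₀ q' := by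
  unfold fibI; rw [h]

/-- (ALG-i) with (GSU) for `p₀` as a hypothesis. -/
theorem alg_tf_pos_of (p₀ : Ideal A₀) [p₀.IsPrime]
    (hGSU : {q₀ : Ideal B | q₀.IsPrime ∧ q₀.comap (algebraMap A₀ B) = p₀ ∧
        SocAt (fibI A₀ q₀) q₀ M}.Finite ∧
      ∃ a : A₀, a ∉ p₀ ∧ ∀ q : Ideal B, q.IsPrime → p₀ ≤ q.comap (algebraMap A₀ B) →
        algebraMap A₀ B a ∉ q → SocAt (fibI A₀ q) q M →
        ∃ q₀ : Ideal B, q₀.IsPrime ∧ q₀.comap (algebraMap A₀ B) = p₀ ∧ SocAt (fibI A₀ q₀) q₀ M ∧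
          q₀ ≤ q ∧ ∀ q' : Ideal B, q'.IsPrime → q₀ ≤ q' → q' ≤ q →
            q'.comap (algebraMap A₀ B) = q.comap (algebraMap A₀ B) → q' = q)
    (hD : ∀ q : Ideal B, q.IsPrime → p₀ ≤ q.comap (algebraMap A₀ B) →
      SocAt (fibI A₀ q) q B → GenAt (fibI A₀ q) q)
    (h : ∀ q₀ : Ideal B, q₀.IsPrime → q₀.comap (algebraMap A₀ B) = p₀ →
      SocAt (fibI A₀ q₀) q₀ M → GenAt (fibI A₀ q₀) q₀) :
    ∃ a : A₀, a ∉ p₀ ∧ ∀ q : Ideal B, q.IsPrime → p₀ ≤ q.comap (algebraMap A₀ B) →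
      algebraMap A₀ B a ∉ q → SocAt (fibI A₀ q) q M → GenAt (fibI A₀ q) q := by
  classical
  obtain ⟨hfin, a₀, ha₀, hgen⟩ := hGSU
  -- for every q₀ in the finite set choose a(q₀)
  have hchoice : ∀ q₀ : Ideal B, ∃ a : A₀, a ∉ p₀ ∧
      (q₀.IsPrime ∧ q₀.comap (algebraMap A₀ B) = p₀ ∧ SocAt (fibI A₀ q₀) q₀ M →
        ∀ q : Ideal B, q.IsPrime → q₀ ≤ q → algebraMap A₀ B a ∉ q →
          (∀ q' : Ideal B, q'.IsPrime → q₀ ≤ q' → q' ≤ q →
            q'.comap (algebraMap A₀ B) = q.comap (algebraMap A₀ B) → q' = q) →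
          SocAt (fibI A₀ q) q B) := by
    intro q₀
    by_cases hq₀ : q₀.IsPrime ∧ q₀.comap (algebraMap A₀ B) = p₀ ∧ SocAt (fibI A₀ q₀) q₀ M
    · obtain ⟨hq₀p, hq₀c, hq₀s⟩ := hq₀
      haveI := hq₀p
      have hG : GenAt (fibI A₀ q₀) q₀ := h q₀ hq₀p hq₀c hq₀s
      obtain ⟨a, ha, h1, -⟩ := Groth.Agent.H26.RA_G.gen_generic (M := B) p₀ q₀ hq₀c
        (socAt_self_of_genAt q₀ hG)
      exact ⟨a, ha, fun _ => h1⟩
    · exact ⟨1, fun h1 => (‹p₀.IsPrime›.ne_top) ((Ideal.eq_top_iff_one _).mpr h1),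
        fun hh => absurd hh hq₀⟩
  choose af haf haf' using hchoice
  refine ⟨a₀ * ∏ q₀ ∈ hfin.toFinset, af q₀, ?_, ?_⟩
  · intro hmem
    rcases (‹p₀.IsPrime›.mem_or_mem hmem) with h1 | h1
    · exact ha₀ h1
    · obtain ⟨q₀, -, hq₀⟩ := (Ideal.IsPrime.prod_mem_iff (hp := ‹p₀.IsPrime›)).mp h1
      exact haf q₀ hq₀
  · intro q hq hpq haq hsoc
    have haq₀ : algebraMap A₀ B a₀ ∉ q := by
      intro hmem
      apply haq
      rw [map_mul]
      exact q.mul_mem_right _ hmem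
    obtain ⟨q₀, hq₀p, hq₀c, hq₀s, hq₀q, hmin⟩ := hgen q hq hpq haq₀ hsoc
    have hq₀mem : q₀ ∈ hfin.toFinset := by
      rw [Set.Finite.mem_toFinset]; exact ⟨hq₀p, hq₀c, hq₀s⟩
    have hafq : algebraMap A₀ B (af q₀) ∉ q := by
      intro hmem
      apply haq
      rw [map_mul, map_prod]
      refine q.mul_mem_left _ ?_
      rw [← Finset.mul_prod_erase _ _ hq₀mem]
      exact q.mul_mem_right _ hmem
    have hsocB := haf' q₀ ⟨hq₀p, hq₀c, hq₀s⟩ q hq hq₀q hafq hmin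
    exact hD q hq hpq hsocB

/-- (ALG-ii) if some associated point of the fibre of `M` over `p₀` is not a generic point of the
fibre, the same holds over every point of `D(a) ∩ V(p₀)`. -/
theorem alg_tf_neg (p₀ : Ideal A₀) [p₀.IsPrime]
    (hD : ∀ q : Ideal B, q.IsPrime → p₀ ≤ q.comap (algebraMap A₀ B) →
      SocAt (fibI A₀ q) q B → GenAt (fibI A₀ q) q)
    (q₀ : Ideal B) [q₀.IsPrime] (hq₀ : q₀.comap (algebraMap A₀ B) = p₀)
    (h₀ : SocAt (fibI A₀ q₀) q₀ M) (hn : ¬ GenAt (fibI A₀ q₀) q₀) :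
    ∃ a : A₀, a ∉ p₀ ∧ ∀ p : Ideal A₀, p.IsPrime → p₀ ≤ p → a ∉ p →
      ∃ q : Ideal B, q.IsPrime ∧ q.comap (algebraMap A₀ B) = p ∧ SocAt (fibI A₀ q) q M ∧
        ¬ GenAt (fibI A₀ q) q := by
  -- gen_avoid for the module B with J := q₀
  obtain ⟨a₁, ha₁, havoid⟩ := Groth.Agent.H26.RA_G.gen_avoid (M := B) p₀ q₀ (by
    intro q hq hqc hsoc hle
    have hG : GenAt (fibI A₀ q) q := hD q hq (le_of_eq hqc.symm) hsoc
    apply hn
    intro b hb
    obtain ⟨s, hs, hsb⟩ := hG b (hle hb)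
    refine ⟨s, fun hs' => hs (hle hs'), ?_⟩
    rw [fibI_eq_of_comap_eq (A₀ := A₀) (hq₀.trans hqc.symm)]
    exact hsb)
  obtain ⟨a₂, ha₂, -, hex⟩ := Groth.Agent.H26.RA_G.gen_generic p₀ q₀ hq₀ h₀
  refine ⟨a₁ * a₂, ?_, ?_⟩
  · intro hmem
    rcases (‹p₀.IsPrime›.mem_or_mem hmem) with h1 | h1
    · exact ha₁ h1
    · exact ha₂ h1
  · intro p hp hp₀p hap
    have ha₂p : a₂ ∉ p := fun hmem => hap (p.mul_mem_left _ hmem)
    have ha₁p : a₁ ∉ p := fun hmem => hap (p.mul_mem_right _ hmem)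
    obtain ⟨q, hq, hq₀q, hqc, hsoc⟩ := hex p hp hp₀p ha₂p
    refine ⟨q, hq, hqc, hsoc, fun hG => ?_⟩
    have hsocB : SocAt (fibI A₀ q) q B := socAt_self_of_genAt q hG
    have ha₁q : algebraMap A₀ B a₁ ∉ q := by
      intro hmem
      apply ha₁p
      rw [← hqc]; exact hmem
    exact havoid q hq (by rw [hqc]; exact hp₀p) ha₁q hsocB hq₀q

end General

end Groth.Agent.H15.TF_ALG
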